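import Groth.Agent.CurvesC.NodeChartB

/-!
# Nodes: the plane chart
-/

set_option autoImplicit false
set_option linter.style.haveILetI false

namespace Groth.Agent.CurvesC.NodeChartC

open TensorProduct Groth.Agent.CurvesC.NodeEt Groth.Agent.CurvesC.NodeAlg Groth.Agent.CurvesC.NodeChart
  Groth.Agent.CurvesC.NodeChartB

universe u

/-- Partial derivatives on a localization (or any étale algebra). -/
theorem pd_map {R B B' : Type u} [CommRing R] [CommRing B] [Algebra R B] [CommRing B'] [Algebra R B']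
    [Algebra B B'] [IsScalarTower R B B'] {x : Fin 2 → B}
    (hx : IsEtaleCoord R x) (hx' : IsEtaleCoord R (fun i => algebraMap B B' (x i))) (i : Fin 2) (b : B) :
    hx'.pd i (algebraMap B B' b) = algebraMap B B' (hx.pd i b) := by
  let δ₁ : Derivation R B B' := (hx'.pd i).compAlgebraMap B
  let δ₂ : Derivation R B B' := (Algebra.linearMap B B').compDer (hx.pd i)
  have h : δ₁ = δ₂ := by
    apply hx.der_ext
    intro j
    change hx'.pd i (algebraMap B B' (x j)) = algebraMap B B' (hx.pd i (x j))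
    rw [hx.pd_coord, hx'.pd_coord (x := fun i => algebraMap B B' (x i))]
    split <;> simp
  exact Derivation.congr_fun h b

/-- **Plane chart at a node.** Étale-locally (in fact Zariski-locally) at a node, a flat finitely presented algebra is
the quotient of an algebra with two étale coordinates by one element with a nondegenerate critical point. -/
theorem exists_chart {R A K : Type u} [CommRing R] [CommRing A] [Algebra R A] [Module.Flat R A]
    [Algebra.FinitePresentation R A] [Field K] [Algebra R K] [Algebra A K] [IsScalarTower R A K]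
    {T : Type u} [CommRing T] [Algebra K T] {𝔪 : Ideal T} {X Y : T} {φ : K ⊗[R] A →ₐ[K] T}
    (h : NodeData (ev R A K) 𝔪 X Y φ) :
    ∃ (A₁ B : Type u) (_ : CommRing A₁) (_ : CommRing B) (_ : Algebra A A₁) (_ : Algebra R A₁)
      (_ : IsScalarTower R A A₁) (_ : Algebra R B) (χ₁ : A₁ →ₐ[A] K) (x : Fin 2 → B) (hx : IsEtaleCoord R x)
      (h₀ : B) (π : B →ₐ[R] A₁), Algebra.Etale A A₁ ∧ Function.Surjective π ∧
      RingHom.ker π = Ideal.span {h₀} ∧ (∀ i, χ₁ (π (hx.pd i h₀)) = 0) ∧
      χ₁ (π (hx.pd 0 (hx.pd 0 h₀) * hx.pd 1 (hx.pd 1 h₀) - hx.pd 0 (hx.pd 1 h₀) * hx.pd 1 (hx.pd 0 h₀))) ≠ 0 := by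
  obtain ⟨f, hf, B₀, _, _, x₀, π₀, hx₀, hπ₀⟩ := exists_surjection h
  let A' := Localization.Away f
  let χ' : A' →ₐ[A] K := IsLocalization.liftAlgHom (M := Submonoid.powers f) (f := Algebra.ofId A K) (by
    rintro ⟨_, k, rfl⟩
    change IsUnit (algebraMap A K (f ^ k))
    rw [map_pow]
    exact (IsUnit.mk0 _ hf).pow k)
  letI : Algebra A' K := χ'.toRingHom.toAlgebra
  haveI : IsScalarTower A A' K := IsScalarTower.of_algebraMap_eq (fun a => (χ'.commutes a).symm)
  haveI : IsScalarTower R A' K := IsScalarTower.of_algebraMap_eq' (by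
    rw [IsScalarTower.algebraMap_eq R A A', ← RingHom.comp_assoc, ← IsScalarTower.algebraMap_eq A A' K,
      ← IsScalarTower.algebraMap_eq R A K])
  letI : Algebra B₀ K := (χ'.toRingHom.comp π₀.toRingHom).toAlgebra
  haveI : IsScalarTower R B₀ K := IsScalarTower.of_algebraMap_eq (fun r => by
    change _ = χ' (π₀ (algebraMap R B₀ r))
    rw [π₀.commutes, IsScalarTower.algebraMap_apply R A A', χ'.commutes, ← IsScalarTower.algebraMap_apply R A K])
  obtain ⟨φ', h'⟩ := nodeData_away (f := f) (A' := A') h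
  have hχ : ∀ b, algebraMap A' K (π₀ b) = algebraMap B₀ K b := fun b => rfl
  haveI : Module.Flat R A' := Module.Flat.trans R A A'
  haveI : Algebra.FinitePresentation A A' := IsLocalization.Away.finitePresentation f
  haveI : Algebra.FinitePresentation R A' := Algebra.FinitePresentation.trans R A A'
  haveI := hx₀.smooth
  obtain ⟨h₀, hh₀, hd, hH, hgen⟩ := exists_generator_geom hx₀ π₀ hπ₀ hχ h'
  have hfg : (RingHom.ker π₀).FG := Algebra.FinitePresentation.ker_fG_of_surjective π₀ hπ₀
  obtain ⟨g, hg, hgJ⟩ := exists_mul_mem (K := K) π₀ hπ₀ hfg h₀ hh₀ hgen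
  -- localize at `g`
  let B := Localization.Away g
  let A₁ := Localization.Away (π₀ g)
  haveI : IsScalarTower A A' A₁ := inferInstance
  haveI : IsScalarTower R A A₁ := inferInstance
  have hg' : IsUnit (χ' (π₀ g)) := IsUnit.mk0 _ hg
  let χ₁ : A₁ →ₐ[A'] K := IsLocalization.liftAlgHom (M := Submonoid.powers (π₀ g)) (f := Algebra.ofId A' K) (by
    rintro ⟨_, k, rfl⟩
    change IsUnit (algebraMap A' K (π₀ g ^ k))
    rw [map_pow]
    exact hg'.pow k)
  let π : B →ₐ[R] A₁ := IsLocalization.Away.mapₐ B A₁ π₀ g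
  have hπ : ∀ b, π (algebraMap B₀ B b) = algebraMap A' A₁ (π₀ b) := fun b => by
    simp only [π, IsLocalization.Away.mapₐ_apply, IsLocalization.Away.map]
    exact IsLocalization.map_eq _ _
  have hχπ : ∀ b, χ₁ (π (algebraMap B₀ B b)) = algebraMap B₀ K b := fun b => by
    rw [hπ]
    exact χ₁.commutes (π₀ b)
  haveI : Algebra.Etale B₀ B := inferInstance
  have hx : IsEtaleCoord R (fun i => algebraMap B₀ B (x₀ i)) :=
    hx₀.comp (IsScalarTower.toAlgHom R B₀ B) (RingHom.etale_algebraMap.mpr inferInstance)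
  refine ⟨A₁, B, inferInstance, inferInstance, inferInstance, inferInstance, inferInstance, inferInstance,
    χ₁.restrictScalars A, fun i => algebraMap B₀ B (x₀ i), hx, algebraMap B₀ B h₀, π, ?_, ?_, ?_, ?_, ?_⟩
  · haveI : Algebra.Etale A A' := Algebra.Etale.of_isLocalizationAway f
    haveI : Algebra.Etale A' A₁ := Algebra.Etale.of_isLocalizationAway (π₀ g)
    exact Algebra.Etale.comp A A' A₁
  · exact IsLocalization.Away.mapₐ_surjective_of_surjective g hπ₀
  · apply le_antisymm
    · intro b hb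
      obtain ⟨n, b₀, hb₀⟩ := IsLocalization.Away.surj g b
      have h1 : algebraMap A' A₁ (π₀ b₀) = 0 := by
        rw [← hπ, ← hb₀, map_mul, show π b = 0 from hb, zero_mul]
      obtain ⟨⟨_, m, rfl⟩, hm⟩ := (IsLocalization.map_eq_zero_iff (Submonoid.powers (π₀ g)) A₁ _).mp h1
      have h2 : π₀ (g ^ m * b₀) = 0 := by
        rw [map_mul, map_pow]
        exact hm
      have h3 := hgJ _ h2
      obtain ⟨c, hc⟩ := Ideal.mem_span_singleton'.mp h3
      have hu : IsUnit (algebraMap B₀ B g) := IsLocalization.Away.algebraMap_isUnit g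
      have hu' : IsUnit (algebraMap B₀ B g ^ (m + 1 + n)) := hu.pow _
      rw [← Ideal.unit_mul_mem_iff_mem _ hu', Ideal.mem_span_singleton']
      refine ⟨algebraMap B₀ B c, ?_⟩
      rw [← map_mul, hc, map_mul, map_mul, map_pow, ← hb₀]
      ring
    · rw [Ideal.span_singleton_le_iff_mem, RingHom.mem_ker, hπ, hh₀, map_zero]
  · intro i
    change χ₁ (π _) = 0
    rw [pd_map hx₀ hx, hχπ]
    exact hd i
  · change χ₁ (π _) ≠ 0
    rw [pd_map hx₀ hx, pd_map hx₀ hx, pd_map hx₀ hx, pd_map hx₀ hx, pd_map hx₀ hx, pd_map hx₀ hx,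
      ← map_mul, ← map_mul, ← map_sub, hχπ]
    exact hH

end Groth.Agent.CurvesC.NodeChartC
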