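import Groth.Agent.CurvesC.NodeChartC
import Mathlib.RingTheory.FinitePresentation

/-!
# The critical locus of a function with nondegenerate Hessian
-/

set_option autoImplicit false
set_option linter.style.haveILetI false

namespace Groth.Agent.CurvesC.MorseCrit

open TensorProduct
open Groth.Agent.CurvesC.NodeEt Groth.Agent.CurvesC.NodeChartB Groth.Agent.CurvesC.NodeChartC

universe u

/-- The Hessian determinant. -/
noncomputable def hess {R B : Type u} [CommRing R] [CommRing B] [Algebra R B] {x : Fin 2 → B} (hx : IsEtaleCoord R x) (h : B) : B :=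
  hx.pd 0 (hx.pd 0 h) * hx.pd 1 (hx.pd 1 h) - hx.pd 0 (hx.pd 1 h) * hx.pd 1 (hx.pd 0 h)

theorem hess_map {R B B' : Type u} [CommRing R] [CommRing B] [Algebra R B] [CommRing B'] [Algebra R B']
    [Algebra B B'] [IsScalarTower R B B'] {x : Fin 2 → B}
    (hx : IsEtaleCoord R x) (hx' : IsEtaleCoord R (fun i => algebraMap B B' (x i))) (h : B) :
    hess hx' (algebraMap B B' h) = algebraMap B B' (hess hx h) := by
  simp only [hess, pd_map hx hx', map_sub, map_mul]

/-- If the Hessian is invertible the derivatives are étale coordinates. -/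
theorem der_coord {R B : Type u} [CommRing R] [CommRing B] [Algebra R B] {x : Fin 2 → B} (hx : IsEtaleCoord R x) (h : B)
    (hu : IsUnit (hess hx h)) : IsEtaleCoord R (fun j => hx.pd j h) := by
  apply hx.of_isUnit_det
  rw [Matrix.det_fin_two]
  exact hu

section

variable {R B C : Type u} [CommRing R] [CommRing B] [Algebra R B] [CommRing C] [Algebra R C]

/-- The centred coordinates on `C ⊗[R] B` at the section defined by `f : B → C`. -/
noncomputable def cen (x : Fin 2 → B) (f : B →ₐ[R] C) : Fin 2 → C ⊗[R] B :=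
  fun i => (1 : C) ⊗ₜ[R] x i - algebraMap C (C ⊗[R] B) (f (x i))

theorem cen_etale {x : Fin 2 → B} (hx : IsEtaleCoord R x) (f : B →ₐ[R] C) : IsEtaleCoord C (cen x f) := by
  have h1 := hx.baseChange C
  haveI := h1.smooth
  refine isEtaleCoord_of_basis _ h1.basis (fun i => ?_)
  rw [h1.basis_apply, cen, map_sub, Derivation.map_algebraMap, sub_zero]

theorem cen_pd {x : Fin 2 → B} (hx : IsEtaleCoord R x) (f : B →ₐ[R] C) (i : Fin 2) (b : B) :
    (cen_etale hx f).pd i ((1 : C) ⊗ₜ[R] b) = (1 : C) ⊗ₜ[R] (hx.pd i b) := by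
  apply pd_baseChange
  intro j
  have h1 : (1 : C) ⊗ₜ[R] x j = cen x f j + algebraMap C (C ⊗[R] B) (f (x j)) := by
    rw [cen]; ring
  rw [h1, map_add, Derivation.map_algebraMap, add_zero, IsEtaleCoord.pd_coord]

/-- The section of `C ⊗[R] B` over `C` defined by `f : B → C`. -/
noncomputable def sec (f : B →ₐ[R] C) : C ⊗[R] B →ₐ[C] C :=
  Algebra.TensorProduct.lift (AlgHom.id C C) f (fun _ _ => Commute.all _ _)

theorem sec_tmul (f : B →ₐ[R] C) (b : B) : sec f ((1 : C) ⊗ₜ[R] b) = f b := by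
  simp [sec]

theorem sec_cen (x : Fin 2 → B) (f : B →ₐ[R] C) (i : Fin 2) : sec f (cen x f i) = 0 := by
  rw [cen, map_sub, sec_tmul, AlgHom.commutes]
  simp

end

/-- Base change to an étale algebra over which the coordinates have a section. -/
theorem crit_tensor {R B C : Type u} [CommRing R] [CommRing B] [Algebra R B] [CommRing C] [Algebra R C] [Algebra.Etale R C]
    {x : Fin 2 → B} (hx : IsEtaleCoord R x) (h : B) (f : B →ₐ[R] C) (hf : ∀ i, f (hx.pd i h) = 0) :
    ∃ (B₁ : Type u) (_ : CommRing B₁) (_ : Algebra C B₁) (_ : Algebra R B₁) (_ : IsScalarTower R C B₁) (θ : B →ₐ[R] B₁)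
      (y : Fin 2 → B₁) (hy : IsEtaleCoord C y) (σ : B₁ →ₐ[C] C), θ.toRingHom.Etale ∧ (∀ i, σ (y i) = 0) ∧
      (∀ i, σ (hy.pd i (θ h)) = 0) ∧ σ (hess hy (θ h)) = f (hess hx h) ∧ ∀ b, σ (θ b) = f b := by
  refine ⟨C ⊗[R] B, inferInstance, inferInstance, inferInstance, inferInstance, Algebra.TensorProduct.includeRight,
    cen x f, cen_etale hx f, sec f, ?_, sec_cen x f, ?_, ?_, ?_⟩
  · have h1 : (Algebra.TensorProduct.includeLeftRingHom : B →+* B ⊗[R] C).Etale :=
      RingHom.etale_algebraMap.mpr (inferInstance : Algebra.Etale B (B ⊗[R] C))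
    have h2 := etale_comp h1 (RingHom.Etale.of_bijective (Algebra.TensorProduct.comm R B C).bijective :
      ((Algebra.TensorProduct.comm R B C).toAlgHom.toRingHom).Etale)
    convert h2 using 1
    ext b
    simp
  · intro i
    change sec f ((cen_etale hx f).pd i ((1 : C) ⊗ₜ[R] h)) = 0
    rw [cen_pd hx f, sec_tmul, hf]
  · change sec f (hess (cen_etale hx f) ((1 : C) ⊗ₜ[R] h)) = f (hess hx h)
    simp only [hess, cen_pd hx f, map_sub, map_mul, sec_tmul]
  · intro b
    exact sec_tmul f b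

theorem critical {R B K : Type u} [CommRing R] [CommRing B] [Algebra R B] [Field K] [Algebra R K]
    (x : Fin 2 → B) (hx : IsEtaleCoord R x) (h : B) (χ : B →ₐ[R] K) (hd : ∀ i, χ (hx.pd i h) = 0)
    (hH : χ (hess hx h) ≠ 0) :
    ∃ (C B₁ : Type u) (_ : CommRing C) (_ : CommRing B₁) (_ : Algebra R C) (_ : Algebra C B₁) (_ : Algebra R B₁)
      (_ : IsScalarTower R C B₁) (θ : B →ₐ[R] B₁) (y : Fin 2 → B₁) (hy : IsEtaleCoord C y)
      (σ : B₁ →ₐ[C] C) (χC : C →+* K), Algebra.Etale R C ∧ θ.toRingHom.Etale ∧ (∀ i, σ (y i) = 0) ∧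
      (∀ i, σ (hy.pd i (θ h)) = 0) ∧ χC (σ (hess hy (θ h))) ≠ 0 ∧
      ∀ b, χC (σ (θ b)) = χ b := by
  let BH := Localization.Away (hess hx h)
  haveI : Algebra.Etale B BH := Algebra.Etale.of_isLocalizationAway (r := hess hx h)
  have hψ : (IsScalarTower.toAlgHom R B BH).toRingHom.Etale := RingHom.etale_algebraMap.mpr inferInstance
  have hxH : IsEtaleCoord R (fun i => algebraMap B BH (x i)) := hx.comp (IsScalarTower.toAlgHom R B BH) hψ
  have hunit : IsUnit (hess hxH (algebraMap B BH h)) := by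
    rw [hess_map hx hxH]
    exact IsLocalization.Away.algebraMap_isUnit (hess hx h)
  have hu : IsEtaleCoord R (fun j => hxH.pd j (algebraMap B BH h)) := der_coord hxH _ hunit
  let J : Ideal BH := Ideal.span (Set.range (fun j => hxH.pd j (algebraMap B BH h)))
  have hC : (algebraMap R (BH ⧸ J)).Etale := hu.etale_quotient J rfl
  -- the `K`-point
  let χH : BH →+* K := IsLocalization.Away.lift (hess hx h) (g := χ.toRingHom) (by
    change IsUnit (χ (hess hx h))
    exact isUnit_iff_ne_zero.mpr hH)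
  have hχH : ∀ b, χH (algebraMap B BH b) = χ b := fun b => IsLocalization.Away.lift_eq _ _ b
  let χC : (BH ⧸ J) →+* K := Ideal.Quotient.lift J χH (by
    have hle : J ≤ RingHom.ker χH := by
      rw [Ideal.span_le]
      rintro _ ⟨j, rfl⟩
      change χH (hxH.pd j (algebraMap B BH h)) = 0
      rw [pd_map hx hxH, hχH, hd]
    exact fun b hb => hle hb)
  haveI : Algebra.Etale R (BH ⧸ J) := RingHom.etale_algebraMap.mp hC
  obtain ⟨B₁, i1, i2, i3, i4, θ, y, hy, σ, h1, h2, h3, h4, h5⟩ := crit_tensor hxH (algebraMap B BH h) (Ideal.Quotient.mkₐ R J)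
    (fun i => Ideal.Quotient.eq_zero_iff_mem.mpr (Ideal.subset_span ⟨i, rfl⟩))
  refine ⟨BH ⧸ J, B₁, inferInstance, i1, inferInstance, i2, i3, i4, θ.comp (IsScalarTower.toAlgHom R B BH), y, hy, σ, χC,
    inferInstance, etale_comp hψ h1, h2, h3, ?_, ?_⟩
  · change χC (σ (hess hy (θ (algebraMap B BH h)))) ≠ 0
    rw [h4, hess_map hx hxH]
    change χH (algebraMap B BH (hess hx h)) ≠ 0
    rw [hχH]
    exact hH
  · intro b
    change χC (σ (θ (algebraMap B BH b))) = χ b
    rw [h5]
    exact hχH b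

end Groth.Agent.CurvesC.MorseCrit
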