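import Groth.Agent.CurvesC.NodeChartC
import Mathlib.RingTheory.Nakayama
import Mathlib.RingTheory.FinitePresentation

/-!
# Étale coordinates centred at a section generate its ideal after shrinking
-/

set_option autoImplicit false
set_option linter.style.haveILetI false

namespace Groth.Agent.CurvesC.MorseShrink

open TensorProduct
open Groth.Agent.CurvesC.NodeEt

universe u

variable {C B : Type u} [CommRing C] [CommRing B] [Algebra C B]

section

variable (σ : B →ₐ[C] C)

/-- The derivation `b ↦ b - σ b` modulo an ideal containing the square of the kernel of the section. -/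
noncomputable def secDer (L : Ideal B) (hL : (RingHom.ker σ) ^ 2 ≤ L) : Derivation C B (B ⧸ L) :=
  Derivation.mk' ((Ideal.Quotient.mkₐ C L).toLinearMap ∘ₗ
      ((LinearMap.id : B →ₗ[C] B) - (Algebra.linearMap C B) ∘ₗ σ.toLinearMap)) (by
    intro a b
    have key : (a * b - algebraMap C B (σ (a * b))) - (a * (b - algebraMap C B (σ b)) + b * (a - algebraMap C B (σ a))) =
        - ((a - algebraMap C B (σ a)) * (b - algebraMap C B (σ b))) := by
      rw [map_mul, map_mul]; ring
    have hker : ∀ c : B, c - algebraMap C B (σ c) ∈ RingHom.ker σ := by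
      intro c
      rw [RingHom.mem_ker, map_sub, AlgHom.commutes]
      simp
    change Ideal.Quotient.mk L (a * b - algebraMap C B (σ (a * b))) =
      a • Ideal.Quotient.mk L (b - algebraMap C B (σ b)) + b • Ideal.Quotient.mk L (a - algebraMap C B (σ a))
    rw [Algebra.smul_def, Algebra.smul_def]
    change _ = Ideal.Quotient.mk L a * Ideal.Quotient.mk L (b - algebraMap C B (σ b)) +
      Ideal.Quotient.mk L b * Ideal.Quotient.mk L (a - algebraMap C B (σ a))
    rw [← map_mul, ← map_mul, ← map_add, Ideal.Quotient.mk_eq_mk_iff_sub_mem, key]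
    apply neg_mem
    apply hL
    rw [pow_two]
    exact Ideal.mul_mem_mul (hker _) (hker _))

theorem secDer_apply (L : Ideal B) (hL : (RingHom.ker σ) ^ 2 ≤ L) (b : B) :
    secDer σ L hL b = Ideal.Quotient.mk L (b - algebraMap C B (σ b)) := rfl

end

/-- The kernel of a section is generated by centred étale coordinates modulo its square. -/
theorem ker_le (y : Fin 2 → B) (hy : IsEtaleCoord C y) (σ : B →ₐ[C] C) (hσ : ∀ i, σ (y i) = 0) :
    RingHom.ker σ ≤ Ideal.span (Set.range y) ⊔ (RingHom.ker σ) ^ 2 := by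
  have h := hy.der_eq_zero (secDer σ (Ideal.span (Set.range y) ⊔ (RingHom.ker σ) ^ 2) le_sup_right) (by
    intro i
    rw [secDer_apply, hσ, map_zero, sub_zero, Ideal.Quotient.eq_zero_iff_mem]
    exact Ideal.mem_sup_left (Ideal.subset_span ⟨i, rfl⟩))
  intro b hb
  have h1 := Derivation.congr_fun h b
  rw [secDer_apply, Derivation.zero_apply, (RingHom.mem_ker).mp hb, map_zero, sub_zero, Ideal.Quotient.eq_zero_iff_mem] at h1
  exact h1

/-- After localizing at an element with `σ r = 1`, the kernel of the section is generated by the coordinates. -/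
theorem shrink (y : Fin 2 → B) (hy : IsEtaleCoord C y) (σ : B →ₐ[C] C) (hσ : ∀ i, σ (y i) = 0) :
    ∃ (B₂ : Type u) (_ : CommRing B₂) (_ : Algebra B B₂) (_ : Algebra C B₂) (_ : IsScalarTower C B B₂)
      (hy₂ : IsEtaleCoord C (fun i => algebraMap B B₂ (y i))) (σ₂ : B₂ →ₐ[C] C),
      Algebra.Etale B B₂ ∧ (∀ b, σ₂ (algebraMap B B₂ b) = σ b) ∧
      RingHom.ker σ₂ = Ideal.span (Set.range (fun i => algebraMap B B₂ (y i))) ∧
      ∀ i b, hy₂.pd i (algebraMap B B₂ b) = algebraMap B B₂ (hy.pd i b) := by
  haveI := hy.smooth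
  have hfg : (RingHom.ker σ).FG := by
    have h := Algebra.FinitePresentation.ker_fG_of_surjective (A := B) (B := C) σ (by
      intro c
      exact ⟨algebraMap C B c, by simp⟩)
    exact h
  obtain ⟨r, hr1, hr2⟩ := Submodule.exists_sub_one_mem_and_smul_le_of_fg_of_le_sup (R := B) (M := B)
    (I := RingHom.ker σ) (N := Ideal.span (Set.range y)) (N' := RingHom.ker σ) (P := RingHom.ker σ) hfg le_rfl (by
      have := ker_le y hy σ hσ
      rwa [pow_two] at this)
  have hσr : σ r = 1 := by
    have h : σ (r - 1) = 0 := hr1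
    rwa [map_sub, map_one, sub_eq_zero] at h
  let B₂ := Localization.Away r
  have hψ : (IsScalarTower.toAlgHom C B B₂).toRingHom.Etale :=
    RingHom.etale_algebraMap.mpr (Algebra.Etale.of_isLocalizationAway (r := r))
  have hy₂ : IsEtaleCoord C (fun i => algebraMap B B₂ (y i)) := hy.comp (IsScalarTower.toAlgHom C B B₂) hψ
  let σ₀ : B₂ →+* C := IsLocalization.Away.lift r (g := σ.toRingHom) (by
    change IsUnit (σ r)
    rw [hσr]; exact isUnit_one)
  have hσ₀ : ∀ b, σ₀ (algebraMap B B₂ b) = σ b := fun b => IsLocalization.Away.lift_eq r _ b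
  let σ₂ : B₂ →ₐ[C] C := { σ₀ with
    commutes' := by
      intro c
      change σ₀ (algebraMap C B₂ c) = c
      rw [IsScalarTower.algebraMap_apply C B B₂, hσ₀, AlgHom.commutes]
      rfl }
  refine ⟨B₂, inferInstance, inferInstance, inferInstance, inferInstance, hy₂, σ₂,
    Algebra.Etale.of_isLocalizationAway (r := r), hσ₀, ?_, fun i b => Groth.Agent.CurvesC.NodeChartC.pd_map hy hy₂ i b⟩
  apply le_antisymm
  · intro b hb
    obtain ⟨⟨c, s⟩, hs⟩ := IsLocalization.surj (M := Submonoid.powers r) b
    have hb' : σ₂ b = 0 := hb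
    have hc : σ c = 0 := by
      have h1 : σ₀ (b * algebraMap B B₂ s) = σ₀ (algebraMap B B₂ c) := congrArg σ₀ hs
      rw [map_mul, hσ₀, hσ₀] at h1
      have h2 : σ₀ b = 0 := hb'
      rw [h2, zero_mul] at h1
      exact h1.symm
    have h3 : r * c ∈ Ideal.span (Set.range y) := hr2 (Submodule.smul_mem_pointwise_smul c r _ hc)
    have h4 : algebraMap B B₂ (r * c) ∈ Ideal.span (Set.range (fun i => algebraMap B B₂ (y i))) := by
      have := Ideal.mem_map_of_mem (algebraMap B B₂) h3
      rwa [Ideal.map_span, ← Set.range_comp] at this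
    have hur : IsUnit (algebraMap B B₂ r) := IsLocalization.Away.algebraMap_isUnit r
    have hus : IsUnit (algebraMap B B₂ s) := IsLocalization.map_units B₂ s
    rw [map_mul, Ideal.unit_mul_mem_iff_mem _ hur, ← hs, Ideal.mul_unit_mem_iff_mem _ hus] at h4
    exact h4
  · rw [Ideal.span_le]
    rintro _ ⟨i, rfl⟩
    change σ₀ (algebraMap B B₂ (y i)) = 0
    rw [hσ₀, hσ]

end Groth.Agent.CurvesC.MorseShrink
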