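import Groth.Agent.CurvesC.MorseCore
import Groth.Agent.CurvesC.MorseCrit
import Groth.Agent.CurvesC.MorseShrink

/-!
# The Morse lemma for nodal functions, étale locally
-/

set_option autoImplicit false
set_option linter.style.haveILetI false

namespace Groth.Agent.CurvesC.NodeMorse

open Groth.Agent.CurvesC.NodeEt Groth.Agent.CurvesC.MorseCore Groth.Agent.CurvesC.MorseCrit
  Groth.Agent.CurvesC.MorseShrink Groth.Agent.CurvesC.NodeChartC

universe u

theorem morse {R B K : Type u} [CommRing R] [CommRing B] [Algebra R B] [Field K] [IsAlgClosed K] [Algebra R K]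
    (x : Fin 2 → B) (hx : IsEtaleCoord R x) (h : B) (χ : B →ₐ[R] K) (hd : ∀ i, χ (hx.pd i h) = 0)
    (hH : χ (hx.pd 0 (hx.pd 0 h) * hx.pd 1 (hx.pd 1 h) - hx.pd 0 (hx.pd 1 h) * hx.pd 1 (hx.pd 0 h)) ≠ 0) :
    ∃ (C B' : Type u) (_ : CommRing C) (_ : CommRing B') (_ : Algebra R C) (_ : Algebra C B')
      (θ : B →+* B') (u v : B') (a : C) (χ' : B' →+* K),
      Algebra.Etale R C ∧ θ.Etale ∧ (∀ r, θ (algebraMap R B r) = algebraMap C B' (algebraMap R C r)) ∧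
      IsEtaleCoord C ![u, v] ∧ θ h = u * v + algebraMap C B' a ∧ ∀ b, χ' (θ b) = χ b := by
  obtain ⟨C, B₁, iC, iB, iRC, iCB, iRB, iT, θ, y, hy, σ, χC, hRC, hθ, hσ, hσd, hHess, hχ⟩ := critical x hx h χ hd hH
  obtain ⟨B₂, jC, jB, jCB, jT, hy₂, σ₂, k1, k2, k3, k4⟩ := shrink y hy σ hσ
  obtain ⟨B₃, lC, lB, lCB, lT, u, v, χ'', m1, m2, m3, m4⟩ := morse_core (fun i => algebraMap B₁ B₂ (y i)) hy₂ σ₂ k3
    (algebraMap B₁ B₂ (θ h)) (by
      intro i
      rw [k4, k2, hσd]) χC (by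
      rw [k4, k4, k4, k4, k4, k4, ← map_mul, ← map_mul, ← map_sub, k2]
      exact hHess)
  refine ⟨C, B₃, iC, lC, iRC, lCB, (algebraMap B₂ B₃).comp ((algebraMap B₁ B₂).comp θ.toRingHom), u, v, σ₂ (algebraMap B₁ B₂ (θ h)),
    χ'', hRC, etale_comp (etale_comp hθ (RingHom.etale_algebraMap.mpr k1)) (RingHom.etale_algebraMap.mpr m1), ?_, m2, m3, ?_⟩
  · intro r
    change algebraMap B₂ B₃ (algebraMap B₁ B₂ (θ (algebraMap R B r))) = _
    rw [AlgHom.commutes, IsScalarTower.algebraMap_apply R C B₁, ← IsScalarTower.algebraMap_apply C B₁ B₂,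
      ← IsScalarTower.algebraMap_apply C B₂ B₃]
  · intro b
    change χ'' (algebraMap B₂ B₃ (algebraMap B₁ B₂ (θ b))) = _
    rw [m4, k2, hχ]

end Groth.Agent.CurvesC.NodeMorse
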