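import Groth.Agent.CurvesC.NodeScheme
import Groth.Agent.CurvesC.NodeChartC
import Groth.Agent.CurvesC.NodeMorse
import Groth.Agent.Models.NodePushout
import Mathlib.AlgebraicGeometry.Morphisms.Etale

/-!
# Étale local structure of nodal families: assembly of the affine pieces
-/

set_option autoImplicit false
set_option linter.style.haveILetI false

namespace Groth.Agent.CurvesC.NodeFinal

open CategoryTheory CategoryTheory.Limits AlgebraicGeometry TensorProduct
open Groth.Agent.CurvesC.NodeEt Groth.Agent.CurvesC.NodeAlg Groth.Agent.CurvesC.NodePow Groth.Agent.CurvesC.NodeOdp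
  Groth.Agent.CurvesC.NodeChartC Groth.Agent.CurvesC.NodeMorse Groth.Agent.CurvesC.NodeScheme

universe u

/-- The algebraic form of the local structure: from a node of `A` over `R` at `χ : A → K` to étale `A → A₂`, `R → C`,
`C[u,v]/(uv - c) → A₂`. -/
theorem exists_model {R A K : Type u} [CommRing R] [CommRing A] [Field K] [IsAlgClosed K] [Algebra R A] [Algebra R K]
    [Algebra A K] [IsScalarTower R A K] [Module.Flat R A] [Algebra.FinitePresentation R A]
    (φ : K ⊗[R] A →ₐ[K] TT K)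
    (hN : NodeData (ev R A K) (mT K) (Ideal.Quotient.mk _ (MvPowerSeries.X 0)) (Ideal.Quotient.mk _ (MvPowerSeries.X 1)) φ) :
    ∃ (C A₂ : Type u) (_ : CommRing C) (_ : CommRing A₂) (ρ : A →+* A₂) (ι : R →+* C) (c : C)
      (κ : Groth.Agent.Models.NodePushout.Ruv (MvPolynomial.C c) →+* A₂) (χ : A₂ →+* K),
      ρ.Etale ∧ ι.Etale ∧ κ.Etale ∧
      ρ.comp (algebraMap R A) = (κ.comp (Groth.Agent.Models.NodePushout.iota (MvPolynomial.C c))).comp ι ∧
      χ.comp ρ = algebraMap A K := by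
  obtain ⟨A₁, B, _, _, _, _, _, _, χ₁, x, hx, h₀, π, hA₁, hπ, hker, hd, hH⟩ := exists_chart hN
  have hπ0 : π h₀ = 0 := by
    have : h₀ ∈ RingHom.ker π := by rw [hker]; exact Ideal.mem_span_singleton_self _
    exact this
  obtain ⟨C, B', _, _, _, _, θ, u, v, a, χ', hRC, hθ, hcomp, huv, hθh, hχ'⟩ :=
    morse x hx h₀ ((χ₁.restrictScalars R).comp π) hd hH
  -- the quotient
  let J : Ideal B' := Ideal.span {θ h₀}
  let qθ : B ⧸ Ideal.span {h₀} →+* B' ⧸ J := Ideal.quotientMap J θ (by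
    rw [← Ideal.map_le_iff_le_comap, Ideal.map_span, Set.image_singleton])
  have hqθ : qθ.Etale := etale_quotientMap θ hθ (Ideal.span {h₀}) J (by rw [Ideal.map_span, Set.image_singleton])
  let e₁ : B ⧸ Ideal.span {h₀} ≃+* A₁ :=
    (Ideal.quotEquivOfEq hker.symm).trans (RingHom.quotientKerEquivOfSurjective (f := π.toRingHom) hπ)
  have he₁ : ∀ b, e₁ (Ideal.Quotient.mk _ b) = π b := fun b => rfl
  have he₁' : ∀ b, e₁.symm (π b) = Ideal.Quotient.mk _ b := fun b => by
    rw [RingEquiv.symm_apply_eq, he₁]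
  let ρ₁ : A₁ →+* B' ⧸ J := qθ.comp e₁.symm.toRingHom
  have hρ₁ : ρ₁.Etale := etale_comp (RingHom.Etale.of_bijective e₁.symm.bijective) hqθ
  have hρ₁' : ∀ b, ρ₁ (π b) = Ideal.Quotient.mk J (θ b) := fun b => by
    change qθ (e₁.symm (π b)) = _
    rw [he₁']
    rfl
  let χ₂ : B' ⧸ J →+* K := Ideal.Quotient.lift J χ' (by
    have hle : J ≤ RingHom.ker χ' := by
      rw [Ideal.span_singleton_le_iff_mem, RingHom.mem_ker, hχ']
      change χ₁ (π h₀) = 0
      rw [hπ0, map_zero]
    exact fun b hb => hle hb)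
  let Jc : Ideal (MvPolynomial (Fin 2) C) := Ideal.span {MvPolynomial.X 0 * MvPolynomial.X 1 - MvPolynomial.C (-a)}
  have hJc : J = Jc.map (MvPolynomial.aeval ![u, v] : MvPolynomial (Fin 2) C →ₐ[C] B').toRingHom := by
    rw [Ideal.map_span, Set.image_singleton]
    change Ideal.span {θ h₀} = Ideal.span {MvPolynomial.aeval ![u, v] _}
    rw [hθh]
    congr 2
    simp
  let κ : MvPolynomial (Fin 2) C ⧸ Jc →+* B' ⧸ J := Ideal.quotientMap J
    (MvPolynomial.aeval ![u, v] : MvPolynomial (Fin 2) C →ₐ[C] B').toRingHom (by rw [hJc]; exact Ideal.le_comap_map)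
  have hκ : κ.Etale := etale_quotientMap _ huv Jc J hJc
  refine ⟨C, B' ⧸ J, inferInstance, inferInstance, ρ₁.comp (algebraMap A A₁), algebraMap R C, -a, κ, χ₂, ?_, ?_, hκ, ?_, ?_⟩
  · exact etale_comp (RingHom.etale_algebraMap.mpr hA₁) hρ₁
  · exact RingHom.etale_algebraMap.mpr hRC
  · ext r
    change ρ₁ (algebraMap A A₁ (algebraMap R A r)) = κ (Ideal.Quotient.mk Jc (MvPolynomial.C (algebraMap R C r)))
    rw [← IsScalarTower.algebraMap_apply R A A₁, ← π.commutes, hρ₁', hcomp]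
    change _ = Ideal.Quotient.mk J (MvPolynomial.aeval ![u, v] (MvPolynomial.C (algebraMap R C r)))
    rw [MvPolynomial.aeval_C]
  · ext a'
    change χ₂ (ρ₁ (algebraMap A A₁ a')) = _
    obtain ⟨b, hb⟩ := hπ (algebraMap A A₁ a')
    rw [← hb, hρ₁']
    change χ' (θ b) = _
    rw [hχ']
    change χ₁ (π b) = _
    rw [hb, χ₁.commutes]

end Groth.Agent.CurvesC.NodeFinal
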