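import Groth.Prelude.Def_ClSub2
import Mathlib.Algebra.Homology.ShortComplex.Ab
import Mathlib.Algebra.Homology.ShortComplex.ExactFunctor

/-!
# Sections of kernels of maps of modules, and sections of the ideal module of an ideal sheaf
-/

universe u

open CategoryTheory CategoryTheory.Limits AlgebraicGeometry Opposite

namespace Groth.Agent.CurvesC.KerSec

variable {X : Scheme.{u}}

/-- Sections over `U` as a functor to abelian groups. -/
noncomputable abbrev secF (U : X.Opens) : X.Modules ⥤ Ab.{u} :=
  Scheme.Modules.toPresheaf X ⋙ (evaluation _ _).obj (op U)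

instance (U : X.Opens) : PreservesFiniteLimits (secF U) := by
  have h1 : PreservesFiniteLimits (Scheme.Modules.toPresheaf X) := inferInstance
  have h2 : PreservesFiniteLimits
    ((evaluation (TopologicalSpace.Opens X)ᵒᵖ Ab.{u}).obj (op U)) := inferInstance
  exact @comp_preservesFiniteLimits _ _ _ _ _ _ _ _ h1 h2

instance (U : X.Opens) : (secF U).Additive where
  map_add := rfl

theorem kernel_ι_app_injective {M N : X.Modules} (φ : M ⟶ N) (U : X.Opens) :
    Function.Injective ((kernel.ι φ).app U) := by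
  have : Mono ((secF U).map (kernel.ι φ)) := inferInstance
  exact (AddCommGrpCat.mono_iff_injective _).1 this

theorem exists_kernel_ι_app_eq {M N : X.Modules} (φ : M ⟶ N) (U : X.Opens) (m : Γ(M, U))
    (hm : φ.app U m = 0) : ∃ a : Γ(kernel φ, U), (kernel.ι φ).app U a = m := by
  let S : ShortComplex X.Modules := ShortComplex.mk (kernel.ι φ) φ (kernel.condition φ)
  have hS : S.Exact := ShortComplex.exact_of_f_is_kernel _ (kernelIsKernel φ)
  have h2 : (S.map (secF U)).Exact := by
    have hm : Mono S.f := inferInstanceAs (Mono (kernel.ι φ))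
    exact (hS.map_of_mono_of_preservesKernel (secF U) hm inferInstance)
  exact (ShortComplex.ab_exact_iff _).1 h2 m hm

/-- A section of the structure module, seen as a function. -/
def toFun {U : X.Opens} (s : Γ(Coh.structureModule X, U)) : Γ(X, U) := s

/-- A function, seen as a section of the structure module. -/
def ofFun {U : X.Opens} (s : Γ(X, U)) : Γ(Coh.structureModule X, U) := s

@[simp] theorem toFun_ofFun {U : X.Opens} (s : Γ(X, U)) : toFun (ofFun s) = s := rfl

@[simp] theorem ofFun_toFun {U : X.Opens} (s : Γ(Coh.structureModule X, U)) : ofFun (toFun s) = s := rfl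

theorem toFun_map {U V : X.Opens} (i : V ⟶ U) (s : Γ(Coh.structureModule X, U)) :
    toFun ((Coh.structureModule X).presheaf.map i.op s) = X.presheaf.map i.op (toFun s) := rfl

theorem idealModι_app_injective (I : X.IdealSheafData) (U : X.Opens) :
    Function.Injective ((ClSub.idealModι I).app U) :=
  kernel_ι_app_injective (ClSub.toSubscheme I) U

theorem idealModι_app_mem (I : X.IdealSheafData) (U : X.affineOpens) (a : Γ(ClSub.idealMod I, U)) :
    toFun ((ClSub.idealModι I).app U a) ∈ I.ideal U := by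
  have h : (ClSub.idealModι I ≫ ClSub.toSubscheme I) = 0 := kernel.condition _
  have h2 := congrArg (fun φ => (Scheme.Modules.Hom.app φ U.1) a) h
  have h3 : toFun ((ClSub.idealModι I).app U a) ∈ RingHom.ker (I.subschemeι.app U).hom := h2
  rwa [I.ker_subschemeι_app U] at h3

theorem exists_idealModι_app_eq (I : X.IdealSheafData) (U : X.affineOpens) (s : Γ(X, U))
    (hs : s ∈ I.ideal U) : ∃ a : Γ(ClSub.idealMod I, U), (ClSub.idealModι I).app U a = ofFun s := by
  rw [← I.ker_subschemeι_app U, RingHom.mem_ker] at hs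
  exact exists_kernel_ι_app_eq (ClSub.toSubscheme I) U.1 (ofFun s) hs

/-- Value of a map out of the structure module. -/
theorem unit_app_eq {M : X.Modules} (φ : Coh.structureModule X ⟶ M) {U V : X.Opens} (i : V ⟶ U)
    (s : Γ(X, V)) : φ.app V (ofFun s) = s • M.presheaf.map i.op (φ.app U (ofFun 1)) := by
  have h1 : φ.app V (ofFun (s • (1 : Γ(X, V)))) = s • φ.app V (ofFun 1) :=
    Scheme.Modules.Hom.app_smul φ s (ofFun 1)
  have h2 : φ.app V (ofFun 1) = M.presheaf.map i.op (φ.app U (ofFun 1)) := by
    have h3 := congrArg (fun ψ => ψ (ofFun (1 : Γ(X, U)))) (φ.mapPresheaf.naturality i.op)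
    refine Eq.trans ?_ h3
    have h4 : (Coh.structureModule X).presheaf.map i.op (ofFun 1) = ofFun 1 :=
      map_one (X.presheaf.map i.op).hom
    exact (congrArg (φ.app V) h4).symm
  rw [← h2, ← h1, smul_eq_mul, mul_one]

/-- A map from the structure module is determined by the image of `1`. -/
theorem unit_hom_ext {M : X.Modules} (φ ψ : Coh.structureModule X ⟶ M)
    (h : φ.app ⊤ (ofFun 1) = ψ.app ⊤ (ofFun 1)) : φ = ψ := by
  apply Scheme.Modules.hom_ext
  intro U
  ext s
  rw [← ofFun_toFun s]
  rw [unit_app_eq φ (homOfLE (le_top : U ≤ ⊤)), unit_app_eq ψ (homOfLE (le_top : U ≤ ⊤)), h]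

/-- If a map `O_X ⟶ M` is killed on ideals `I_x` with `x` outside the support of `I_x`, for every `x`,
then it is zero. -/
theorem eq_zero_of_idealMod {M : X.Modules} (φ : Coh.structureModule X ⟶ M)
    (h : ∀ x : X, ∃ I : X.IdealSheafData, x ∉ I.support ∧ ClSub.idealModι I ≫ φ = 0) : φ = 0 := by
  apply unit_hom_ext
  have hsheaf : M.presheaf.IsSheaf := M.isSheaf
  have h0 : (0 : Coh.structureModule X ⟶ M).app ⊤ (ofFun 1) = 0 := rfl
  rw [h0]
  have key : ∀ x : X, ∃ V : X.Opens, x ∈ V ∧
      M.presheaf.map (homOfLE (le_top : V ≤ ⊤)).op (φ.app ⊤ (ofFun 1)) = 0 := by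
    intro x
    obtain ⟨I, hxI, hI⟩ := h x
    rw [Scheme.IdealSheafData.mem_support_iff] at hxI
    push Not at hxI
    obtain ⟨U, hU⟩ := hxI
    rw [Scheme.mem_zeroLocus_iff] at hU
    push Not at hU
    obtain ⟨f, hf, hxf⟩ := hU
    have hle : X.basicOpen f ≤ U.1 := X.basicOpen_le f
    refine ⟨X.basicOpen f, hxf, ?_⟩
    obtain ⟨a, ha⟩ := exists_idealModι_app_eq I U f hf
    have h1 : φ.app U.1 (ofFun f) = 0 := by
      rw [← ha]
      exact congrArg (fun ψ => (Scheme.Modules.Hom.app ψ U.1) a) hI
    rw [unit_app_eq φ (homOfLE (le_top : U.1 ≤ ⊤))] at h1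
    have h2 := congrArg (M.presheaf.map (homOfLE hle).op) h1
    rw [map_zero] at h2
    have h3 : M.presheaf.map (homOfLE hle).op
        (f • M.presheaf.map (homOfLE (le_top : U.1 ≤ ⊤)).op (φ.app ⊤ (ofFun 1))) =
        X.presheaf.map (homOfLE hle).op f •
          M.presheaf.map (homOfLE (le_top : X.basicOpen f ≤ ⊤)).op (φ.app ⊤ (ofFun 1)) := by
      rw [Scheme.Modules.map_smul]
      congr 1
      rw [← ConcreteCategory.comp_apply, ← Functor.map_comp]
      rfl
    rw [h3] at h2
    have hu : IsUnit (X.presheaf.map (homOfLE hle).op f) := by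
      have := RingedSpace.isUnit_res_basicOpen X.toRingedSpace f
      exact this
    exact (hu.smul_eq_zero).1 h2
  refine TopCat.Presheaf.IsSheaf.section_ext hsheaf fun x _ => ?_
  obtain ⟨V, hxV, hV⟩ := key x
  exact ⟨V, le_top, hxV, hV.trans (map_zero _).symm⟩

end Groth.Agent.CurvesC.KerSec
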