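import Groth.Prelude.Def_Coh
import Groth.Agent.CohqA.ExtCompare
import Groth.Agent.CohtopA.Flasque
import Groth.Agent.Ega3B.InjMod
import Groth.Agent.S0484
import Groth.Agent.Dcoh.Restrict
import Groth.Agent.CycB.StalkExact

/-!
# `Ext^n(O_X, F)` in `X.Modules` versus Zariski cohomology `Coh.HH X F n`

`extHH F n : Ext (structureModule X) F n ≃+ Coh.HH X F n`, natural in `F` (`extHH_comp_mk₀`), compatible
with connecting homomorphisms (`extHH_comp_extClass`).
-/

set_option autoImplicit false
universe w u

open CategoryTheory CategoryTheory.Limits AlgebraicGeometry Opposite TopologicalSpace Abelian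

namespace Groth.Agent.CurvesC.ExtUnit

/-- `X.Modules` is a Grothendieck abelian category. -/
theorem isGrothendieckAbelian_modules (X : Scheme.{u}) : IsGrothendieckAbelian.{u} X.Modules :=
  Groth.Agent.S0484.result _ _

theorem enoughInjectives_modules (X : Scheme.{u}) : EnoughInjectives X.Modules :=
  have := isGrothendieckAbelian_modules X
  inferInstance

/-- The constant sheaf `ℤ`. -/
noncomputable abbrev constZ (X : Scheme.{u}) : Sheaf (Opens.grothendieckTopology X) AddCommGrpCat.{u} :=
  (constantSheaf (Opens.grothendieckTopology X) AddCommGrpCat.{u}).obj (AddCommGrpCat.of (ULift ℤ))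

/-- The underlying abelian sheaf functor, typed on `X.Modules`. -/
noncomputable def toAbF (X : Scheme.{u}) :
    X.Modules ⥤ Sheaf (Opens.grothendieckTopology X) AddCommGrpCat.{u} :=
  SheafOfModules.toSheaf.{u} X.ringCatSheaf

instance (X : Scheme.{u}) : (toAbF X).Additive :=
  inferInstanceAs (SheafOfModules.toSheaf.{u} X.ringCatSheaf).Additive

instance (X : Scheme.{u}) : PreservesFiniteLimits (toAbF X) :=
  inferInstanceAs (PreservesFiniteLimits (SheafOfModules.toSheaf.{u} X.ringCatSheaf))

instance (X : Scheme.{u}) : PreservesFiniteColimits (toAbF X) :=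
  CycB.StalkExact.toSheaf_preservesFiniteColimits X

variable {X : Scheme.{u}}

/-- Morphisms out of the constant sheaf are global sections. -/
noncomputable def constEquiv (F : Sheaf (Opens.grothendieckTopology X) AddCommGrpCat.{u}) :
    (constZ X ⟶ F) ≃+ F.obj.obj (op ⊤) :=
  AddEquiv.trans ((constantSheafAdj _ AddCommGrpCat (isTerminalTop (α := Opens X))).homAddEquiv _ F)
      (AddCommGrpCat.uliftZMultiplesAddEquiv _)

theorem constEquiv_comp {F G : Sheaf (Opens.grothendieckTopology X) AddCommGrpCat.{u}}
    (a : constZ X ⟶ F) (b : F ⟶ G) :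
    constEquiv G (a ≫ b) = b.hom.app (op ⊤) (constEquiv F a) := by
  rfl

/-- The section `1` as a map from the constant sheaf. -/
noncomputable def oneMap (X : Scheme.{u}) :
    constZ X ⟶ (toAbF X).obj (Coh.structureModule X) :=
  (constEquiv ((toAbF X).obj (Coh.structureModule X))).symm (Dcoh.Restrict.one ⊤)

theorem oneMap_comp (F : X.Modules) (g : Coh.structureModule X ⟶ F) :
    constEquiv ((toAbF X).obj F) (oneMap X ≫ (toAbF X).map g) = Dcoh.Restrict.unitEquiv F g := by
  have h := constEquiv_comp (oneMap X) ((toAbF X).map g)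
  refine h.trans ?_
  have h2 : constEquiv ((toAbF X).obj (Coh.structureModule X)) (oneMap X) =
    Dcoh.Restrict.one ⊤ := AddEquiv.apply_symm_apply _ _
  rw [h2]
  rfl

theorem bijective_oneMap (F : X.Modules) : Function.Bijective
    (fun g : Coh.structureModule X ⟶ F => oneMap X ≫ (toAbF X).map g) := by
  have : (fun g : Coh.structureModule X ⟶ F => oneMap X ≫ (toAbF X).map g) =
      (constEquiv ((toAbF X).obj F)).symm ∘ (Dcoh.Restrict.unitEquiv F) := by
    funext g
    apply (constEquiv ((toAbF X).obj F)).injective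
    rw [oneMap_comp]
    exact (AddEquiv.apply_symm_apply _ _).symm
  rw [this]
  exact (constEquiv _).symm.bijective.comp (Dcoh.Restrict.unitEquiv F).bijective

theorem subsingleton_H_injective (I : X.Modules) [Injective I] (n : ℕ) :
    Subsingleton (Ext.{u} (constZ X) ((toAbF X).obj I) (n + 1)) := by
  have := Ega3B.InjMod.isFlasque_of_injective I
  exact CohtopA.Flasque.subsingleton_H_succ (X := X.toTopCat) (Coh.toAb I) n

section

variable [HasExt.{w} X.Modules]

/-- The comparison `Ext^n(O_X, F) ≃+ H^n(X, F)`. -/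
noncomputable def extHH (F : X.Modules) (n : ℕ) :
    Ext.{w} (Coh.structureModule X) F n ≃+ Coh.HH X F n :=
  have := enoughInjectives_modules X
  CohqA.ExtCompare.compareEquiv (toAbF X) (oneMap X)
    bijective_oneMap (fun I _ n => subsingleton_H_injective I n) F n

theorem extHH_apply (F : X.Modules) (n : ℕ) (x : Ext.{w} (Coh.structureModule X) F n) :
    extHH F n x = (Ext.mk₀ (oneMap X)).comp (x.mapExactFunctor (toAbF X)) (zero_add n) := rfl

theorem extHH_comp_mk₀ {F G : X.Modules} (n : ℕ) (x : Ext.{w} (Coh.structureModule X) F n)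
    (f : F ⟶ G) :
    extHH G n (x.comp (Ext.mk₀ f) (add_zero n)) =
      Sheaf.H.map ((SheafOfModules.toSheaf.{u} X.ringCatSheaf).map f) n (extHH F n x) :=
  CohqA.ExtCompare.compare_comp_mk₀ (toAbF X) (oneMap X) x f

theorem extHH_comp_extClass {S : ShortComplex X.Modules} (hS : S.ShortExact) {n p : ℕ}
    (x : Ext.{w} (Coh.structureModule X) S.X₃ n) (h : n + 1 = p) :
    extHH S.X₁ p (x.comp hS.extClass h) =
      (show Ext.{u} (constZ X) ((toAbF X).obj S.X₃) n from extHH S.X₃ n x).comp
        (hS.map_of_exact (toAbF X)).extClass h :=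
  CohqA.ExtCompare.compare_comp_extClass (toAbF X) (oneMap X) hS x h

end

end Groth.Agent.CurvesC.ExtUnit
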