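import Groth.Agent.FormalA.HHLin
import Groth.Agent.CohqB.HSeqMod

/-!
# Sealed linear interface to the cohomology `Coh.HH X F n` of an `O_X`-module over `Spec A`

`HV X F n` is `Coh.HH X F n` behind a definition, with its `A`-module structure, functoriality, connecting maps
and the identification of `HV X F 0` with global sections.  Working with `HV` keeps the terms (and the kernel
type checking time) small; `HV.equiv` and the lemmas `*_equiv` translate back.
-/

set_option autoImplicit false

universe u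

open CategoryTheory CategoryTheory.Limits AlgebraicGeometry Opposite TopologicalSpace

namespace Groth.Agent.CurvesC

open Groth.Agent.CohqB Groth.Agent.FormalA.HHLin

/-- `Coh.HH X F n`, sealed. -/
def HV (X : Scheme.{u}) (F : X.Modules) (n : ℕ) : Type u := Coh.HH X F n

noncomputable instance HV.instAddCommGroup (X : Scheme.{u}) (F : X.Modules) (n : ℕ) : AddCommGroup (HV X F n) :=
  inferInstanceAs (AddCommGroup (Coh.HH X F n))

variable (A : Type u) [CommRing A] {X : Scheme.{u}} [X.Over (Spec (CommRingCat.of A))]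

noncomputable instance HV.instModule (F : X.Modules) (n : ℕ) : Module A (HV X F n) :=
  inferInstanceAs (Module A (Coh.HH X F n))

namespace HV

/-- the comparison with `Coh.HH` -/
noncomputable def equiv (F : X.Modules) (n : ℕ) : HV X F n ≃ₗ[A] Coh.HH X F n := LinearEquiv.refl A _

variable {F G K : X.Modules}

/-- functoriality -/
noncomputable def map (φ : F ⟶ G) (n : ℕ) : HV X F n →ₗ[A] HV X G n := HHmap A φ n

theorem equiv_map (φ : F ⟶ G) (n : ℕ) (x : HV X F n) :
    equiv A G n (map A φ n x) = Sheaf.H.map ((SheafOfModules.toSheaf X.ringCatSheaf).map φ) n (equiv A F n x) := rfl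

@[simp] theorem map_id (n : ℕ) : map A (𝟙 F) n = LinearMap.id := HHmap_id A n

theorem map_comp (φ : F ⟶ G) (ψ : G ⟶ K) (n : ℕ) : map A (φ ≫ ψ) n = map A ψ n ∘ₗ map A φ n :=
  HHmap_comp A φ ψ n

theorem map_comp_apply (φ : F ⟶ G) (ψ : G ⟶ K) (n : ℕ) (x : HV X F n) :
    map A (φ ≫ ψ) n x = map A ψ n (map A φ n x) := LinearMap.congr_fun (map_comp A φ ψ n) x

theorem map_add (φ ψ : F ⟶ G) (n : ℕ) : map A (φ + ψ) n = map A φ n + map A ψ n := by
  ext x
  exact HSeqMod.hmap_add_apply φ ψ n x

theorem map_zero (n : ℕ) : map A (0 : F ⟶ G) n = 0 := by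
  ext x
  exact HSeqMod.hmap_zero_apply n x

theorem map_smulMod (a : A) (n : ℕ) : map A (Formal.smulMod A F a) n = a • LinearMap.id := by
  ext x
  exact HHmap_smulMod A a n x

theorem map_smulMod_apply (a : A) (n : ℕ) (x : HV X F n) : map A (Formal.smulMod A F a) n x = a • x :=
  HHmap_smulMod A a n x

variable {S T : ShortComplex X.Modules}

/-- endomorphism of a short complex given by a scalar -/
noncomputable def smulSC (S : ShortComplex X.Modules) (a : A) : S ⟶ S where
  τ₁ := Formal.smulMod A S.X₁ a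
  τ₂ := Formal.smulMod A S.X₂ a
  τ₃ := Formal.smulMod A S.X₃ a
  comm₁₂ := (smulMod_naturality A S.f a).symm
  comm₂₃ := (smulMod_naturality A S.g a).symm

/-- the connecting map, linear -/
noncomputable def δ (hS : S.ShortExact) (n : ℕ) : HV X S.X₃ n →ₗ[A] HV X S.X₁ (n + 1) where
  toFun := HSeqMod.δ hS n
  map_add' := _root_.map_add _
  map_smul' := fun a x => HSeqMod.δ_naturality hS hS (smulSC A S a) n x

theorem equiv_δ (hS : S.ShortExact) (n : ℕ) (x : HV X S.X₃ n) :
    equiv A _ _ (δ A hS n x) = HSeqMod.δ hS n (equiv A _ _ x) := rfl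

theorem exact₁ (hS : S.ShortExact) (n : ℕ) (x : HV X S.X₁ (n + 1)) (hx : map A S.f (n + 1) x = 0) :
    ∃ y, δ A hS n y = x := HSeqMod.exact₁ hS n x hx

theorem exact₂ (hS : S.ShortExact) (n : ℕ) (x : HV X S.X₂ n) (hx : map A S.g n x = 0) :
    ∃ y, map A S.f n y = x := HSeqMod.exact₂ hS n x hx

theorem exact₃ (hS : S.ShortExact) (n : ℕ) (x : HV X S.X₃ n) (hx : δ A hS n x = 0) :
    ∃ y, map A S.g n y = x := HSeqMod.exact₃ hS n x hx

theorem δ_map (hS : S.ShortExact) (n : ℕ) (x : HV X S.X₂ n) : δ A hS n (map A S.g n x) = 0 :=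
  HSeqMod.δ_hmap hS n x

theorem map_map_zero (n : ℕ) (x : HV X S.X₁ n) : map A S.g n (map A S.f n x) = 0 := by
  rw [← map_comp_apply, S.zero, map_zero, LinearMap.zero_apply]

theorem δ_naturality (hS : S.ShortExact) (hT : T.ShortExact) (f : S ⟶ T) (n : ℕ) (x : HV X S.X₃ n) :
    δ A hT n (map A f.τ₃ n x) = map A f.τ₁ (n + 1) (δ A hS n x) :=
  HSeqMod.δ_naturality hS hT f n x

end HV

end Groth.Agent.CurvesC
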