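import Groth.Agent.CurvesC.LinMod
import Groth.Agent.CurvesC.HV
import Groth.Agent.CurvesC.ExtUnit

/-!
# `Hom_{D(X)}(O_X, F[n]) = H^n(X, F)`

`homHV F n`: the additive equivalence between morphisms `O_X ⟶ F[n]` in the derived category and `HV X F n`,
natural in `F` and compatible with the action of the base ring.
-/

set_option autoImplicit false

universe u

open CategoryTheory CategoryTheory.Limits AlgebraicGeometry Abelian

attribute [local instance] HasDerivedCategory.standard

namespace Groth.Agent.CurvesC.HomHV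

variable {X : Scheme.{u}}

/-- `Hom_{D(X)}(O_X, F[n]) = H^n(X, F)`. -/
noncomputable def homHV (F : X.Modules) (n : ℕ) :
    (DCoh.inD X (Coh.structureModule X) ⟶ (DCoh.inD X F)⟦(n : ℤ)⟧) ≃+ HV X F n :=
  haveI : HasExt.{u + 1} X.Modules := HasExt.standard _
  AddEquiv.trans (Ext.homAddEquiv (X := Coh.structureModule X) (Y := F) (n := n)).symm
    (ExtUnit.extHH F n)

theorem homAddEquiv_symm_comp [HasExt.{u + 1} X.Modules] {E F G : X.Modules} (φ : F ⟶ G) (n : ℕ)
    (s : DCoh.inD X E ⟶ (DCoh.inD X F)⟦(n : ℤ)⟧) :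
    (Ext.homAddEquiv (X := E) (Y := G) (n := n)).symm
      (s ≫ ((DerivedCategory.singleFunctor X.Modules 0).map φ)⟦(n : ℤ)⟧') =
      ((Ext.homAddEquiv (X := E) (Y := F) (n := n)).symm s).comp (Ext.mk₀ φ) (add_zero n) := by
  apply (Ext.homAddEquiv (X := E) (Y := G) (n := n)).injective
  rw [AddEquiv.apply_symm_apply, Ext.homAddEquiv_apply, Ext.comp_hom, Ext.mk₀_hom,
    ShiftedHom.comp_mk₀, ← Ext.homAddEquiv_apply, AddEquiv.apply_symm_apply]

variable (A : Type u) [CommRing A] [X.Over (Spec (CommRingCat.of A))]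

theorem homHV_map {F G : X.Modules} (φ : F ⟶ G) (n : ℕ)
    (s : DCoh.inD X (Coh.structureModule X) ⟶ (DCoh.inD X F)⟦(n : ℤ)⟧) :
    homHV G n (s ≫ ((DerivedCategory.singleFunctor X.Modules 0).map φ)⟦(n : ℤ)⟧') =
      HV.map A φ n (homHV F n s) := by
  haveI : HasExt.{u + 1} X.Modules := HasExt.standard _
  have h1 := congrArg (ExtUnit.extHH G n) (homAddEquiv_symm_comp φ n s)
  rw [ExtUnit.extHH_comp_mk₀] at h1
  exact h1

theorem homHV_smul (a : A) (F : X.Modules) (n : ℕ)
    (s : DCoh.inD X (Coh.structureModule X) ⟶ (DCoh.inD X F)⟦(n : ℤ)⟧) :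
    homHV F n ((DerivedCategory.singleFunctor X.Modules 0).map
        (Formal.smulMod A (Coh.structureModule X) a) ≫ s) = a • homHV F n s := by
  rw [LinMod.smul_comm, homHV_map A, HV.map_smulMod_apply]

end Groth.Agent.CurvesC.HomHV
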