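import Groth.Agent.CurvesC.DerHom
import Mathlib.CategoryTheory.Triangulated.Pretriangulated

/-!
# The lowest cohomology of an object of the derived category

For `W` in degrees `≥ -d` there is a distinguished triangle `(H^{-d} W)[d] ⟶ W ⟶ T ⟶` with `T` in degrees
`≥ -d + 1`.
-/

set_option autoImplicit false
universe w v u

open CategoryTheory CategoryTheory.Limits Pretriangulated DerivedCategory

namespace Groth.Agent.CurvesC.SingleTri

open Groth.Agent.CurvesC.DerHom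

variable {A : Type u} [Category.{v} A] [Abelian A] [HasDerivedCategory.{w} A]

/-- An object of the derived category concentrated in degree `-d`. -/
theorem exists_iso_shift (K : DerivedCategory A) (d : ℤ) [K.IsLE (-d)] [K.IsGE (-d)] (w : A)
    (e : (homologyFunctor A (-d)).obj K ≅ w) : Nonempty (((singleFunctor A 0).obj w)⟦d⟧ ≅ K) := by
  obtain ⟨Z, ⟨e'⟩⟩ := exists_iso_singleFunctor_obj_of_isGE_of_isLE K (-d)
  let e2 : Z ≅ w := ((singleFunctorCompHomologyFunctorIso A (-d)).app Z).symm ≪≫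
    (homologyFunctor A (-d)).mapIso e'.symm ≪≫ e
  exact ⟨((singleFunctors A).shiftIso d (-d) 0 (by lia)).app w ≪≫
    (singleFunctor A (-d)).mapIso e2.symm ≪≫ e'.symm⟩

/-- The triangle of the lowest cohomology. -/
theorem exists_triangle (W : DerivedCategory A) (d : ℤ) [W.IsGE (-d)] :
    ∃ (T : DerivedCategory A) (_ : T.IsGE (-d + 1))
      (ι : ((singleFunctor A 0).obj ((homologyFunctor A (-d)).obj W))⟦d⟧ ⟶ W) (π : W ⟶ T)
      (δ : T ⟶ (((singleFunctor A 0).obj ((homologyFunctor A (-d)).obj W))⟦d⟧)⟦(1 : ℤ)⟧),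
      Triangle.mk ι π δ ∈ distTriang (DerivedCategory A) := by
  obtain ⟨X₁, T, hX₁, hT, f, g, h, hTri⟩ := exists_trunc W (-d)
  have hX₁' : X₁.IsGE (-d) := isGE_trunc₁ hTri (-d) (-d) (by lia)
  have h1 : IsIso ((homologyFunctor A (-d)).map f) := isIso_trunc₁ hTri (-d) (-d) le_rfl
  obtain ⟨e⟩ := exists_iso_shift X₁ d _ (asIso ((homologyFunctor A (-d)).map f))
  refine ⟨T, hT, e.hom ≫ f, g, h ≫ e.inv⟦(1 : ℤ)⟧', ?_⟩
  refine isomorphic_distinguished _ hTri _ (Triangle.isoMk _ _ e (Iso.refl _) (Iso.refl _) ?_ ?_ ?_)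
  · exact Category.comp_id (e.hom ≫ f)
  · exact (Category.comp_id g).trans (Category.id_comp g).symm
  · have h2 : (h ≫ e.inv⟦(1 : ℤ)⟧') ≫ e.hom⟦(1 : ℤ)⟧' = h := by
      rw [Category.assoc, ← Functor.map_comp, e.inv_hom_id, CategoryTheory.Functor.map_id, Category.comp_id]
    exact h2.trans (Category.id_comp h).symm

section

variable {W T Z : DerivedCategory A} {ι : Z ⟶ W} {π : W ⟶ T} {δ : T ⟶ Z⟦(1 : ℤ)⟧}
  (hTri : Triangle.mk ι π δ ∈ distTriang (DerivedCategory A))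

include hTri

theorem exists_lift {K : DerivedCategory A} (s : K ⟶ W) (hs : s ≫ π = 0) : ∃ s' : K ⟶ Z, s' ≫ ι = s := by
  have h1 : ∃ s' : K ⟶ Z, s = s' ≫ ι := Triangle.coyoneda_exact₂ _ hTri s hs
  obtain ⟨s', h⟩ := h1
  exact ⟨s', h.symm⟩

theorem lift_injective {K : DerivedCategory A} (m n : ℤ) (hmn : m ≤ n) [K.IsLE m] [T.IsGE n] (s s' : K ⟶ Z)
    (hs : s ≫ ι = s' ≫ ι) : s = s' := by
  rw [← sub_eq_zero]
  have h1 : (s - s') ≫ ι = 0 := by rw [Preadditive.sub_comp, hs, sub_self]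
  have h2 : ∃ r : K ⟶ T⟦(-1 : ℤ)⟧, s - s' = r ≫ (Triangle.mk ι π δ).invRotate.mor₁ :=
    Triangle.coyoneda_exact₂ _ (inv_rot_of_distTriang _ hTri) (s - s') h1
  obtain ⟨r, hr⟩ := h2
  have h3 : (T⟦(-1 : ℤ)⟧).IsGE (n + 1) := TStructure.t.isGE_shift T n (-1) (n + 1) (by lia)
  have h4 : r = 0 := zero_of_le_ge m (n + 1) (by lia) r
  rw [hr, h4]
  exact zero_comp

theorem comp_bijective {K : DerivedCategory A} (m n : ℤ) (hmn : m < n) [K.IsLE m] [T.IsGE n] :
    Function.Bijective (fun s : K ⟶ Z => s ≫ ι) :=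
  ⟨fun s s' hs => lift_injective hTri m n (by lia) s s' hs,
    fun s => exists_lift hTri s (zero_of_le_ge m n hmn _)⟩

end

end Groth.Agent.CurvesC.SingleTri
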