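import Groth.Agent.CurvesC.DualPairD
import Groth.Agent.CurvesC.HomHV
import Groth.Agent.CurvesC.SingleTri

/-!
# Duality for the dualizing complex of a scheme over a field, linear form

With the `k`-linear structure on `D(X)`: `exists_form` gives a linear form `τ` on `Hom_D(O_X, w)` such that
`Hom_D(K, w) = Hom_k(Hom_D(O_X, K), k)` for `K` in `D_QCoh(X)`.
-/

set_option autoImplicit false

universe u

open CategoryTheory CategoryTheory.Limits AlgebraicGeometry

attribute [local instance] HasDerivedCategory.standard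

namespace Groth.Agent.CurvesC.DualLin

open Groth.Agent.CurvesC.RepX

variable (k : Type u) [Field k] (X : Scheme.{u}) [X.Over (Spec (CommRingCat.of k))]

attribute [local instance] LinMod.linearModules

/-- The linear map `φ ↦ (s ↦ τ (s ≫ φ))`. -/
noncomputable def pairing {W : DCoh.D X} (τ : (P X ⟶ W) →ₗ[k] k) (K : DCoh.D X) :
    (K ⟶ W) →ₗ[k] Module.Dual k (P X ⟶ K) where
  toFun φ := τ ∘ₗ Linear.rightComp k (P X) φ
  map_add' φ ψ := by
    ext s
    change τ (s ≫ (φ + ψ)) = τ (s ≫ φ) + τ (s ≫ ψ)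
    rw [Preadditive.comp_add, map_add]
  map_smul' a φ := by
    ext s
    change τ (s ≫ (a • φ)) = a • τ (s ≫ φ)
    rw [Linear.comp_smul, map_smul]

theorem pairing_apply {W : DCoh.D X} (τ : (P X ⟶ W) →ₗ[k] k) {K : DCoh.D X} (φ : K ⟶ W) (s : P X ⟶ K) :
    pairing k X τ K φ s = τ (s ≫ φ) := rfl

theorem rho_comp {K : DCoh.D X} (a : k) (s : P X ⟶ K) : rho k X a ≫ s = a • s := by
  rw [rho, LinMod.singleFunctor_map_smulMod, Linear.smul_comp, Category.id_comp]

theorem exists_form [DCoh.HasRpush (X ↘ Spec (CommRingCat.of k))]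
    (h : DCoh.RpushPreservesQCoh (X ↘ Spec (CommRingCat.of k)))
    [DCoh.HasShriek (X ↘ Spec (CommRingCat.of k)) h]
    (OY : DCoh.DQCoh (Spec (CommRingCat.of k)))
    (hOY : Nonempty (OY.obj ≅ DCoh.inD (Spec (CommRingCat.of k))
      (Coh.structureModule (Spec (CommRingCat.of k))))) :
    ∃ τ : (P X ⟶ DCoh.dualizingCx (X ↘ Spec (CommRingCat.of k)) h OY) →ₗ[k] k,
      ∀ K : DCoh.D X, DCoh.IsQCohD K → Function.Bijective (pairing k X τ K) := by
  obtain ⟨τ, hτ, hK⟩ := DualPairD.exists_pair k X h OY hOY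
  refine ⟨{ toFun := τ, map_add' := map_add τ, map_smul' := fun a s => ?_ }, fun K hKq => ⟨?_, ?_⟩⟩
  · rw [← rho_comp]
    exact hτ a s
  · intro φ ψ hφ
    have h1 : ∀ s : P X ⟶ K, τ (s ≫ φ) = τ (s ≫ ψ) := fun s => LinearMap.congr_fun hφ s
    obtain ⟨θ, -, hu⟩ := hK K hKq
      { toFun := fun s => τ (s ≫ φ)
        map_zero' := by rw [zero_comp, map_zero]
        map_add' := fun s t => by rw [Preadditive.add_comp, map_add] }
      (fun a s => by
        change τ ((rho k X a ≫ s) ≫ φ) = a * τ (s ≫ φ)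
        rw [Category.assoc]
        exact hτ a _)
    exact (hu φ (fun s => rfl)).trans (hu ψ h1).symm
  · intro ψ
    obtain ⟨θ, hθ, -⟩ := hK K hKq ψ.toAddMonoidHom (fun a s => by
      rw [rho_comp]
      exact map_smul ψ a s)
    refine ⟨θ, ?_⟩
    ext s
    exact (hθ s).symm

/-- `Hom_{D(X)}(O_X, F[n]) = H^n(X, F)`, linear version. -/
noncomputable def homHVₗ (F : X.Modules) (n : ℕ) : (P X ⟶ (DCoh.inD X F)⟦(n : ℤ)⟧) ≃ₗ[k] HV X F n :=
  { HomHV.homHV F n with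
    map_smul' := fun a s => by
      change HomHV.homHV F n (a • s) = a • HomHV.homHV F n s
      rw [← rho_comp]
      exact HomHV.homHV_smul k a F n s }

theorem homHVₗ_map {F G : X.Modules} (φ : F ⟶ G) (n : ℕ) (s : P X ⟶ (DCoh.inD X F)⟦(n : ℤ)⟧) :
    homHVₗ k X G n (s ≫ ((DerivedCategory.singleFunctor X.Modules 0).map φ)⟦(n : ℤ)⟧') =
      HV.map k φ n (homHVₗ k X F n s) := HomHV.homHV_map k φ n s

section

variable {W : DCoh.D X} (d : ℕ)

/-- The shifted form: maps `F[d] ⟶ w[d]` are maps `F ⟶ w`. -/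
theorem shift_map_bijective (F w : X.Modules) : Function.Bijective (fun φ : F ⟶ w =>
    (((DerivedCategory.singleFunctor X.Modules 0).map φ)⟦(d : ℤ)⟧' :
      (DCoh.inD X F)⟦(d : ℤ)⟧ ⟶ (DCoh.inD X w)⟦(d : ℤ)⟧)) := by
  have h1 : Function.Bijective (fun φ : F ⟶ w => (DerivedCategory.singleFunctor X.Modules 0).map φ) :=
    ⟨Functor.map_injective _, Functor.map_surjective _⟩
  have h2 : Function.Bijective (fun φ : DCoh.inD X F ⟶ DCoh.inD X w =>
    (shiftFunctor (DCoh.D X) (d : ℤ)).map φ) := ⟨Functor.map_injective _, Functor.map_surjective _⟩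
  exact h2.comp h1

theorem isLE_shift (F : X.Modules) (n : ℤ) : ((DCoh.inD X F)⟦n⟧).IsLE (-n) :=
  DerivedCategory.TStructure.t.isLE_shift _ 0 n (-n) (by lia)

/-- If `w[d] ⟶ W` is bijective on maps from objects in degrees `≤ -d`, the form on `Hom(O_X, W)` gives a form
on `H^d(X, w)` which represents the dual of `F ↦ H^d(X, F)`. -/
theorem exists_unique_of_form (τ : (P X ⟶ W) →ₗ[k] k) (w : X.Modules)
    (ι : (DCoh.inD X w)⟦(d : ℤ)⟧ ⟶ W)
    (hι : ∀ K : DCoh.D X, K.IsLE (-(d : ℤ)) → Function.Bijective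
      (fun s : K ⟶ (DCoh.inD X w)⟦(d : ℤ)⟧ => s ≫ ι))
    (F : X.Modules) (hF : Function.Bijective (pairing k X τ ((DCoh.inD X F)⟦(d : ℤ)⟧))) :
    Function.Bijective (fun φ : F ⟶ w => (τ ∘ₗ Linear.rightComp k (P X) ι ∘ₗ
      (homHVₗ k X w d).symm.toLinearMap) ∘ₗ HV.map k φ d) := by
  have h1 := hF.comp ((hι _ (isLE_shift X F d)).comp (shift_map_bijective X d F w))
  have h2 : Function.Bijective (fun ψ : Module.Dual k (P X ⟶ (DCoh.inD X F)⟦(d : ℤ)⟧) =>
      ψ ∘ₗ (homHVₗ k X F d).symm.toLinearMap) := by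
    refine ⟨fun a b hab => ?_, fun ψ => ⟨ψ ∘ₗ (homHVₗ k X F d).toLinearMap, ?_⟩⟩
    · ext s
      have := LinearMap.congr_fun hab (homHVₗ k X F d s)
      simpa using this
    · ext s
      simp
  have h3 := h2.comp h1
  have h4 : (fun φ : F ⟶ w => (τ ∘ₗ Linear.rightComp k (P X) ι ∘ₗ
      (homHVₗ k X w d).symm.toLinearMap) ∘ₗ HV.map k φ d) =
      (fun ψ : Module.Dual k (P X ⟶ (DCoh.inD X F)⟦(d : ℤ)⟧) =>
      ψ ∘ₗ (homHVₗ k X F d).symm.toLinearMap) ∘ (pairing k X τ ((DCoh.inD X F)⟦(d : ℤ)⟧)) ∘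
        (fun s => s ≫ ι) ∘ (fun φ : F ⟶ w =>
    (((DerivedCategory.singleFunctor X.Modules 0).map φ)⟦(d : ℤ)⟧' :
      (DCoh.inD X F)⟦(d : ℤ)⟧ ⟶ (DCoh.inD X w)⟦(d : ℤ)⟧)) := by
    funext φ
    ext x
    obtain ⟨s, rfl⟩ := (homHVₗ k X F d).surjective x
    change τ ((homHVₗ k X w d).symm (HV.map k φ d (homHVₗ k X F d s)) ≫ ι) =
      τ ((homHVₗ k X F d).symm (homHVₗ k X F d s) ≫
        (((DerivedCategory.singleFunctor X.Modules 0).map φ)⟦(d : ℤ)⟧' ≫ ι))
    rw [← homHVₗ_map, LinearEquiv.symm_apply_apply, LinearEquiv.symm_apply_apply, Category.assoc]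
  rw [h4]
  exact h3

end

end Groth.Agent.CurvesC.DualLin
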