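import Groth.Agent.CurvesC.HV
import Mathlib.LinearAlgebra.Dual.Lemmas

/-!
# Dual pairs `(w, t)` representing `F ↦ Hom_k(H^1(X, F), k)` on quasi-coherent modules

`IsDual k X w t` is the universal property of `Dual.S1752` (with `d = 1`) in terms of the sealed cohomology `HV`;
`isDual_iff` translates.
-/

set_option autoImplicit false

universe u

open CategoryTheory CategoryTheory.Limits AlgebraicGeometry Opposite TopologicalSpace

namespace Groth.Agent.CurvesC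

variable {k : Type u} [Field k] {X : Scheme.{u}} [X.Over (Spec (CommRingCat.of k))]

/-- `(w, t)` represents `F ↦ Hom_k(H^1(X, F), k)` on quasi-coherent modules. -/
def IsDual (w : X.Modules) (t : HV X w 1 →ₗ[k] k) : Prop :=
  ∀ F : X.Modules, Coh.IsQCoh F → ∀ ψ : HV X F 1 →ₗ[k] k,
    ∃! φ : F ⟶ w, t ∘ₗ HV.map k φ 1 = ψ

namespace IsDual

variable {w : X.Modules} {t : HV X w 1 →ₗ[k] k}

theorem bijective (h : IsDual w t) {F : X.Modules} (hF : Coh.IsQCoh F) :
    Function.Bijective (fun φ : F ⟶ w => t ∘ₗ HV.map k φ 1) := by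
  refine ⟨fun φ φ' e => (h F hF _).unique rfl e.symm, fun ψ => ?_⟩
  obtain ⟨φ, hφ, -⟩ := h F hF ψ
  exact ⟨φ, hφ⟩

/-- `Hom(F, w) = H^1(X, F)^*` -/
noncomputable def homEquiv (h : IsDual w t) {F : X.Modules} (hF : Coh.IsQCoh F) :
    (F ⟶ w) ≃+ (HV X F 1 →ₗ[k] k) where
  toEquiv := Equiv.ofBijective _ (h.bijective hF)
  map_add' := fun φ ψ => by
    change t ∘ₗ HV.map k (φ + ψ) 1 = t ∘ₗ HV.map k φ 1 + t ∘ₗ HV.map k ψ 1
    rw [HV.map_add, LinearMap.comp_add]

theorem homEquiv_apply (h : IsDual w t) {F : X.Modules} (hF : Coh.IsQCoh F) (φ : F ⟶ w) :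
    h.homEquiv hF φ = t ∘ₗ HV.map k φ 1 := rfl

/-- multiplication by a scalar corresponds to multiplication by the scalar -/
theorem homEquiv_smul (h : IsDual w t) {F : X.Modules} (hF : Coh.IsQCoh F) (c : k) (φ : F ⟶ w) :
    h.homEquiv hF (Formal.smulMod k F c ≫ φ) = c • h.homEquiv hF φ := by
  rw [h.homEquiv_apply, h.homEquiv_apply, HV.map_comp, HV.map_smulMod, LinearMap.comp_smul, LinearMap.comp_smul,
    LinearMap.comp_id]

/-- a module without first cohomology has no nonzero maps to `w` -/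
theorem eq_zero (h : IsDual w t) {F : X.Modules} (hF : Coh.IsQCoh F) (h1 : Subsingleton (HV X F 1)) (φ : F ⟶ w) :
    φ = 0 := by
  apply (h.bijective hF).1
  ext x
  rw [Subsingleton.elim x 0, map_zero, map_zero]

/-- uniqueness of the dual pair -/
theorem exists_iso (h : IsDual w t) {w' : X.Modules} {t' : HV X w' 1 →ₗ[k] k} (h' : IsDual w' t')
    (hw : Coh.IsQCoh w) (hw' : Coh.IsQCoh w') : ∃ e : w ≅ w', t' ∘ₗ HV.map k e.hom 1 = t := by
  obtain ⟨a, ha, -⟩ := h' w hw t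
  obtain ⟨b, hb, -⟩ := h w' hw' t'
  have hab : a ≫ b = 𝟙 w := (h.bijective hw).1 (by
    dsimp only
    rw [HV.map_comp, ← LinearMap.comp_assoc, hb, ha, HV.map_id, LinearMap.comp_id])
  have hba : b ≫ a = 𝟙 w' := (h'.bijective hw').1 (by
    dsimp only
    rw [HV.map_comp, ← LinearMap.comp_assoc, ha, hb, HV.map_id, LinearMap.comp_id])
  exact ⟨⟨a, b, hab, hba⟩, ha⟩

/-- An extension `0 → w → E → G → 0` splits as soon as `t` kills the image of `H^0(G)` in `H^1(w)`. -/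
theorem exists_retraction (h : IsDual w t) (hw : Coh.IsQCoh w) {E G : X.Modules} {i : w ⟶ E} {p : E ⟶ G}
    {z : i ≫ p = 0} (hS : (ShortComplex.mk i p z).ShortExact) (hE : Coh.IsQCoh E)
    (hδ : ∀ c : HV X G 0, t (HV.δ k hS 0 c) = 0) : ∃ r : E ⟶ w, i ≫ r = 𝟙 w := by
  have hker : t ∈ (LinearMap.ker (HV.map k i 1)).dualAnnihilator := by
    rw [Submodule.mem_dualAnnihilator]
    intro x hx
    obtain ⟨y, hy⟩ := HV.exact₁ k hS 0 x (LinearMap.mem_ker.1 hx)
    rw [← hy]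
    exact hδ y
  rw [← LinearMap.range_dualMap_eq_dualAnnihilator_ker] at hker
  obtain ⟨ψ, hψ⟩ := hker
  obtain ⟨r, hr, -⟩ := h E hE ψ
  refine ⟨r, (h.bijective hw).1 ?_⟩
  dsimp only
  rw [HV.map_comp, ← LinearMap.comp_assoc, hr, HV.map_id, LinearMap.comp_id]
  exact hψ

end IsDual

/-- translation to the raw form used in the milestones -/
theorem isDual_of_raw {w : X.Modules} {t : Coh.HH X w 1 →ₗ[k] k}
    (h : ∀ F : X.Modules, Coh.IsQCoh F → ∀ ψ : Coh.HH X F 1 →ₗ[k] k,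
      ∃! φ : F ⟶ w, ∀ x : Coh.HH X F 1,
        ψ x = t (Sheaf.H.map ((SheafOfModules.toSheaf X.ringCatSheaf).map φ) 1 x)) :
    IsDual (k := k) w (t ∘ₗ (HV.equiv k w 1).toLinearMap) := by
  intro F hF ψ
  obtain ⟨φ, hφ, huniq⟩ := h F hF (ψ ∘ₗ (HV.equiv k F 1).symm.toLinearMap)
  refine ⟨φ, ?_, fun φ' hφ' => huniq φ' fun x => ?_⟩
  · ext x
    exact (hφ (HV.equiv k F 1 x)).symm
  · exact (LinearMap.congr_fun hφ' ((HV.equiv k F 1).symm x)).symm

end Groth.Agent.CurvesC
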