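import Groth.Agent.CurvesC.Dual3
import Groth.Agent.CurvesC.DualLin
import Groth.Agent.CurvesC.DualPair
import Groth.Agent.PerfA.QCohD

/-!
# The dualizing module represents the dual of the top cohomology

For `X` over `Spec k` Noetherian of dimension `≤ d` with `Rf_* ⊣ a` on `D_QCoh`: the module `w = H^{-d}(a(O))`
represents `F ↦ Hom_k(H^d(X, F), k)` on quasi-coherent modules.
-/

set_option autoImplicit false

universe u

open CategoryTheory CategoryTheory.Limits AlgebraicGeometry Pretriangulated TopologicalSpace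

attribute [local instance] HasDerivedCategory.standard

namespace Groth.Agent.CurvesC.DualRep

open Groth.Agent.CurvesC.RepX Groth.Agent.CurvesC.DualLin

variable (k : Type u) [Field k] (X : Scheme.{u}) [X.Over (Spec (CommRingCat.of k))]

attribute [local instance] LinMod.linearModules

variable [DCoh.HasRpush (X ↘ Spec (CommRingCat.of k))]
  (h : DCoh.RpushPreservesQCoh (X ↘ Spec (CommRingCat.of k)))
  [DCoh.HasShriek (X ↘ Spec (CommRingCat.of k)) h]
  (OY : DCoh.DQCoh (Spec (CommRingCat.of k)))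

/-- The lowest possible cohomology `w[d] ⟶ W ⟶ T` of the dualizing complex, with the trace form. -/
theorem exists_data [NoetherianSpace X] (d : ℕ) (hd : topologicalKrullDim X ≤ d)
    (hOY : Nonempty (OY.obj ≅ DCoh.inD (Spec (CommRingCat.of k))
      (Coh.structureModule (Spec (CommRingCat.of k))))) :
    ∃ (τ : (P X ⟶ DCoh.dualizingCx (X ↘ Spec (CommRingCat.of k)) h OY) →ₗ[k] k)
      (T : DCoh.D X) (_ : T.IsGE (-(d : ℤ) + 1))
      (ι : (DCoh.inD X (DCoh.dualizingMod (X ↘ Spec (CommRingCat.of k)) h OY d))⟦(d : ℤ)⟧ ⟶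
        DCoh.dualizingCx (X ↘ Spec (CommRingCat.of k)) h OY)
      (π : DCoh.dualizingCx (X ↘ Spec (CommRingCat.of k)) h OY ⟶ T)
      (δ : T ⟶ ((DCoh.inD X
        (DCoh.dualizingMod (X ↘ Spec (CommRingCat.of k)) h OY d))⟦(d : ℤ)⟧)⟦(1 : ℤ)⟧),
      Triangle.mk ι π δ ∈ distTriang (DCoh.D X) ∧
      (∀ K : DCoh.D X, DCoh.IsQCohD K → Function.Bijective (pairing k X τ K)) := by
  obtain ⟨τ, hτ⟩ := exists_form k X h OY hOY
  have := Dual3.isGE_dualizingCx h OY d hd hOY
  obtain ⟨T, hT, ι, π, δ, hTri⟩ := SingleTri.exists_triangle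
    (DCoh.dualizingCx (X ↘ Spec (CommRingCat.of k)) h OY) (d : ℤ)
  exact ⟨τ, T, hT, ι, π, δ, hTri, hτ⟩

theorem isQCoh_dualizingMod (d : ℕ) :
    Coh.IsQCoh (DCoh.dualizingMod (X ↘ Spec (CommRingCat.of k)) h OY d) :=
  ((DCoh.shriek (X ↘ Spec (CommRingCat.of k)) h).obj OY).property _

/-- The module `H^{-d}` of the dualizing complex represents the dual of `H^d` on quasi-coherent modules. -/
theorem exists_form_mod [NoetherianSpace X] (d : ℕ) (hd : topologicalKrullDim X ≤ d)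
    (hOY : Nonempty (OY.obj ≅ DCoh.inD (Spec (CommRingCat.of k))
      (Coh.structureModule (Spec (CommRingCat.of k))))) :
    ∃ t : HV X (DCoh.dualizingMod (X ↘ Spec (CommRingCat.of k)) h OY d) d →ₗ[k] k,
      ∀ F : X.Modules, Coh.IsQCoh F → Function.Bijective
        (fun φ : F ⟶ DCoh.dualizingMod (X ↘ Spec (CommRingCat.of k)) h OY d => t ∘ₗ HV.map k φ d) := by
  obtain ⟨τ, T, hT, ι, π, δ, hTri, hτ⟩ := exists_data k X h OY d hd hOY
  refine ⟨τ ∘ₗ Linear.rightComp k (P X) ι ∘ₗ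
      (homHVₗ k X (DCoh.dualizingMod (X ↘ Spec (CommRingCat.of k)) h OY d) d).symm.toLinearMap,
      fun F hF => ?_⟩
  exact exists_unique_of_form k X d τ _ ι
    (fun K hK => SingleTri.comp_bijective hTri (-(d : ℤ)) (-(d : ℤ) + 1) (by lia)) F
    (hτ _ (PerfA.QCohD.isQCohD_shift (PerfA.QCohD.isQCohD_inD F hF) _))

/-- The pair (dualizing module, trace) is a dual pair in the sense of `IsDual` for curves. -/
theorem exists_isDual [NoetherianSpace X] (hd : topologicalKrullDim X ≤ 1)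
    (hOY : Nonempty (OY.obj ≅ DCoh.inD (Spec (CommRingCat.of k))
      (Coh.structureModule (Spec (CommRingCat.of k))))) :
    ∃ t : HV X (DCoh.dualizingMod (X ↘ Spec (CommRingCat.of k)) h OY 1) 1 →ₗ[k] k,
      IsDual (DCoh.dualizingMod (X ↘ Spec (CommRingCat.of k)) h OY 1) t := by
  obtain ⟨t, ht⟩ := exists_form_mod k X h OY 1 (by exact_mod_cast hd) hOY
  refine ⟨t, fun F hF ψ => ?_⟩
  obtain ⟨φ, hφ⟩ := (ht F hF).2 ψ
  exact ⟨φ, hφ, fun φ' hφ' => (ht F hF).1 (hφ'.trans hφ.symm)⟩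

end Groth.Agent.CurvesC.DualRep
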