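import Groth.Agent.CurvesC.DualPairing
import Groth.Agent.CohqA.IdealMod

/-!
# Local facts for the degree of the dualizing sheaf on a union of components

`w` invertible, `η : w ⟶ M` behaves like `w ⟶ w/Jw`, and the ideals `J`, `K` are annihilators of each other.
-/

set_option autoImplicit false
set_option linter.unusedVariables false

universe u

open AlgebraicGeometry CategoryTheory CategoryTheory.Limits TopologicalSpace Opposite

namespace Groth.Agent.CurvesC.DualSetup

open Groth.Agent.Ega1.SubSheaf Groth.Agent.CurvesC.HomRel Groth.Agent.CurvesC.DualCount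
  Groth.Agent.CurvesC.Gen Groth.Agent.CurvesC.DualPairing

variable {X : Scheme.{u}}

/-- Small affine opens on which an invertible module has a generator. -/
theorem exists_affine_gen {w : X.Modules} (hw : PicF.IsInvertible w) {U : X.Opens} {p : X} (hp : p ∈ U) :
    ∃ (V : X.affineOpens) (h : V.1 ≤ U), p ∈ V.1 ∧ ∃ e : Γ(w, V.1), IsGen w V.1 e := by
  obtain ⟨U₁, hp₁, e, he⟩ := exists_isGen hw p
  obtain ⟨V, hV, hpV, hVU⟩ := (Opens.isBasis_iff_nbhd.mp X.isBasis_affineOpens)
    (show p ∈ U ⊓ U₁ from ⟨hp, hp₁⟩)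
  exact ⟨⟨V, hV⟩, hVU.trans inf_le_left, hpV, _, he.mono (hVU.trans inf_le_right)⟩

/-- `w` invertible, `η : w ⟶ M` is the quotient by `J`, and `J`, `K` are annihilators of each other. -/
structure Setup {w M : X.Modules} (η : w ⟶ M) (J K : X.IdealSheafData) : Prop where
  inv : PicF.IsInvertible w
  surj : ∀ U : X.Opens, IsAffineOpen U → Function.Surjective (η.app U)
  ker_iff : ∀ (U : X.affineOpens) (e : Γ(w, U.1)), IsGen w U.1 e → ∀ a : Γ(X, U.1),
    η.app U.1 (a • e) = 0 ↔ a ∈ J.ideal U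
  mul_eq : ∀ (U : X.affineOpens) (a b : Γ(X, U.1)), a ∈ J.ideal U → b ∈ K.ideal U → a * b = 0
  annJ : ∀ (U : X.affineOpens) (a : Γ(X, U.1)), (∀ b ∈ J.ideal U, a * b = 0) → a ∈ K.ideal U
  annK : ∀ (U : X.affineOpens) (a : Γ(X, U.1)), (∀ b ∈ K.ideal U, a * b = 0) → a ∈ J.ideal U

theorem locSurj_toSubscheme (K : X.IdealSheafData) : LocSurj (ClSub.toSubscheme K) :=
  locSurj_of_affine _ fun U hU => Groth.Agent.CohqA.IdealMod.toSubscheme_app_surjective K ⟨U, hU⟩

variable {w M : X.Modules} {η : w ⟶ M} {J K : X.IdealSheafData}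

theorem Setup.locSurj (S : Setup η J K) : LocSurj η := locSurj_of_affine η S.surj

/-- `Jw · K = 0`. -/
theorem Setup.smul_eq_zero (S : Setup η J K) {U : X.Opens} {m : Γ(w, U)} {a : Γ(X, U)}
    (hm : η.app U m = 0) (ha : (ClSub.toSubscheme K).app U a = 0) : a • m = 0 := by
  refine section_ext w _ _ fun p hp => ?_
  obtain ⟨V, hV, hpV, e, he⟩ := exists_affine_gen S.inv hp
  refine ⟨V.1, hV, hpV, ?_⟩
  obtain ⟨b, hb⟩ := he.exists_eq (res w hV m)
  rw [res_smul, map_zero, ← hb, smul_smul]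
  have h1 : b ∈ J.ideal V := by
    rw [← S.ker_iff V e he, hb, app_res, hm, map_zero]
  have h2 : (X.presheaf.map (homOfLE hV).op a : Γ(X, V.1)) ∈ K.ideal V := by
    rw [← Groth.Agent.CohqA.IdealMod.toSubscheme_app_eq_zero_iff]
    have := app_res (ClSub.toSubscheme K) hV a
    rw [ha, map_zero] at this
    exact this
  rw [mul_comm, S.mul_eq V _ _ h1 h2, zero_smul]

/-- What is killed by `K` lies in `Jw`. -/
theorem Setup.eta_eq_zero (S : Setup η J K) {U : X.Opens} {m : Γ(w, U)}
    (h : ∀ (V : X.Opens) (hV : V ≤ U) (a : Γ(X, V)), (ClSub.toSubscheme K).app V a = 0 →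
      a • res w hV m = 0) : η.app U m = 0 := by
  refine section_ext M _ _ fun p hp => ?_
  obtain ⟨V, hV, hpV, e, he⟩ := exists_affine_gen S.inv hp
  refine ⟨V.1, hV, hpV, ?_⟩
  obtain ⟨b, hb⟩ := he.exists_eq (res w hV m)
  rw [← app_res, map_zero, ← hb, S.ker_iff V e he]
  refine S.annK V b fun a ha => he.injective (b := 0) ?_
  rw [zero_smul, mul_comm, mul_smul, hb]
  exact h V.1 hV a ((Groth.Agent.CohqA.IdealMod.toSubscheme_app_eq_zero_iff K V a).2 ha)

/-- What kills `Jw` lies in `K`. -/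
theorem Setup.toSubscheme_eq_zero (S : Setup η J K) {U : X.Opens} {a : Γ(X, U)}
    (h : ∀ (V : X.Opens) (hV : V ≤ U) (m : Γ(w, V)), η.app V m = 0 →
      (resO hV a : Γ(X, V)) • m = 0) : (ClSub.toSubscheme K).app U a = 0 := by
  refine section_ext (ClSub.quotMod K) _ _ fun p hp => ?_
  obtain ⟨V, hV, hpV, e, he⟩ := exists_affine_gen S.inv hp
  refine ⟨V.1, hV, hpV, ?_⟩
  have h1 := app_res (ClSub.toSubscheme K) hV a
  rw [← h1, map_zero]
  refine (Groth.Agent.CohqA.IdealMod.toSubscheme_app_eq_zero_iff K V _).2 ?_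
  refine S.annJ V _ fun b hb => he.injective (b := 0) ?_
  rw [zero_smul, mul_smul]
  exact h V.1 hV (b • e) ((S.ker_iff V e he b).2 hb)

/-- An invertible module is faithful. -/
theorem eq_zero_of_smul {w : X.Modules} (hw : PicF.IsInvertible w) {U : X.Opens} (a : Γ(X, U))
    (h : ∀ (V : X.Opens) (hV : V ≤ U) (m : Γ(w, V)), (resO hV a : Γ(X, V)) • m = 0) : a = 0 := by
  refine section_ext (Coh.structureModule X) (U := U) a 0 fun p hp => ?_
  obtain ⟨V, hV, hpV, e, he⟩ := exists_affine_gen hw hp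
  refine ⟨V.1, hV, hpV, ?_⟩
  have h1 : (resO hV a : Γ(X, V.1)) = 0 := he.injective (by rw [h V.1 hV e, zero_smul])
  rw [map_zero]
  exact h1

/-- Endomorphisms of an invertible module are functions. -/
theorem exists_eq_smul {w : X.Modules} (hw : PicF.IsInvertible w) (f : w ⟶ w) :
    ∃ a : Γ(X, ⊤), ∀ (U : X.Opens) (m : Γ(w, U)), f.app U m = (resO (V := U) le_top a : Γ(X, U)) • m := by
  choose V hV hp e he using fun p : X => exists_affine_gen hw (U := ⊤) (p := p) trivial
  choose a ha using fun p : X => (he p).exists_eq (f.app (V p).1 (e p))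
  have key : ∀ (p : X) (U : X.Opens) (hU : U ≤ (V p).1) (m : Γ(w, U)),
      f.app U m = (resO hU (a p) : Γ(X, U)) • m := by
    intro p U hU m
    obtain ⟨c, rfl⟩ := ((he p).mono hU).exists_eq m
    rw [app_smul', app_res, ← ha p, res_smul, smul_smul, smul_smul, mul_comm]
  obtain ⟨s, hs, -⟩ := exists_glue_function (fun p => (V p).1) (fun p => le_top)
    (W := ⊤) (fun p _ => Opens.mem_iSup.2 ⟨p, hp p⟩) a (by
      intro p q
      apply ((he p).mono (inf_le_left : (V p).1 ⊓ (V q).1 ≤ (V p).1)).injective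
      exact (key p _ inf_le_left _).symm.trans (key q _ inf_le_right _))
  refine ⟨s, fun U m => section_ext w _ _ fun p hp' => ⟨U ⊓ (V p).1, inf_le_left, ⟨hp', hp p⟩, ?_⟩⟩
  rw [← app_res, res_smul, key p _ inf_le_right]
  congr 1
  have h1 := hs p
  have h2 : resO (inf_le_right : U ⊓ (V p).1 ≤ (V p).1) (X.presheaf.map (homOfLE (le_top : (V p).1 ≤ ⊤)).op s) =
      X.presheaf.map (homOfLE (le_top : U ⊓ (V p).1 ≤ ⊤)).op s := map_map_function _ _ _
  rw [← h1, h2]
  exact (map_map_function _ _ _).symm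

/-- Any morphism from the structure module is a multiplication. -/
theorem unit_app (f : Coh.structureModule X ⟶ w) (U : X.Opens) (a : Γ(X, U)) :
    f.app U a = a • res w (le_top : U ≤ ⊤) (sec f ⊤) := by
  rw [app_eq_smul, map_sec]

section Field

variable {k : Type u} [Field k] [X.Over (Spec (CommRingCat.of k))] {t : Coh.HH X w 1 →ₗ[k] k}

/-- `h⁰(w) = h¹(O)` -/
theorem h0_w (ht : IsPair k t) (hO : Coh.IsQCoh (Coh.structureModule X)) :
    Module.finrank k (Coh.HH X w 0) = Module.finrank k (Coh.HH X (Coh.structureModule X) 1) := by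
  refine h0_eq_of_pairing ht hO (𝟙 _) (fun U y q hq => ⟨U, le_rfl, hq, y, (res_self _ _ _).symm⟩)
    (Pairing.mul w) ?_ ?_ ?_
  · intro U x y hx
    change (show Γ(X, U) from x) • y = 0
    have : (show Γ(X, U) from x) = 0 := hx
    rw [this, zero_smul]
  · intro n hn
    have := hn ⊤ (1 : Γ(X, ⊤))
    change (1 : Γ(X, ⊤)) • _ = (0 : Γ(w, ⊤)) at this
    rwa [one_smul, res_self] at this
  · intro f _
    exact ⟨sec f ⊤, fun U x => unit_app f U x⟩

/-- `h⁰(O) = h¹(w)` -/
theorem h0_unit (hw : PicF.IsInvertible w) (ht : IsPair k t) (hwq : Coh.IsQCoh w) :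
    Module.finrank k (Coh.HH X (Coh.structureModule X) 0) = Module.finrank k (Coh.HH X w 1) := by
  refine h0_eq_of_pairing ht hwq (𝟙 _) (fun U y q hq => ⟨U, le_rfl, hq, y, (res_self _ _ _).symm⟩)
    (Pairing.mul w).flip ?_ ?_ ?_
  · intro U x y hx
    change (show Γ(X, U) from y) • x = 0
    have : x = 0 := hx
    rw [this, smul_zero]
  · intro n hn
    refine eq_zero_of_smul hw (U := ⊤) (show Γ(X, ⊤) from n) fun V hV m => ?_
    exact hn V m
  · intro f _
    obtain ⟨a, ha⟩ := exists_eq_smul hw f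
    exact ⟨a, ha⟩

/-- `h⁰(Jw) = h¹(O/K)` -/
theorem h0_kernel (S : Setup η J K) (ht : IsPair k t) (hQ : Coh.IsQCoh (ClSub.quotMod K)) :
    Module.finrank k (Coh.HH X (kernel η) 0) = Module.finrank k (Coh.HH X (ClSub.quotMod K) 1) := by
  refine h0_eq_of_pairing ht hQ (ClSub.toSubscheme K) (locSurj_toSubscheme K)
    ((Pairing.mul w).map (𝟙 _) (kernel.ι η)) ?_ ?_ ?_
  · intro U x y hx
    refine S.smul_eq_zero (a := (show Γ(X, U) from x)) ?_ hx
    exact congr($(kernel.condition η).app U y)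
  · intro n hn
    apply KerSec.kernel_ι_app_injective η ⊤
    have := hn ⊤ (1 : Γ(X, ⊤))
    change (1 : Γ(X, ⊤)) • (kernel.ι η).app ⊤ _ = (0 : Γ(w, ⊤)) at this
    rw [one_smul, res_self] at this
    rw [this, map_zero]
  · intro f hf
    obtain ⟨n, hn⟩ := KerSec.exists_kernel_ι_app_eq η ⊤ (sec f ⊤) (by
      refine S.eta_eq_zero fun V hV a ha => ?_
      rw [← unit_app]
      exact hf V a ha)
    refine ⟨n, fun U x => ?_⟩
    rw [show f.app U x = (show Γ(X, U) from x) • res w (le_top : U ≤ ⊤) (sec f ⊤) from unit_app f U x, ← hn,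
      ← app_res]
    rfl

/-- `h⁰(K) = h¹(w/Jw)` -/
theorem h0_ideal (S : Setup η J K) (ht : IsPair k t) (hM : Coh.IsQCoh M) :
    Module.finrank k (Coh.HH X (ClSub.idealMod K) 0) = Module.finrank k (Coh.HH X M 1) := by
  refine h0_eq_of_pairing ht hM η S.locSurj
    ((Pairing.mul w).map (ClSub.idealModι K) (𝟙 _)).flip ?_ ?_ ?_
  · intro U x y hx
    refine S.smul_eq_zero (a := (show Γ(X, U) from (ClSub.idealModι K).app U y)) hx ?_
    exact congr($(kernel.condition (ClSub.toSubscheme K)).app U y)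
  · intro n hn
    apply KerSec.idealModι_app_injective K ⊤
    rw [map_zero]
    refine eq_zero_of_smul S.inv (U := ⊤) (show Γ(X, ⊤) from (ClSub.idealModι K).app ⊤ n) fun V hV m => ?_
    have h1 := hn V m
    have h2 : ((Pairing.mul w).map (ClSub.idealModι K) (𝟙 _)).flip.β V m (res _ le_top n) =
      (show Γ(X, V) from (ClSub.idealModι K).app V (res _ le_top n)) • m := rfl
    rw [h2, app_res] at h1
    exact h1
  · intro f hf
    obtain ⟨a, ha⟩ := exists_eq_smul S.inv f
    obtain ⟨n, hn⟩ := KerSec.exists_kernel_ι_app_eq (ClSub.toSubscheme K) ⊤ a (by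
      refine S.toSubscheme_eq_zero fun V hV m hm => ?_
      rw [← ha]
      exact hf V m hm)
    refine ⟨n, fun U x => ?_⟩
    rw [ha]
    have h2 : ((Pairing.mul w).map (ClSub.idealModι K) (𝟙 _)).flip.β U x (res _ le_top n) =
      (show Γ(X, U) from (ClSub.idealModι K).app U (res _ le_top n)) • x := rfl
    have h3 : (ClSub.idealModι K).app U (res _ (le_top : U ≤ ⊤) n) =
        res (Coh.structureModule X) le_top ((ClSub.idealModι K).app ⊤ n) := app_res _ _ _
    have h4 : (ClSub.idealModι K).app ⊤ n = a := hn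
    rw [h2, h3, h4]
    rfl

/-- `h⁰(w/Jw) ≤ h¹(K)` -/
theorem h0_M_le (S : Setup η J K) (ht : IsPair k t) (hI : Coh.IsQCoh (ClSub.idealMod K))
    [Module.Finite k (Coh.HH X (ClSub.idealMod K) 1)] :
    Module.finrank k (Coh.HH X M 0) ≤ Module.finrank k (Coh.HH X (ClSub.idealMod K) 1) := by
  refine h0_le_of_pairing ht hI η S.locSurj
    ((Pairing.mul w).map (ClSub.idealModι K) (𝟙 _)).flip ?_ ?_
  · intro U x y hx
    refine S.smul_eq_zero (a := (show Γ(X, U) from (ClSub.idealModι K).app U y)) hx ?_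
    exact congr($(kernel.condition (ClSub.toSubscheme K)).app U y)
  · intro U x hx
    refine S.eta_eq_zero fun V hV a ha => ?_
    obtain ⟨y, hy⟩ := KerSec.exists_kernel_ι_app_eq (ClSub.toSubscheme K) V a ha
    have h1 := hx V hV y
    have h2 : ((Pairing.mul w).map (ClSub.idealModι K) (𝟙 _)).flip.β V (res w hV x) y =
      (show Γ(X, V) from (kernel.ι (ClSub.toSubscheme K)).app V y) • res w hV x := rfl
    rw [h2, hy] at h1
    exact h1

/-- `h⁰(O/K) ≤ h¹(Jw)` -/
theorem h0_quot_le (S : Setup η J K) (ht : IsPair k t) (hN : Coh.IsQCoh (kernel η))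
    [Module.Finite k (Coh.HH X (kernel η) 1)] :
    Module.finrank k (Coh.HH X (ClSub.quotMod K) 0) ≤ Module.finrank k (Coh.HH X (kernel η) 1) := by
  refine h0_le_of_pairing ht hN (ClSub.toSubscheme K) (locSurj_toSubscheme K)
    ((Pairing.mul w).map (𝟙 _) (kernel.ι η)) ?_ ?_
  · intro U x y hx
    refine S.smul_eq_zero (a := (show Γ(X, U) from x)) ?_ hx
    exact congr($(kernel.condition η).app U y)
  · intro U x hx
    refine S.toSubscheme_eq_zero (a := (show Γ(X, U) from x)) fun V hV m hm => ?_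
    obtain ⟨y, hy⟩ := KerSec.exists_kernel_ι_app_eq η V m hm
    have h1 := hx V hV y
    have h2 : ((Pairing.mul w).map (𝟙 _) (kernel.ι η)).β V (res (Coh.structureModule X) hV x) y =
      (show Γ(X, V) from res (Coh.structureModule X) hV x) • (kernel.ι η).app V y := rfl
    rw [h2, hy] at h1
    exact h1

end Field

end Groth.Agent.CurvesC.DualSetup
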