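import Groth.Agent.Divis.BlowAlg2
import Mathlib.RingTheory.IntegralClosure.IntegrallyClosed

/-!
# Normality of affine blow-up algebras from integral closedness of powers
-/

set_option autoImplicit false
universe u
open CategoryTheory CategoryTheory.Limits AlgebraicGeometry

namespace Groth.Agent.CurvesC.AffNormal

open Finset

/-- A fraction integral over an integrally closed domain belongs to it. -/
theorem exists_of_isIntegral {A R : Type*} [CommRing A] [IsDomain A] [IsIntegrallyClosed A] [CommRing R] [IsDomain R]
    [Algebra A R] (hinj : Function.Injective (algebraMap A R)) (r : R) (a b : A) (hb : b ≠ 0)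
    (hab : algebraMap A R b * r = algebraMap A R a) (hr : IsIntegral A r) : ∃ y, algebraMap A R y = r := by
  let K := FractionRing R
  have hAK : Function.Injective (algebraMap A K) := by
    rw [IsScalarTower.algebraMap_eq A R K]
    exact (IsFractionRing.injective R K).comp hinj
  let φ : FractionRing A →ₐ[A] K := IsFractionRing.liftAlgHom (g := Algebra.ofId A K) hAK
  let x : FractionRing A := algebraMap A _ a / algebraMap A _ b
  have hx : φ x = algebraMap R K r := by
    have hb' : algebraMap A K b ≠ 0 := by
      intro h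
      exact hb (hAK (by rw [h, map_zero]))
    rw [map_div₀, AlgHom.commutes, AlgHom.commutes, div_eq_iff hb']
    rw [IsScalarTower.algebraMap_apply A R K, IsScalarTower.algebraMap_apply A R K, ← map_mul,
      mul_comm]
    exact congrArg _ hab.symm
  have hx2 : IsIntegral A x := by
    rw [← isIntegral_algHom_iff φ φ.injective, hx]
    exact hr.algebraMap
  obtain ⟨y, hy⟩ := (isIntegrallyClosed_iff (FractionRing A)).mp ‹_› hx2
  refine ⟨y, ?_⟩
  have h5 : φ (algebraMap A _ y) = algebraMap R K r := by rw [hy, hx]
  rw [AlgHom.commutes, IsScalarTower.algebraMap_apply A R K] at h5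
  exact IsFractionRing.injective R K h5

/-- All positive powers of `I` are integrally closed ideals. -/
def PowClosed {A : Type*} [CommRing A] (I : Ideal A) : Prop :=
  ∀ (n k : ℕ) (y : ℕ → A) (s : A), (∀ i < k, y i ∈ (I ^ (n + 1)) ^ (k - i)) →
    s ^ k + ∑ i ∈ range k, y i * s ^ i = 0 → s ∈ I ^ (n + 1)

/-- Divisibility from an equation of integral dependence. -/
theorem dvd_of_relation {R : Type*} [CommRing R] [IsDomain R] [IsIntegrallyClosed R] {β s : R} (hβ : β ≠ 0) (k : ℕ)
    (d : ℕ → R) (h : s ^ k + ∑ i ∈ range k, d i * β ^ (k - i) * s ^ i = 0) : β ∣ s := by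
  let K := FractionRing R
  let u : K := algebraMap R K s / algebraMap R K β
  have hβ' : algebraMap R K β ≠ 0 := fun h0 => hβ (IsFractionRing.injective R K (by rw [h0, map_zero]))
  have hu : IsIntegral R u := by
    refine ⟨Polynomial.X ^ k + ∑ i ∈ range k, Polynomial.C (d i) * Polynomial.X ^ i, ?_, ?_⟩
    · apply Polynomial.monic_X_pow_add
      refine Polynomial.mem_degreeLT.mp (Submodule.sum_mem _ fun i hi => Polynomial.mem_degreeLT.mpr ?_)
      exact (Polynomial.degree_C_mul_X_pow_le _ _).trans_lt (by exact_mod_cast (Finset.mem_range.mp hi))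
    · rw [Polynomial.eval₂_add, Polynomial.eval₂_X_pow, Polynomial.eval₂_finsetSum]
      have h1 : (algebraMap R K β) ^ k * (u ^ k + ∑ i ∈ range k, Polynomial.eval₂ (algebraMap R K) u
          (Polynomial.C (d i) * Polynomial.X ^ i)) = 0 := by
        have h2 := congrArg (algebraMap R K) h
        rw [map_add, map_sum, map_zero, map_pow] at h2
        rw [mul_add, Finset.mul_sum, ← h2]
        congr 1
        · rw [← mul_pow, mul_div_cancel₀ _ hβ']
        · refine Finset.sum_congr rfl fun i hi => ?_
          rw [Polynomial.eval₂_mul, Polynomial.eval₂_C, Polynomial.eval₂_X_pow, map_mul, map_mul, map_pow, map_pow]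
          have h3 : algebraMap R K β ^ k = algebraMap R K β ^ (k - i) * algebraMap R K β ^ i := by
            rw [← pow_add, Nat.sub_add_cancel (Finset.mem_range.mp hi).le]
          have h4 : algebraMap R K s = algebraMap R K β * u := by rw [mul_div_cancel₀ _ hβ']
          rw [h3, h4, mul_pow]
          ring
      exact (mul_eq_zero.mp h1).resolve_left (pow_ne_zero _ hβ')
  obtain ⟨e, he⟩ := (isIntegrallyClosed_iff K).mp ‹_› hu
  refine ⟨e, ?_⟩
  apply IsFractionRing.injective R K
  rw [map_mul, he, mul_div_cancel₀ _ hβ']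

/-- The affine blow-up algebra is a domain. -/
theorem isDomain_affineAlgebra {A : Type u} [CommRing A] [IsDomain A] (I : Ideal A) (a : A) (ha0 : a ≠ 0) :
    IsDomain (BlowUp.affineAlgebra A I a) := by
  have : IsDomain (Localization.Away a) :=
    IsLocalization.isDomain_localization (powers_le_nonZeroDivisors_of_noZeroDivisors ha0)
  infer_instance

theorem injective_algebraMap {A : Type u} [CommRing A] [IsDomain A] (I : Ideal A) (a : A) (ha0 : a ≠ 0) :
    Function.Injective (algebraMap A (BlowUp.affineAlgebra A I a)) := by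
  intro x y h
  have h1 : algebraMap A (Localization.Away a) x = algebraMap A (Localization.Away a) y := congrArg Subtype.val h
  exact IsLocalization.injective (Localization.Away a) (powers_le_nonZeroDivisors_of_noZeroDivisors ha0) h1

/-- If the powers of `I` are integrally closed, the affine blow-up algebras of `I` are integrally closed. -/
theorem isIntegrallyClosed_affineAlgebra {A : Type u} [CommRing A] [IsDomain A] [IsIntegrallyClosed A]
    (I : Ideal A) (a : A) (ha : a ∈ I) (ha0 : a ≠ 0) (h : PowClosed I) :
    IsIntegrallyClosed (BlowUp.affineAlgebra A I a) := by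
  have hdom := isDomain_affineAlgebra I a ha0
  set B := BlowUp.affineAlgebra A I a with hB
  let K := FractionRing B
  have hinjAB : Function.Injective (algebraMap A B) := injective_algebraMap I a ha0
  have hinjBK : Function.Injective (algebraMap B K) := IsFractionRing.injective B K
  have hinj : Function.Injective (algebraMap A K) := by
    rw [IsScalarTower.algebraMap_eq A B K]
    exact hinjBK.comp hinjAB
  have haK : algebraMap A K a ≠ 0 := fun h0 => ha0 (hinj (by rw [h0, map_zero]))
  rw [isIntegrallyClosed_iff K]
  intro x hx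
  obtain ⟨p, hp, hpx⟩ := hx
  set k := p.natDegree with hk
  -- common denominators of the coefficients
  have h1 : ∀ i, ∃ (n : ℕ) (m : A), m ∈ I ^ n ∧ algebraMap A B a ^ n * p.coeff i = algebraMap A B m :=
    fun i => Divis.BlowAlg2.exists_pow_mul_eq_mem I a ha (p.coeff i)
  choose n m hm hnm using h1
  let N := (∑ i ∈ range k, n i) + 1
  have h2 : ∀ i ∈ range k, ∃ m' ∈ I ^ N, algebraMap A B a ^ N * p.coeff i = algebraMap A B m' := by
    intro i hi
    have h3 : n i ≤ N := (Finset.single_le_sum (f := n) (fun _ _ => Nat.zero_le _) hi).trans (Nat.le_succ _)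
    refine ⟨a ^ (N - n i) * m i, ?_, ?_⟩
    · have h4 : I ^ N = I ^ (N - n i) * I ^ (n i) := by rw [← pow_add, Nat.sub_add_cancel h3]
      rw [h4]
      exact Ideal.mul_mem_mul (Ideal.pow_mem_pow ha _) (hm i)
    · rw [map_mul, map_pow, ← hnm i, ← mul_assoc, ← pow_add, Nat.sub_add_cancel h3]
  choose! m' hm' hNm' using h2
  let τ : K := algebraMap A K a ^ N * x
  let y : ℕ → A := fun i => m' i * a ^ (N * (k - i - 1))
  have hy : ∀ i < k, y i ∈ (I ^ N) ^ (k - i) := by
    intro i hi
    have h4 : (I ^ N) ^ (k - i) = I ^ N * I ^ (N * (k - i - 1)) := by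
      rw [← pow_mul, ← pow_add]
      congr 1
      have : k - i = (k - i - 1) + 1 := by omega
      conv_lhs => rw [this]
      ring
    rw [h4]
    exact Ideal.mul_mem_mul (hm' i (Finset.mem_range.mpr hi)) (Ideal.pow_mem_pow ha _)
  have hrel : τ ^ k + ∑ i ∈ range k, algebraMap A K (y i) * τ ^ i = 0 := by
    have h5 : x ^ k + ∑ i ∈ range k, algebraMap B K (p.coeff i) * x ^ i = 0 := by
      have h6 := hpx
      rw [Polynomial.eval₂_eq_sum_range, Finset.sum_range_succ] at h6
      have h7 : p.coeff p.natDegree = 1 := hp
      rw [h7, map_one, one_mul] at h6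
      rw [add_comm]
      exact h6
    have h6 : τ ^ k + ∑ i ∈ range k, algebraMap A K (y i) * τ ^ i =
        (algebraMap A K a) ^ (N * k) * (x ^ k + ∑ i ∈ range k, algebraMap B K (p.coeff i) * x ^ i) := by
      rw [mul_add, Finset.mul_sum]
      congr 1
      · change (algebraMap A K a ^ N * x) ^ k = _
        rw [mul_pow, ← pow_mul]
      · refine Finset.sum_congr rfl fun i hi => ?_
        change algebraMap A K (m' i * a ^ (N * (k - i - 1))) * (algebraMap A K a ^ N * x) ^ i = _
        have h8 : algebraMap A K (m' i) = algebraMap A K a ^ N * algebraMap B K (p.coeff i) := by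
          have h9 := congrArg (algebraMap B K) (hNm' i hi)
          rw [map_mul, map_pow, ← IsScalarTower.algebraMap_apply, ← IsScalarTower.algebraMap_apply] at h9
          exact h9.symm
        have h10 : N * k = N + N * (k - i - 1) + N * i := by
          have : k = 1 + (k - i - 1) + i := by
            have := Finset.mem_range.mp hi
            omega
          conv_lhs => rw [this]
          ring
        rw [map_mul, map_pow, h8, mul_pow, ← pow_mul, h10, pow_add, pow_add]
        ring
    rw [h6, h5, mul_zero]
  have hτ : IsIntegral A τ := by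
    refine ⟨Polynomial.X ^ k + ∑ i ∈ range k, Polynomial.C (y i) * Polynomial.X ^ i, ?_, ?_⟩
    · apply Polynomial.monic_X_pow_add
      refine Polynomial.mem_degreeLT.mp (Submodule.sum_mem _ fun i hi => Polynomial.mem_degreeLT.mpr ?_)
      exact (Polynomial.degree_C_mul_X_pow_le _ _).trans_lt (by exact_mod_cast (Finset.mem_range.mp hi))
    · rw [Polynomial.eval₂_add, Polynomial.eval₂_X_pow, Polynomial.eval₂_finsetSum]
      simp only [Polynomial.eval₂_mul, Polynomial.eval₂_C, Polynomial.eval₂_X_pow]
      exact hrel
  -- `τ` is a fraction of elements of `A`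
  have hfrac : ∃ c b : A, b ≠ 0 ∧ algebraMap A K b * τ = algebraMap A K c := by
    obtain ⟨⟨u, v⟩, huv⟩ := IsLocalization.surj (nonZeroDivisors B) τ
    obtain ⟨n₁, c₁, h₁⟩ := Divis.BlowAlg.exists_pow_mul_eq I a u
    obtain ⟨n₂, c₂, h₂⟩ := Divis.BlowAlg.exists_pow_mul_eq I a (v : B)
    have h₁' : algebraMap A K a ^ n₁ * algebraMap B K u = algebraMap A K c₁ := by
      have := congrArg (algebraMap B K) h₁
      rwa [map_mul, map_pow, ← IsScalarTower.algebraMap_apply, ← IsScalarTower.algebraMap_apply] at this
    have h₂' : algebraMap A K a ^ n₂ * algebraMap B K v = algebraMap A K c₂ := by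
      have := congrArg (algebraMap B K) h₂
      rwa [map_mul, map_pow, ← IsScalarTower.algebraMap_apply, ← IsScalarTower.algebraMap_apply] at this
    have hv : algebraMap B K v ≠ 0 := by
      intro h0
      exact nonZeroDivisors.coe_ne_zero v (hinjBK (by rw [h0, map_zero]))
    refine ⟨a ^ n₂ * c₁, a ^ n₁ * c₂, ?_, ?_⟩
    · refine mul_ne_zero (pow_ne_zero _ ha0) ?_
      rintro rfl
      rw [map_zero] at h₂'
      exact (mul_ne_zero (pow_ne_zero _ haK) hv) h₂'
    · rw [map_mul, map_mul, map_pow, map_pow, ← h₁', ← h₂']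
      have huv' : τ * algebraMap B K v = algebraMap B K u := huv
      rw [← huv']
      ring
  obtain ⟨c, b, hb, hcb⟩ := hfrac
  obtain ⟨s, hs⟩ := exists_of_isIntegral hinj τ c b hb hcb hτ
  have hrelA : s ^ k + ∑ i ∈ range k, y i * s ^ i = 0 := by
    apply hinj
    rw [map_add, map_sum, map_zero, map_pow, hs, ← hrel]
    congr 1
    refine Finset.sum_congr rfl fun i _ => ?_
    rw [map_mul, map_pow, hs]
  have hsI : s ∈ I ^ N := h _ k y s hy hrelA
  obtain ⟨q, hq⟩ := Divis.BlowAlg2.exists_eq_pow_mul I a ha N hsI
  refine ⟨q, ?_⟩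
  have h8 := congrArg (algebraMap B K) hq
  rw [map_mul, map_pow, ← IsScalarTower.algebraMap_apply, ← IsScalarTower.algebraMap_apply, hs] at h8
  exact (mul_left_cancel₀ (pow_ne_zero N haK) h8).symm

end Groth.Agent.CurvesC.AffNormal
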