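import Groth.Agent.Flat2H.FamDict

/-!
An invertible module on a quasi-compact scheme which is ample on each piece of a finite clopen decomposition is
ample.
-/

set_option autoImplicit false
universe u
open CategoryTheory CategoryTheory.Limits AlgebraicGeometry TopologicalSpace Opposite

namespace Groth.Agent.CurvesC.AmpleClopen

open Groth.Agent.Fdesc.LocGen Groth.Agent.Flat2H.FamExt Groth.Agent.Flat2H.FamDict

theorem app_ores {X Y : Scheme.{u}} (f : X ⟶ Y) {U V : Y.Opens} (h : V ≤ U) (a : Γ(Y, U)) :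
    f.app V (ores h a) = ores (f.preimage_mono h) (f.app U a) := by
  have := ConcreteCategory.congr_hom (f.naturality (homOfLE h).op) a
  exact this

theorem section_of_clopen {Y Z : Scheme.{u}} (i : Z ⟶ Y) [IsOpenImmersion i] (hcl : IsClosed (Set.range i))
    [CompactSpace Y] {L : Y.Modules} (hL : PicF.IsInvertible L) (hA : CohB1.IsAmple (L.restrict i)) (z : Z) :
    ∃ (n : ℕ) (s : Coh.structureModule Y ⟶ CohB1.tensorPow L (n + 1)),
      i z ∈ CohB1.genLocus _ s ∧ IsAffineOpen (CohB1.genLocus _ s) := by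
  classical
  have hcl' : IsClosed (i.opensRange : Set Y) := hcl
  obtain ⟨m, W, g, hP, hT⟩ := exists_trivs hL (fun V => V ≤ i.opensRange ∨ V ⊓ i.opensRange = ⊥) (by
    intro U x hx
    by_cases h : x ∈ i.opensRange
    · exact ⟨U ⊓ i.opensRange, ⟨hx, h⟩, inf_le_left, Or.inl inf_le_right⟩
    · refine ⟨U ⊓ ⟨(i.opensRange : Set Y)ᶜ, hcl'.isOpen_compl⟩, ⟨hx, h⟩, inf_le_left, Or.inr ?_⟩
      ext y
      constructor
      · rintro ⟨⟨-, h1⟩, h2⟩
        exact absurd h2 h1
      · intro h3
        exact absurd h3 (by simp))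
  have hT' := hT.restrict i
  obtain ⟨hc, hx⟩ := hT'.isAmple_iff.1 hA
  obtain ⟨n, b, hb, hzb, haff⟩ := hx z
  have hiso : ∀ V : Y.Opens, V ≤ i.opensRange → Function.Bijective (i.app V) := fun V hV => by
    have := i.isIso_app V hV
    exact ConcreteCategory.bijective_of_isIso (i.app V)
  let b' : ∀ j, Γ(Y, W j) := fun j => if h : W j ≤ i.opensRange then ((hiso _ h).2 (b j)).choose else 0
  have hb' : ∀ j, W j ≤ i.opensRange → i.app (W j) (b' j) = b j := by
    intro j h
    simp only [b', dif_pos h]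
    exact ((hiso _ h).2 (b j)).choose_spec
  have hb0 : ∀ j, W j ⊓ i.opensRange = ⊥ → b' j = 0 := by
    intro j h
    by_cases h' : W j ≤ i.opensRange
    · have hbot : W j = ⊥ := by rw [← h, inf_eq_left.mpr h']
      have : Subsingleton Γ(Y, W j) := by
        rw [hbot]
        infer_instance
      exact Subsingleton.elim _ _
    · simp only [b', dif_neg h']
  have hfam : IsFam W (fun i j ↦ g i j ^ (n + 1)) b' := by
    intro j l
    have hbotcase : W j ⊓ W l = ⊥ → ores inf_le_left (b' j) * g j l ^ (n + 1) = ores inf_le_right (b' l) := by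
      intro hbot
      have : Subsingleton Γ(Y, W j ⊓ W l) := by
        rw [hbot]
        infer_instance
      exact Subsingleton.elim _ _
    rcases hP j with hj | hj <;> rcases hP l with hl | hl
    · apply (hiso (W j ⊓ W l) (inf_le_left.trans hj)).1
      have h1 := hb j l
      rw [map_mul, map_pow, app_ores, app_ores, hb' j hj, hb' l hl]
      exact h1
    · apply hbotcase
      rw [eq_bot_iff, ← hl]
      exact le_inf inf_le_right (inf_le_left.trans hj)
    · apply hbotcase
      rw [eq_bot_iff, ← hj]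
      exact le_inf inf_le_left (inf_le_right.trans hl)
    · rw [hb0 j hj, hb0 l hl, map_zero, map_zero, zero_mul]
  obtain ⟨s, hs⟩ := (hT.tensorPow (n + 1)).exists_sec b' hfam
  have hpre : i ⁻¹ᵁ (⨆ j, Y.basicOpen (b' j)) = ⨆ j, Z.basicOpen (b j) := by
    rw [Scheme.Hom.preimage_iSup]
    congr 1
    funext j
    rw [Scheme.preimage_basicOpen]
    rcases hP j with hj | hj
    · rw [hb' j hj]
    · rw [hb0 j hj, map_zero, Scheme.basicOpen_zero]
      symm
      rw [eq_bot_iff]
      refine (Z.basicOpen_le (b j)).trans ?_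
      intro y hy
      have : i y ∈ (W j ⊓ i.opensRange : Y.Opens) := ⟨hy, ⟨y, rfl⟩⟩
      rw [hj] at this
      exact absurd this (by simp)
  have hle : (⨆ j, Y.basicOpen (b' j)) ≤ i.opensRange := by
    refine iSup_le fun j => ?_
    rcases hP j with hj | hj
    · exact (Y.basicOpen_le _).trans hj
    · rw [hb0 j hj, Scheme.basicOpen_zero]
      exact bot_le
  have heq : (⨆ j, Y.basicOpen (b' j)) = i ''ᵁ (⨆ j, Z.basicOpen (b j)) := by
    rw [← hpre, Scheme.Hom.image_preimage_eq_opensRange_inf, inf_eq_right.mpr hle]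
  refine ⟨n, s, ?_, ?_⟩
  · rw [hs, heq]
    exact ⟨z, hzb, rfl⟩
  · rw [hs, heq]
    exact haff.image_of_isOpenImmersion i

/-- Ampleness on a finite disjoint union. -/
theorem isAmple_of_clopen {Y : Scheme.{u}} [CompactSpace Y] {κ : Type*} (Z : κ → Scheme.{u}) (i : ∀ a, Z a ⟶ Y)
    [∀ a, IsOpenImmersion (i a)] (hcl : ∀ a, IsClosed (Set.range (i a))) (hcov : ∀ y : Y, ∃ a z, i a z = y)
    {L : Y.Modules} (hL : PicF.IsInvertible L)
    (hA : ∀ a, CohB1.IsAmple ((Scheme.Modules.pullback (i a)).obj L)) : CohB1.IsAmple L := by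
  refine ⟨hL, inferInstance, fun y => ?_⟩
  obtain ⟨a, z, rfl⟩ := hcov y
  exact section_of_clopen (i a) (hcl a) hL
    (isAmple_of_iso ((Scheme.Modules.restrictFunctorIsoPullback (i a)).symm.app L) (hA a)) z

end Groth.Agent.CurvesC.AmpleClopen
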