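import Groth.Prelude.Def_Curv2
import Groth.Agent.Ega1.ReducedSub
import Groth.Agent.CurvesC.Dim1Top
import Groth.Agent.CurvesC.PointScheme

/-!
An irreducible component `C` of a Noetherian scheme of dimension at most one, with its reduced structure, the scheme
theoretic closure `X'` of its complement and their intersection `T`.
-/

set_option autoImplicit false
universe u
open CategoryTheory CategoryTheory.Limits AlgebraicGeometry TopologicalSpace Opposite

namespace Groth.Agent.CurvesC.CompGeom

open Groth.Agent

variable (X : Scheme.{u}) (C : Set X) (hC : C ∈ irreducibleComponents (X : Type u))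

/-- The ideal of the component. -/
noncomputable abbrev IC : X.IdealSheafData :=
  Scheme.IdealSheafData.vanishingIdeal ⟨C, isClosed_of_mem_irreducibleComponents C hC⟩

/-- The ideal of the closure of the complement. -/
noncomputable abbrev IX' : X.IdealSheafData :=
  (Scheme.Opens.ι (⟨Cᶜ, (isClosed_of_mem_irreducibleComponents C hC).isOpen_compl⟩ : X.Opens)).ker

theorem support_IC : ((IC X C hC).support : Set X) = C := by
  simp

theorem support_IX' [IsNoetherian X] : ((IX' X C hC).support : Set X) = closure Cᶜ := by
  rw [Scheme.Hom.support_ker]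
  simp

theorem range_C : Set.range (IC X C hC).subschemeι = C := by
  rw [Scheme.IdealSheafData.range_subschemeι, support_IC]

theorem range_T [IsNoetherian X] : Set.range (IC X C hC ⊔ IX' X C hC).subschemeι = C ∩ closure Cᶜ := by
  rw [Scheme.IdealSheafData.range_subschemeι, Scheme.IdealSheafData.support_sup]
  change ((IC X C hC).support : Set X) ∩ ((IX' X C hC).support : Set X) = _
  rw [support_IC, support_IX']

theorem irreducibleSpace_of_embedding {Y Z : Type*} [TopologicalSpace Y] [TopologicalSpace Z] (f : Y → Z)
    (hf : Topology.IsEmbedding f) (h : IsIrreducible (Set.range f)) : IrreducibleSpace Y := by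
  have h1 : IrreducibleSpace (Set.range f) := isIrreducible_iff_irreducibleSpace.mp h
  let e := hf.toHomeomorph
  have h2 : IsIrreducible (Set.univ : Set (Set.range f)) := IrreducibleSpace.isIrreducible_univ _
  have h3 := h2.image e.symm e.symm.continuous.continuousOn
  rw [Set.image_univ, e.symm.surjective.range_eq] at h3
  exact (irreducibleSpace_def Y).mpr h3

instance irreducibleSpace_C : IrreducibleSpace (IC X C hC).subscheme := by
  refine irreducibleSpace_of_embedding _ (IC X C hC).subschemeι.isEmbedding ?_
  rw [range_C]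
  exact hC.1

instance isReduced_C : AlgebraicGeometry.IsReduced (IC X C hC).subscheme :=
  Ega1.ReducedSub.isReduced_subscheme_vanishingIdeal _

instance isIntegral_C : AlgebraicGeometry.IsIntegral (IC X C hC).subscheme :=
  isIntegral_of_irreducibleSpace_of_isReduced _

include hC in
/-- The component is not contained in the closure of its complement. -/
theorem exists_mem_notMem_closure [NoetherianSpace X] : ∃ x ∈ C, x ∉ closure Cᶜ := by
  obtain ⟨o, ho, ⟨x, hx⟩, hoC⟩ := NoetherianSpace.exists_isOpen_nonempty_subset_irreducibleComponent C hC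
  refine ⟨x, hoC hx, fun h => ?_⟩
  obtain ⟨y, hy1, hy2⟩ := mem_closure_iff.mp h o ho hx
  exact hy2 (hoC hy1)

/-- The map of the intersection `T` to the component. -/
noncomputable abbrev jT : (IC X C hC ⊔ IX' X C hC).subscheme ⟶ (IC X C hC).subscheme :=
  Scheme.IdealSheafData.inclusion (le_sup_left : IC X C hC ≤ IC X C hC ⊔ IX' X C hC)

theorem range_jT_ne [IsNoetherian X] : Set.range (jT X C hC) ≠ Set.univ := by
  intro h
  obtain ⟨x, hx, hx'⟩ := exists_mem_notMem_closure X C hC
  rw [← range_C X C hC] at hx
  obtain ⟨y, rfl⟩ := hx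
  have hy : y ∈ Set.range (jT X C hC) := by rw [h]; trivial
  obtain ⟨t, rfl⟩ := hy
  have h1 : (IC X C hC ⊔ IX' X C hC).subschemeι t ∈ C ∩ closure Cᶜ := by
    rw [← range_T X C hC]
    exact ⟨t, rfl⟩
  apply hx'
  have h2 : (IC X C hC).subschemeι (jT X C hC t) = (IC X C hC ⊔ IX' X C hC).subschemeι t := by
    rw [← Scheme.Hom.comp_apply, Scheme.IdealSheafData.inclusion_subschemeι]
  rw [h2]
  exact h1.2

theorem dim_C_le (hdim : topologicalKrullDim X ≤ 1) : topologicalKrullDim (IC X C hC).subscheme ≤ 1 :=
  ((IC X C hC).subschemeι.isEmbedding.isInducing.topologicalKrullDim_le).trans hdim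

/-- All subsets of the intersection are closed. -/
theorem isClosed_T [IsNoetherian X] (hdim : topologicalKrullDim X ≤ 1)
    (S : Set (IC X C hC ⊔ IX' X C hC).subscheme) : IsClosed S := by
  have hN : NoetherianSpace (IC X C hC).subscheme :=
    (IC X C hC).subschemeι.isEmbedding.isInducing.noetherianSpace
  have h1 : IsClosed (Set.range (jT X C hC)) := (jT X C hC).isClosedEmbedding.isClosed_range
  have h2 : IsClosed (jT X C hC '' S) :=
    Dim1Top.isClosed_of_subset (dim_C_le X C hC hdim) h1 (range_jT_ne X C hC) (Set.image_subset_range _ _)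
  exact (jT X C hC).isClosedEmbedding.isClosed_iff_image_isClosed.mpr h2

theorem nonempty_T [IsNoetherian X] [ConnectedSpace X] (hne : C ≠ Set.univ) :
    Nonempty (IC X C hC ⊔ IX' X C hC).subscheme := by
  have h : (C ∩ closure Cᶜ).Nonempty := by
    by_contra hcon
    rw [Set.not_nonempty_iff_eq_empty] at hcon
    have hcl := isClosed_of_mem_irreducibleComponents C hC
    have h1 : closure Cᶜ ⊆ Cᶜ := by
      intro x hx hxC
      have : x ∈ C ∩ closure Cᶜ := ⟨hxC, hx⟩
      rw [hcon] at this
      exact this
    have h2 : IsClosed Cᶜ := closure_subset_iff_isClosed.mp h1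
    have h3 : IsClopen C := ⟨hcl, isClosed_compl_iff.mp h2⟩
    rcases isClopen_iff.mp h3 with h | h
    · exact hC.1.nonempty.ne_empty h
    · exact hne h
  obtain ⟨x, hx⟩ := h
  rw [← range_T X C hC] at hx
  obtain ⟨t, -⟩ := hx
  exact ⟨t⟩

theorem support_IX'_nonempty [IsNoetherian X] (hne : C ≠ Set.univ) :
    ((IX' X C hC).support : Set X).Nonempty := by
  rw [support_IX']
  exact (Set.nonempty_compl.mpr hne).closure

/-- If the restriction from the component to the intersection is a bijection from a field, the component is
a rational tail as soon as it has no first cohomology. -/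
theorem isRationalTail [IsNoetherian X] [ConnectedSpace X] (hdim : topologicalKrullDim X ≤ 1) (hne : C ≠ Set.univ)
    (hf : IsField Γ((IC X C hC).subscheme, ⊤))
    (hb : Function.Bijective (jT X C hC).appTop)
    (h1 : Subsingleton (Coh.HH (IC X C hC).subscheme (Coh.structureModule (IC X C hC).subscheme) 1)) :
    Curv2.IsRationalTail X C hC := by
  have hT := nonempty_T X C hC hne
  have hfT : IsField Γ((IC X C hC ⊔ IX' X C hC).subscheme, ⊤) :=
    MulEquiv.isField hf (RingEquiv.ofBijective (jT X C hC).appTop.hom hb).symm.toMulEquiv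
  have hconn : ConnectedSpace (IC X C hC ⊔ IX' X C hC).subscheme := by
    refine PointScheme.connectedSpace_of_idem (fun e he => ?_)
    let _ := hfT.toField
    exact IsIdempotentElem.iff_eq_zero_or_one.mp he
  have hsub : Subsingleton (IC X C hC ⊔ IX' X C hC).subscheme :=
    PointScheme.subsingleton_of_discrete (isClosed_T X C hC hdim)
  refine ⟨support_IX'_nonempty X C hC hne, hT, hsub, PointScheme.isReduced_of_isField hfT, ?_, h1⟩
  intro c
  have h2 : Function.Bijective ((IC X C hC ⊔ IX' X C hC).subscheme.evaluation ⊤ c trivial ∘ (jT X C hC).appTop) :=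
    (PointScheme.evaluation_bijective hfT c).comp hb
  have h3 : ∀ s, (jT X C hC).residueFieldMap c ((IC X C hC).subscheme.evaluation ⊤ (jT X C hC c) trivial s) =
      (IC X C hC ⊔ IX' X C hC).subscheme.evaluation ⊤ c trivial ((jT X C hC).appTop s) := by
    intro s
    exact Scheme.evaluation_naturality_apply (jT X C hC) (V := ⊤) c trivial s
  have hinj : Function.Injective ((jT X C hC).residueFieldMap c) := RingHom.injective ((jT X C hC).residueFieldMap c).hom
  constructor
  · intro a b hab
    apply h2.1
    change (IC X C hC ⊔ IX' X C hC).subscheme.evaluation ⊤ c trivial ((jT X C hC).appTop a) =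
      (IC X C hC ⊔ IX' X C hC).subscheme.evaluation ⊤ c trivial ((jT X C hC).appTop b)
    rw [← h3, ← h3]
    exact congrArg _ hab
  · intro y
    obtain ⟨a, ha⟩ := h2.2 ((jT X C hC).residueFieldMap c y)
    refine ⟨a, hinj ?_⟩
    refine (h3 a).trans ha

end Groth.Agent.CurvesC.CompGeom
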