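import Groth.Agent.CurvesC.CompNum

/-!
Dimension counts over a field `k` and a finite extension `K`, for module structures given by ring maps.
-/

set_option autoImplicit false

namespace Groth.Agent.CurvesC.CompNum2

open CompNum in
theorem finrank_comp' {k K R : Type*} [Field k] [CommRing K] (hK : IsField K) [CommRing R]
    (φ : k →+* K) (ψ : K →+* R) :
    @Module.finrank k R _ _ (Module.compHom R (ψ.comp φ)) =
      @Module.finrank k K _ _ (Module.compHom K φ) * @Module.finrank K R _ _ (Module.compHom R ψ) := by
  let _ : Module K R := Module.compHom R ψ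
  exact finrank_comp hK φ

theorem finrank_comp_of_eq {k K R : Type*} [Field k] [CommRing K] (hK : IsField K) [CommRing R]
    (φ : k →+* K) (ψ : K →+* R) (χ : k →+* R) (h : ∀ t, χ t = ψ (φ t)) :
    @Module.finrank k R _ _ (Module.compHom R χ) =
      @Module.finrank k K _ _ (Module.compHom K φ) * @Module.finrank K R _ _ (Module.compHom R ψ) := by
  have h' : χ = ψ.comp φ := RingHom.ext h
  rw [h']
  exact finrank_comp' hK φ ψ

theorem finrank_comp_ring {k K V : Type*} [Field k] [Ring K] (hK : IsField K) [AddCommGroup V] [Module K V]
    (φ : k →+* K) :
    @Module.finrank k V _ _ (Module.compHom V φ) =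
      @Module.finrank k K _ _ (Module.compHom K φ) * Module.finrank K V := by
  let _ := hK.toField
  let _ : Module k V := Module.compHom V φ
  let _ : Module k K := Module.compHom K φ
  have : IsScalarTower k K V := ⟨fun a b v => by
    change (φ a * b) • v = φ a • b • v
    rw [mul_smul]⟩
  exact (Module.finrank_mul_finrank k K V).symm

end Groth.Agent.CurvesC.CompNum2
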