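import Groth.Prelude.Def_Curv2
import Groth.Agent.CurvesB.HZero

/-!
`H^0(X, O_X/I)` is the space of global functions of the closed subscheme, linearly over the base.
-/

set_option autoImplicit false
universe u
open CategoryTheory CategoryTheory.Limits AlgebraicGeometry TopologicalSpace Opposite

namespace Groth.Agent.CurvesC.QuotZero

open Groth.Agent.CurvesB

theorem finrank_eq_of_addEquiv {k M N : Type*} [CommRing k] [AddCommGroup M] [Module k M] [CommRing N]
    (φ : k →+* N) (e : M ≃+ N) (he : ∀ t x, e (t • x) = φ t * e x) :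
    Module.finrank k M = @Module.finrank k N _ _ (Module.compHom N φ) := by
  let _ := Module.compHom N φ
  exact LinearEquiv.finrank_eq { e with map_smul' := he }

theorem finite_of_addEquiv {k M N : Type*} [CommRing k] [AddCommGroup M] [Module k M] [CommRing N]
    (φ : k →+* N) (e : M ≃+ N) (he : ∀ t x, e (t • x) = φ t * e x) [Module.Finite k M] :
    @Module.Finite k N _ _ (Module.compHom N φ) := by
  let _ := Module.compHom N φ
  let e' : M ≃ₗ[k] N := { e with map_smul' := he }
  exact Module.Finite.equiv e'

variable {k : Type u} [CommRing k]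

/-- The structure map on global functions. -/
noncomputable def glob {Z : Scheme.{u}} (g : Z ⟶ Spec (CommRingCat.of k)) : k →+* Γ(Z, ⊤) :=
  (g.appTop).hom.comp (Scheme.ΓSpecIso (CommRingCat.of k)).inv.hom

theorem glob_comp {Z X : Scheme.{u}} (h : Z ⟶ X) (g : X ⟶ Spec (CommRingCat.of k)) (t : k) :
    glob (h ≫ g) t = h.appTop (glob g t) := by
  simp [glob]

variable {X : Scheme.{u}} [X.Over (Spec (CommRingCat.of k))]

theorem gl_eq (t : k) : HZero.gl k X t = glob (X ↘ Spec (CommRingCat.of k)) t := rfl

/-- `H^0` of the structure sheaf of a closed subscheme, additively. -/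
noncomputable def addQuot (I : X.IdealSheafData) : Coh.HH X (ClSub.quotMod I) 0 ≃+ Γ(I.subscheme, ⊤) :=
  HZero.equivAdd (ClSub.quotMod I)

theorem addQuot_smul (I : X.IdealSheafData) (t : k) (x : Coh.HH X (ClSub.quotMod I) 0) :
    addQuot I (t • x) = glob (I.subschemeι ≫ (X ↘ Spec (CommRingCat.of k))) t * addQuot I x := by
  rw [glob_comp]
  exact (HZero.equivAdd_smul_over (ClSub.quotMod I) t x)

theorem finrank_quot (I : X.IdealSheafData) :
    Module.finrank k (Coh.HH X (ClSub.quotMod I) 0) =
      @Module.finrank k Γ(I.subscheme, ⊤) _ _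
        (Module.compHom _ (glob (I.subschemeι ≫ (X ↘ Spec (CommRingCat.of k))))) :=
  finrank_eq_of_addEquiv _ (addQuot I) (addQuot_smul I)

theorem equivO_smul (t : k) (x : Coh.HH X (Coh.structureModule X) 0) :
    HZero.equivO X (t • x) = glob (X ↘ Spec (CommRingCat.of k)) t * HZero.equivO X x :=
  HZero.equivAdd_smul_over (Coh.structureModule X) t x

theorem finrank_unit :
    Module.finrank k (Coh.HH X (Coh.structureModule X) 0) =
      @Module.finrank k Γ(X, ⊤) _ _ (Module.compHom _ (glob (X ↘ Spec (CommRingCat.of k)))) :=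
  finrank_eq_of_addEquiv _ (HZero.equivO X) equivO_smul

theorem finite_unit [Module.Finite k (Coh.HH X (Coh.structureModule X) 0)] :
      @Module.Finite k Γ(X, ⊤) _ _ (Module.compHom _ (glob (X ↘ Spec (CommRingCat.of k)))) :=
  finite_of_addEquiv _ (HZero.equivO X) equivO_smul

end Groth.Agent.CurvesC.QuotZero
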