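import Mathlib.RingTheory.Smooth.IntegralClosure
import Mathlib.RingTheory.Finiteness.Descent
import Mathlib.RingTheory.Localization.BaseChange
import Mathlib.RingTheory.Unramified.Field
import Mathlib.RingTheory.Etale.Basic
import Mathlib.RingTheory.AdicCompletion.LocalRing
import Mathlib.RingTheory.AdicCompletion.AsTensorProduct
import Mathlib.RingTheory.LocalRing.ResidueField.Ideal
import Mathlib.RingTheory.TensorProduct.Pi
import Mathlib.Algebra.Group.Pi.Units
import Mathlib.RingTheory.Regular.Flat
import Groth.Prelude.Def_Found

/-!
# Finiteness of integral closure over an analytically unramified local ring (algebra part of 0BG8)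
-/

set_option autoImplicit false
universe u

open TensorProduct

namespace Groth.Agent.CurvesC.AnUnram

section Embed

variable (R : Type u) [CommRing R]

instance isPrimeMin (q : minimalPrimes R) : q.1.IsPrime := q.2.isPrime

/-- The fraction field of the quotient at a minimal prime. -/
abbrev Kap (q : minimalPrimes R) : Type u := FractionRing (R ⧸ q.1)

theorem finite_min [IsNoetherianRing R] : Finite (minimalPrimes R) :=
  (minimalPrimes.finite_of_isNoetherianRing R).to_subtype

theorem injective_toPi [IsReduced R] :
    Function.Injective (algebraMap R (∀ q : minimalPrimes R, Kap R q)) := by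
  rw [injective_iff_map_eq_zero]
  intro x hx
  have h : x ∈ sInf (minimalPrimes R) := by
    rw [Ideal.mem_sInf]
    intro q hq
    have h1 := congrFun hx ⟨q, hq⟩
    rw [Pi.algebraMap_apply, Pi.zero_apply, IsScalarTower.algebraMap_apply R (R ⧸ q) (FractionRing (R ⧸ q)),
      FaithfulSMul.algebraMap_eq_zero_iff] at h1
    exact Ideal.Quotient.eq_zero_iff_mem.mp h1
  rw [show sInf (minimalPrimes R) = sInf ((⊥ : Ideal R).minimalPrimes) from rfl,
    Ideal.sInf_minimalPrimes] at h
  have h2 : x ∈ nilradical R := h
  rw [nilradical_eq_zero] at h2
  exact h2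

theorem map_ne_zero_of_nonZeroDivisors (q : minimalPrimes R) {x : R} (hx : x ∈ nonZeroDivisors R) :
    algebraMap R (Kap R q) x ≠ 0 := by
  intro h
  rw [IsScalarTower.algebraMap_apply R (R ⧸ q.1) (FractionRing (R ⧸ q.1)),
      FaithfulSMul.algebraMap_eq_zero_iff] at h
  exact notMem_nonZeroDivisors_of_mem_mem_minimalPrimes (Ideal.Quotient.eq_zero_iff_mem.mp h) q.2 hx

end Embed

/-- An étale algebra over a reduced Noetherian ring is reduced. -/
theorem isReduced_of_etale (R E : Type u) [CommRing R] [CommRing E] [Algebra R E] [IsNoetherianRing R]
    [IsReduced R] [Algebra.Etale R E] : IsReduced E := by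
  have := finite_min R
  cases nonempty_fintype (minimalPrimes R)
  classical
  have hflat : Module.Flat R E := inferInstance
  let e := Algebra.TensorProduct.piRight R R E (fun q : minimalPrimes R => Kap R q)
  let f : E →+* E ⊗[R] (∀ q : minimalPrimes R, Kap R q) := Algebra.TensorProduct.includeLeftRingHom
  have hf : Function.Injective f := by
    have h1 : Function.Injective (LinearMap.lTensor E (Algebra.linearMap R (∀ q : minimalPrimes R, Kap R q))) :=
      Module.Flat.lTensor_preserves_injective_linearMap _ (injective_toPi R)
    have h2 : ⇑f = (LinearMap.lTensor E (Algebra.linearMap R (∀ q : minimalPrimes R, Kap R q))) ∘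
        (TensorProduct.rid R E).symm := by
      ext x
      simp [f]
    rw [h2]
    exact h1.comp (TensorProduct.rid R E).symm.injective
  have hred : ∀ q : minimalPrimes R, IsReduced (E ⊗[R] Kap R q) := by
    intro q
    have h1 : IsReduced (Kap R q ⊗[R] E) := Algebra.FormallyUnramified.isReduced_of_field (Kap R q) _
    exact isReduced_of_injective (Algebra.TensorProduct.comm R E (Kap R q)).toRingHom
      (Algebra.TensorProduct.comm R E (Kap R q)).injective
  have : IsReduced (∀ q : minimalPrimes R, E ⊗[R] Kap R q) := inferInstance
  exact isReduced_of_injective (e.toRingHom.comp f) (e.injective.comp hf)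

/-- `D` Nagata and reduced, `L` a localization of `D` at nonzerodivisors: the integral closure of `D` in `L` is a
finite `D`-module. -/
theorem finite_integralClosure_of_isNagata (D : Type u) [CommRing D] [IsReduced D] (hD : CAlg.IsNagata D)
    (M : Submonoid D) (hM : M ≤ nonZeroDivisors D) (L : Type u) [CommRing L] [Algebra D L] [IsLocalization M L] :
    Module.Finite D (integralClosure D L) := by
  have hN : IsNoetherianRing D := hD.1
  have := finite_min D
  cases nonempty_fintype (minimalPrimes D)
  -- the map from `L` to the product of the fraction fields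
  let φ : L →ₐ[D] (∀ q : minimalPrimes D, Kap D q) :=
    IsLocalization.liftAlgHom (M := M) (f := Algebra.ofId D (∀ q : minimalPrimes D, Kap D q)) (by
      intro y
      rw [Pi.isUnit_iff]
      intro q
      exact isUnit_iff_ne_zero.mpr (map_ne_zero_of_nonZeroDivisors D q (hM y.2)))
  have hφ : Function.Injective φ := by
    rw [injective_iff_map_eq_zero]
    intro x hx
    obtain ⟨d, m, rfl⟩ := IsLocalization.exists_mk'_eq M x
    have h1 : φ (algebraMap D L d) = 0 := by
      rw [← IsLocalization.mk'_spec L d m, map_mul, hx, zero_mul]
    rw [AlgHom.commutes] at h1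
    have h2 : d = 0 := (injective_iff_map_eq_zero _).mp (injective_toPi D) d h1
    rw [h2, IsLocalization.mk'_zero]
  have hfin : ∀ q : minimalPrimes D, Module.Finite D (integralClosure D (Kap D q)) := by
    intro q
    have h1 : Module.Finite (D ⧸ q.1) (integralClosure (D ⧸ q.1) (Kap D q)) :=
      hD.2 q.1 (FractionRing (D ⧸ q.1)) inferInstance
    have h2 : Module.Finite D (integralClosure (D ⧸ q.1) (Kap D q)) := Module.Finite.trans (D ⧸ q.1) _
    let g : integralClosure D (Kap D q) →ₗ[D] integralClosure (D ⧸ q.1) (Kap D q) :=
      { toFun := fun x => ⟨x.1, IsIntegral.tower_top (R := D) x.2⟩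
        map_add' := fun _ _ => rfl
        map_smul' := fun c x => by
          apply Subtype.ext
          simp }
    exact Module.Finite.of_injective g (fun x y h =>
      Subtype.ext (show (g x).1 = (g y).1 from by rw [h]))
  let ψ : integralClosure D L →ₗ[D] (∀ q : minimalPrimes D, integralClosure D (Kap D q)) :=
    LinearMap.pi fun q =>
      { toFun := fun x => ⟨φ x.1 q, by
          have h1 : IsIntegral D (φ x.1) := x.2.map φ
          exact h1.map (Pi.evalAlgHom D (fun q : minimalPrimes D => Kap D q) q)⟩
        map_add' := fun _ _ => by
          apply Subtype.ext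
          simp
        map_smul' := fun c x => by
          apply Subtype.ext
          simp }
  refine Module.Finite.of_injective ψ ?_
  intro x y h
  apply Subtype.ext
  apply hφ
  funext q
  exact congrArg Subtype.val (congrFun h q)

/-- Algebra form of Stacks 0BG8: `A` an analytically unramified Noetherian local ring, `B` a domain of finite type
over `A` contained in an étale `A`-algebra `C`; then the integral closure of `B` in its fraction field is finite. -/
theorem finite_integralClosure_of_analyticallyUnramified
    (A : Type u) [CommRing A] [IsLocalRing A] [IsNoetherianRing A]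
    [IsReduced (AdicCompletion (IsLocalRing.maximalIdeal A) A)]
    [IsNoetherianRing (AdicCompletion (IsLocalRing.maximalIdeal A) A)]
    (B : Type u) [CommRing B] [IsDomain B] [Algebra A B]
    (hNag : CAlg.IsNagata (B ⊗[A] (AdicCompletion (IsLocalRing.maximalIdeal A) A)))
    (C : Type u) [CommRing C] [Algebra A C] [Algebra B C] [IsScalarTower A B C]
    (hC : Function.Injective (algebraMap B C)) [Algebra.Etale A C]
    (K : Type u) [CommRing K] [Algebra B K] [IsFractionRing B K] :
    Module.Finite B (integralClosure B K) := by
  set Ah := AdicCompletion (IsLocalRing.maximalIdeal A) A with hAh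
  have hff : Module.FaithfullyFlat A Ah := Module.FaithfullyFlat.of_flat_of_isLocalHom
  let D := B ⊗[A] Ah
  have hred : IsReduced D := by
    have h1 : Algebra.Etale Ah (Ah ⊗[A] C) := inferInstance
    have h2 : IsReduced (Ah ⊗[A] C) := isReduced_of_etale Ah _
    let f : D →+* Ah ⊗[A] C :=
      (Algebra.TensorProduct.comm A C Ah).toRingHom.comp
        (Algebra.TensorProduct.map (IsScalarTower.toAlgHom A B C) (AlgHom.id A Ah)).toRingHom
    refine isReduced_of_injective f ?_
    refine (Algebra.TensorProduct.comm A C Ah).injective.comp ?_
    exact Module.Flat.rTensor_preserves_injective_linearMap (M := Ah)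
      (IsScalarTower.toAlgHom A B C).toLinearMap hC
  have hffD : Module.FaithfullyFlat B D := inferInstance
  have hloc : IsLocalization (Algebra.algebraMapSubmonoid D (nonZeroDivisors B)) (D ⊗[B] K) := inferInstance
  have hle : Algebra.algebraMapSubmonoid D (nonZeroDivisors B) ≤ nonZeroDivisors D := by
    rintro _ ⟨b, hb, rfl⟩
    have h1 : IsSMulRegular B b := (isRegular_iff_mem_nonZeroDivisors.mpr hb).1
    have h2 : IsSMulRegular D (algebraMap B D b) := IsSMulRegular.of_flat h1
    rw [← isRegular_iff_mem_nonZeroDivisors, ← isLeftRegular_iff_isRegular]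
    exact h2
  have hfin : Module.Finite D (integralClosure D (D ⊗[B] K)) :=
    finite_integralClosure_of_isNagata D hNag _ hle _
  have hN : IsNoetherianRing D := hNag.1
  have hfin2 : Module.Finite D (D ⊗[B] integralClosure B K) :=
    Module.Finite.of_injective (TensorProduct.toIntegralClosure B D K).toLinearMap
      TensorProduct.toIntegralClosure_injective_of_flat
  exact Module.Finite.of_finite_tensorProduct_of_faithfullyFlat D

end Groth.Agent.CurvesC.AnUnram
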