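import Groth.Prelude.Def_Coh
import Groth.Agent.S0554
import Mathlib.Topology.KrullDimension
import Mathlib.AlgebraicGeometry.Fiber
import Mathlib.AlgebraicGeometry.FunctionField
import Mathlib.RingTheory.Ideal.Height
import Mathlib.RingTheory.AlgebraicIndependent.TranscendenceBasis

/-!
# Modifications of local domains: elements of local sections are fractions, dimension of the closed fibre

* `exists_mul_eq`: `f : X ⟶ Spec A` with `X` integral, `A` a domain, `f` an isomorphism over a nonempty open: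
  every section `r` of `X` over a nonempty open satisfies `b r = a` with `a, b` in `A`, `b ≠ 0`.
* `topologicalKrullDim_fiber_le`: if moreover `A` is Noetherian local of dimension `n + 1` and `f` is locally of
  finite type, then the closed fibre of `f` has dimension at most `n`.
-/

set_option autoImplicit false
universe u
open CategoryTheory CategoryTheory.Limits AlgebraicGeometry TopologicalSpace

namespace Groth.Agent.CurvesC.ModDim

/-- restriction of functions. -/
noncomputable def rs {X : Scheme.{u}} {V W : X.Opens} (h : W ≤ V) : Γ(X, V) →+* Γ(X, W) :=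
  (X.presheaf.map (homOfLE h).op).hom

theorem rs_rs {X : Scheme.{u}} {V W T : X.Opens} (h : W ≤ V) (h' : T ≤ W) (s : Γ(X, V)) :
    rs h' (rs h s) = rs (h'.trans h) s := by
  unfold rs
  rw [← CommRingCat.comp_apply, ← Functor.map_comp]
  rfl

/-- the ring map `A → Γ(X, V)` attached to `f : X ⟶ Spec A`. -/
noncomputable def toSec {A : Type u} [CommRing A] {X : Scheme.{u}} (f : X ⟶ Spec (CommRingCat.of A)) (V : X.Opens) :
    A →+* Γ(X, V) :=
  (rs le_top).comp (f.appTop.hom.comp (Scheme.ΓSpecIso (CommRingCat.of A)).inv.hom)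

theorem toSec_res {A : Type u} [CommRing A] {X : Scheme.{u}} (f : X ⟶ Spec (CommRingCat.of A)) {V W : X.Opens}
    (h : W ≤ V) (a : A) : rs h (toSec f V a) = toSec f W a := by
  unfold toSec
  simp only [RingHom.comp_apply]
  rw [rs_rs]

theorem isIso_morphismRestrict_of_le {X Y : Scheme.{u}} (f : X ⟶ Y) {U V : Y.Opens} (h : V ≤ U) [IsIso (f ∣_ U)] :
    IsIso (f ∣_ V) := by
  have h1 : IsPullback (f ∣_ V) (f ⁻¹ᵁ V).ι V.ι f := isPullback_morphismRestrict f V
  have h2 : IsPullback (f ∣_ U) (f ⁻¹ᵁ U).ι U.ι f := isPullback_morphismRestrict f U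
  have h3 : IsPullback (X.homOfLE (show f ⁻¹ᵁ V ≤ f ⁻¹ᵁ U from fun x hx => h hx)) (f ∣_ V) (f ∣_ U) (Y.homOfLE h) := by
    refine IsPullback.of_right ?_ ?_ h2.flip
    · simpa using h1.flip
    · rw [← cancel_mono U.ι]
      simp
  exact MorphismProperty.of_isPullback (P := MorphismProperty.isomorphisms Scheme) h3 ‹_›

theorem isIso_app_of_isIso_morphismRestrict {X Y : Scheme.{u}} (f : X ⟶ Y) (V : Y.Opens) [IsIso (f ∣_ V)] :
    IsIso (f.app V) := by
  have key : ∀ (W : Y.Opens) (W' : X.Opens) (e : W' ≤ f ⁻¹ᵁ W), W = V → W' = f ⁻¹ᵁ V →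
      IsIso (f.appLE W W' e) → IsIso (f.app V) := by
    rintro _ _ _ rfl rfl h
    rwa [Scheme.Hom.app_eq_appLE]
  have h1 : IsIso ((f ∣_ V).app ⊤) := inferInstance
  rw [morphismRestrict_app' f V ⊤] at h1
  exact key _ _ _ (by simp) (by simp) h1

theorem nonempty_preimage {X Y : Scheme.{u}} (f : X ⟶ Y) (U : Y.Opens) (hU : (U : Set Y).Nonempty)
    [IsIso (f ∣_ U)] : (f ⁻¹ᵁ U : Set X).Nonempty := by
  obtain ⟨y, hy⟩ := hU
  exact ⟨((inv (f ∣_ U)) ⟨y, hy⟩).1, ((inv (f ∣_ U)) ⟨y, hy⟩).2⟩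

/-- Over a nonempty open where `f` is an isomorphism: any nonempty open `V` of an irreducible `X` contains the
preimage of a nonempty open. -/
theorem exists_open_le {X Y : Scheme.{u}} [IrreducibleSpace X] (f : X ⟶ Y) (U : Y.Opens)
    (hU : (U : Set Y).Nonempty) [IsIso (f ∣_ U)] (V : X.Opens) (hV : (V : Set X).Nonempty) :
    ∃ O : Y.Opens, O ≤ U ∧ (O : Set Y).Nonempty ∧ f ⁻¹ᵁ O ≤ V := by
  have hoi : IsOpenImmersion ((f ⁻¹ᵁ U).ι ≫ f) := by
    rw [← morphismRestrict_ι]
    infer_instance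
  obtain ⟨x, hxU, hxV⟩ := nonempty_preirreducible_inter (f ⁻¹ᵁ U).2 V.2 (nonempty_preimage f U hU) hV
  have hOU : ((f ⁻¹ᵁ U).ι ≫ f) ''ᵁ ((f ⁻¹ᵁ U).ι ⁻¹ᵁ V) ≤ U := by
    rintro _ ⟨y, -, rfl⟩
    exact y.2
  refine ⟨((f ⁻¹ᵁ U).ι ≫ f) ''ᵁ ((f ⁻¹ᵁ U).ι ⁻¹ᵁ V), hOU, ⟨_, ⟨⟨x, hxU⟩, hxV, rfl⟩⟩, ?_⟩
  intro z hz
  obtain ⟨y, hyV, hyz⟩ := id hz
  have hzU : z ∈ f ⁻¹ᵁ U := hOU hz
  have := hoi.base_open.injective (a₁ := y) (a₂ := ⟨z, hzU⟩) hyz
  subst this
  exact hyV

/-- Over a nonempty open where `f` is an isomorphism: any nonempty open `V` of an irreducible `X` contains the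
preimage of a nonempty basic open. -/
theorem exists_basicOpen_le {X Y : Scheme.{u}} [IsAffine Y] [IrreducibleSpace X] (f : X ⟶ Y) (U : Y.Opens)
    (hU : (U : Set Y).Nonempty) [IsIso (f ∣_ U)] (V : X.Opens) (hV : (V : Set X).Nonempty) :
    ∃ g : Γ(Y, ⊤), Y.basicOpen g ≤ U ∧ (Y.basicOpen g : Set Y).Nonempty ∧ f ⁻¹ᵁ (Y.basicOpen g) ≤ V := by
  obtain ⟨O, hO1, ⟨y, hy⟩, hO2⟩ := exists_open_le f U hU V hV
  obtain ⟨_, ⟨_, ⟨g, rfl⟩, rfl⟩, hxg, hgO⟩ := (isBasis_basicOpen Y).exists_subset_of_mem_open hy O.2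
  exact ⟨g, fun z hz => hO1 (hgO hz), ⟨_, hxg⟩, fun z hz => hO2 (hgO hz)⟩

/-- Sections of a modification are fractions. -/
theorem exists_mul_eq {A : Type u} [CommRing A] [IsDomain A] {X : Scheme.{u}} [IsIntegral X]
    (f : X ⟶ Spec (CommRingCat.of A)) (U : (Spec (CommRingCat.of A)).Opens) (hU : (U : Set (Spec (CommRingCat.of A))).Nonempty)
    [IsIso (f ∣_ U)] (V : X.Opens) (hV : (V : Set X).Nonempty) (r : Γ(X, V)) :
    ∃ a b : A, b ≠ 0 ∧ toSec f V b * r = toSec f V a := by
  obtain ⟨g, hgU, hgne, hgV⟩ := exists_basicOpen_le f U hU V hV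
  have h1 : IsIso (f ∣_ ((Spec (CommRingCat.of A)).basicOpen g)) := isIso_morphismRestrict_of_le f hgU
  have h2 : IsIso (f.app ((Spec (CommRingCat.of A)).basicOpen g)) := isIso_app_of_isIso_morphismRestrict f _
  obtain ⟨s, hs⟩ := (ConcreteCategory.bijective_of_isIso (f.app ((Spec (CommRingCat.of A)).basicOpen g))).2 (rs hgV r)
  obtain ⟨n, y, hy⟩ := exists_eq_pow_mul_of_isAffineOpen (Spec (CommRingCat.of A)) ⊤ (isAffineOpen_top _) g s
  have hbij : Function.Bijective (Scheme.ΓSpecIso (CommRingCat.of A)).inv.hom :=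
    ConcreteCategory.bijective_of_isIso (Scheme.ΓSpecIso (CommRingCat.of A)).inv
  obtain ⟨c, rfl⟩ := hbij.2 g
  obtain ⟨a, rfl⟩ := hbij.2 y
  have hc0 : c ≠ 0 := by
    rintro rfl
    rw [map_zero, Scheme.basicOpen_zero] at hgne
    exact hgne.ne_empty rfl
  refine ⟨a, c ^ n, pow_ne_zero n hc0, ?_⟩
  have hWne : Nonempty (f ⁻¹ᵁ ((Spec (CommRingCat.of A)).basicOpen ((Scheme.ΓSpecIso (CommRingCat.of A)).inv.hom c))) := by
    obtain ⟨y, hy⟩ := nonempty_preimage f _ hgne
    exact ⟨⟨y, hy⟩⟩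
  refine map_injective_of_isIntegral X (homOfLE hgV) ?_
  change rs hgV _ = rs hgV _
  rw [map_mul, toSec_res, toSec_res, ← hs]
  have key : ∀ t : A, toSec f (f ⁻¹ᵁ ((Spec (CommRingCat.of A)).basicOpen ((Scheme.ΓSpecIso (CommRingCat.of A)).inv.hom c))) t =
      f.app ((Spec (CommRingCat.of A)).basicOpen ((Scheme.ΓSpecIso (CommRingCat.of A)).inv.hom c))
        ((Spec (CommRingCat.of A)).presheaf.map (homOfLE le_top).op ((Scheme.ΓSpecIso (CommRingCat.of A)).inv.hom t)) := by
    intro t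
    have := congr($(f.naturality (homOfLE (le_top :
      (Spec (CommRingCat.of A)).basicOpen ((Scheme.ΓSpecIso (CommRingCat.of A)).inv.hom c) ≤ ⊤)).op)
        ((Scheme.ΓSpecIso (CommRingCat.of A)).inv.hom t))
    exact this.symm
  rw [key, key, ← map_mul]
  congr 1
  rw [map_pow, map_pow]
  exact hy.symm

/-- The prime ideal of functions on `V` vanishing at `x`. -/
noncomputable def pr {X : Scheme.{u}} {V : X.Opens} (x : X) (hx : x ∈ V) : Ideal Γ(X, V) :=
  (IsLocalRing.maximalIdeal (X.presheaf.stalk x)).comap (X.presheaf.germ V x hx).hom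

instance {X : Scheme.{u}} {V : X.Opens} (x : X) (hx : x ∈ V) : (pr x hx).IsPrime := by
  unfold pr
  infer_instance

theorem mem_pr {X : Scheme.{u}} {V : X.Opens} {x : X} {hx : x ∈ V} {r : Γ(X, V)} :
    r ∈ pr x hx ↔ x ∉ X.basicOpen r := by
  rw [Scheme.mem_basicOpen X r x hx]
  exact (IsLocalRing.mem_maximalIdeal _)

theorem pr_le {X : Scheme.{u}} {V : X.Opens} {x x' : X} (hx : x ∈ V) (hx' : x' ∈ V) (h : x ⤳ x') :
    pr x hx ≤ pr x' hx' := fun r hr => by
  rw [mem_pr] at hr ⊢
  exact fun h' => hr (h.mem_open (X.basicOpen r).2 h')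

theorem pr_lt {X : Scheme.{u}} {V : X.Opens} (hV : IsAffineOpen V) {x x' : X} (hx : x ∈ V) (hx' : x' ∈ V) (h : x ⤳ x')
    (hne : x ≠ x') : pr x hx < pr x' hx' := by
  refine lt_of_le_of_ne (pr_le hx hx' h) fun heq => hne ?_
  by_contra hne'
  have hns : ¬ x' ⤳ x := fun h' => hne' (h.antisymm h').eq
  rw [specializes_iff_forall_open] at hns
  push Not at hns
  obtain ⟨W, hW, hxW, hx'W⟩ := hns
  obtain ⟨r, hr1, hr2⟩ := hV.exists_basicOpen_le (V := ⟨W, hW⟩) ⟨x, hxW⟩ hx
  have h1 : r ∉ pr x hx := by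
    rw [mem_pr, not_not]
    exact hr2
  apply h1
  rw [heq, mem_pr]
  exact fun h' => hx'W (hr1 h')

theorem comap_pr {A : Type u} [CommRing A] {X : Scheme.{u}} (f : X ⟶ Spec (CommRingCat.of A)) {V : X.Opens}
    (x : X) (hx : x ∈ V) : (pr x hx).comap (toSec f V) = (f x).asIdeal := by
  ext a
  rw [Ideal.mem_comap, mem_pr]
  have h1 : toSec f V a = rs le_top (f.appTop ((Scheme.ΓSpecIso (CommRingCat.of A)).inv a)) := rfl
  have h2 : x ∈ X.basicOpen (toSec f V a) ↔ f x ∈ (Spec (CommRingCat.of A)).basicOpen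
      ((Scheme.ΓSpecIso (CommRingCat.of A)).inv a) := by
    rw [h1]
    change x ∈ X.basicOpen (X.presheaf.map (homOfLE le_top).op _) ↔ _
    rw [Scheme.basicOpen_res, ← Scheme.Hom.mem_preimage, Scheme.preimage_basicOpen_top]
    exact ⟨fun h => h.2, fun h => ⟨hx, h⟩⟩
  rw [h2]
  rw [basicOpen_eq_of_affine']
  simp
  exact not_not

theorem finiteType_toSec {A : Type u} [CommRing A] {X : Scheme.{u}} (f : X ⟶ Spec (CommRingCat.of A))
    [LocallyOfFiniteType f] {V : X.Opens} (hV : IsAffineOpen V) : (toSec f V).FiniteType := by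
  have h1 := f.finiteType_appLE (isAffineOpen_top _) hV le_top
  have hbij : Function.Bijective (Scheme.ΓSpecIso (CommRingCat.of A)).inv.hom :=
    ConcreteCategory.bijective_of_isIso (Scheme.ΓSpecIso (CommRingCat.of A)).inv
  have h2 : toSec f V = (f.appLE ⊤ V le_top).hom.comp (Scheme.ΓSpecIso (CommRingCat.of A)).inv.hom := by
    rfl
  rw [h2]
  exact RingHom.FiniteType.comp h1 (RingHom.FiniteType.of_surjective _ hbij.2)

/-- If a modification of `Spec A` is given, then sections over affine opens are algebraic over `A`. -/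
theorem isAlgebraic_sections {A : Type u} [CommRing A] [IsDomain A] {X : Scheme.{u}} [IsIntegral X]
    (f : X ⟶ Spec (CommRingCat.of A)) (U : (Spec (CommRingCat.of A)).Opens)
    (hU : (U : Set (Spec (CommRingCat.of A))).Nonempty)
    [IsIso (f ∣_ U)] (V : X.Opens) (hV : (V : Set X).Nonempty) :
    letI := (toSec f V).toAlgebra
    Algebra.IsAlgebraic A Γ(X, V) := by
  let _ := (toSec f V).toAlgebra
  refine ⟨fun r => ?_⟩
  obtain ⟨a, b, hb, hab⟩ := exists_mul_eq f U hU V hV r
  refine ⟨Polynomial.C b * Polynomial.X - Polynomial.C a, ?_, ?_⟩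
  · intro h
    have := congrArg (fun p => Polynomial.coeff p 1) h
    simp at this
    exact hb this
  · simp only [map_sub, map_mul, Polynomial.aeval_C, Polynomial.aeval_X]
    rw [sub_eq_zero]
    exact hab

theorem toSec_injective {A : Type u} [CommRing A] [IsDomain A] {X : Scheme.{u}} [IsIntegral X]
    (f : X ⟶ Spec (CommRingCat.of A)) (U : (Spec (CommRingCat.of A)).Opens)
    (hU : (U : Set (Spec (CommRingCat.of A))).Nonempty)
    [IsIso (f ∣_ U)] (V : X.Opens) (hV : (V : Set X).Nonempty) : Function.Injective (toSec f V) := by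
  obtain ⟨g, hgU, hgne, hgV⟩ := exists_basicOpen_le f U hU V hV
  have h1 : IsIso (f ∣_ ((Spec (CommRingCat.of A)).basicOpen g)) := isIso_morphismRestrict_of_le f hgU
  have h2 : IsIso (f.app ((Spec (CommRingCat.of A)).basicOpen g)) := isIso_app_of_isIso_morphismRestrict f _
  have hne : Nonempty ((Spec (CommRingCat.of A)).basicOpen g) := hgne.to_subtype
  have h3 : Function.Injective ((Spec (CommRingCat.of A)).presheaf.map (homOfLE (le_top : (Spec (CommRingCat.of A)).basicOpen g ≤ ⊤)).op) :=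
    map_injective_of_isIntegral _ _
  have h4 : Function.Injective (f.app ((Spec (CommRingCat.of A)).basicOpen g)) :=
    (ConcreteCategory.bijective_of_isIso (f.app ((Spec (CommRingCat.of A)).basicOpen g))).1
  have hbij : Function.Bijective (Scheme.ΓSpecIso (CommRingCat.of A)).inv.hom :=
    ConcreteCategory.bijective_of_isIso (Scheme.ΓSpecIso (CommRingCat.of A)).inv
  have key : ∀ t : A, toSec f (f ⁻¹ᵁ ((Spec (CommRingCat.of A)).basicOpen g)) t =
      f.app ((Spec (CommRingCat.of A)).basicOpen g)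
        ((Spec (CommRingCat.of A)).presheaf.map (homOfLE le_top).op ((Scheme.ΓSpecIso (CommRingCat.of A)).inv.hom t)) := by
    intro t
    have := congr($(f.naturality (homOfLE (le_top :
      (Spec (CommRingCat.of A)).basicOpen g ≤ ⊤)).op)
        ((Scheme.ΓSpecIso (CommRingCat.of A)).inv.hom t))
    exact this.symm
  intro a a' haa
  have h5 := congrArg (rs hgV) haa
  rw [toSec_res, toSec_res, key, key] at h5
  exact hbij.1 (h3 (h4 h5))

/-- The closed fibre of a modification of a Noetherian local domain of dimension `n + 1` has dimension at most `n`. -/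
theorem topologicalKrullDim_fiber_le {A : Type u} [CommRing A] [IsDomain A] [IsLocalRing A] [IsNoetherianRing A]
    (n : ℕ) (hdim : ringKrullDim A = ((n + 1 : ℕ) : WithBot ℕ∞)) {X : Scheme.{u}} [IsIntegral X]
    (f : X ⟶ Spec (CommRingCat.of A)) [LocallyOfFiniteType f] (U : (Spec (CommRingCat.of A)).Opens)
    (hU : (U : Set (Spec (CommRingCat.of A))).Nonempty) [IsIso (f ∣_ U)]
    (y : Spec (CommRingCat.of A)) (hy : y.asIdeal = IsLocalRing.maximalIdeal A) :
    topologicalKrullDim (f.fiber y) ≤ n := by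
  refine iSup_le fun s => ?_
  by_contra hcon
  have hlen : n + 1 ≤ s.length := by
    by_contra h
    apply hcon
    have : s.length ≤ n := by omega
    exact_mod_cast this
  -- points
  let t : Fin (s.length + 1) → f.fiber y := fun i => irreducibleSetEquivPoints (s i)
  let x : Fin (s.length + 1) → X := fun i => (f.fiberι y) (t i)
  have hx : ∀ i, f (x i) = y := fun i => by
    have : x i ∈ Set.range (f.fiberι y) := ⟨_, rfl⟩
    rw [Scheme.Hom.range_fiberι] at this
    exact this
  have hspec : ∀ i j, i < j → x j ⤳ x i ∧ x j ≠ x i := by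
    intro i j hij
    have h1 : s i < s j := s.strictMono hij
    have h2 : irreducibleSetEquivPoints (s i) < irreducibleSetEquivPoints (s j) :=
      irreducibleSetEquivPoints.lt_iff_lt.mpr h1
    have h4 : t j ⤳ t i := h2.le
    refine ⟨(h4.map (f := f.fiberι y) (f.fiberι y).continuous :), fun h => ?_⟩
    have h3 : t j = t i := (f.fiberι _).isEmbedding.injective h
    exact h2.ne h3.symm
  obtain ⟨_, ⟨V : X.Opens, hV, rfl⟩, hxV, -⟩ := X.isBasis_affineOpens.exists_subset_of_mem_open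
    (Set.mem_univ (x 0)) isOpen_univ
  have hxi : ∀ i, x i ∈ V := fun i => by
    rcases eq_or_lt_of_le (Fin.zero_le i) with h | h
    · rw [← h]; exact hxV
    · exact (hspec 0 i h).1.mem_open V.2 hxV
  have hVne : (V : Set X).Nonempty := ⟨_, hxV⟩
  have hVne' : Nonempty V := ⟨⟨_, hxV⟩⟩
  let _ := (toSec f V).toAlgebra
  have hinj : Function.Injective (algebraMap A Γ(X, V)) := toSec_injective f U hU V hVne
  have hfs : FaithfulSMul A Γ(X, V) := (faithfulSMul_iff_algebraMap_injective _ _).mpr hinj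
  have hft : Algebra.FiniteType A Γ(X, V) := finiteType_toSec f hV
  have halg : Algebra.IsAlgebraic A Γ(X, V) := isAlgebraic_sections f U hU V hVne
  have hlies : (pr (x 0) hxV).LiesOver (IsLocalRing.maximalIdeal A) := ⟨by
    have := comap_pr f (x 0) hxV
    rw [hx 0, hy] at this
    exact this.symm⟩
  have hkey := Groth.Agent.S0554.result A Γ(X, V) (IsLocalRing.maximalIdeal A) (pr (x 0) hxV)
  rw [trdeg_eq_zero (R := A) (A := Γ(X, V)), add_zero] at hkey
  have hkey2 : ((pr (x 0) hxV).height : Cardinal.{u}) ≤ ((IsLocalRing.maximalIdeal A).height : Cardinal.{u}) :=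
    (self_le_add_right _ _).trans hkey
  have hkey3 : (pr (x 0) hxV).height ≤ (IsLocalRing.maximalIdeal A).height := by
    exact_mod_cast hkey2
  have hm : (IsLocalRing.maximalIdeal A).height = ((n + 1 : ℕ) : ℕ∞) := by
    have := IsLocalRing.maximalIdeal_height_eq_ringKrullDim (R := A)
    rw [hdim] at this
    exact_mod_cast this
  -- the chain
  let q : Fin (s.length + 1) → PrimeSpectrum Γ(X, V) := fun i => ⟨pr (x i) (hxi i), inferInstance⟩
  have hq : ∀ i j, i < j → q j < q i := fun i j hij => by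
    have := hspec i j hij
    exact pr_lt hV (hxi j) (hxi i) this.1 this.2
  have hbot : (⊥ : PrimeSpectrum Γ(X, V)) < q (Fin.last _) := by
    refine lt_of_le_of_ne bot_le fun h => ?_
    have h1 : pr (x (Fin.last _)) (hxi _) = ⊥ := congrArg PrimeSpectrum.asIdeal h.symm
    have h2 := comap_pr f (x (Fin.last _)) (hxi _)
    rw [h1, hx, hy] at h2
    have h3 : (IsLocalRing.maximalIdeal A) = ⊥ := by
      rw [eq_bot_iff]
      intro a ha
      have h4 : a ∈ (⊥ : Ideal Γ(X, V)).comap (toSec f V) := by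
        rw [h2]; exact ha
      rw [Ideal.mem_comap, Ideal.mem_bot] at h4
      exact hinj (h4.trans (map_zero _).symm)
    rw [h3, Ideal.height_bot] at hm
    have h5 : 0 = n + 1 := by exact_mod_cast hm
    omega
  let S : LTSeries (PrimeSpectrum Γ(X, V)) :=
    { length := s.length
      toFun := fun i => q (Fin.rev i)
      step := fun i => hq _ _ (Fin.rev_lt_rev.mpr (Fin.castSucc_lt_succ)) }
  have hS : (⊥ : PrimeSpectrum Γ(X, V)) < S.head := by
    change ⊥ < q (Fin.rev 0)
    rw [Fin.rev_zero]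
    exact hbot
  let S' := S.cons ⊥ hS
  have hlast : S'.last = q 0 := by
    change (S.cons ⊥ hS).last = q 0
    rw [RelSeries.last_cons]
    change q (Fin.rev (Fin.last _)) = q 0
    rw [Fin.rev_last]
  have h1 := Order.length_le_height_last (p := S')
  rw [hlast] at h1
  have h2 : Order.height (q 0) = (pr (x 0) hxV).height := (PrimeSpectrum.height_eq_orderHeight (q 0)).symm
  rw [h2] at h1
  have hlen' : S'.length = s.length + 1 := by
    change 0 + s.length + 1 = s.length + 1
    omega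
  rw [hlen'] at h1
  have h3 : ((s.length + 1 : ℕ) : ℕ∞) ≤ ((n + 1 : ℕ) : ℕ∞) := h1.trans (hkey3.trans hm.le)
  have h4 : s.length + 1 ≤ n + 1 := by exact_mod_cast h3
  omega

end Groth.Agent.CurvesC.ModDim
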