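import Groth.Agent.Ega4A.CMAss
import Groth.Agent.Ega4A.CMModule
import Mathlib.AlgebraicGeometry.Noetherian
import Mathlib.AlgebraicGeometry.AffineScheme

/-!
# Sections of a scheme with Cohen-Macaulay local rings are detected at generic points
-/

set_option autoImplicit false
universe u
open CategoryTheory CategoryTheory.Limits AlgebraicGeometry TopologicalSpace Opposite

namespace Groth.Agent.CurvesC.CMSec

variable {X : Scheme.{u}}

/-- A point without proper generizations is the generic point of an irreducible component. -/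
theorem closure_mem_irreducibleComponents (y : X) (h : ∀ z : X, z ⤳ y → z = y) :
    closure ({y} : Set X) ∈ irreducibleComponents (X : Type u) := by
  refine ⟨isIrreducible_singleton.closure, ?_⟩
  intro Z hZ hle
  obtain ⟨z, hz⟩ := QuasiSober.sober hZ.closure isClosed_closure
  have hzy : z ⤳ y := by
    have h1 : y ∈ closure Z := subset_closure (hle (subset_closure rfl))
    rw [← hz.def] at h1
    exact specializes_iff_mem_closure.2 h1
  have := h z hzy
  subst this
  intro w hw
  have h2 : w ∈ closure Z := subset_closure hw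
  rwa [← hz.def] at h2

/-- On a locally Noetherian scheme with Cohen-Macaulay local rings, a nonzero section over an affine open is
nonzero at the generic point of some irreducible component. -/
theorem exists_generic_affine [IsLocallyNoetherian X]
    (hCM : ∀ x : X, LocCoh.IsCohenMacaulayLocalRing (X.presheaf.stalk x)) {U : X.Opens}
    (hU : IsAffineOpen U) (a : Γ(X, U)) (ha : a ≠ 0) :
    ∃ (y : X) (hy : y ∈ U), closure ({y} : Set X) ∈ irreducibleComponents (X : Type u) ∧
      X.presheaf.germ U y hy a ≠ 0 := by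
  have hN : IsNoetherianRing Γ(X, U) := IsLocallyNoetherian.component_noetherian ⟨U, hU⟩
  obtain ⟨q, hq, hle⟩ := exists_le_isAssociatedPrime_of_isNoetherianRing Γ(X, U) a ha
  have hqp : q.IsPrime := hq.isPrime
  have hqA : q ∈ associatedPrimes Γ(X, U) Γ(X, U) := hq
  let p : PrimeSpectrum Γ(X, U) := ⟨q, hqp⟩
  let y : X := hU.fromSpec p
  have hy : y ∈ U := by
    have : y ∈ Set.range hU.fromSpec := ⟨p, rfl⟩
    rwa [hU.range_fromSpec] at this
  let alg : Algebra Γ(X, U) (X.presheaf.stalk y) :=
    TopCat.Presheaf.algebra_section_stalk X.presheaf ⟨y, hy⟩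
  have hloc : IsLocalization.AtPrime (X.presheaf.stalk y) q :=
    hU.isLocalization_stalk' p hy
  have halg : ∀ b : Γ(X, U), algebraMap Γ(X, U) (X.presheaf.stalk y) b = X.presheaf.germ U y hy b :=
    fun b => rfl
  have hCMy : LocCoh.IsCohenMacaulayLocalRing (Localization.AtPrime q) := by
    have := hCM y
    exact Ega4A.CMModule.isCohenMacaulayLocalRing_of_ringEquiv
      (IsLocalization.algEquiv q.primeCompl (X.presheaf.stalk y) (Localization.AtPrime q)).toRingEquiv
  have hmin : q ∈ minimalPrimes Γ(X, U) :=
    Ega4A.CMAss.mem_minimalPrimes_of_isCohenMacaulayLocalRing q hCMy hqA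
  refine ⟨y, hy, ?_, ?_⟩
  · apply closure_mem_irreducibleComponents
    intro z hz
    have hzU : z ∈ U := hz.mem_open U.2 hy
    rw [← SetLike.mem_coe, ← hU.range_fromSpec] at hzU
    obtain ⟨r, rfl⟩ := hzU
    have h1 : r ⤳ p := (hU.fromSpec.isOpenEmbedding.toIsInducing.specializes_iff).1 hz
    let r' : PrimeSpectrum Γ(X, U) := r
    have h2 : r' ≤ p := (PrimeSpectrum.le_iff_specializes _ _).2 h1
    have h3 : p ≤ r' := hmin.2 ⟨r'.isPrime, bot_le⟩ h2
    have h4 : r' = p := le_antisymm h2 h3
    exact congrArg (fun t : PrimeSpectrum Γ(X, U) => hU.fromSpec t) h4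
  · intro h0
    rw [← halg, IsLocalization.map_eq_zero_iff q.primeCompl] at h0
    obtain ⟨m, hm⟩ := h0
    exact m.2 (hle (Submodule.mem_colon_singleton.2 hm))

/-- On a locally Noetherian scheme with Cohen-Macaulay local rings, a nonzero global section is
nonzero at the generic point of some irreducible component. -/
theorem exists_generic [IsLocallyNoetherian X]
    (hCM : ∀ x : X, LocCoh.IsCohenMacaulayLocalRing (X.presheaf.stalk x)) (s : Γ(X, ⊤)) (hs : s ≠ 0) :
    ∃ y : X, closure ({y} : Set X) ∈ irreducibleComponents (X : Type u) ∧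
      X.presheaf.germ ⊤ y trivial s ≠ 0 := by
  by_contra hcon
  push Not at hcon
  apply hs
  refine TopCat.Presheaf.IsSheaf.section_ext X.sheaf.property fun x _ => ?_
  obtain ⟨_, ⟨U, hU, rfl⟩, hxU, -⟩ := X.isBasis_affineOpens.exists_subset_of_mem_open (Set.mem_univ x) isOpen_univ
  refine ⟨U, le_top, hxU, ?_⟩
  refine Eq.trans ?_ (map_zero (X.presheaf.map (homOfLE (le_top : U ≤ ⊤)).op).hom).symm
  by_contra h0
  obtain ⟨y, hy, h1, h2⟩ := exists_generic_affine hCM hU _ h0
  apply h2
  exact (TopCat.Presheaf.germ_res_apply X.presheaf (homOfLE (le_top : U ≤ ⊤)) y hy s).trans (hcon y h1)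

end Groth.Agent.CurvesC.CMSec
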