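import Groth.Agent.CurvesC.HV0
import Mathlib.AlgebraicGeometry.ValuativeCriterion
import Mathlib.AlgebraicGeometry.Morphisms.Proper
import Mathlib.AlgebraicGeometry.Stalk

/-!
# Two affine charts of a proper scheme: `Γ(X, U)` is finite over `k[a]`

`X` proper over `k`, `X = U ∪ V` affine opens, `a ∈ Γ(X, U)`, `h ∈ Γ(X, V)` with `D(h) ⊆ U` and `a h = 1` on `U ∩ V`.
Then `Γ(X, U)` is finite over `k[a]`: the morphism `a : U ⟶ 𝔸¹` is proper by the valuative criterion.
-/

set_option autoImplicit false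
universe u

open CategoryTheory CategoryTheory.Limits AlgebraicGeometry TopologicalSpace Opposite

namespace Groth.Agent.CurvesC.ChartFin757

variable {X : Scheme.{u}}

/-- lifting through an affine open -/
theorem exists_fac {U : X.Opens} (hU : IsAffineOpen U) {R : CommRingCat.{u}} (q : Spec R ⟶ X)
    (hq : ∀ x, q x ∈ U) : ∃ α : Γ(X, U) ⟶ R, Spec.map α ≫ hU.fromSpec = q := by
  have h1 : Set.range q ⊆ Set.range hU.fromSpec := by
    rw [hU.range_fromSpec]
    rintro _ ⟨x, rfl⟩
    exact hq x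
  refine ⟨Spec.preimage (IsOpenImmersion.lift hU.fromSpec q h1), ?_⟩
  rw [Spec.map_preimage, IsOpenImmersion.lift_fac]

theorem existence (k : Type u) [CommRing k] (p : X ⟶ Spec (CommRingCat.of k)) [IsProper p] {U V : X.Opens}
    (hU : IsAffineOpen U) (hV : IsAffineOpen V) (hcov : U ⊔ V = ⊤) (a : Γ(X, U)) (h : Γ(X, V))
    (hW : IsAffineOpen (U ⊓ V)) (hb : X.basicOpen h ≤ U)
    (hmul : X.presheaf.map (homOfLE (inf_le_left : U ⊓ V ≤ U)).op a *
      X.presheaf.map (homOfLE (inf_le_right : U ⊓ V ≤ V)).op h = 1)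
    (ρ : k →+* Γ(X, U)) (hρ : hU.fromSpec ≫ p = Spec.map (CommRingCat.ofHom ρ)) :
    ValuativeCriterion.Existence
      (Spec.map (CommRingCat.ofHom (Polynomial.eval₂RingHom ρ a)) : Spec Γ(X, U) ⟶ Spec (.of (Polynomial k))) := by
  rintro ⟨R, K, i₁, i₂, ⟨sq⟩⟩
  obtain ⟨α, rfl⟩ := Spec.map_surjective i₁
  obtain ⟨γ, rfl⟩ := Spec.map_surjective i₂
  -- the lift to `X`
  have hCψ : CommRingCat.ofHom (Polynomial.C : k →+* Polynomial k) ≫
      CommRingCat.ofHom (Polynomial.eval₂RingHom ρ a) = CommRingCat.ofHom ρ := by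
    ext c
    simp
  have hsq : (Spec.map α ≫ hU.fromSpec) ≫ p = Spec.map (CommRingCat.ofHom (algebraMap R K)) ≫
      Spec.map γ ≫ Spec.map (CommRingCat.ofHom (Polynomial.C : k →+* Polynomial k)) := by
    rw [Category.assoc, hρ, ← hCψ, Spec.map_comp, ← Category.assoc, ← Category.assoc, sq]
  have hex : ValuativeCriterion.Existence p := by
    have h1 : (@UniversallyClosed : MorphismProperty Scheme.{u}) p := inferInstance
    rw [UniversallyClosed.eq_valuativeCriterion] at h1
    exact h1.1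
  obtain ⟨L, hL₁, hL₂⟩ : ∃ L : Spec (CommRingCat.of R) ⟶ X,
      Spec.map (CommRingCat.ofHom (algebraMap R K)) ≫ L = Spec.map α ≫ hU.fromSpec ∧
      L ≫ p = Spec.map γ ≫ Spec.map (CommRingCat.ofHom (Polynomial.C : k →+* Polynomial k)) := by
    obtain ⟨⟨L, h₁, h₂⟩⟩ := (hex ⟨R, K, _, _, ⟨hsq⟩⟩).exists_lift
    exact ⟨L, h₁, h₂⟩
  have hc : L (IsLocalRing.closedPoint R) ∈ U := by
    by_contra hcU
    have hcV : L (IsLocalRing.closedPoint R) ∈ V := by
      have : L (IsLocalRing.closedPoint R) ∈ U ⊔ V := by rw [hcov]; trivial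
      exact this.resolve_left hcU
    have hLV : ∀ x, L x ∈ V := fun x =>
      ((IsLocalRing.specializes_closedPoint x).map L.continuous).mem_open V.2 hcV
    obtain ⟨β, hβ⟩ := exists_fac hV (R := CommRingCat.of R) L hLV
    have hq : ∀ x, (Spec.map α ≫ hU.fromSpec) x ∈ U ⊓ V := by
      intro x
      refine ⟨?_, ?_⟩
      · have := Set.mem_range_self (f := hU.fromSpec) (Spec.map α x)
        rw [hU.range_fromSpec] at this
        exact this
      · rw [← hL₁]
        exact hLV _
    obtain ⟨φ, hφ⟩ := exists_fac hW (R := CommRingCat.of K) _ hq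
    have e1 : X.presheaf.map (homOfLE (inf_le_left : U ⊓ V ≤ U)).op ≫ φ = α := by
      apply Spec.map_injective
      rw [← cancel_mono hU.fromSpec, Spec.map_comp, Category.assoc, hU.map_fromSpec hW, hφ]
    have e2 : X.presheaf.map (homOfLE (inf_le_right : U ⊓ V ≤ V)).op ≫ φ =
        β ≫ CommRingCat.ofHom (algebraMap R K) := by
      apply Spec.map_injective
      rw [← cancel_mono hV.fromSpec, Spec.map_comp, Category.assoc, hV.map_fromSpec hW, hφ, Spec.map_comp,
        Category.assoc, hβ, hL₁]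
    have e3 : CommRingCat.ofHom (Polynomial.eval₂RingHom ρ a) ≫ α = γ ≫ CommRingCat.ofHom (algebraMap R K) := by
      apply Spec.map_injective
      rw [Spec.map_comp, Spec.map_comp, sq]
    have e4 : algebraMap R K (γ.hom Polynomial.X * β.hom h) = 1 := by
      have h1 : α.hom a = algebraMap R K (γ.hom Polynomial.X) := by
        have := congr($(e3).hom Polynomial.X)
        simpa using this
      have h2 : φ.hom (X.presheaf.map (homOfLE (inf_le_right : U ⊓ V ≤ V)).op h) = algebraMap R K (β.hom h) := by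
        have := congr($(e2).hom h)
        simpa using this
      have h3 : φ.hom (X.presheaf.map (homOfLE (inf_le_left : U ⊓ V ≤ U)).op a) = α.hom a := by
        have := congr($(e1).hom a)
        simpa using this
      rw [map_mul, ← h1, ← h2, ← h3, ← map_mul, hmul, map_one]
    have e5 : γ.hom Polynomial.X * β.hom h = 1 :=
      IsFractionRing.injective R K (by rw [e4, map_one])
    have e6 : IsUnit (β.hom h) := IsUnit.of_mul_eq_one_right _ e5
    have e7 : (Spec.map β) (IsLocalRing.closedPoint R) ∈ PrimeSpectrum.basicOpen h := by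
      change h ∉ Ideal.comap β.hom (IsLocalRing.maximalIdeal R)
      rw [Ideal.mem_comap]
      exact fun h' => (IsLocalRing.mem_maximalIdeal _).mp h' e6
    rw [← hV.fromSpec_preimage_basicOpen] at e7
    have e8 : (Spec.map β ≫ hV.fromSpec) (IsLocalRing.closedPoint R) ∈ X.basicOpen h := e7
    rw [hβ] at e8
    exact hcU (hb e8)
  have hLU : ∀ x, L x ∈ U := fun x =>
    ((IsLocalRing.specializes_closedPoint x).map L.continuous).mem_open U.2 hc
  obtain ⟨β, hβ⟩ := exists_fac hU (R := CommRingCat.of R) L hLU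
  have e1 : β ≫ CommRingCat.ofHom (algebraMap R K) = α := by
    apply Spec.map_injective
    rw [← cancel_mono hU.fromSpec, Spec.map_comp, Category.assoc, hβ, hL₁]
  have e2 : Spec.map (CommRingCat.ofHom (algebraMap R K)) ≫ Spec.map β = Spec.map α := by
    rw [← e1, Spec.map_comp]
  have e3 : CommRingCat.ofHom (Polynomial.eval₂RingHom ρ a) ≫ β = γ := by
    have e4 : CommRingCat.ofHom (Polynomial.eval₂RingHom ρ a) ≫ α = γ ≫ CommRingCat.ofHom (algebraMap R K) := by
      apply Spec.map_injective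
      rw [Spec.map_comp, Spec.map_comp, sq]
    rw [← e1] at e4
    have e5 : Function.Injective (algebraMap R K) := IsFractionRing.injective R K
    refine CommRingCat.hom_ext (RingHom.ext fun x => e5 ?_)
    exact congr($(e4).hom x)
  have e6 : Spec.map β ≫ Spec.map (CommRingCat.ofHom (Polynomial.eval₂RingHom ρ a)) = Spec.map γ := by
    rw [← Spec.map_comp, e3]
  exact ⟨⟨⟨Spec.map β, e2, e6⟩⟩⟩

/-- `Γ(X, U)` is finite over `k[a]`. -/
theorem finite_eval (k : Type u) [CommRing k] (p : X ⟶ Spec (CommRingCat.of k)) [IsProper p] {U V : X.Opens}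
    (hU : IsAffineOpen U) (hV : IsAffineOpen V) (hcov : U ⊔ V = ⊤) (a : Γ(X, U)) (h : Γ(X, V))
    (hW : IsAffineOpen (U ⊓ V)) (hb : X.basicOpen h ≤ U)
    (hmul : X.presheaf.map (homOfLE (inf_le_left : U ⊓ V ≤ U)).op a *
      X.presheaf.map (homOfLE (inf_le_right : U ⊓ V ≤ V)).op h = 1)
    (ρ : k →+* Γ(X, U)) (hρ : hU.fromSpec ≫ p = Spec.map (CommRingCat.ofHom ρ)) :
    (Polynomial.eval₂RingHom ρ a).Finite := by
  have h1 := existence k p hU hV hcov a h hW hb hmul ρ hρ
  have h2 : UniversallyClosed (Spec.map (CommRingCat.ofHom (Polynomial.eval₂RingHom ρ a)) :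
      Spec Γ(X, U) ⟶ Spec (.of (Polynomial k))) := UniversallyClosed.of_valuativeCriterion _ h1
  have h3 : LocallyOfFiniteType (Spec.map (CommRingCat.ofHom ρ) : Spec Γ(X, U) ⟶ Spec (.of k)) := by
    rw [← hρ]; infer_instance
  have h4 : LocallyOfFiniteType (Spec.map (CommRingCat.ofHom (Polynomial.eval₂RingHom ρ a)) :
      Spec Γ(X, U) ⟶ Spec (.of (Polynomial k))) := by
    have : Spec.map (CommRingCat.ofHom (Polynomial.eval₂RingHom ρ a)) ≫
        Spec.map (CommRingCat.ofHom (Polynomial.C : k →+* Polynomial k)) = Spec.map (CommRingCat.ofHom ρ) := by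
      rw [← Spec.map_comp]
      congr 1
      ext c
      simp
    rw [← this] at h3
    exact locallyOfFiniteType_of_comp _ (Spec.map (CommRingCat.ofHom (Polynomial.C : k →+* Polynomial k)))
  have h5 : IsProper (Spec.map (CommRingCat.ofHom (Polynomial.eval₂RingHom ρ a)) :
      Spec Γ(X, U) ⟶ Spec (.of (Polynomial k))) := {}
  have h6 : IsFinite (Spec.map (CommRingCat.ofHom (Polynomial.eval₂RingHom ρ a)) :
      Spec Γ(X, U) ⟶ Spec (.of (Polynomial k))) :=
    IsFinite.iff_isProper_and_isAffineHom.mpr ⟨h5, inferInstance⟩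
  exact (IsFinite.SpecMap_iff _).mp h6

/-- the structure map on an affine chart -/
theorem fromSpec_over (k : Type u) [CommRing k] [X.Over (Spec (CommRingCat.of k))] {U : X.Opens} (hU : IsAffineOpen U) :
    hU.fromSpec ≫ (X ↘ Spec (CommRingCat.of k)) = Spec.map (CommRingCat.ofHom (HV.globOn k X U)) := by
  have h1 : (X ↘ Spec (CommRingCat.of k)) =
      X.toSpecΓ ≫ Spec.map ((Scheme.ΓSpecIso (CommRingCat.of k)).inv ≫ (X ↘ Spec (CommRingCat.of k)).appTop) := by
    rw [Spec.map_comp, ← Scheme.toSpecΓ_naturality_assoc]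
    simp
  have h3 : CommRingCat.ofHom (HV.globOn k X U) =
      ((Scheme.ΓSpecIso (CommRingCat.of k)).inv ≫ (X ↘ Spec (CommRingCat.of k)).appTop) ≫
        X.presheaf.map (homOfLE (le_top : U ≤ ⊤)).op := rfl
  rw [h3, Spec.map_comp]
  conv_lhs => rw [h1]
  rw [hU.fromSpec_toSpecΓ_assoc]

/-- `Γ(X, U)` is finite over `k[a]`, for a proper scheme over `k`. -/
theorem finite_eval_over (k : Type u) [CommRing k] [X.Over (Spec (CommRingCat.of k))]
    [IsProper (X ↘ Spec (CommRingCat.of k))] {U V : X.Opens}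
    (hU : IsAffineOpen U) (hV : IsAffineOpen V) (hcov : U ⊔ V = ⊤) (a : Γ(X, U)) (h : Γ(X, V))
    (hb : X.basicOpen h = U ⊓ V)
    (hmul : X.presheaf.map (homOfLE (inf_le_left : U ⊓ V ≤ U)).op a *
      X.presheaf.map (homOfLE (inf_le_right : U ⊓ V ≤ V)).op h = 1) :
    (Polynomial.eval₂RingHom (HV.globOn k X U) a).Finite :=
  finite_eval k _ hU hV hcov a h (by rw [← hb]; exact hV.basicOpen h) (hb.le.trans inf_le_left) hmul _
    (fromSpec_over k hU)

end Groth.Agent.CurvesC.ChartFin757
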