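import Mathlib.LinearAlgebra.Dual.Lemmas
import Mathlib.LinearAlgebra.FiniteDimensional.Basic
import Mathlib.LinearAlgebra.FreeModule.Finite.Matrix
import Mathlib.RingTheory.Ideal.Quotient.Operations
import Mathlib.Algebra.Algebra.Bilinear

/-!
Linear algebra for the socle bound: if a `k`-linear form on a module does not vanish on any nonzero cyclic
submodule generated by an element killed by a maximal ideal `m` with `B / m` finite over `k`, then any two
elements killed by `m` are dependent.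
-/

set_option autoImplicit false

universe u v w

namespace Groth.Agent.CurvesC.DualInvLin

theorem exists_relation (k : Type u) [Field k] {B : Type v} [CommRing B] [Algebra k B] (m : Ideal B) [m.IsMaximal]
    [Module.Finite k (B ⧸ m)] {N : Type w} [AddCommGroup N] [Module B N] [Module k N] [IsScalarTower k B N]
    (l : N →ₗ[k] k) (hl : ∀ n : N, (∀ a ∈ m, a • n = 0) → n ≠ 0 → ∃ b : B, l (b • n) ≠ 0)
    (n₁ n₂ : N) (h₁ : ∀ a ∈ m, a • n₁ = 0) (h₂ : ∀ a ∈ m, a • n₂ = 0) :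
    ∃ b₁ b₂ : B, (b₁ ∉ m ∨ b₂ ∉ m) ∧ b₁ • n₁ + b₂ • n₂ = 0 := by
  letI : Field (B ⧸ m) := Ideal.Quotient.field m
  let μ₁ : (B ⧸ m) →ₗ[B] N := Submodule.liftQ m (LinearMap.toSpanSingleton B N n₁) (fun a ha => by
    simpa using h₁ a ha)
  let μ₂ : (B ⧸ m) →ₗ[B] N := Submodule.liftQ m (LinearMap.toSpanSingleton B N n₂) (fun a ha => by
    simpa using h₂ a ha)
  let f : (B ⧸ m) × (B ⧸ m) →ₗ[k] Module.Dual k (B ⧸ m) :=
    LinearMap.coprod ((LinearMap.mul k (B ⧸ m)).compr₂ (l ∘ₗ μ₁.restrictScalars k))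
      ((LinearMap.mul k (B ⧸ m)).compr₂ (l ∘ₗ μ₂.restrictScalars k))
  have hdim : Module.finrank k (Module.Dual k (B ⧸ m)) < Module.finrank k ((B ⧸ m) × (B ⧸ m)) := by
    rw [Subspace.dual_finrank_eq, Module.finrank_prod]
    have : 0 < Module.finrank k (B ⧸ m) := Module.finrank_pos
    omega
  obtain ⟨⟨c₁, c₂⟩, hc, hc0⟩ := Submodule.exists_mem_ne_zero_of_ne_bot (LinearMap.ker_ne_bot_of_finrank_lt hdim (f := f))
  obtain ⟨b₁, rfl⟩ := Ideal.Quotient.mk_surjective c₁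
  obtain ⟨b₂, rfl⟩ := Ideal.Quotient.mk_surjective c₂
  refine ⟨b₁, b₂, ?_, ?_⟩
  · by_contra h
    rw [not_or, not_not, not_not] at h
    apply hc0
    rw [Prod.mk_eq_zero]
    exact ⟨Ideal.Quotient.eq_zero_iff_mem.2 h.1, Ideal.Quotient.eq_zero_iff_mem.2 h.2⟩
  · by_contra h
    obtain ⟨b, hb⟩ := hl (b₁ • n₁ + b₂ • n₂) (fun a ha => by
      rw [smul_add, smul_comm a, smul_comm a, h₁ a ha, h₂ a ha, smul_zero, smul_zero, add_zero]) h
    apply hb
    have h3 := LinearMap.congr_fun (LinearMap.mem_ker.1 hc) (Ideal.Quotient.mk m b)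
    have h4 : f (Ideal.Quotient.mk m b₁, Ideal.Quotient.mk m b₂) (Ideal.Quotient.mk m b) =
        l ((b₁ * b) • n₁) + l ((b₂ * b) • n₂) := rfl
    rw [h4, LinearMap.zero_apply] at h3
    rw [smul_add, map_add, ← h3]
    congr 2
    · rw [mul_comm, mul_smul]
    · rw [mul_comm, mul_smul]

end Groth.Agent.CurvesC.DualInvLin
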