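import Groth.Agent.CurvesC.DualInvAlg
import Mathlib.RingTheory.Localization.AtPrime.Basic

/-!
Algebra for the invertibility of the dualizing module: passage between an affine chart `B` and the local ring `A`.
-/

set_option autoImplicit false

universe u v w

namespace Groth.Agent.CurvesC.DualInvLoc

open IsLocalRing DualInvAlg

variable {A : Type u} [CommRing A] [IsLocalRing A] {B : Type v} [CommRing B] [IsNoetherianRing B] (g : B →+* A)

/-- a common denominator for finitely many conditions -/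
theorem exists_common {P : B → B → Prop} (hP : ∀ a s s', P a s → P a (s' * s)) (S : Finset B)
    (h : ∀ a ∈ S, ∃ s, IsUnit (g s) ∧ P a s) : ∃ s, IsUnit (g s) ∧ ∀ a ∈ S, P a s := by
  classical
  induction S using Finset.induction_on with
  | empty => exact ⟨1, by simp, by simp⟩
  | insert a S ha ih =>
    obtain ⟨s, hs, hS⟩ := ih (fun a ha => h a (Finset.mem_insert_of_mem ha))
    obtain ⟨s', hs', ha'⟩ := h a (Finset.mem_insert_self _ _)
    refine ⟨s * s', by rw [map_mul]; exact hs.mul hs', fun b hb => ?_⟩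
    rcases Finset.mem_insert.1 hb with rfl | hb
    · exact hP _ _ _ ha'
    · rw [mul_comm]
      exact hP _ _ _ (hS b hb)

/-- the maximal ideal spreads out: `t₀` and `s` -/
theorem exists_chart (hsurj : ∀ a : A, ∃ s b : B, IsUnit (g s) ∧ g b = g s * a)
    (hinj : ∀ b : B, g b = 0 → ∃ s, IsUnit (g s) ∧ s * b = 0) (t : A)
    (ht : ∀ a ∈ maximalIdeal A, ∃ c, a * a = t * c) :
    ∃ t₀ s : B, (∃ u : A, IsUnit u ∧ g t₀ = u * t) ∧ IsUnit (g s) ∧
      ∀ q : Ideal B, q.IsPrime → t₀ ∈ q → s ∉ q → ∀ a, ¬ IsUnit (g a) → a ∈ q := by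
  obtain ⟨s₀, t₀, hs₀, ht₀⟩ := hsurj t
  obtain ⟨S, hS⟩ := IsNoetherian.noetherian ((maximalIdeal A).comap g)
  have hSp : ∀ a ∈ S, a ∈ (maximalIdeal A).comap g := fun a ha => by
    rw [← hS]; exact Submodule.subset_span ha
  obtain ⟨s, hs, hsS⟩ := exists_common g (P := fun a s => ∃ c, s * (a * a) = t₀ * c)
    (by
      rintro a s s' ⟨c, hc⟩
      exact ⟨s' * c, by rw [mul_assoc, hc]; ring⟩) S (by
      intro a ha
      obtain ⟨c, hc⟩ := ht (g a) (hSp a ha)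
      obtain ⟨s₁, c₁, hs₁, hc₁⟩ := hsurj c
      obtain ⟨s₂, hs₂, h2⟩ := hinj (s₀ * s₁ * (a * a) - t₀ * c₁) (by
        rw [map_sub, map_mul, map_mul, map_mul, map_mul, hc, ht₀, hc₁]
        ring)
      refine ⟨s₂ * (s₀ * s₁), ?_, s₂ * c₁, ?_⟩
      · rw [map_mul, map_mul]
        exact hs₂.mul (hs₀.mul hs₁)
      · linear_combination h2)
  refine ⟨t₀, s, ⟨g s₀, hs₀, ht₀⟩, hs, fun q hq htq hsq a ha => ?_⟩
  have h1 : (maximalIdeal A).comap g ≤ q := by
    rw [← hS]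
    refine Submodule.span_le.2 fun b hb => ?_
    obtain ⟨c, hc⟩ := hsS b hb
    have h2 : s * (b * b) ∈ q := by rw [hc]; exact q.mul_mem_right _ htq
    rcases hq.mem_or_mem h2 with h3 | h3
    · exact absurd h3 hsq
    · exact (hq.mem_or_mem h3).elim id id
  exact h1 ((mem_maximalIdeal _).2 ha)

variable {M : Type w} [AddCommGroup M] [Module B M] {W : Type w} [AddCommGroup W] [Module A W] (γ : M →+ W)

/-- the socle bound passes from the chart to the local ring -/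
theorem smallSocle (hγ : ∀ (b : B) (m : M), γ (b • m) = g b • γ m)
    (hsurj : ∀ v : W, ∃ (s : B) (m : M), IsUnit (g s) ∧ γ m = g s • v)
    (hinj : ∀ m : M, γ m = 0 → ∃ s : B, IsUnit (g s) ∧ s • m = 0) (t₀ : B)
    (hM : ∀ e₁ e₂ : M, (∀ a, ¬ IsUnit (g a) → ∃ v : M, a • e₁ = t₀ • v) →
      (∀ a, ¬ IsUnit (g a) → ∃ v : M, a • e₂ = t₀ • v) →
      ∃ b₁ b₂ : B, (IsUnit (g b₁) ∨ IsUnit (g b₂)) ∧ ∃ v : M, b₁ • e₁ + b₂ • e₂ = t₀ • v) :
    SmallSocle A W (g t₀) := by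
  -- clearing denominators
  have key : ∀ e : W, (∀ a ∈ maximalIdeal A, ∃ v : W, a • e = g t₀ • v) →
      ∃ (s : B) (m : M), IsUnit (g s) ∧ γ m = g s • e ∧ ∀ a, ¬ IsUnit (g a) → ∃ v : M, a • m = t₀ • v := by
    intro e he
    obtain ⟨s₀, m₀, hs₀, hm₀⟩ := hsurj e
    obtain ⟨S, hS⟩ := IsNoetherian.noetherian ((maximalIdeal A).comap g)
    have hSp : ∀ a ∈ S, a ∈ (maximalIdeal A).comap g := fun a ha => by
      rw [← hS]; exact Submodule.subset_span ha
    obtain ⟨s, hs, hsS⟩ := exists_common g (P := fun a s => ∃ v : M, s • (a • m₀) = t₀ • v)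
      (by
        rintro a s s' ⟨v, hv⟩
        exact ⟨s' • v, by rw [mul_smul, hv, smul_comm]⟩) S (by
        intro a ha
        obtain ⟨v, hv⟩ := he (g a) (hSp a ha)
        obtain ⟨s₁, v₁, hs₁, hv₁⟩ := hsurj v
        obtain ⟨s₂, hs₂, h2⟩ := hinj (s₁ • (a • m₀) - (s₀ * t₀) • v₁) (by
          rw [map_sub, hγ, hγ, hγ, hm₀, hv₁, map_mul, smul_comm (g a) (g s₀), hv, sub_eq_zero, mul_smul,
            smul_comm (g s₁) (g s₀), smul_comm (g s₁) (g t₀)])
        refine ⟨s₂ * s₁, ?_, (s₂ * s₀) • v₁, ?_⟩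
        · rw [map_mul]
          exact hs₂.mul hs₁
        · rw [smul_sub, sub_eq_zero] at h2
          rw [mul_smul, h2, smul_smul, smul_smul]
          congr 1
          ring)
    refine ⟨s * s₀, s • m₀, ?_, ?_, fun a ha => ?_⟩
    · rw [map_mul]
      exact hs.mul hs₀
    · rw [hγ, hm₀, map_mul, mul_smul]
    · have h1 : (maximalIdeal A).comap g ≤
          (LinearMap.range (LinearMap.lsmul B M t₀)).comap (LinearMap.toSpanSingleton B M (s • m₀)) := by
        rw [← hS]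
        refine Submodule.span_le.2 fun b hb => ?_
        obtain ⟨v, hv⟩ := hsS b hb
        refine ⟨v, ?_⟩
        rw [LinearMap.lsmul_apply, LinearMap.toSpanSingleton_apply, smul_comm b s, hv]
      obtain ⟨v, hv⟩ := h1 ((mem_maximalIdeal _).2 ha)
      exact ⟨v, hv.symm⟩
  intro e₁ e₂ h₁ h₂
  obtain ⟨s₁, m₁, hs₁, hm₁, hm₁'⟩ := key e₁ h₁
  obtain ⟨s₂, m₂, hs₂, hm₂, hm₂'⟩ := key e₂ h₂
  obtain ⟨b₁, b₂, hb, v, hv⟩ := hM m₁ m₂ hm₁' hm₂'
  refine ⟨g (b₁ * s₁), g (b₂ * s₂), ?_, γ v, ?_⟩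
  · rw [map_mul, map_mul]
    exact hb.imp (fun h => h.mul hs₁) (fun h => h.mul hs₂)
  · rw [map_mul, map_mul, mul_smul, mul_smul, ← hm₁, ← hm₂, ← hγ, ← hγ, ← map_add, hv, hγ]

end Groth.Agent.CurvesC.DualInvLoc
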