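import Groth.Agent.CurvesC.DualInvExt
import Groth.Agent.CurvesC.DualInvLin
import Groth.Agent.CurvesC.DualInvLoc
import Groth.Agent.Fdesc.QCohStalk
import Mathlib.AlgebraicGeometry.Morphisms.FiniteType
import Mathlib.RingTheory.Jacobson.Ring

/-!
# The socle bound for the dualizing module at a closed point
-/

set_option autoImplicit false

universe u

open CategoryTheory CategoryTheory.Limits AlgebraicGeometry Opposite TopologicalSpace

namespace Groth.Agent.CurvesC.DualInvSocle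

open Groth.Agent.CohqB.QC2 Groth.Agent.CohqB.QC4 Groth.Agent.CohqB.QC6 Groth.Agent.CohqB.QCSheaf
  Groth.Agent.CohqB.P1MV Groth.Agent.CurvesC.DualInvSec Groth.Agent.CurvesC.DualInvExt Groth.Agent.Fdesc

variable {X : Scheme.{u}} {k : Type u} [Field k] [X.Over (Spec (CommRingCat.of k))]

theorem finiteType_globOn [LocallyOfFiniteType (X ↘ Spec (CommRingCat.of k))] {V : X.Opens}
    (hV : IsAffineOpen V) : (HV.globOn k X V).FiniteType := by
  have h1 := (X ↘ Spec (CommRingCat.of k)).finiteType_appLE (isAffineOpen_top _) hV le_top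
  have h2 : (Scheme.ΓSpecIso (CommRingCat.of k)).inv.hom.FiniteType :=
    RingHom.FiniteType.of_surjective _ (ConcreteCategory.bijective_of_isIso _).2
  exact h1.comp h2

/-- the residue field of a closed point is finite over the base field -/
theorem finite_quotient [LocallyOfFiniteType (X ↘ Spec (CommRingCat.of k))] {V : X.Opens}
    (hV : IsAffineOpen V) (p : Ideal Γ(X, V)) [p.IsMaximal] :
    letI := (HV.globOn k X V).toAlgebra
    Module.Finite k (Γ(X, V) ⧸ p) := by
  let := (HV.globOn k X V).toAlgebra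
  have h1 : Algebra.FiniteType k Γ(X, V) := finiteType_globOn hV
  let : Field (Γ(X, V) ⧸ p) := Ideal.Quotient.field p
  have h2 : Algebra.FiniteType k (Γ(X, V) ⧸ p) := inferInstance
  exact finite_of_finite_type_of_isJacobsonRing k (Γ(X, V) ⧸ p)

section unit

variable (M : X.Modules) (U : X.Opens) {V : X.Opens} (t₀ : Γ(X, V)) (ht₀ : X.basicOpen t₀ = tr U V)

include ht₀ in
/-- `t₀` is invertible on `U ∩ V` -/
theorem isUnit_res : IsUnit (resR (X := X) (tr_le U V) t₀) := by
  have h := RingedSpace.isUnit_res_basicOpen X.toRingedSpace t₀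
  have h1 : tr U V ≤ X.basicOpen t₀ := ht₀.ge
  have h2 : resR (X := X) (tr_le U V) t₀ = resR h1 (resR (X.basicOpen_le t₀) t₀) := by
    rw [resR_resR]
  rw [h2]
  exact IsUnit.map (resR h1) h

include ht₀ in
/-- multiplication by `t₀` is injective on the sections of `j_* j^* M` over `V` -/
theorem smul_GM_injective {a b : Γ(GM M U, V)} (h : t₀ • a = t₀ • b) : a = b := by
  apply (secGM M U V).injective
  have h1 := congrArg (secGM M U V) h
  rw [secGM_smul, secGM_smul] at h1
  exact (isUnit_res U t₀ ht₀).smul_left_cancel.1 h1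

include ht₀ in
/-- and surjective -/
theorem exists_smul_GM (a : Γ(GM M U, V)) : ∃ b : Γ(GM M U, V), t₀ • b = a := by
  obtain ⟨τ, hτ⟩ := (isUnit_res U t₀ ht₀).exists_right_inv
  refine ⟨(secGM M U V).symm (τ • secGM M U V a), ?_⟩
  rw [smul_symm, smul_smul, hτ, one_smul, AddEquiv.symm_apply_apply]

end unit

variable {w : X.Modules} {t : HV X w 1 →ₗ[k] k}

/-- **The socle bound on an affine chart.** -/
theorem exists_relation [IsLocallyNoetherian X] [LocallyOfFiniteType (X ↘ Spec (CommRingCat.of k))]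
    (h : IsDual w t) (hw : Coh.IsQCoh w) (x : X) (hx : IsClosed ({x} : Set X)) {V : X.Opens}
    (hV : IsAffineOpen V) (hxV : x ∈ V) (t₀ : Γ(X, V)) (ht₀ : X.basicOpen t₀ = tr (compl x hx) V)
    (e₁ e₂ : Γ(w, V)) (h₁ : ∀ a : Γ(X, V), x ∉ X.basicOpen a → ∃ v, a • e₁ = t₀ • v)
    (h₂ : ∀ a : Γ(X, V), x ∉ X.basicOpen a → ∃ v, a • e₂ = t₀ • v) :
    ∃ b₁ b₂ : Γ(X, V), (x ∈ X.basicOpen b₁ ∨ x ∈ X.basicOpen b₂) ∧ ∃ v, b₁ • e₁ + b₂ • e₂ = t₀ • v := by
  obtain ⟨l, hlin, hl⟩ := exists_form h hw x hx hV hxV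
  have hmono := mono_toGM h hw x hx
  let : Algebra k Γ(X, V) := (HV.globOn k X V).toAlgebra
  let : Module k Γ(QM w (compl x hx), V) := Module.compHom _ (HV.globOn k X V)
  have hst : IsScalarTower k Γ(X, V) Γ(QM w (compl x hx), V) :=
    ⟨fun c b n => mul_smul (HV.globOn k X V c) b n⟩
  let l' : Γ(QM w (compl x hx), V) →ₗ[k] k :=
    { toFun := l
      map_add' := map_add l
      map_smul' := hlin }
  let p := (hV.primeIdealOf ⟨x, hxV⟩).asIdeal
  have hp : p.IsMaximal := hV.primeIdealOf_isMaximal_of_isClosed ⟨x, hxV⟩ hx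
  have hfin : Module.Finite k (Γ(X, V) ⧸ p) := finite_quotient hV p
  have hmem : ∀ a : Γ(X, V), a ∈ p ↔ x ∉ X.basicOpen a := fun a => by
    rw [QCohStalk.mem_basicOpen_iff hV x hxV, not_not]
  obtain ⟨p₁, hp₁⟩ := exists_smul_GM w (compl x hx) t₀ ht₀ ((toGM w (compl x hx)).app V e₁)
  obtain ⟨p₂, hp₂⟩ := exists_smul_GM w (compl x hx) t₀ ht₀ ((toGM w (compl x hx)).app V e₂)
  -- killing
  have key : ∀ (e : Γ(w, V)) (z : Γ(GM w (compl x hx), V)), t₀ • z = (toGM w (compl x hx)).app V e →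
      (∃ v, e = t₀ • v) → (cokernel.π (toGM w (compl x hx))).app V z = 0 := by
    rintro e z hz ⟨v, rfl⟩
    have h1 : z = (toGM w (compl x hx)).app V v := by
      apply smul_GM_injective w (compl x hx) t₀ ht₀
      rw [hz, Scheme.Modules.Hom.app_smul]
    rw [h1]
    exact congr((Scheme.Modules.Hom.app $(cokernel.condition (toGM w (compl x hx))) V) v)
  have key' : ∀ (e : Γ(w, V)) (z : Γ(GM w (compl x hx), V)), t₀ • z = (toGM w (compl x hx)).app V e →
      (cokernel.π (toGM w (compl x hx))).app V z = 0 → ∃ v, e = t₀ • v := by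
    intro e z hz h0
    obtain ⟨v, hv⟩ := exists_of_exact (ShortComplex.exact_cokernel (toGM w (compl x hx))) V z h0
    refine ⟨v, app_injective_of_mono (toGM w (compl x hx)) V ?_⟩
    rw [Scheme.Modules.Hom.app_smul]
    refine hz.symm.trans ?_
    congr 1
    exact hv.symm
  have hsm : ∀ (e : Γ(w, V)) (z : Γ(GM w (compl x hx), V)) (b : Γ(X, V)),
      t₀ • z = (toGM w (compl x hx)).app V e → t₀ • (b • z) = (toGM w (compl x hx)).app V (b • e) := by
    intro e z b hz
    rw [Scheme.Modules.Hom.app_smul, ← hz, smul_comm]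
  obtain ⟨b₁, b₂, hb, h3⟩ := DualInvLin.exists_relation k p l'
    (fun n _ hn => by
      by_contra hcon
      push Not at hcon
      exact hn (hl n hcon))
    ((cokernel.π (toGM w (compl x hx))).app V p₁) ((cokernel.π (toGM w (compl x hx))).app V p₂)
    (fun a ha => by
      rw [← Scheme.Modules.Hom.app_smul]
      exact key (a • e₁) (a • p₁) (hsm e₁ p₁ a hp₁) (h₁ a ((hmem a).1 ha)))
    (fun a ha => by
      rw [← Scheme.Modules.Hom.app_smul]
      exact key (a • e₂) (a • p₂) (hsm e₂ p₂ a hp₂) (h₂ a ((hmem a).1 ha)))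
  refine ⟨b₁, b₂, ?_, ?_⟩
  · rw [hmem, hmem, not_not, not_not] at hb
    exact hb
  · refine key' (b₁ • e₁ + b₂ • e₂) (b₁ • p₁ + b₂ • p₂) ?_ ?_
    · rw [smul_add, map_add, hsm e₁ p₁ b₁ hp₁, hsm e₂ p₂ b₂ hp₂]
    · rw [map_add, Scheme.Modules.Hom.app_smul, Scheme.Modules.Hom.app_smul]
      exact h3

end Groth.Agent.CurvesC.DualInvSocle
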