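import Groth.Agent.CalgB.ProjField
import Groth.Agent.Grpsch.GrowthCut
import Groth.Agent.CurvesC.DualInvSocle
import Groth.Agent.CohqA.IntClosed
import Mathlib.RingTheory.Jacobson.Artinian

/-!
# Two affine charts on a proper scheme of dimension at most one over a field

`TwoChart X`: dense affine opens `U`, `V` covering `X`, with `h ∈ Γ(X, V)`, `a ∈ Γ(X, U)`, `X_h = U ∩ V`, `a h = 1` on
`U ∩ V`. `exists_twoChart`: they exist with `Γ(X, V) / h` finite over `k` and `a` transcendental over `k` at every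
non-closed point of `U`.
-/

set_option autoImplicit false

universe u

open CategoryTheory CategoryTheory.Limits AlgebraicGeometry Opposite TopologicalSpace

namespace Groth.Agent.CurvesC.CohOmTwoChart

open Groth.Agent.Fdesc.LocGen Groth.Agent.Divis.AmpleFin

/-- two dense affine opens covering `X`, the complement of the first one being the zero locus of `h` -/
structure TwoChart (X : Scheme.{u}) where
  U : X.Opens
  V : X.Opens
  hU : IsAffineOpen U
  hV : IsAffineOpen V
  cov : U ⊔ V = ⊤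
  dU : Dense (U : Set X)
  dV : Dense (V : Set X)
  a : Γ(X, U)
  h : Γ(X, V)
  hb : X.basicOpen h = U ⊓ V
  hb' : X.basicOpen a = U ⊓ V
  mul : X.presheaf.map (homOfLE (inf_le_left : U ⊓ V ≤ U)).op a *
    X.presheaf.map (homOfLE (inf_le_right : U ⊓ V ≤ V)).op h = 1

section top

variable {X : Type u} [TopologicalSpace X] [T0Space X]

theorem isClosed_of_chain (hdim : topologicalKrullDim X ≤ 1) {q y : X} (h : q ⤳ y) (hne : q ≠ y) :
    IsClosed ({y} : Set X) := by
  have key : closure ({y} : Set X) ⊆ {y} := by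
    intro w hw
    by_contra hwy
    have hyw : y ⤳ w := specializes_iff_mem_closure.mpr hw
    let I : X → IrreducibleCloseds X := fun x => ⟨closure {x}, isIrreducible_singleton.closure, isClosed_closure⟩
    have hlt : ∀ x x' : X, x ⤳ x' → x ≠ x' → I x' < I x := by
      intro x x' hx hxne
      refine lt_of_le_of_ne (specializes_iff_closure_subset.mp hx) fun he => hxne ?_
      have h1 : closure ({x'} : Set X) = closure {x} := congrArg IrreducibleCloseds.carrier he
      exact (inseparable_iff_closure_eq.mpr h1.symm).eq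
    let s : LTSeries (IrreducibleCloseds X) :=
      { length := 2
        toFun := ![I w, I y, I q]
        step := by
          intro i
          fin_cases i
          · exact hlt y w hyw fun h => hwy h.symm
          · exact hlt q y h hne }
    have h2 : ((2 : ℕ) : WithBot ℕ∞) ≤ topologicalKrullDim X := Order.LTSeries.length_le_krullDim s
    have h3 : ((2 : ℕ) : WithBot ℕ∞) ≤ ((1 : ℕ) : WithBot ℕ∞) := h2.trans hdim
    exact absurd (by exact_mod_cast h3 : (2 : ℕ) ≤ 1) (by decide)
  have : closure ({y} : Set X) = {y} := le_antisymm key subset_closure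
  rw [← this]
  exact isClosed_closure

end top

theorem discreteTopology_of_isAffine (k : Type u) [Field k] {Z : Scheme.{u}} (f : Z ⟶ Spec (CommRingCat.of k))
    [IsProper f] [IsAffine Z] : DiscreteTopology Z := by
  have h1 : IsFinite f := IsFinite.iff_isProper_and_isAffineHom.2 ⟨inferInstance, inferInstance⟩
  have h2 : (f.app ⊤).hom.Finite := IsFinite.finite_app f ⊤ (isAffineOpen_top _)
  have h3 : (Scheme.ΓSpecIso (CommRingCat.of k)).inv.hom.Finite :=
    RingHom.Finite.of_surjective _ (ConcreteCategory.bijective_of_isIso _).2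
  let φ : k →+* Γ(Z, ⊤) := (f.app ⊤).hom.comp (Scheme.ΓSpecIso (CommRingCat.of k)).inv.hom
  have h4 : φ.Finite := h2.comp h3
  have h5 : IsArtinianRing Γ(Z, ⊤) := by
    let := φ.toAlgebra
    have : Module.Finite k Γ(Z, ⊤) := h4
    exact IsArtinianRing.of_finite k Γ(Z, ⊤)
  have h6 : DiscreteTopology (Spec Γ(Z, ⊤)) := inferInstanceAs (DiscreteTopology (PrimeSpectrum Γ(Z, ⊤)))
  exact Z.isoSpec.hom.homeomorph.symm.discreteTopology

/-- the closure of a non-closed point is not contained in an affine open -/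
theorem exists_notMem (k : Type u) [Field k] {X : Scheme.{u}} (f : X ⟶ Spec (CommRingCat.of k))
    [IsProper f] {U : X.Opens} (hU : IsAffineOpen U) {η : X} (hη : ¬ IsClosed ({η} : Set X)) :
    ∃ y, η ⤳ y ∧ y ∉ U := by
  by_contra hcon
  push Not at hcon
  apply hη
  obtain ⟨Z, i, hi, hZ, hg⟩ := Groth.Agent.CohqA.IntClosed.exists_integral η
  have h1 : i ⁻¹ᵁ U = ⊤ := by
    rw [eq_top_iff]
    intro z _
    refine hcon (i z) ?_
    rw [← hg]
    exact (genericPoint_specializes z).map i.continuous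
  have h2 : IsAffine Z := by
    have h4 := hU.preimage i
    rw [h1] at h4
    have h5 : IsAffine (⊤ : Z.Opens).toScheme := h4
    exact .of_isIso (Z.topIso).inv
  have h3 : DiscreteTopology Z := discreteTopology_of_isAffine k (i ≫ f)
  rw [← hg, ← Set.image_singleton]
  exact i.isClosedEmbedding.isClosedMap _ (isClosed_discrete _)

theorem eval₂_reverse_eq_zero {R S : Type*} [CommRing R] [CommRing S] (κ : R →+* S) {x y : S} (hxy : x * y = 1)
    (p : Polynomial R) (h : p.eval₂ κ x = 0) : p.reverse.eval₂ κ y = 0 := by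
  let : Invertible x := ⟨y, by rw [mul_comm]; exact hxy, hxy⟩
  exact (Polynomial.eval₂_reverse_eq_zero_iff κ x p).mpr h

variable (k : Type u) [Field k] {X : Scheme.{u}} [X.Over (Spec (CommRingCat.of k))]

/-- transcendence of `a` at a point where `h = 1 / a` specializes to zero -/
theorem germ_eval₂_ne_zero (D : TwoChart X) {η y : X} (hηU : η ∈ D.U) (hηV : η ∈ D.V) (hy : η ⤳ y)
    (hyU : y ∉ D.U) (p : Polynomial k) (hp : p ≠ 0) :
    X.presheaf.germ D.U η hηU (p.eval₂ (HV.globOn k X D.U) D.a) ≠ 0 := by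
  intro h0
  have hyV : y ∈ D.V := by
    have : y ∈ D.U ⊔ D.V := by rw [D.cov]; trivial
    rcases this with h | h
    · exact absurd h hyU
    · exact h
  set κ : k →+* X.presheaf.stalk η := (X.presheaf.germ D.U η hηU).hom.comp (HV.globOn k X D.U) with hκ
  have hκ' : κ = (X.presheaf.germ D.V η hηV).hom.comp (HV.globOn k X D.V) := by
    ext c
    simp only [hκ, HV.globOn, RingHom.comp_apply]
    rw [← CommRingCat.comp_apply, ← CommRingCat.comp_apply, X.presheaf.germ_res, X.presheaf.germ_res]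
  have hmul : X.presheaf.germ D.U η hηU D.a * X.presheaf.germ D.V η hηV D.h = 1 := by
    have h1 := congrArg (X.presheaf.germ (D.U ⊓ D.V) η ⟨hηU, hηV⟩) D.mul
    rw [map_mul, map_one, X.presheaf.germ_res_apply, X.presheaf.germ_res_apply] at h1
    exact h1
  -- the reciprocal polynomial kills `h` at `η`
  have h2 : p.eval₂ κ (X.presheaf.germ D.U η hηU D.a) = 0 := by
    rw [← h0, hκ]
    exact (Polynomial.hom_eval₂ p _ (X.presheaf.germ D.U η hηU).hom _).symm
  have h3 : p.reverse.eval₂ κ (X.presheaf.germ D.V η hηV D.h) = 0 := eval₂_reverse_eq_zero κ hmul p h2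
  have h4 : X.presheaf.germ D.V η hηV (p.reverse.eval₂ (HV.globOn k X D.V) D.h) = 0 := by
    rw [← h3, hκ']
    exact Polynomial.hom_eval₂ _ _ (X.presheaf.germ D.V η hηV).hom _
  -- hence at `y`
  have h5 : y ∉ X.basicOpen (p.reverse.eval₂ (HV.globOn k X D.V) D.h) := by
    intro hy'
    have h6 : η ∈ X.basicOpen (p.reverse.eval₂ (HV.globOn k X D.V) D.h) := hy.mem_open (X.basicOpen _).isOpen hy'
    rw [Scheme.mem_basicOpen _ _ _ hηV, h4] at h6
    exact not_isUnit_zero h6
  apply h5
  have h7 : y ∉ X.basicOpen D.h := by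
    rw [D.hb]
    exact fun h => hyU h.1
  rw [Scheme.mem_basicOpen _ _ _ hyV] at h7 ⊢
  by_contra h8
  have h9 : X.presheaf.germ D.V y hyV D.h ∈ IsLocalRing.maximalIdeal (X.presheaf.stalk y) :=
    (IsLocalRing.mem_maximalIdeal _).mpr h7
  have h10 : X.presheaf.germ D.V y hyV (p.reverse.eval₂ (HV.globOn k X D.V) D.h) ∈
      IsLocalRing.maximalIdeal (X.presheaf.stalk y) := (IsLocalRing.mem_maximalIdeal _).mpr h8
  have h11 : p.reverse = Polynomial.C (p.reverse.coeff 0) + Polynomial.X * p.reverse.divX := by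
    rw [mul_comm, add_comm]
    exact (Polynomial.divX_mul_X_add p.reverse).symm
  rw [h11, Polynomial.eval₂_add, Polynomial.eval₂_mul, Polynomial.eval₂_C, Polynomial.eval₂_X, map_add, map_mul] at h10
  have h12 := (Ideal.add_mem_iff_left _ (Ideal.mul_mem_right _ _ h9)).mp h10
  rw [Polynomial.coeff_zero_reverse] at h12
  have h13 : IsUnit (X.presheaf.germ D.V y hyV (HV.globOn k X D.V p.leadingCoeff)) := by
    have : IsUnit p.leadingCoeff := (Polynomial.leadingCoeff_ne_zero.mpr hp).isUnit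
    exact (this.map (HV.globOn k X D.V)).map (X.presheaf.germ D.V y hyV).hom
  exact (IsLocalRing.mem_maximalIdeal _).mp h12 h13

theorem finite_quotient_of_isClosed [LocallyOfFiniteType (X ↘ Spec (CommRingCat.of k))] {V : X.Opens}
    (hV : IsAffineOpen V) (h : Γ(X, V)) (hcl : ∀ y ∈ V, y ∉ X.basicOpen h → IsClosed ({y} : Set X)) :
    letI := (HV.globOn k X V).toAlgebra
    Module.Finite k (Γ(X, V) ⧸ Ideal.span {h}) := by
  let := (HV.globOn k X V).toAlgebra
  have h1 : Algebra.FiniteType k Γ(X, V) := DualInvSocle.finiteType_globOn hV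
  rw [Module.finite_iff_krullDimLE_zero, Ring.krullDimLE_zero_iff]
  intro P hP
  set Q := P.comap (Ideal.Quotient.mk (Ideal.span {h})) with hQ
  have hQP : Q.IsPrime := Ideal.comap_isPrime _ _
  let q : Spec Γ(X, V) := ⟨Q, hQP⟩
  have hmem : hV.fromSpec q ∈ V := by
    have := Set.mem_range_self (f := hV.fromSpec) q
    rwa [hV.range_fromSpec] at this
  have hq : hV.primeIdealOf ⟨hV.fromSpec q, hmem⟩ = q :=
    hV.fromSpec.isOpenEmbedding.injective (hV.fromSpec_primeIdealOf _)
  have hhQ : h ∈ Q := by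
    have h0 : Ideal.Quotient.mk (Ideal.span {h}) h = 0 :=
      Ideal.Quotient.eq_zero_iff_mem.mpr (Ideal.mem_span_singleton_self h)
    rw [hQ, Ideal.mem_comap, h0]
    exact P.zero_mem
  have hyb : hV.fromSpec q ∉ X.basicOpen h := by
    rw [Groth.Agent.Fdesc.QCohStalk.mem_basicOpen_iff hV _ hmem, hq, not_not]
    exact hhQ
  have hmax := hV.primeIdealOf_isMaximal_of_isClosed ⟨_, hmem⟩ (hcl _ hmem hyb)
  rw [hq] at hmax
  have hmax' : Q.IsMaximal := hmax
  exact Ideal.isMaximal_of_isIntegral_of_isMaximal_comap' (Ideal.Quotient.mk (Ideal.span {h}))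
    (RingHom.isIntegral_of_surjective _ Ideal.Quotient.mk_surjective) P hmax'

/-- **Two sections** `s`, `s'` of an invertible module on a proper scheme of dimension at most one over a field: the loci
`X_s` and `X_{s'}` are affine and dense, and cover `X`; points outside `X_s` are closed, non-closed points lie in both. -/
theorem exists_two_sections' [IsProper (X ↘ Spec (CommRingCat.of k))] (hdim : topologicalKrullDim X ≤ 1) :
    ∃ (M : X.Modules) (_ : PicF.IsInvertible M) (s s' : Coh.structureModule X ⟶ M),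
      IsAffineOpen (CohB1.genLocus M s) ∧ IsAffineOpen (CohB1.genLocus M s') ∧
      CohB1.genLocus M s ⊔ CohB1.genLocus M s' = ⊤ ∧ Dense (CohB1.genLocus M s : Set X) ∧
      Dense (CohB1.genLocus M s' : Set X) ∧ (∀ y, y ∉ CohB1.genLocus M s → IsClosed ({y} : Set X)) ∧
      (∀ y, y ∉ CohB1.genLocus M s' → IsClosed ({y} : Set X)) := by
  obtain ⟨L, hL⟩ := Groth.Agent.CalgB.ProjField.exists_isAmple_of_dim_le_one (X ↘ Spec (CommRingCat.of k)) hdim
  have hN : IsNoetherian X := by
    have h1 : IsLocallyNoetherian X := LocallyOfFiniteType.isLocallyNoetherian (X ↘ (Spec (CommRingCat.of k)))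
    have h2 : CompactSpace X := QuasiCompact.compactSpace_of_compactSpace (X ↘ (Spec (CommRingCat.of k)))
    exact { }
  obtain ⟨E, hE, -, hE'⟩ := Groth.Agent.Grpsch.GrowthCut.exists_generic (Set.univ : Set X) isClosed_univ
  obtain ⟨m, t, ht, -, haff⟩ := exists_genLocus_of_finite hL E hE ⊤ (fun _ _ => trivial)
  obtain ⟨E₂, hE₂, hE₂Z, hE₂'⟩ := Groth.Agent.Grpsch.GrowthCut.exists_generic
    ((CohB1.genLocus _ t : Set X)ᶜ) (CohB1.genLocus _ t).isOpen.isClosed_compl
  obtain ⟨m₂, t₂, ht₂, -, haff₂⟩ := exists_genLocus_of_finite hL (E ∪ E₂) (hE.union hE₂) ⊤ (fun _ _ => trivial)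
  have hcl : ∀ W : X.Opens, E ⊆ W → ∀ y, y ∉ W → IsClosed ({y} : Set X) := by
    intro W hW y hy
    obtain ⟨q, hq, hqy⟩ := hE' y trivial
    exact isClosed_of_chain hdim hqy fun h => hy (h ▸ hW hq)
  have hcov : ∀ y, y ∉ CohB1.genLocus _ t → y ∈ CohB1.genLocus _ t₂ := by
    intro y hy
    obtain ⟨q, hq, hqy⟩ := hE₂' y hy
    have h1 : IsClosed ({q} : Set X) := hcl _ ht q (hE₂Z hq)
    have h2 : y = q := by
      have := specializes_iff_mem_closure.mp hqy
      rwa [h1.closure_eq] at this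
    exact ht₂ (Or.inr (h2 ▸ hq))
  obtain ⟨s₁, hs₁⟩ := exists_pow hL.1 t (Nat.succ_pos m₂)
  obtain ⟨s₂', hs₂'⟩ := exists_pow hL.1 t₂ (Nat.succ_pos m)
  obtain ⟨s₂, hs₂⟩ := exists_cast (mul_comm (m₂ + 1) (m + 1)) s₂'
  rw [hs₂'] at hs₂
  have hdense : ∀ W : X.Opens, E ⊆ W → Dense (W : Set X) := by
    intro W hW x
    obtain ⟨q, hq, hqx⟩ := hE' x trivial
    exact closure_mono (Set.singleton_subset_iff.mpr (hW hq)) (specializes_iff_mem_closure.mp hqx)
  have hEs₁ : E ⊆ CohB1.genLocus _ s₁ := by rw [hs₁]; exact ht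
  have hEs₂ : E ⊆ CohB1.genLocus _ s₂ := by rw [hs₂]; exact fun x hx => ht₂ (Or.inl hx)
  refine ⟨_, isInvertible_tensorPow hL.1 _, s₁, s₂, ?_, ?_, ?_, hdense _ hEs₁, hdense _ hEs₂, hcl _ hEs₁, hcl _ hEs₂⟩
  · rw [hs₁]; exact haff
  · rw [hs₂]; exact haff₂
  · rw [eq_top_iff]
    intro y _
    by_cases hy : y ∈ CohB1.genLocus _ t
    · left; rw [hs₁]; exact hy
    · right; rw [hs₂]; exact hcov y hy

theorem exists_two_sections [IsProper (X ↘ Spec (CommRingCat.of k))] (hdim : topologicalKrullDim X ≤ 1) :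
    ∃ (M : X.Modules) (_ : PicF.IsInvertible M) (s s' : Coh.structureModule X ⟶ M),
      IsAffineOpen (CohB1.genLocus M s) ∧ IsAffineOpen (CohB1.genLocus M s') ∧
      CohB1.genLocus M s ⊔ CohB1.genLocus M s' = ⊤ ∧ Dense (CohB1.genLocus M s : Set X) ∧
      Dense (CohB1.genLocus M s' : Set X) := by
  obtain ⟨M, hM, s, s', h1, h2, h3, h4, h5, -⟩ := exists_two_sections' k (X := X) hdim
  exact ⟨M, hM, s, s', h1, h2, h3, h4, h5⟩

/-- The two charts of two sections of an invertible module. -/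
theorem exists_twoChart_of_sections {M : X.Modules} (s s' : Coh.structureModule X ⟶ M)
    (hU : IsAffineOpen (CohB1.genLocus M s)) (hV : IsAffineOpen (CohB1.genLocus M s'))
    (hcov : CohB1.genLocus M s ⊔ CohB1.genLocus M s' = ⊤) (dU : Dense (CohB1.genLocus M s : Set X))
    (dV : Dense (CohB1.genLocus M s' : Set X)) :
    ∃ D : TwoChart X, D.U = CohB1.genLocus M s ∧ D.V = CohB1.genLocus M s' ∧
      sec s' D.U = D.a • sec s D.U ∧ sec s D.V = D.h • sec s' D.V := by
  have hg₁ : IsGen (sec s (CohB1.genLocus _ s)) := (le_genLocus_iff s _).mp le_rfl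
  have hg₂ : IsGen (sec s' (CohB1.genLocus _ s')) := (le_genLocus_iff s' _).mp le_rfl
  obtain ⟨a, ha⟩ := hg₁.exists_eq (sec s' _)
  obtain ⟨h, hh⟩ := hg₂.exists_eq (sec s _)
  refine ⟨{ U := CohB1.genLocus _ s
            V := CohB1.genLocus _ s'
            hU := hU
            hV := hV
            cov := hcov
            dU := dU
            dV := dV
            a := a
            h := h
            hb := (genLocus_inf_eq s hg₂ hh).symm
            hb' := by rw [inf_comm]; exact (genLocus_inf_eq s' hg₁ ha).symm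
            mul := ?_ }, rfl, rfl, ha, hh⟩
  have h1 := congrArg (Groth.Agent.Fdesc.LocGen.res _
    (inf_le_left : CohB1.genLocus _ s ⊓ CohB1.genLocus _ s' ≤ _)) ha
  have h2 := congrArg (Groth.Agent.Fdesc.LocGen.res _
    (inf_le_right : CohB1.genLocus _ s ⊓ CohB1.genLocus _ s' ≤ _)) hh
  rw [res_sec, res_smul, res_sec] at h1 h2
  rw [h2, smul_smul] at h1
  have h3 : IsGen (sec s' (CohB1.genLocus _ s ⊓ CohB1.genLocus _ s')) := by
    have := hg₂.res (inf_le_right : CohB1.genLocus _ s ⊓ CohB1.genLocus _ s' ≤ _)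
    rwa [res_sec] at this
  exact (h3.ext ((one_smul _ _).trans h1)).symm

/-- **Two charts.** -/
theorem exists_twoChart [IsProper (X ↘ Spec (CommRingCat.of k))] (hdim : topologicalKrullDim X ≤ 1) :
    ∃ D : TwoChart X,
      (letI := (HV.globOn k X D.V).toAlgebra
       Module.Finite k (Γ(X, D.V) ⧸ Ideal.span {D.h})) ∧
      ∀ (η : X) (hη : η ∈ D.U), ¬ IsClosed ({η} : Set X) → ∀ p : Polynomial k, p ≠ 0 →
        X.presheaf.germ D.U η hη (p.eval₂ (HV.globOn k X D.U) D.a) ≠ 0 := by
  obtain ⟨M, -, s, s', hU, hV, hcov, dU, dV, hcl, hcl'⟩ := exists_two_sections' k (X := X) hdim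
  obtain ⟨D, hDU, hDV, -⟩ := exists_twoChart_of_sections s s' hU hV hcov dU dV
  refine ⟨D, finite_quotient_of_isClosed k D.hV D.h fun y hyV hy => ?_, fun η hη hηc => ?_⟩
  · refine hcl y fun hyt => ?_
    rw [D.hb] at hy
    exact hy ⟨by rw [hDU]; exact hyt, hyV⟩
  · obtain ⟨y, hy, hyU⟩ := exists_notMem k (X ↘ Spec (CommRingCat.of k)) D.hU hηc
    have hηV : η ∈ D.V := by
      by_contra hc
      rw [hDV] at hc
      exact hηc (hcl' η hc)
    exact germ_eval₂_ne_zero k D hη hηV hy hyU

end Groth.Agent.CurvesC.CohOmTwoChart
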