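import Groth.Agent.VarietyA.AmpleNegPow
import Groth.Agent.Ega2.AmpleGlobGen

/-!
# Extending sections over `X_s` to maps from negative powers

`X` qcqs, `w` quasi-coherent, `M ⊗ M' ≅ O`, `s` a section of `M`: every section of `w` over `X_s` is the image of a
section of `M'^n` under a morphism `M'^n ⟶ w`, for all large `n`.
-/

set_option autoImplicit false
universe u

open CategoryTheory CategoryTheory.Limits AlgebraicGeometry Opposite TopologicalSpace

namespace Groth.Agent.CurvesC.ExtHom790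

open Groth.Agent.Fdesc.LocGen hiding tmul smul_tmul tmul_smul add_tmul tmul_add tmulLin
open Groth.Agent.Ega2.Tens Groth.Agent.Ega2.TensGen Groth.Agent.Ega2.TensPow Groth.Agent.Ega2.SecCalc
open Groth.Agent.Ega2.AmpleGlobGen
open Groth.Agent.VarietyA.AmpleNegPow

variable {X : Scheme.{u}} {M M' w : X.Modules}

/-- `φ_t : K' ⟶ w` for a global section `t` of `w ⊗ K`, `K ⊗ K' ≅ O`. -/
noncomputable def contract {K K' : X.Modules} (e : CohB1.tensorMod K K' ≅ Coh.structureModule X)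
    (t : Coh.structureModule X ⟶ CohB1.tensorMod w K) : K' ⟶ w :=
  (lunit K').inv ≫ mapT t (𝟙 K') ≫ (assoc w K K').hom ≫ mapT (𝟙 w) e.hom ≫ (runit w).hom

theorem contract_app {K K' : X.Modules} (e : CohB1.tensorMod K K' ≅ Coh.structureModule X)
    (t : Coh.structureModule X ⟶ CohB1.tensorMod w K) {U : X.Opens} (x : Γ(K', U)) (σ : Γ(w, U)) (g : Γ(K, U))
    (hg : sec t U = Ega2.Tens.tmul σ g) (r : Γ(X, U)) (hx : e.hom.app U (Ega2.Tens.tmul g x) = sm r) :
    (contract e t).app U x = r • σ := by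
  have h1 : (contract e t).app U x =
      (runit w).hom.app U ((mapT (𝟙 w) e.hom).app U ((assoc w K K').hom.app U
        ((mapT t (𝟙 K')).app U ((lunit K').inv.app U x)))) := rfl
  have h2 : t.app U (sm 1) = Ega2.Tens.tmul σ g := hg
  have h3 : (mapT t (𝟙 K')).app U ((lunit K').inv.app U x) = Ega2.Tens.tmul (Ega2.Tens.tmul σ g) x := by
    rw [← h2]
    exact Ega2.Tens.mapT_tmul t (𝟙 K') (sm 1) x
  have h4 : (assoc w K K').hom.app U (Ega2.Tens.tmul (Ega2.Tens.tmul σ g) x) =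
    Ega2.Tens.tmul σ (Ega2.Tens.tmul g x) := assocHom_tmul _ _ _
  have h5 : (mapT (𝟙 w) e.hom).app U (Ega2.Tens.tmul σ (Ega2.Tens.tmul g x)) = Ega2.Tens.tmul σ (sm r) := by
    rw [← hx]
    exact Ega2.Tens.mapT_tmul (𝟙 w) e.hom σ (Ega2.Tens.tmul g x)
  rw [h1, h3, h4, h5]
  exact runit_hom_tmul _ _

/-- Sections over `X_s` come from morphisms `M'^n ⟶ w`: precise form, for every `x` dual to `s^n` over `X_s`. -/
theorem exists_hom_eq_of_dual [CompactSpace X] [QuasiSeparatedSpace X] (hw : Coh.IsQCoh w)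
    (hM : PicF.IsInvertible M) (e : CohB1.tensorMod M M' ≅ Coh.structureModule X)
    (s : Coh.structureModule X ⟶ M) (σ : Γ(w, CohB1.genLocus M s)) :
    ∃ n₀ : ℕ, ∀ n, n₀ ≤ n → ∀ (x : Γ(CohB1.tensorPow M' n, CohB1.genLocus M s)),
      (powInv e n).hom.app _ (Ega2.Tens.tmul (pow (sec s (CohB1.genLocus M s)) n) x) = sm 1 →
      ∃ (φ : CohB1.tensorPow M' n ⟶ w), φ.app _ x = σ := by
  obtain ⟨n₀, h⟩ := exists_extend_top hw hM s σ
  refine ⟨n₀, fun n hn x hx => ?_⟩
  obtain ⟨t', ht'⟩ := h n hn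
  refine ⟨contract (powInv e n) (homOf t'), ?_⟩
  rw [contract_app (powInv e n) (homOf t') x σ (pow (sec s (CohB1.genLocus M s)) n)
    ((sec_homOf t' _).trans ht') 1 hx, one_smul]

/-- Sections over `X_s` come from morphisms `M'^n ⟶ w`. -/
theorem exists_hom_eq [CompactSpace X] [QuasiSeparatedSpace X] (hw : Coh.IsQCoh w)
    (hM : PicF.IsInvertible M) (e : CohB1.tensorMod M M' ≅ Coh.structureModule X)
    (s : Coh.structureModule X ⟶ M) (σ : Γ(w, CohB1.genLocus M s)) :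
    ∃ n₀ : ℕ, ∀ n, n₀ ≤ n → ∃ (φ : CohB1.tensorPow M' n ⟶ w) (x : Γ(CohB1.tensorPow M' n, CohB1.genLocus M s)),
      φ.app _ x = σ := by
  obtain ⟨n₀, h⟩ := exists_extend_top hw hM s σ
  refine ⟨n₀, fun n hn => ?_⟩
  obtain ⟨t', ht'⟩ := h n hn
  let g := pow (sec s (CohB1.genLocus M s)) n
  have hg : IsGen g := (isGen_sec_genLocus s).pow n
  let E := powInv e n
  obtain ⟨x, hx⟩ := exists_eq_tmul hg
    ((swap (CohB1.tensorPow M n) (CohB1.tensorPow M' n)).hom.app _ (E.inv.app (CohB1.genLocus M s) (sm 1)))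
  refine ⟨contract E (homOf t'), x, ?_⟩
  rw [contract_app E (homOf t') x σ g ((sec_homOf t' _).trans ht') 1 ?_, one_smul]
  have h1 : Ega2.Tens.tmul g x = E.inv.app (CohB1.genLocus M s) (sm 1) := by
    have h2 := congrArg ((swap (CohB1.tensorPow M' n) (CohB1.tensorPow M n)).hom.app (CohB1.genLocus M s)) hx
    have h3 : (swap (CohB1.tensorPow M' n) (CohB1.tensorPow M n)).hom.app (CohB1.genLocus M s) (Ega2.Tens.tmul x g) =
      Ega2.Tens.tmul g x := swapHom_tmul _ _
    refine (h3.symm.trans h2.symm).trans ?_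
    exact congrArg (fun ψ => Scheme.Modules.Hom.app ψ (CohB1.genLocus M s)
      (E.inv.app (CohB1.genLocus M s) (sm 1))) (swap (CohB1.tensorPow M n) (CohB1.tensorPow M' n)).hom_inv_id
  rw [h1]
  exact congrArg (fun ψ => Scheme.Modules.Hom.app ψ (CohB1.genLocus M s) (sm 1)) E.inv_hom_id

end Groth.Agent.CurvesC.ExtHom790
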