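import Mathlib.LinearAlgebra.Dimension.Free
import Mathlib.LinearAlgebra.FiniteDimensional.Basic
import Mathlib.LinearAlgebra.Dimension.FreeAndStrongRankCondition
import Mathlib.LinearAlgebra.FreeModule.StrongRankCondition
import Mathlib.RingTheory.IntegralClosure.IsIntegralClosure.Basic
import Mathlib.RingTheory.IntegralClosure.Algebra.Basic

/-!
Dimension counts over a field `k` and a finite extension `K`, for module structures given by ring maps.
-/

set_option autoImplicit false

namespace Groth.Agent.CurvesC.CompNum

theorem finrank_comp {k K V : Type*} [Field k] [CommRing K] (hK : IsField K) [AddCommGroup V] [Module K V]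
    (φ : k →+* K) :
    @Module.finrank k V _ _ (Module.compHom V φ) =
      @Module.finrank k K _ _ (Module.compHom K φ) * Module.finrank K V := by
  let _ := hK.toField
  let _ : Module k V := Module.compHom V φ
  let _ : Module k K := Module.compHom K φ
  have : IsScalarTower k K V := ⟨fun a b v => by
    change (φ a * b) • v = φ a • b • v
    rw [mul_smul]⟩
  exact (Module.finrank_mul_finrank k K V).symm

theorem finite_of_comp {k K V : Type*} [Field k] [CommRing K] [AddCommGroup V] [Module K V]
    (φ : k →+* K) (h : @Module.Finite k V _ _ (Module.compHom V φ)) : Module.Finite K V := by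
  let _ : Module k V := Module.compHom V φ
  let _ : Module k K := Module.compHom K φ
  have : IsScalarTower k K V := ⟨fun a b v => by
    change (φ a * b) • v = φ a • b • v
    rw [mul_smul]⟩
  exact Module.Finite.of_restrictScalars_finite k K V

theorem isField_of_finite {k K : Type*} [Field k] [CommRing K] [IsDomain K]
    (φ : k →+* K) (h : @Module.Finite k K _ _ (Module.compHom K φ)) : IsField K := by
  let _ : Algebra k K := φ.toAlgebra
  have h' : Module.Finite k K := h
  have : Algebra.IsIntegral k K := inferInstance
  exact isField_of_isIntegral_of_isField' (Field.toIsField k)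

/-- A ring map from a field to a nonzero ring of dimension one is bijective. -/
theorem bijective_of_finrank_one {K R : Type*} [CommRing K] (hK : IsField K) [CommRing R] (ψ : K →+* R)
    (h : @Module.finrank K R _ _ (Module.compHom R ψ) = 1) : Function.Bijective ψ := by
  let _ := hK.toField
  let _ : Algebra K R := ψ.toAlgebra
  have h1 : Module.finrank K R = 1 := h
  have hR : Nontrivial R := Module.nontrivial_of_finrank_pos (R := K) (by rw [h1]; exact Nat.one_pos)
  refine ⟨RingHom.injective ψ, fun r => ?_⟩
  obtain ⟨c, hc⟩ := (finrank_eq_one_iff_of_nonzero' (1 : R) one_ne_zero).mp h1 r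
  refine ⟨c, ?_⟩
  rw [← hc]
  exact (mul_one _).symm

end Groth.Agent.CurvesC.CompNum
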