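import Groth.Prelude
import Groth.Agent.CohqA.SheafHLocal
import Groth.Agent.CohtopA.Flasque

/-!
# `H^1(X, O_X) = 0` if every Cousin problem is solvable

* `subsingleton_H_one` : `F ⟶ K` mono, `K` flasque, `Γ(K) ⟶ Γ(K/F)` surjective ⟹ `H^1(F) = 0`.
* `genSheaf η A` : the flasque sheaf `U ↦ A` if `η ∈ U`, `0` otherwise.
* `subsingleton_HH_one` : the criterion for integral schemes.
-/

set_option autoImplicit false
universe u
open CategoryTheory CategoryTheory.Limits AlgebraicGeometry TopologicalSpace Opposite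

namespace Groth.Agent.CurvesC.Cousin

open Groth.Agent.CohqA.SheafH

section General

variable {X : TopCat.{u}}

/-- `H^1(F) = 0` if `F` embeds into a flasque sheaf `K` such that global sections of `K/F` lift to `K`. -/
theorem subsingleton_H_one {F K : CohTop.Ab X} (φ : F ⟶ K) [Mono φ] [TopCat.Sheaf.IsFlasque K]
    (h : ∀ t : (cokernel φ).obj.obj (op (⊤ : Opens X)), ∃ s : K.obj.obj (op (⊤ : Opens X)),
      (cokernel.π φ).hom.app (op ⊤) s = t) : Subsingleton (Sheaf.H.{u} F 1) := by
  let S : ShortComplex (CohTop.Ab X) := ShortComplex.mk φ (cokernel.π φ) (cokernel.condition φ)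
  have hS : S.ShortExact :=
    { exact := ShortComplex.exact_cokernel φ
      mono_f := inferInstance
      epi_g := inferInstance }
  have hK : Subsingleton (HU K 1 (⊤ : Opens X)) := CohtopA.Flasque.subsingleton_HU_succ K ⊤ 0
  have key : ∀ x : HU F 1 (⊤ : Opens X), x = 0 := by
    intro x
    obtain ⟨y, rfl⟩ := exact₁ hS 0 ⊤ x (Subsingleton.elim _ _)
    obtain ⟨s, hs⟩ := h (H0 (cokernel φ) ⊤ y)
    have : y = map S.g 0 ⊤ ((H0 K ⊤).symm s) := by
      apply (H0 S.X₃ ⊤).injective
      rw [H0_map]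
      erw [AddEquiv.apply_symm_apply]
      exact hs.symm
    rw [this, δ_map]
  have : Subsingleton (HU F 1 (⊤ : Opens X)) := ⟨fun x y => (key x).trans (key y).symm⟩
  exact (HEquivHU F 1 (isTerminalTop (α := Opens X))).toEquiv.subsingleton

/-- The presheaf `U ↦ A` if `η ∈ U`, `0` otherwise. -/
def genPresheaf (η : X) (A : Type u) [AddCommGroup A] : TopCat.Presheaf AddCommGrpCat.{u} X where
  obj U := AddCommGrpCat.of (PLift (η ∈ U.unop) → A)
  map i := AddCommGrpCat.ofHom
    { toFun := fun f h => f ⟨i.unop.le h.down⟩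
      map_zero' := rfl
      map_add' := fun _ _ => rfl }
  map_id _ := rfl
  map_comp _ _ := rfl

theorem isSheaf_genPresheaf (η : X) (A : Type u) [AddCommGroup A] : (genPresheaf η A).IsSheaf := by
  rw [TopCat.Presheaf.isSheaf_iff_isSheafUniqueGluing.{u, u, u + 1, u}]
  intro ι U sf hsf
  classical
  have hsf' : ∀ (i j : ι) (hi : η ∈ U i) (hj : η ∈ U j), sf i ⟨hi⟩ = sf j ⟨hj⟩ := fun i j hi hj =>
    congrFun (hsf i j) ⟨⟨hi, hj⟩⟩
  have hex : ∀ h : PLift (η ∈ iSup U), ∃ i, η ∈ U i := fun h => Opens.mem_iSup.mp h.down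
  choose i hi using hex
  refine ⟨fun h => sf (i h) ⟨hi h⟩, fun j => ?_, fun s hs => ?_⟩
  · funext h
    exact hsf' _ _ _ _
  · funext h
    exact congrFun (hs (i h)) ⟨hi h⟩

/-- The sheaf `U ↦ A` if `η ∈ U`, `0` otherwise. -/
def genSheaf (η : X) (A : Type u) [AddCommGroup A] : CohTop.Ab X :=
  ⟨genPresheaf η A, isSheaf_genPresheaf η A⟩

instance (η : X) (A : Type u) [AddCommGroup A] : TopCat.Sheaf.IsFlasque (genSheaf η A) := by
  constructor
  intro U V i
  rw [AddCommGrpCat.epi_iff_surjective]
  intro t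
  classical
  refine ⟨fun _ => if h : η ∈ V.unop then t ⟨h⟩ else 0, ?_⟩
  funext h
  exact dif_pos h.down

end General

section Schemes

variable (X : Scheme.{u}) [IsIntegral X]

/-- The inclusion of `O_X` into the sheaf of rational functions. -/
noncomputable def toGen : Coh.toAb (Coh.structureModule X) ⟶ genSheaf (X := X) (genericPoint X) X.functionField :=
  ⟨{ app := fun U => AddCommGrpCat.ofHom
        { toFun := fun (s : Γ(X, U.unop)) h => X.presheaf.germ U.unop (genericPoint X) h.down s
          map_zero' := by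
            funext h
            exact map_zero _
          map_add' := fun s t => by
            funext h
            exact map_add _ _ _ }
     naturality := fun U V i => by
        ext s
        funext h
        exact TopCat.Presheaf.germ_res_apply X.presheaf i.unop (genericPoint X) h.down s }⟩

theorem toGen_app (U : X.Opens) (s : Γ(X, U)) (h : PLift (genericPoint X ∈ U)) :
    ((toGen X).hom.app (op U) s : PLift (genericPoint X ∈ U) → X.functionField) h =
      X.presheaf.germ U (genericPoint X) h.down s := rfl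

theorem mem_of_nonempty (U : X.Opens) (x : X) (hx : x ∈ U) : genericPoint X ∈ U :=
  ((genericPoint_spec X).mem_open_set_iff U.2).mpr ⟨x, trivial, hx⟩

theorem toGen_app_injective (U : X.Opens) : Function.Injective ((toGen X).hom.app (op U)) := by
  intro s t hst
  by_cases hU : ∃ x, x ∈ U
  · obtain ⟨x, hx⟩ := hU
    have hη := mem_of_nonempty X U x hx
    have := congrFun hst ⟨hη⟩
    exact germ_injective_of_isIntegral (X := X) (genericPoint X) hη this
  · have hU' : U = ⊥ := by
      ext x
      exact ⟨fun h => (hU ⟨x, h⟩).elim, fun h => h.elim⟩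
    subst hU'
    exact Subsingleton.elim (α := Γ(X, ⊥)) s t

instance : Mono (toGen X) := by
  have : ∀ U : (Opens X)ᵒᵖ, Mono ((toGen X).hom.app U) := fun U => by
    rw [AddCommGrpCat.mono_iff_injective]
    exact toGen_app_injective X U.unop
  have h2 : Mono (toGen X).hom := NatTrans.mono_of_mono_app _
  exact (Sheaf.Hom.mono_iff_presheaf_mono (Opens.grothendieckTopology X) AddCommGrpCat.{u} (toGen X)).mpr h2

/-- The kernel of `K(U) ⟶ (K/F)(U)` is the image of `F(U)`. -/
theorem exists_of_π_eq_zero {X : TopCat.{u}} {F K : CohTop.Ab X} (φ : F ⟶ K) [Mono φ] (U : Opens X)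
    (w : K.obj.obj (op U)) (hw : (cokernel.π φ).hom.app (op U) w = 0) :
    ∃ s : F.obj.obj (op U), φ.hom.app (op U) s = w := by
  let S : ShortComplex (CohTop.Ab X) := ShortComplex.mk φ (cokernel.π φ) (cokernel.condition φ)
  have hS : S.ShortExact :=
    { exact := ShortComplex.exact_cokernel φ
      mono_f := inferInstance
      epi_g := inferInstance }
  obtain ⟨y, hy⟩ := exact₂ hS 0 U ((H0 K U).symm w) (by
    apply (H0 S.X₃ U).injective
    rw [H0_map, map_zero]
    erw [AddEquiv.apply_symm_apply]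
    exact hw)
  refine ⟨H0 F U y, ?_⟩
  have := H0_map S.f U y
  rw [hy] at this
  erw [AddEquiv.apply_symm_apply] at this
  exact this.symm

theorem π_app_app {X : TopCat.{u}} {F K : CohTop.Ab X} (φ : F ⟶ K) (U : Opens X) (s : F.obj.obj (op U)) :
    (cokernel.π φ).hom.app (op U) (φ.hom.app (op U) s) = 0 := by
  rw [← ConcreteCategory.comp_apply, ← NatTrans.comp_app]
  have h2 : φ.hom ≫ (cokernel.π φ).hom = 0 := by
    rw [← ObjectProperty.FullSubcategory.comp_hom, cokernel.condition]
    rfl
  rw [h2]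
  rfl

/-- Constant sections. -/
def cst {X : TopCat.{u}} {η : X} {A : Type u} [AddCommGroup A] (U : Opens X) (a : A) :
    (genSheaf η A).obj.obj (op U) := fun _ => a

/-- **Cousin criterion**: on an integral compact scheme `H^1(X, O_X) = 0` as soon as every Cousin problem on a finite
affine cover has a solution. -/
theorem subsingleton_HH_one (X : Scheme.{u}) [IsIntegral X] [CompactSpace X]
    (h : ∀ (n : ℕ) (U : Fin n → X.Opens) (hη : ∀ i, genericPoint X ∈ U i), (∀ i, IsAffineOpen (U i)) → ⨆ i, U i = ⊤ →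
      ∀ f : Fin n → X.functionField,
        (∀ i j, ∃ s : Γ(X, U i ⊓ U j),
          X.presheaf.germ (U i ⊓ U j) (genericPoint X) ⟨hη i, hη j⟩ s = f i - f j) →
        ∃ g : X.functionField, ∀ i, ∃ s : Γ(X, U i), X.presheaf.germ (U i) (genericPoint X) (hη i) s = g - f i) :
    Subsingleton (Coh.HH X (Coh.structureModule X) 1) := by
  refine subsingleton_H_one (toGen X) fun t => ?_
  let Q := cokernel (toGen X)
  let p := cokernel.π (toGen X)
  -- local lifts
  have hloc : ∀ x : X, ∃ (W : X.Opens) (f : X.functionField), x ∈ W ∧ IsAffineOpen W ∧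
      p.hom.app (op W) (cst W f) = Q.obj.map (homOfLE (le_top : W ≤ ⊤)).op t := by
    intro x
    have hepi : Epi p := inferInstance
    have h1 := (TopCat.Sheaf.isLocallySurjective_iff_epi p).mpr hepi
    obtain ⟨V, hV, ⟨g, hg⟩, hxV⟩ := (TopCat.Presheaf.isLocallySurjective_iff (C := AddCommGrpCat.{u})
      (X := X.toPresheafedSpace.carrier) p.hom).mp h1 ⊤ t x trivial
    obtain ⟨W, hW, hxW, hWV⟩ := exists_isAffineOpen_mem_and_subset (U := V) hxV
    have hη := mem_of_nonempty X W x hxW
    refine ⟨W, g ⟨hWV hη⟩, hxW, hW, ?_⟩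
    have h2 : cst W (g ⟨hWV hη⟩) = (genSheaf (X := X) (genericPoint X) X.functionField).obj.map
        (homOfLE hWV).op g := by
      funext h
      rfl
    rw [h2]
    refine (NatTrans.naturality_apply p.hom (homOfLE hWV).op g).trans ?_
    rw [hg]
    refine (ConcreteCategory.comp_apply _ _ _).symm.trans ?_
    rw [← Functor.map_comp]
    rfl
  choose W f hxW hW hf using hloc
  obtain ⟨T, hT⟩ := CompactSpace.elim_nhds_subcover (fun x => (W x : Set X)) fun x => (W x).2.mem_nhds (hxW x)
  let e := T.equivFin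
  let U : Fin T.card → X.Opens := fun i => W (e.symm i)
  have hη : ∀ i, genericPoint X ∈ U i := fun i => mem_of_nonempty X _ _ (hxW _)
  have hU : ⨆ i, U i = ⊤ := by
    rw [eq_top_iff]
    intro x _
    have : x ∈ ⋃ y ∈ T, (W y : Set X) := by rw [hT]; trivial
    simp only [Set.mem_iUnion] at this
    obtain ⟨y, hy, hxy⟩ := this
    refine Opens.mem_iSup.mpr ⟨e ⟨y, hy⟩, ?_⟩
    change x ∈ W (e.symm (e ⟨y, hy⟩))
    rw [Equiv.symm_apply_apply]
    exact hxy
  have hres : ∀ (V V' : X.Opens) (hV : V' ≤ V) (a : X.functionField),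
      p.hom.app (op V') (cst V' a) = Q.obj.map (homOfLE hV).op (p.hom.app (op V) (cst V a)) := fun V V' hV a =>
    NatTrans.naturality_apply p.hom (homOfLE hV).op (cst (X := X.toPresheafedSpace.carrier) V a)
  have hadd : ∀ (V : X.Opens) (a b : X.functionField),
      p.hom.app (op V) (cst V (a - b)) = p.hom.app (op V) (cst V a) - p.hom.app (op V) (cst V b) := fun V a b =>
    map_sub (p.hom.app (op V)).hom (cst V a) (cst V b)
  obtain ⟨g, hg⟩ := h T.card U hη (fun i => hW _) hU (fun i => f (e.symm i)) (by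
    intro i j
    obtain ⟨s, hs⟩ := exists_of_π_eq_zero (toGen X) (U i ⊓ U j) (cst (U i ⊓ U j) (f (e.symm i) - f (e.symm j))) (by
      refine (hadd _ _ _).trans ?_
      rw [hres (U i) (U i ⊓ U j) inf_le_left, hres (U j) (U i ⊓ U j) inf_le_right, hf, hf, sub_eq_zero]
      refine ((ConcreteCategory.comp_apply _ _ _).symm.trans ?_).trans (ConcreteCategory.comp_apply _ _ _)
      rw [← Q.obj.map_comp, ← Q.obj.map_comp]
      rfl)
    exact ⟨s, congrFun hs ⟨⟨hη i, hη j⟩⟩⟩)
  refine ⟨cst ⊤ g, ?_⟩
  refine TopCat.Sheaf.eq_of_locally_eq' (C := AddCommGrpCat.{u})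
    (show TopCat.Sheaf AddCommGrpCat.{u} X.toPresheafedSpace.carrier from Q) U ⊤ (fun i => homOfLE le_top)
    hU.ge _ _ fun i => ?_
  obtain ⟨s, hs⟩ := hg i
  refine (hres ⊤ (U i) le_top g).symm.trans ?_
  rw [← hf, ← sub_eq_zero]
  refine (hadd _ _ _).symm.trans ?_
  refine Eq.trans (congrArg _ ?_) (π_app_app (toGen X) (U i) s)
  funext h
  exact hs.symm

end Schemes

end Groth.Agent.CurvesC.Cousin
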