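import Groth.Prelude
import Groth.Agent.CalgA.RegBasic
import Groth.Agent.CalgA.SerreLocal

/-!
# Two-dimensional regular local rings: divisorial part of an ideal

* `exists_eq_span_of_isPrime`: primes different from the maximal ideal are principal.
* `exists_eq_span_mul`: a nonzero ideal is a principal ideal times an ideal of finite colength.
-/

set_option autoImplicit false

universe u

open IsLocalRing

namespace Groth.Agent.CurvesC.GcdRed

/-- In a two-dimensional regular local ring every prime ideal different from the maximal ideal is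
principal. -/
theorem exists_eq_span_of_isPrime {A : Type u} [CommRing A] [IsRegularLocalRing A]
    (hdim : ringKrullDim A = 2) (p : Ideal A) [hp : p.IsPrime] (hpm : p ≠ maximalIdeal A) :
    ∃ f : A, p = Ideal.span {f} := by
  have hm : maximalIdeal A ≠ ⊥ := by
    intro h
    have h1 : IsField A := by
      rw [IsLocalRing.isField_iff_maximalIdeal_eq]; exact h
    have h2 : ringKrullDim A = 0 := by
      let _ := h1.toField
      exact ringKrullDim_eq_zero_of_field A
    rw [h2] at hdim
    exact absurd hdim (by norm_num)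
  obtain ⟨x, hx, hx2, hxp⟩ := Groth.Agent.CalgA.RegBasic.exists_notMem_sq_notMem_minimalPrimes
    (R := A) {p} (Set.finite_singleton p) (by rintro _ rfl; exact hp) (by rintro _ rfl; exact hpm) hm
  have hxp : x ∉ p := hxp p rfl
  obtain ⟨hreg, hd⟩ := Groth.Agent.CalgA.RegBasic.quotient_of_notMem_sq x hx hx2
  have hd1 : ringKrullDim (A ⧸ Ideal.span {x}) ≤ 1 := by
    have h1 : ringKrullDim (A ⧸ Ideal.span {x}) + 1 ≤ 1 + 1 := by
      rw [hd, hdim]; norm_num
    exact ENat.WithBot.add_le_add_one_right_iff.mp h1
  obtain ⟨-, hPIR⟩ := Groth.Agent.CalgA.SerreLocal.isPrincipalIdealRing_of_isRegularLocalRing hd1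
  obtain ⟨g, hg⟩ := hPIR.principal (p.map (Ideal.Quotient.mk (Ideal.span {x})))
  have hgmem : g ∈ p.map (Ideal.Quotient.mk (Ideal.span {x})) := by
    rw [hg]; exact Ideal.mem_span_singleton_self g
  obtain ⟨f, hf, hfg⟩ := (Ideal.mem_map_iff_of_surjective _ Ideal.Quotient.mk_surjective).1 hgmem
  refine ⟨f, le_antisymm ?_ ((Ideal.span_singleton_le_iff_mem _).2 hf)⟩
  refine Submodule.le_of_le_smul_of_le_jacobson_bot (I := maximalIdeal A)
    (IsNoetherian.noetherian p) (maximalIdeal_le_jacobson _) ?_
  intro a ha
  have h1 : Ideal.Quotient.mk (Ideal.span {x}) a ∈ Ideal.span {g} := by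
    have h2 := Ideal.mem_map_of_mem (Ideal.Quotient.mk (Ideal.span {x})) ha
    rw [hg] at h2
    exact h2
  obtain ⟨b', hb'⟩ := Ideal.mem_span_singleton'.mp h1
  obtain ⟨b, rfl⟩ := Ideal.Quotient.mk_surjective b'
  rw [← hfg, ← map_mul, Ideal.Quotient.eq, Ideal.mem_span_singleton'] at hb'
  obtain ⟨c, hc⟩ := hb'
  have hcp : c ∈ p := by
    have h3 : c * x ∈ p := by
      rw [hc]
      exact p.sub_mem (p.mul_mem_left b hf) ha
    exact (hp.mem_or_mem h3).resolve_right hxp
  have h4 : a = b * f - x * c := by
    rw [mul_comm x c, hc]; ring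
  rw [h4]
  refine Submodule.sub_mem _ (Submodule.mem_sup_left ?_) (Submodule.mem_sup_right ?_)
  · exact Ideal.mul_mem_left _ _ (Ideal.mem_span_singleton_self f)
  · exact Submodule.smul_mem_smul hx hcp

/-- A nonzero ideal of a two-dimensional regular local ring is the product of a principal ideal and
an ideal of finite colength. -/
theorem exists_eq_span_mul {A : Type u} [CommRing A] [IsRegularLocalRing A] (hdim : ringKrullDim A = 2)
    (J : Ideal A) (hJ : J ≠ ⊥) : ∃ (c : A) (J' : Ideal A), c ≠ 0 ∧ J = Ideal.span {c} * J' ∧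
      Module.length A (A ⧸ J') ≠ ⊤ := by
  have hdom := Groth.Agent.CalgA.RegBasic.isDomain A
  induction J using IsNoetherian.induction with
  | hgt J ih =>
    by_cases hfin : ∀ p : Ideal A, p.IsPrime → J ≤ p → p = maximalIdeal A
    · refine ⟨1, J, one_ne_zero, by simp, ?_⟩
      have h0 : Ring.KrullDimLE 0 (A ⧸ J) := Ring.krullDimLE_zero_iff.mpr fun q hq =>
        Ideal.isMaximal_of_isIntegral_of_isMaximal_comap (R := A) _ <| by
          have h1 := hfin (q.comap (algebraMap A (A ⧸ J))) (hq.comap _) (by
            intro a ha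
            rw [Ideal.mem_comap]
            have h2 : algebraMap A (A ⧸ J) a = 0 := Ideal.Quotient.eq_zero_iff_mem.2 ha
            rw [h2]
            exact q.zero_mem)
          rw [h1]
          exact maximalIdeal.isMaximal A
      have h1 : IsArtinianRing (A ⧸ J) := IsNoetherianRing.isArtinianRing_of_krullDimLE_zero
      have h2 : IsArtinian A (A ⧸ J) :=
        isArtinian_of_surjective_algebraMap (S := A) (R := A ⧸ J) Ideal.Quotient.mk_surjective
      rw [Module.length_ne_top_iff, isFiniteLength_iff_isNoetherian_isArtinian]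
      exact ⟨inferInstance, h2⟩
    · push Not at hfin
      obtain ⟨p, hp, hJp, hpm⟩ := hfin
      obtain ⟨f, rfl⟩ := exists_eq_span_of_isPrime hdim p hpm
      let J₁ : Ideal A := J.comap (LinearMap.mulLeft A f)
      have hJ1 : J = Ideal.span {f} * J₁ := by
        refine le_antisymm ?_ ?_
        · intro a ha
          obtain ⟨b, rfl⟩ := Ideal.mem_span_singleton'.mp (hJp ha)
          have hb : b ∈ J₁ := by
            change f * b ∈ J
            rwa [mul_comm]
          rw [mul_comm b f]
          exact Ideal.mul_mem_mul (Ideal.mem_span_singleton_self f) hb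
        · rw [Ideal.span_singleton_mul_le_iff]
          intro z hz
          exact hz
      have hlt : J < J₁ := by
        refine lt_of_le_of_ne (fun a ha => Ideal.mul_mem_left J f ha) ?_
        intro h
        apply hJ
        refine Submodule.eq_bot_of_le_smul_of_le_jacobson_bot (maximalIdeal A) J
          (IsNoetherian.noetherian J) ?_ (maximalIdeal_le_jacobson _)
        conv_lhs => rw [hJ1, ← h]
        exact Ideal.mul_mono_left (IsLocalRing.le_maximalIdeal hp.ne_top)
      obtain ⟨c, J', hc, hJ', hlen⟩ := ih J₁ hlt (ne_bot_of_gt hlt)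
      refine ⟨f * c, J', mul_ne_zero ?_ hc, ?_, hlen⟩
      · rintro rfl
        apply hJ
        rw [hJ1]
        simp
      · rw [hJ1, hJ', ← mul_assoc, Ideal.span_singleton_mul_span_singleton]

end Groth.Agent.CurvesC.GcdRed
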