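import Groth.Agent.CurvesC.ValInd
import Groth.Agent.CurvesC.GcdRed

/-!
# Cousin problems given by finitely generated algebras
-/

set_option autoImplicit false
universe u

open Polynomial IsLocalRing

namespace Groth.Agent.CurvesC.CousinAlg

open ValCousin QuadTr QuadLen ValSolve ValInd

section Comb

variable {K : Type u} [Field K] {σ : Type} [Fintype σ] (T : σ → Finset K)

/-- The index set. -/
abbrev Idx : Type u := {φ : (i : σ) → Option (T i) // ∃ i, φ i = none}

/-- The value of a coordinate. -/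
def val (i : σ) (o : Option (T i)) : K := o.elim 1 (fun t => (t : K))

/-- The family of products. -/
def bb (φ : (i : σ) → Option (T i)) : K := ∏ i, val T i (φ i)

theorem bb_update [DecidableEq σ] (φ : (i : σ) → Option (T i)) (j : σ) (o : Option (T j)) :
    bb T (Function.update φ j o) * val T j (φ j) = bb T φ * val T j o := by
  have h1 : bb T (Function.update φ j o) = ∏ i, Function.update (fun i => val T i (φ i)) j (val T j o) i :=
    Finset.prod_congr rfl fun i _ => Function.apply_update (fun i => val T i) φ j o i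
  rw [h1, Finset.prod_update_of_mem (Finset.mem_univ j), bb]
  rw [← Finset.mul_prod_erase Finset.univ (fun i => val T i (φ i)) (Finset.mem_univ j), Finset.sdiff_singleton_eq_erase]
  ring

theorem subset_of_gen [Nonempty σ] {V : ValuationSubring K} (hV : ∃ i, (T i : Set K) ⊆ V)
    {φ : Idx T} (hφ : Gen V (fun ψ : Idx T => bb T ψ.1) φ) (i : σ) (hi : φ.1 i = none) :
    (T i : Set K) ⊆ V := by
  classical
  obtain ⟨i1, hi1⟩ := hV
  by_cases hii : i1 = i
  · rwa [hii] at hi1
  intro τ hτ
  have hval : ∀ o, val T i1 o ∈ V := by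
    rintro (_ | t)
    · exact V.one_mem
    · exact hi1 t.2
  let φ' : Idx T := ⟨Function.update (Function.update φ.1 i (some ⟨τ, hτ⟩)) i1 none, i1, by simp⟩
  let e : Idx T := ⟨fun _ => none, i, rfl⟩
  have he : bb T e.1 = 1 := by simp [bb, val, e]
  have h0 : V.valuation (bb T φ.1) ≠ 0 := by
    intro h
    have := hφ e
    simp only [he, map_one, h] at this
    exact absurd this (not_le.mpr zero_lt_one)
  have h1 := bb_update T (Function.update φ.1 i (some ⟨τ, hτ⟩)) i1 none
  have h2 := bb_update T φ.1 i (some ⟨τ, hτ⟩)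
  rw [hi] at h2
  rw [Function.update_of_ne hii] at h1
  have h3 : bb T φ'.1 * val T i1 (φ.1 i1) = bb T φ.1 * τ := by
    have h4 : val T i none = 1 := rfl
    have h5 : val T i1 none = 1 := rfl
    have h6 : val T i (some ⟨τ, hτ⟩) = τ := rfl
    rw [h4, h6, mul_one] at h2
    rw [h5, mul_one] at h1
    rw [← h2]
    exact h1
  have h4 := congrArg V.valuation h3
  rw [map_mul, map_mul] at h4
  have h5 : V.valuation (bb T φ.1) * V.valuation τ ≤ V.valuation (bb T φ.1) := by
    rw [← h4]
    calc _ ≤ V.valuation (bb T φ.1) * 1 :=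
          mul_le_mul' (hφ φ') ((V.valuation_le_one_iff _).mpr (hval _))
      _ = _ := mul_one _
  have h6 : V.valuation τ ≤ 1 := by
    rwa [mul_le_iff_le_one_right (zero_lt_iff.mpr h0)] at h5
  exact (V.valuation_le_one_iff _).mp h6

end Comb

/-- Reduction of a finite family of fractions to an ideal of finite colength. -/
theorem exists_scale {K : Type u} [Field K] (A : Type u) [CommRing A] [IsRegularLocalRing A] [Algebra A K]
    [IsFractionRing A K] (hdim : ringKrullDim A = 2) {ι : Type u} [Finite ι] (b : ι → K) (hb : ∃ i, b i ≠ 0) :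
    ∃ (e : K) (a : ι → A), e ≠ 0 ∧ (∀ i, algebraMap A K (a i) = e * b i) ∧
      Module.length A (A ⧸ Ideal.span (Set.range a)) ≠ ⊤ := by
  have hinj : Function.Injective (algebraMap A K) := FaithfulSMul.algebraMap_injective A K
  obtain ⟨d, hd⟩ := IsLocalization.exist_integer_multiples_of_finite (nonZeroDivisors A) b
  choose a0 ha0 using hd
  have hd0 : algebraMap A K d ≠ 0 := IsFractionRing.to_map_ne_zero_of_mem_nonZeroDivisors d.2
  have hJ : Ideal.span (Set.range a0) ≠ ⊥ := by
    obtain ⟨i, hi⟩ := hb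
    intro h
    have h1 : a0 i ∈ Ideal.span (Set.range a0) := Ideal.subset_span ⟨i, rfl⟩
    rw [h, Ideal.mem_bot] at h1
    have h2 := ha0 i
    rw [h1, map_zero, Algebra.smul_def] at h2
    exact mul_ne_zero hd0 hi h2.symm
  obtain ⟨c, J', hc, hJc, hfin⟩ := GcdRed.exists_eq_span_mul hdim _ hJ
  have hc0 : algebraMap A K c ≠ 0 := by rwa [Ne, FaithfulSMul.algebraMap_eq_zero_iff]
  have h1 : ∀ i, ∃ a' ∈ J', c * a' = a0 i := fun i => by
    have : a0 i ∈ Ideal.span {c} * J' := hJc ▸ Ideal.subset_span ⟨i, rfl⟩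
    exact Ideal.mem_span_singleton_mul.mp this
  choose a ha hca using h1
  have hJ' : J' = Ideal.span (Set.range a) := by
    refine le_antisymm (fun z hz => ?_) ?_
    · have h2 : c * z ∈ Ideal.span (Set.range a0) := by
        rw [hJc]
        exact Ideal.mem_span_singleton_mul.mpr ⟨z, hz, rfl⟩
      have h3 : Ideal.span (Set.range a0) ≤ Ideal.span {c} * Ideal.span (Set.range a) := by
        rw [Ideal.span_le]
        rintro _ ⟨i, rfl⟩
        exact Ideal.mem_span_singleton_mul.mpr ⟨a i, Ideal.subset_span ⟨i, rfl⟩, hca i⟩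
      obtain ⟨w, hw, hcw⟩ := Ideal.mem_span_singleton_mul.mp (h3 h2)
      have hdom := RegNormal.isDomain A
      rwa [mul_left_cancel₀ hc hcw] at hw
    · rw [Ideal.span_le]
      rintro _ ⟨i, rfl⟩
      exact ha i
  refine ⟨algebraMap A K d / algebraMap A K c, a, div_ne_zero hd0 hc0, fun i => ?_, hJ' ▸ hfin⟩
  have h2 := ha0 i
  rw [Algebra.smul_def, ← hca i, map_mul] at h2
  rw [div_mul_eq_mul_div, eq_div_iff hc0, mul_comm, h2]

/-- Cousin problems over a two-dimensional regular local ring, for a cover of the Riemann-Zariski space by sets of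
the form `{V | T i ⊆ V}`, are solvable. -/
theorem cousin_solvable {K : Type u} [Field K] (A : Type u) [CommRing A] [IsRegularLocalRing A] [Algebra A K]
    [IsFractionRing A K] (hdim : ringKrullDim A = 2) {σ : Type} [Finite σ] (T : σ → Finset K) (f : σ → K)
    (hcov : ∀ V : ValuationSubring K, Contains A V → ∃ i, (T i : Set K) ⊆ V)
    (hf : ∀ V : ValuationSubring K, Contains A V → ∀ i j, (T i : Set K) ⊆ V → (T j : Set K) ⊆ V → f i - f j ∈ V) :
    ∃ g, ∀ V : ValuationSubring K, Contains A V → ∀ i, (T i : Set K) ⊆ V → g - f i ∈ V := by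
  classical
  cases nonempty_fintype σ
  have hσ : Nonempty σ := ⟨(hcov ⊤ (fun _ => trivial)).choose⟩
  let i0 : σ := hσ.some
  let b : Idx T → K := fun ψ => bb T ψ.1
  have hb : ∃ φ, b φ ≠ 0 := ⟨⟨fun _ => none, i0, rfl⟩, by simp [b, bb, val]⟩
  obtain ⟨e, a, he, ha, hfin⟩ := exists_scale A hdim b hb
  obtain ⟨n, hn⟩ := ENat.ne_top_iff_exists.mp hfin
  have hgen : ∀ V : ValuationSubring K, ∀ φ, Gen V (fun l => algebraMap A K (a l)) φ → Gen V b φ := by
    intro V φ h
    simp only [ha] at h
    exact Gen.unscale he h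
  obtain ⟨g, hg⟩ := exists_good_of_length_le n A hdim a (fun φ => f φ.2.choose) hn.symm.le
    (fun V hV i j hi hj => hf V hV _ _ (subset_of_gen T (hcov V hV) (hgen V i hi) _ i.2.choose_spec)
      (subset_of_gen T (hcov V hV) (hgen V j hj) _ j.2.choose_spec))
  refine ⟨g, fun V hV i hi => ?_⟩
  have hne : Nonempty (Idx T) := ⟨⟨fun _ => none, i0, rfl⟩⟩
  obtain ⟨φ, hφ⟩ := exists_gen V (fun l => algebraMap A K (a l))
  have h1 := hg V hV φ hφ
  have h2 := hf V hV _ _ (subset_of_gen T (hcov V hV) (hgen V φ hφ) _ φ.2.choose_spec) hi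
  have h3 := add_mem h1 h2
  rwa [sub_add_sub_cancel] at h3

end Groth.Agent.CurvesC.CousinAlg
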