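import Groth.Agent.CurvesC.Cousin

/-!
# Converse Cousin criterion

If `X` is an integral scheme with `H^1(X, O_X) = 0`, then every Cousin problem on a cover of `X` has a solution.
-/

set_option autoImplicit false
universe u
open CategoryTheory CategoryTheory.Limits AlgebraicGeometry TopologicalSpace Opposite

namespace Groth.Agent.CurvesC.CousinConv

open Groth.Agent.CohqA.SheafH Groth.Agent.CurvesC.Cousin

/-- Sections of a cokernel lift if `H^1(F) = 0`. -/
theorem exists_lift_top {X : TopCat.{u}} {F K : CohTop.Ab X} (φ : F ⟶ K) [Mono φ]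
    (h : Subsingleton (Sheaf.H.{u} F 1)) (t : (cokernel φ).obj.obj (op (⊤ : Opens X))) :
    ∃ s : K.obj.obj (op (⊤ : Opens X)), (cokernel.π φ).hom.app (op ⊤) s = t := by
  let S : ShortComplex (CohTop.Ab X) := ShortComplex.mk φ (cokernel.π φ) (cokernel.condition φ)
  have hS : S.ShortExact :=
    { exact := ShortComplex.exact_cokernel φ
      mono_f := inferInstance
      epi_g := inferInstance }
  have h1 : Subsingleton (HU S.X₁ 1 (⊤ : Opens X)) :=
    (HEquivHU F 1 (isTerminalTop (α := Opens X))).symm.toEquiv.subsingleton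
  exact exists_lift_of_H1_eq_zero hS ⊤ t

/-- **Converse Cousin criterion.** -/
theorem exists_of_subsingleton_HH_one (X : Scheme.{u}) [IsIntegral X]
    (h : Subsingleton (Coh.HH X (Coh.structureModule X) 1)) {ι : Type*} (U : ι → X.Opens)
    (hη : ∀ i, genericPoint X ∈ U i) (hU : ⨆ i, U i = ⊤) (f : ι → X.functionField)
    (hf : ∀ i j, ∃ s : Γ(X, U i ⊓ U j),
      X.presheaf.germ (U i ⊓ U j) (genericPoint X) ⟨hη i, hη j⟩ s = f i - f j) :
    ∃ g : X.functionField, ∀ i, ∃ s : Γ(X, U i),
      X.presheaf.germ (U i) (genericPoint X) (hη i) s = g - f i := by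
  let Q := cokernel (toGen X)
  let p := cokernel.π (toGen X)
  have hres : ∀ (V V' : X.Opens) (hV : V' ≤ V) (a : X.functionField),
      p.hom.app (op V') (cst V' a) = Q.obj.map (homOfLE hV).op (p.hom.app (op V) (cst V a)) := fun V V' hV a =>
    NatTrans.naturality_apply p.hom (homOfLE hV).op (cst (X := X.toPresheafedSpace.carrier) V a)
  have hadd : ∀ (V : X.Opens) (a b : X.functionField),
      p.hom.app (op V) (cst V (a - b)) = p.hom.app (op V) (cst V a) - p.hom.app (op V) (cst V b) := fun V a b =>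
    map_sub (p.hom.app (op V)).hom (cst V a) (cst V b)
  obtain ⟨t, ht, -⟩ := TopCat.Sheaf.existsUnique_gluing' (C := AddCommGrpCat.{u})
    (show TopCat.Sheaf AddCommGrpCat.{u} X.toPresheafedSpace.carrier from Q) U ⊤ (fun i => homOfLE le_top)
    hU.ge (fun i => p.hom.app (op (U i)) (cst (U i) (f i))) (by
      intro i j
      obtain ⟨s, hs⟩ := hf i j
      refine ((hres (U i) (U i ⊓ U j) inf_le_left (f i)).symm.trans ?_).trans
        (hres (U j) (U i ⊓ U j) inf_le_right (f j))
      rw [← sub_eq_zero]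
      refine (hadd _ _ _).symm.trans ?_
      refine Eq.trans (congrArg _ ?_) (π_app_app (toGen X) (U i ⊓ U j) s)
      funext h
      exact hs.symm)
  obtain ⟨s, hs⟩ := exists_lift_top (toGen X) h t
  refine ⟨s ⟨trivial⟩, fun i => ?_⟩
  have hs' : s = cst ⊤ (s ⟨trivial⟩) := by
    funext h
    rfl
  obtain ⟨r, hr⟩ := exists_of_π_eq_zero (toGen X) (U i) (cst (U i) (s ⟨trivial⟩ - f i)) (by
    refine (hadd _ _ _).trans ?_
    rw [sub_eq_zero]
    refine (hres ⊤ (U i) le_top (s ⟨trivial⟩)).trans ?_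
    rw [← hs']
    refine (congrArg _ hs).trans ?_
    exact ht i)
  exact ⟨r, congrFun hr ⟨hη i⟩⟩

end Groth.Agent.CurvesC.CousinConv
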