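import Groth.Agent.CurvesC.ValCousin
import Mathlib.RingTheory.Ideal.Maximal

/-!
# Cousin problems `(F i, f i)` on the valuation rings containing a ring, and localization
-/

set_option autoImplicit false
universe u v

namespace Groth.Agent.CurvesC.CousinT

open ValCousin

variable {K : Type u} [Field K]

/-- `g` solves the Cousin problem `(F, f)` for all valuation rings in `W`. -/
def Good {σ : Type*} (W : Set (ValuationSubring K)) (F : σ → Set K) (f : σ → K) (g : K) : Prop :=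
  ∀ V ∈ W, ∀ i, F i ⊆ V → g - f i ∈ V

/-- The valuation rings containing `B` in which `e` is invertible. -/
def DD (B : Type v) [CommRing B] [Algebra B K] (e : B) : Set (ValuationSubring K) :=
  {V | Contains B V ∧ (algebraMap B K e)⁻¹ ∈ V}

/-- The valuation rings containing `B_p`. -/
def LL {B : Type v} [CommRing B] [Algebra B K] (p : Ideal B) : Set (ValuationSubring K) :=
  {V | Contains B V ∧ ∀ s ∉ p, (algebraMap B K s)⁻¹ ∈ V}

theorem Good.mono {σ : Type*} {W W' : Set (ValuationSubring K)} {F : σ → Set K} {f : σ → K} {g : K}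
    (h : Good W F f g) (hW : W' ⊆ W) : Good W' F f g := fun V hV => h V (hW hV)

variable {B : Type v} [CommRing B] [Algebra B K] (hinj : Function.Injective (algebraMap B K))

include hinj

theorem mem_DD_mul {s t : B} (hs : s ≠ 0) (ht : t ≠ 0) {V : ValuationSubring K} :
    V ∈ DD (K := K) B (s * t) ↔ V ∈ DD (K := K) B s ∧ V ∈ DD (K := K) B t := by
  constructor
  · intro h
    obtain ⟨h1, h2⟩ := inv_mem_of_inv_mul_mem hinj hs ht h.1 h.2
    exact ⟨⟨h.1, h1⟩, ⟨h.1, h2⟩⟩
  · rintro ⟨h1, h2⟩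
    refine ⟨h1.1, ?_⟩
    rw [map_mul, mul_inv]
    exact V.mul_mem _ _ h1.2 h2.2

/-- Spreading out finitely many conditions. -/
theorem exists_notMem_forall {ι : Type*} [Finite ι] (p : Ideal B) [hp : p.IsPrime] (F : ι → Set K) (z : ι → K)
    (h : ∀ i, ∀ V ∈ LL (K := K) p, F i ⊆ V → z i ∈ V) :
    ∃ s ∉ p, ∀ i, ∀ V ∈ DD (K := K) B s, F i ⊆ V → z i ∈ V := by
  classical
  cases nonempty_fintype ι
  have h1 : ∀ i, ∃ s ∉ p, ∀ V : ValuationSubring K, Contains B V → (algebraMap B K s)⁻¹ ∈ V → F i ⊆ V →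
      z i ∈ V := fun i => exists_notMem_of_localization hinj p (F i) (fun V hV hV' hF => h i V ⟨hV, hV'⟩ hF)
  choose S hS hSV using h1
  have hprod : ∀ T : Finset ι, (∏ k ∈ T, S k) ∉ p := by
    intro T
    rw [hp.prod_mem_iff]
    rintro ⟨k, _, hk⟩
    exact hS k hk
  refine ⟨∏ k, S k, hprod _, fun i V hV hF => hSV i V hV.1 ?_ hF⟩
  have h2 := hV.2
  rw [← Finset.mul_prod_erase _ _ (Finset.mem_univ i)] at h2
  exact (inv_mem_of_inv_mul_mem hinj (ne_zero_of_notMem (hS i)) (ne_zero_of_notMem (hprod _)) hV.1 h2).1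

/-- Passage from local to global on `D(e)`. -/
theorem exists_good_of_local (hB : IC (K := K) B) {σ : Type*} [Finite σ]
    (F : σ → Set K) (f : σ → K) {e : B} (he : e ≠ 0) (hcov : ∀ V ∈ DD (K := K) B e, ∃ i, F i ⊆ V)
    (h : ∀ p : Ideal B, p.IsPrime → e ∉ p → ∃ g, Good (LL (K := K) p) F f g) :
    ∃ g, Good (DD (K := K) B e) F f g := by
  classical
  let S : Set B := {s | ∃ g, Good (DD (K := K) B s) F f g}
  have hrad : e ∈ (Ideal.span S).radical := by
    by_contra hne
    rw [Ideal.radical_eq_sInf, Submodule.mem_sInf] at hne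
    push Not at hne
    obtain ⟨p, ⟨hle, hpp⟩, hep⟩ := hne
    obtain ⟨g, hg⟩ := h p hpp hep
    obtain ⟨s, hs, hs'⟩ := exists_notMem_forall hinj p F (fun i => g - f i) (fun i V hV hF => hg V hV i hF)
    exact hs (hle (Ideal.subset_span ⟨g, fun V hV i hF => hs' i V hV hF⟩))
  by_cases h0 : (0 : B) ∈ S
  · obtain ⟨g, hg⟩ := h0
    exact ⟨g, fun V hV i hi => hg V ⟨hV.1, by rw [map_zero, inv_zero]; exact V.zero_mem⟩ i hi⟩
  obtain ⟨m, hm⟩ := hrad
  obtain ⟨T, hTS, hT⟩ := Submodule.mem_span_finite_of_mem_span hm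
  have hradT : e ∈ (Ideal.span (T : Set B)).radical := ⟨m, hT⟩
  have hTne : ∀ s : T, s.1 ≠ 0 := fun s hs => h0 (hs ▸ hTS s.2)
  have hTne' : ∀ s : T, algebraMap B K s.1 ≠ 0 := fun s => (map_ne_zero_iff _ hinj).mpr (hTne s)
  have he' : algebraMap B K e ≠ 0 := (map_ne_zero_iff _ hinj).mpr he
  have hmul : ∀ {a b : B}, a ≠ 0 → b ≠ 0 → a * b ≠ 0 := fun {a b} ha hb hab => by
    have := congrArg (algebraMap B K) hab
    rw [map_mul, map_zero] at this
    exact (mul_ne_zero ((map_ne_zero_iff _ hinj).mpr ha) ((map_ne_zero_iff _ hinj).mpr hb)) this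
  choose g hg using fun s : T => hTS s.2
  have hpair : ∀ s t : T, ∃ (n : ℕ) (b : B), algebraMap B K (s.1 * t.1 * e) ^ n * (g s - g t) = algebraMap B K b := by
    intro s t
    refine exists_pow_mul_eq hB ?_ (fun V hV hV' => ?_)
    · rw [map_mul, map_mul]
      exact mul_ne_zero (mul_ne_zero (hTne' s) (hTne' t)) he'
    · obtain ⟨h1, h2⟩ := (mem_DD_mul hinj (hmul (hTne s) (hTne t)) he).mp ⟨hV, hV'⟩
      obtain ⟨h3, h4⟩ := (mem_DD_mul hinj (hTne s) (hTne t)).mp h1
      obtain ⟨i, hi⟩ := hcov V h2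
      have := sub_mem (hg s V h3 i hi) (hg t V h4 i hi)
      simpa using this
  choose n b hnb using hpair
  let N := Finset.univ.sup (fun p : T × T => n p.1 p.2)
  have hN : ∀ s t : T, ∃ b' : B, algebraMap B K (s.1 * t.1 * e) ^ N * (g s - g t) = algebraMap B K b' := by
    intro s t
    have hle : n s t ≤ N := Finset.le_sup (f := fun p : T × T => n p.1 p.2) (Finset.mem_univ (s, t))
    refine ⟨(s.1 * t.1 * e) ^ (N - n s t) * b s t, ?_⟩
    calc algebraMap B K (s.1 * t.1 * e) ^ N * (g s - g t)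
        = algebraMap B K (s.1 * t.1 * e) ^ (N - n s t) * (algebraMap B K (s.1 * t.1 * e) ^ n s t * (g s - g t)) := by
          rw [← mul_assoc, ← pow_add, Nat.sub_add_cancel hle]
      _ = algebraMap B K ((s.1 * t.1 * e) ^ (N - n s t)) * algebraMap B K (b s t) := by
          rw [hnb s t, map_pow]
      _ = algebraMap B K ((s.1 * t.1 * e) ^ (N - n s t) * b s t) := (map_mul _ _ _).symm
  have hradN : e ∈ (Ideal.span ((fun x : B => x ^ N) '' (T : Set B))).radical := by
    rw [Ideal.radical_eq_sInf, Submodule.mem_sInf]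
    rintro q ⟨hq, hqp⟩
    have h1 : Ideal.span (T : Set B) ≤ q := by
      rw [Ideal.span_le]
      intro x hx
      exact hqp.mem_of_pow_mem N (hq (Ideal.subset_span ⟨x, hx, rfl⟩))
    exact hqp.radical_le_iff.mpr h1 hradT
  obtain ⟨M, hM⟩ := hradN
  have hsum : ∃ c : T → B, ∑ s : T, c s * s.1 ^ N = e ^ M := by
    have h2 : ((fun x : B => x ^ N) '' (T : Set B)) = Set.range (fun s : T => s.1 ^ N) := by
      ext x; simp
    rw [h2] at hM
    exact (Ideal.mem_span_range_iff_exists_fun).mp hM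
  obtain ⟨c, hc⟩ := hsum
  have hc' : ∑ s : T, (algebraMap B K e)⁻¹ ^ M * algebraMap B K (c s * s.1 ^ N) = 1 := by
    rw [← Finset.mul_sum, ← map_sum, hc, map_pow, ← mul_pow, inv_mul_cancel₀ he', one_pow]
  refine ⟨∑ s : T, (algebraMap B K e)⁻¹ ^ M * algebraMap B K (c s * s.1 ^ N) * g s, fun V hV i hi => ?_⟩
  have hex : ∃ t : T, (algebraMap B K t.1)⁻¹ ∈ V := by
    by_contra! hcon
    let φ : B →+* V := (algebraMap B K).codRestrict V.toSubring hV.1
    have h1 : Ideal.span (T : Set B) ≤ (IsLocalRing.maximalIdeal V).comap φ := by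
      rw [Ideal.span_le]
      intro t ht
      rw [SetLike.mem_coe, Ideal.mem_comap, IsLocalRing.mem_maximalIdeal, mem_nonunits_iff]
      intro hu
      refine hcon ⟨t, ht⟩ ?_
      obtain ⟨w, hw⟩ := hu
      have h3 : (algebraMap B K t)⁻¹ = ((w⁻¹ : Vˣ) : V) := by
        refine inv_eq_of_mul_eq_one_right ?_
        have h4 : (algebraMap B K t) = ((w : V) : K) := by rw [hw]; rfl
        rw [h4]
        exact congrArg Subtype.val w.mul_inv
      change (algebraMap B K t)⁻¹ ∈ V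
      rw [h3]
      exact ((w⁻¹ : Vˣ) : V).2
    have h2 : e ∈ (IsLocalRing.maximalIdeal V).comap φ :=
      (Ideal.IsPrime.radical_le_iff inferInstance).mpr h1 hradT
    rw [Ideal.mem_comap, IsLocalRing.mem_maximalIdeal, mem_nonunits_iff] at h2
    refine h2 (IsUnit.of_mul_eq_one ⟨(algebraMap B K e)⁻¹, hV.2⟩ ?_)
    exact Subtype.ext (mul_inv_cancel₀ he')
  obtain ⟨t, htV⟩ := hex
  have hgt := hg t V ⟨hV.1, htV⟩ i hi
  have hdiff : (∑ s : T, (algebraMap B K e)⁻¹ ^ M * algebraMap B K (c s * s.1 ^ N) * g s) - g t ∈ V := by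
    have h2 : (∑ s : T, (algebraMap B K e)⁻¹ ^ M * algebraMap B K (c s * s.1 ^ N) * g s) - g t =
        ∑ s : T, (algebraMap B K e)⁻¹ ^ M * algebraMap B K (c s * s.1 ^ N) * (g s - g t) := by
      simp only [mul_sub, Finset.sum_sub_distrib, ← Finset.sum_mul, hc', one_mul]
    rw [h2]
    refine sum_mem fun s _ => ?_
    obtain ⟨b', hb'⟩ := hN s t
    have h3 : (algebraMap B K e)⁻¹ ^ M * algebraMap B K (c s * s.1 ^ N) * (g s - g t) =
        (algebraMap B K e)⁻¹ ^ M * (algebraMap B K (c s) * ((algebraMap B K t.1)⁻¹ ^ N *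
          ((algebraMap B K e)⁻¹ ^ N * algebraMap B K b'))) := by
      rw [← hb', map_mul, map_mul, map_mul, map_pow, mul_pow, mul_pow]
      have := hTne' t
      simp only [inv_pow]
      field_simp
    rw [h3]
    exact V.mul_mem _ _ (pow_mem hV.2 M) (V.mul_mem _ _ (hV.1 _) (V.mul_mem _ _ (pow_mem htV N)
      (V.mul_mem _ _ (pow_mem hV.2 N) (hV.1 _))))
  have := V.add_mem _ _ hdiff hgt
  simpa using this

end Groth.Agent.CurvesC.CousinT
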