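import Groth.Prelude.Def_Curv2
import Groth.Agent.CurvesC.CurveNum
import Groth.Agent.CurvesA.HHMap

/-!
# Invariance of the degree under isomorphisms
-/

set_option autoImplicit false
universe u
open CategoryTheory CategoryTheory.Limits AlgebraicGeometry TopologicalSpace Opposite

namespace Groth.Agent.CurvesC.DegIso

section PushIso

variable {X Y : Scheme.{u}}

/-- Push forward along an isomorphism is an equivalence. -/
theorem isEquivalence_push (e : X ≅ Y) : (Scheme.Modules.pushforward e.hom).IsEquivalence := by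
  have h1 : Scheme.Modules.pushforward e.inv ⋙ Scheme.Modules.pushforward e.hom ≅ 𝟭 _ :=
    Scheme.Modules.pushforwardComp e.inv e.hom ≪≫ Scheme.Modules.pushforwardCongr e.inv_hom_id ≪≫
      Scheme.Modules.pushforwardId Y
  have h2 : Scheme.Modules.pushforward e.hom ⋙ Scheme.Modules.pushforward e.inv ≅ 𝟭 _ :=
    Scheme.Modules.pushforwardComp e.hom e.inv ≪≫ Scheme.Modules.pushforwardCongr e.hom_inv_id ≪≫
      Scheme.Modules.pushforwardId X
  exact (CategoryTheory.Equivalence.mk (Scheme.Modules.pushforward e.hom) (Scheme.Modules.pushforward e.inv)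
    h2.symm h1).isEquivalence_functor

/-- `M ≅ e_* e^* M`. -/
noncomputable def unitIso (e : X ≅ Y) (M : Y.Modules) :
    M ≅ (Scheme.Modules.pushforward e.hom).obj ((Scheme.Modules.pullback e.hom).obj M) := by
  have := isEquivalence_push e
  have : (Scheme.Modules.pullback e.hom).IsEquivalence :=
    (Scheme.Modules.pullbackPushforwardAdjunction e.hom).isEquivalence_left_of_isEquivalence_right
  exact asIso ((Scheme.Modules.pullbackPushforwardAdjunction e.hom).unit.app M)

end PushIso


section Numbers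

variable (k : Type u) [Field k]

theorem finrank_congr {X : Scheme.{u}} [X.Over (Spec (CommRingCat.of k))] {M N : X.Modules} (i : M ≅ N) (n : ℕ) :
    Module.finrank k (Coh.HH X M n) = Module.finrank k (Coh.HH X N n) :=
  (CurvesA.HHMap.equivOver k i n).finrank_eq

theorem euler_congr {X : Scheme.{u}} [X.Over (Spec (CommRingCat.of k))] {M N : X.Modules} (i : M ≅ N) :
    Curv2.euler k X M = Curv2.euler k X N := by
  unfold Curv2.euler
  exact finsum_congr fun n => by rw [finrank_congr k i n]

theorem deg_congr {X : Scheme.{u}} [X.Over (Spec (CommRingCat.of k))] {M N : X.Modules} (i : M ≅ N) (n : ℕ) :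
    Curv2.deg k X M n = Curv2.deg k X N n := by
  unfold Curv2.deg
  rw [euler_congr k i]

variable {Z X : Scheme.{u}} [Z.Over (Spec (CommRingCat.of k))] [X.Over (Spec (CommRingCat.of k))]

theorem finrank_push (i : Z ⟶ X) [IsClosedImmersion i]
    (hi : i ≫ (X ↘ Spec (CommRingCat.of k)) = Z ↘ Spec (CommRingCat.of k)) (M : Z.Modules) (n : ℕ) :
    Module.finrank k (Coh.HH X ((Scheme.Modules.pushforward i).obj M) n) = Module.finrank k (Coh.HH Z M n) :=
  (CurveNum.hhPushₗ k i hi M n).symm.finrank_eq

theorem euler_push (i : Z ⟶ X) [IsClosedImmersion i]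
    (hi : i ≫ (X ↘ Spec (CommRingCat.of k)) = Z ↘ Spec (CommRingCat.of k)) (M : Z.Modules) :
    Curv2.euler k X ((Scheme.Modules.pushforward i).obj M) = Curv2.euler k Z M := by
  unfold Curv2.euler
  exact finsum_congr fun n => by rw [finrank_push k i hi M n]

theorem euler_pullback_iso (e : Z ≅ X)
    (he : e.hom ≫ (X ↘ Spec (CommRingCat.of k)) = Z ↘ Spec (CommRingCat.of k)) (M : X.Modules) :
    Curv2.euler k Z ((Scheme.Modules.pullback e.hom).obj M) = Curv2.euler k X M := by
  rw [← euler_push k e.hom he, ← euler_congr k (unitIso e M)]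

theorem deg_pullback_iso (e : Z ≅ X)
    (he : e.hom ≫ (X ↘ Spec (CommRingCat.of k)) = Z ↘ Spec (CommRingCat.of k)) (M : X.Modules) (n : ℕ) :
    Curv2.deg k Z ((Scheme.Modules.pullback e.hom).obj M) n = Curv2.deg k X M n := by
  unfold Curv2.deg
  rw [euler_pullback_iso k e he, ← euler_pullback_iso k e he (Coh.structureModule X),
    euler_congr k (CurvesA.HHMap.pullbackUnit e.hom)]

/-- The degree of the restriction of a module to a closed subscheme only depends on the subscheme. -/
theorem deg_restrict {Z' : Scheme.{u}} [Z'.Over (Spec (CommRingCat.of k))] (i : Z ⟶ X) (i' : Z' ⟶ X)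
    (hi : i ≫ (X ↘ Spec (CommRingCat.of k)) = Z ↘ Spec (CommRingCat.of k))
    (hi' : i' ≫ (X ↘ Spec (CommRingCat.of k)) = Z' ↘ Spec (CommRingCat.of k))
    (e : Z ≅ Z') (he : e.hom ≫ i' = i) (M : X.Modules) (n : ℕ) :
    Curv2.deg k Z ((Scheme.Modules.pullback i).obj M) n = Curv2.deg k Z' ((Scheme.Modules.pullback i').obj M) n := by
  subst he
  have h1 : e.hom ≫ (Z' ↘ Spec (CommRingCat.of k)) = Z ↘ Spec (CommRingCat.of k) := by
    rw [← hi', ← hi, Category.assoc]
  rw [← deg_pullback_iso k e h1]
  exact deg_congr k ((Scheme.Modules.pullbackComp e.hom i').symm.app M) n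

end Numbers

/-- Restriction in two steps. -/
theorem deg_restrict_restrict (k : Type u) [Field k] {Z' Z X : Scheme.{u}} [Z'.Over (Spec (CommRingCat.of k))]
    (i : Z ⟶ X) (j : Z' ⟶ Z) (M : X.Modules) (n : ℕ) :
    Curv2.deg k Z' ((Scheme.Modules.pullback j).obj ((Scheme.Modules.pullback i).obj M)) n =
      Curv2.deg k Z' ((Scheme.Modules.pullback (j ≫ i)).obj M) n :=
  deg_congr k ((Scheme.Modules.pullbackComp j i).app M) n

end Groth.Agent.CurvesC.DegIso
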