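import Mathlib.Algebra.Homology.DerivedCategory.TStructure
import Mathlib.Algebra.Homology.DerivedCategory.FullyFaithful
import Mathlib.CategoryTheory.Triangulated.Yoneda

/-!
# Morphisms between objects of a derived category concentrated in complementary degrees
-/

set_option autoImplicit false
universe w v u

open CategoryTheory CategoryTheory.Limits Pretriangulated DerivedCategory

namespace Groth.Agent.CurvesC.DerHom

variable {A : Type u} [Category.{v} A] [Abelian A] [HasDerivedCategory.{w} A]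

/-- Morphisms from degrees `≤ n` to degrees `≥ m`, `n < m`, are zero. -/
theorem zero_of_le_ge {K T : DerivedCategory A} (n m : ℤ) (h : n < m) [K.IsLE n] [T.IsGE m]
    (f : K ⟶ T) : f = 0 :=
  TStructure.t.zero f n m h

/-- A map between single objects in the same degree is zero as soon as it is zero on cohomology. -/
theorem single_eq_zero {X Y : A} (n : ℤ) (f : (singleFunctor A n).obj X ⟶ (singleFunctor A n).obj Y)
    (h : (homologyFunctor A n).map f = 0) : f = 0 := by
  obtain ⟨g, rfl⟩ := (singleFunctor A n).map_surjective f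
  have h1 := (singleFunctorCompHomologyFunctorIso A n).hom.naturality g
  have h2 : g = 0 := by
    have h3 : (singleFunctor A n ⋙ homologyFunctor A n).map g = 0 := h
    rw [h3, zero_comp] at h1
    have h4 := (cancel_epi ((singleFunctorCompHomologyFunctorIso A n).hom.app X)).1
      (h1.symm.trans comp_zero.symm)
    exact h4
  rw [h2, Functor.map_zero]

/-- A map between objects concentrated in degree `n` is zero as soon as it is zero on cohomology. -/
theorem concentrated_eq_zero {K T : DerivedCategory A} (n : ℤ) [K.IsLE n] [K.IsGE n] [T.IsLE n] [T.IsGE n]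
    (f : K ⟶ T) (h : (homologyFunctor A n).map f = 0) : f = 0 := by
  obtain ⟨X, ⟨e⟩⟩ := exists_iso_singleFunctor_obj_of_isGE_of_isLE K n
  obtain ⟨Y, ⟨e'⟩⟩ := exists_iso_singleFunctor_obj_of_isGE_of_isLE T n
  have h1 : e.inv ≫ f ≫ e'.hom = 0 := by
    apply single_eq_zero
    rw [Functor.map_comp, Functor.map_comp, h, zero_comp, comp_zero]
  rw [← cancel_epi e.inv, ← cancel_mono e'.hom, Category.assoc, h1, comp_zero, zero_comp]

/-- Truncation triangle. -/
theorem exists_trunc (K : DerivedCategory A) (n : ℤ) :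
    ∃ (X Y : DerivedCategory A) (_ : X.IsLE n) (_ : Y.IsGE (n + 1)) (f : X ⟶ K) (g : K ⟶ Y)
      (h : Y ⟶ X⟦(1 : ℤ)⟧), Triangle.mk f g h ∈ distTriang (DerivedCategory A) := by
  obtain ⟨X, Y, hX, hY, f, g, h, hT⟩ :=
    DerivedCategory.TStructure.t.exists_triangle K n (n + 1) rfl
  exact ⟨X, Y, ⟨hX⟩, ⟨hY⟩, f, g, h, hT⟩

section Trunc

variable {K X Y : DerivedCategory A} {f : X ⟶ K} {g : K ⟶ Y} {h : Y ⟶ X⟦(1 : ℤ)⟧}
  (hT : Triangle.mk f g h ∈ distTriang (DerivedCategory A))

include hT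

theorem isIso_trunc₁ (n : ℤ) [X.IsLE n] [hY : Y.IsGE (n + 1)] (i : ℤ) (hi : i ≤ n) :
    IsIso ((homologyFunctor A i).map f) := by
  have h₁ : Mono ((homologyFunctor A i).map f) := by
    refine (HomologySequence.mono_homologyMap_mor₁_iff _ hT (i - 1) i (by lia)).2 ?_
    exact (isZero_of_isGE Y (n + 1) (i - 1) (by lia)).eq_of_src _ _
  have h₂ : Epi ((homologyFunctor A i).map f) := by
    refine (HomologySequence.epi_homologyMap_mor₁_iff _ hT i).2 ?_
    exact (isZero_of_isGE Y (n + 1) i (by lia)).eq_of_tgt _ _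
  exact isIso_of_mono_of_epi _

theorem isIso_trunc₂ (n : ℤ) [hX : X.IsLE n] [Y.IsGE (n + 1)] (i : ℤ) (hi : n < i) :
    IsIso ((homologyFunctor A i).map g) := by
  have h₁ : Mono ((homologyFunctor A i).map g) := by
    refine (HomologySequence.mono_homologyMap_mor₂_iff _ hT i).2 ?_
    exact (isZero_of_isLE X n i (by lia)).eq_of_src _ _
  have h₂ : Epi ((homologyFunctor A i).map g) := by
    refine (HomologySequence.epi_homologyMap_mor₂_iff _ hT i (i + 1) rfl).2 ?_
    exact (isZero_of_isLE X n (i + 1) (by lia)).eq_of_tgt _ _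
  exact isIso_of_mono_of_epi _

theorem isGE_trunc₁ (n m : ℤ) (hm : m ≤ n + 1) [hX : X.IsLE n] [hY : Y.IsGE (n + 1)] [K.IsGE m] : X.IsGE m := by
  rw [isGE_iff]
  intro i hi
  have := isIso_trunc₁ hT n i (by lia)
  exact (K.isZero_of_isGE m i hi).of_iso (asIso ((homologyFunctor A i).map f))

theorem isLE_trunc₂ (n m : ℤ) (hm : n ≤ m) [hX : X.IsLE n] [hY : Y.IsGE (n + 1)] [K.IsLE m] : Y.IsLE m := by
  rw [isLE_iff]
  intro i hi
  have := isIso_trunc₂ hT n i (by lia)
  exact (K.isZero_of_isLE m i hi).of_iso (asIso ((homologyFunctor A i).map g)).symm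

end Trunc

/-- A morphism from degrees `≤ n` to degrees `≥ n` is zero as soon as it is zero on `H^n`. -/
theorem eq_zero_of_homology {K T : DerivedCategory A} (n : ℤ) [hK : K.IsLE n] [hT : T.IsGE n] (φ : K ⟶ T)
    (h : (homologyFunctor A n).map φ = 0) : φ = 0 := by
  obtain ⟨X₁, Y₁, hX₁, hY₁, f₁, g₁, h₁, hT₁⟩ := exists_trunc K (n - 1)
  obtain ⟨X₂, Y₂, hX₂, hY₂, f₂, g₂, h₂, hT₂⟩ := exists_trunc T n
  have hY₁' : Y₁.IsGE n := by simpa using hY₁
  have hY₁'' : Y₁.IsLE n := isLE_trunc₂ hT₁ (n - 1) n (by lia)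
  have hX₂' : X₂.IsGE n := isGE_trunc₁ hT₂ n n (by lia)
  have hf₁ : f₁ ≫ φ = 0 := zero_of_le_ge (K := X₁) (T := T) (n - 1) n (by lia) _
  have e₁ : ∃ ψ : Y₁ ⟶ T, φ = g₁ ≫ ψ := Triangle.yoneda_exact₂ _ hT₁ φ hf₁
  obtain ⟨ψ, hψ⟩ := e₁
  have hg₂ : ψ ≫ g₂ = 0 := zero_of_le_ge (K := Y₁) (T := Y₂) n (n + 1) (by lia) _
  have e₂ : ∃ χ : Y₁ ⟶ X₂, ψ = χ ≫ f₂ := Triangle.coyoneda_exact₂ _ hT₂ ψ hg₂
  obtain ⟨χ, hχ⟩ := e₂
  have h3 : χ = 0 := by
    apply concentrated_eq_zero n
    have i1 : IsIso ((homologyFunctor A n).map g₁) := isIso_trunc₂ hT₁ (n - 1) n (by lia)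
    have i2 : IsIso ((homologyFunctor A n).map f₂) := isIso_trunc₁ hT₂ n n le_rfl
    have h4 : (homologyFunctor A n).map g₁ ≫ (homologyFunctor A n).map χ ≫ (homologyFunctor A n).map f₂ = 0 := by
      rw [← Functor.map_comp, ← Functor.map_comp, ← hχ, ← hψ]
      exact h
    rw [← cancel_epi ((homologyFunctor A n).map g₁), ← cancel_mono ((homologyFunctor A n).map f₂),
      Category.assoc, h4, comp_zero, zero_comp]
  rw [hψ, hχ, h3, zero_comp, comp_zero]

end Groth.Agent.CurvesC.DerHom
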