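import Mathlib.Algebra.Homology.DerivedCategory.KInjective
import Mathlib.Algebra.Homology.DerivedCategory.HomologySequence
import Mathlib.Algebra.Homology.SingleHomology
import Mathlib.CategoryTheory.Abelian.Injective.Basic

/-!
# Morphisms in the derived category into an injective object placed in one degree

For an injective object `J` of an abelian category and any `K` in the derived category, the map
`Hom_D(K, J[-n]) → Hom(H^n K, H^n (J[-n]))` is bijective.
-/

namespace Groth.Agent.CurvesC.Dual1

open CategoryTheory Limits

universe w v u

variable {C : Type u} [Category.{v} C] [Abelian C]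

section chain

variable (K : CochainComplex C ℤ) (J : C) (n : ℤ)

/-- Chain maps to a single complex of an injective object induce all maps on cohomology. -/
theorem exists_hom_of_homology [Injective J]
    (ψ : K.homology n ⟶ ((HomologicalComplex.single C (ComplexShape.up ℤ) n).obj J).homology n) :
    ∃ g : K ⟶ (HomologicalComplex.single C (ComplexShape.up ℤ) n).obj J,
      HomologicalComplex.homologyMap g n = ψ := by
  let ψ' : K.homology n ⟶ J := ψ ≫ (HomologicalComplex.singleObjHomologySelfIso _ n J).hom
  let φ : K.opcycles n ⟶ J := Injective.factorThru ψ' (K.homologyι n)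
  have hφ : K.homologyι n ≫ φ = ψ' := Injective.comp_factorThru _ _
  let g : K ⟶ (HomologicalComplex.single C (ComplexShape.up ℤ) n).obj J :=
    HomologicalComplex.mkHomToSingle (K.pOpcycles n ≫ φ) (fun i _ => by simp)
  refine ⟨g, ?_⟩
  rw [← cancel_mono (HomologicalComplex.homologyι _ n), HomologicalComplex.homologyι_naturality,
    ← cancel_mono (HomologicalComplex.singleObjOpcyclesSelfIso (ComplexShape.up ℤ) n J).inv]
  have h1 : HomologicalComplex.opcyclesMap g n ≫
      (HomologicalComplex.singleObjOpcyclesSelfIso (ComplexShape.up ℤ) n J).inv = φ := by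
    rw [← cancel_epi (K.pOpcycles n), HomologicalComplex.p_opcyclesMap_assoc,
      HomologicalComplex.pOpcycles_singleObjOpcyclesSelfIso_inv,
      HomologicalComplex.mkHomToSingle_f]
    simp
  rw [Category.assoc, h1, Category.assoc,
    HomologicalComplex.homologyι_singleObjOpcyclesSelfIso_inv, hφ]

/-- A chain map to a single complex of an injective object which vanishes on cohomology is
homotopic to zero. -/
theorem homotopy_zero_of_homologyMap [Injective J]
    (g : K ⟶ (HomologicalComplex.single C (ComplexShape.up ℤ) n).obj J)
    (hg : HomologicalComplex.homologyMap g n = 0) : Nonempty (Homotopy g 0) := by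
  let L := (HomologicalComplex.single C (ComplexShape.up ℤ) n).obj J
  let φ : K.opcycles n ⟶ J := HomologicalComplex.opcyclesMap g n ≫
    (HomologicalComplex.singleObjOpcyclesSelfIso (ComplexShape.up ℤ) n J).inv
  have hφ : K.homologyι n ≫ φ = 0 := by
    dsimp only [φ]
    rw [← HomologicalComplex.homologyι_naturality_assoc, hg, zero_comp]
  have hex : (ShortComplex.mk (K.homologyι n) (K.fromOpcycles n (n + 1))
      (K.homologyι_comp_fromOpcycles n (n + 1))).Exact :=
    ShortComplex.exact_of_f_is_kernel _ (K.homologyIsKernel n (n + 1) (by simp))
  let h : K.X (n + 1) ⟶ J := hex.descToInjective φ hφ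
  have hh : K.fromOpcycles n (n + 1) ≫ h = φ := hex.comp_descToInjective φ hφ
  have hgf : g.f n = K.d n (n + 1) ≫ h ≫ (HomologicalComplex.singleObjXSelf _ n J).inv := by
    rw [← cancel_mono (HomologicalComplex.singleObjXSelf (ComplexShape.up ℤ) n J).hom,
      Category.assoc, Category.assoc, Iso.inv_hom_id, Category.comp_id,
      ← HomologicalComplex.pOpcycles_singleObjOpcyclesSelfIso_inv,
      ← HomologicalComplex.p_opcyclesMap_assoc, ← K.p_fromOpcycles n (n + 1), Category.assoc, hh]
  let z : CochainComplex.HomComplex.Cochain K L (-1) :=
    CochainComplex.HomComplex.Cochain.single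
      (h ≫ (HomologicalComplex.singleObjXSelf (ComplexShape.up ℤ) n J).inv : K.X (n + 1) ⟶ L.X n) (-1)
  refine ⟨(CochainComplex.HomComplex.Cochain.equivHomotopy g 0).symm ⟨z, ?_⟩⟩
  rw [CochainComplex.HomComplex.Cochain.ofHom_zero, add_zero]
  ext p
  by_cases hp : p = n
  · subst hp
    rw [CochainComplex.HomComplex.δ_v (-1) 0 (by lia) z p p (by lia) (p - 1) (p + 1) rfl rfl,
      CochainComplex.HomComplex.Cochain.ofHom_v, hgf]
    simp [z, L]
  · exact (HomologicalComplex.isZero_single_obj_X (ComplexShape.up ℤ) n J p hp).eq_of_tgt _ _

end chain

section derived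

/-- The single complex on an injective object is K-injective. -/
theorem isKInjective_single (J : C) [Injective J] (n : ℤ) :
    CochainComplex.IsKInjective ((HomologicalComplex.single C (ComplexShape.up ℤ) n).obj J) := by
  have : ∀ i : ℤ, Injective (((HomologicalComplex.single C (ComplexShape.up ℤ) n).obj J).X i) := by
    intro i
    by_cases hi : i = n
    · subst hi
      exact Injective.of_iso (HomologicalComplex.singleObjXSelf (ComplexShape.up ℤ) i J).symm
        inferInstance
    · have h0 : IsZero (((HomologicalComplex.single C (ComplexShape.up ℤ) n).obj J).X i) :=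
        HomologicalComplex.isZero_single_obj_X (ComplexShape.up ℤ) n J i hi
      exact Injective.of_iso (h0.iso (isZero_zero C)).symm inferInstance
  have : CochainComplex.IsStrictlyGE ((HomologicalComplex.single C (ComplexShape.up ℤ) n).obj J) n := by
    rw [CochainComplex.isStrictlyGE_iff]
    intro i hi
    exact HomologicalComplex.isZero_single_obj_X (ComplexShape.up ℤ) n J i (by lia)
  exact CochainComplex.isKInjective_of_injective _ n

variable [HasDerivedCategory.{w} C]

/-- Morphisms in the derived category from `Q K` to `Q L` with `L` K-injective come from chain maps. -/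
theorem Q_map_surjective (K L : CochainComplex C ℤ) [L.IsKInjective] :
    Function.Surjective (fun g : K ⟶ L => DerivedCategory.Q.map g) := by
  intro f
  obtain ⟨g, hg⟩ := (CochainComplex.IsKInjective.Qh_map_bijective
      ((HomotopyCategory.quotient _ _).obj K) L).surjective
    ((DerivedCategory.quotientCompQhIso C).hom.app K ≫ f ≫
      (DerivedCategory.quotientCompQhIso C).inv.app L)
  obtain ⟨g, rfl⟩ := (HomotopyCategory.quotient _ _).map_surjective g
  refine ⟨g, ?_⟩
  rw [← cancel_epi ((DerivedCategory.quotientCompQhIso C).hom.app K),
    ← DerivedCategory.quotientCompQhIso_hom_naturality, hg]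
  simp

/-- Two chain maps to a K-injective complex which agree in the derived category are homotopic. -/
theorem homotopy_of_Q_map_eq (K L : CochainComplex C ℤ) [L.IsKInjective] (f g : K ⟶ L)
    (h : DerivedCategory.Q.map f = DerivedCategory.Q.map g) : Nonempty (Homotopy f g) := by
  refine ⟨HomotopyCategory.homotopyOfEq _ _ ?_⟩
  apply (CochainComplex.IsKInjective.Qh_map_bijective
      ((HomotopyCategory.quotient _ _).obj K) L).injective
  rw [← cancel_mono ((DerivedCategory.quotientCompQhIso C).hom.app L),
    DerivedCategory.quotientCompQhIso_hom_naturality,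
    DerivedCategory.quotientCompQhIso_hom_naturality, h]

/-- For `J` injective, `Hom_D(K, J[-n]) → Hom(H^n K, H^n(J[-n]))` is bijective. -/
theorem homologyFunctor_map_bijective (K : DerivedCategory C) (J : C) [Injective J] (n : ℤ) :
    Function.Bijective (fun f : K ⟶ (DerivedCategory.singleFunctor C n).obj J =>
      (DerivedCategory.homologyFunctor C n).map f) := by
  suffices H : ∀ K0 : CochainComplex C ℤ, Function.Bijective
      (fun f : DerivedCategory.Q.obj K0 ⟶ DerivedCategory.Q.obj
        ((HomologicalComplex.single C (ComplexShape.up ℤ) n).obj J) =>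
      (DerivedCategory.homologyFunctor C n).map f) by
    let e := DerivedCategory.Q.objObjPreimageIso K
    have h1 := H (DerivedCategory.Q.objPreimage K)
    constructor
    · intro f g hfg
      have : e.hom ≫ f = e.hom ≫ g := h1.injective (by
        change (DerivedCategory.homologyFunctor C n).map (e.hom ≫ f) =
          (DerivedCategory.homologyFunctor C n).map (e.hom ≫ g)
        rw [Functor.map_comp, Functor.map_comp]
        exact congrArg _ hfg)
      exact (cancel_epi e.hom).1 this
    · intro ψ
      obtain ⟨f, hf⟩ := h1.surjective ((DerivedCategory.homologyFunctor C n).map e.hom ≫ ψ)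
      refine ⟨e.inv ≫ f, ?_⟩
      change (DerivedCategory.homologyFunctor C n).map (e.inv ≫ f) = ψ
      refine ((DerivedCategory.homologyFunctor C n).map_comp e.inv f).trans ?_
      refine (congrArg (fun z => (DerivedCategory.homologyFunctor C n).map e.inv ≫ z) hf).trans ?_
      refine (Category.assoc _ _ _).symm.trans ?_
      refine (congrArg (fun z => z ≫ ψ) (((DerivedCategory.homologyFunctor C n).mapIso e).inv_hom_id)).trans ?_
      exact Category.id_comp ψ
  intro K0
  set L : CochainComplex C ℤ := (HomologicalComplex.single C (ComplexShape.up ℤ) n).obj J with hL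
  have hKI : L.IsKInjective := isKInjective_single J n
  constructor
  · intro f g hfg
    obtain ⟨f, rfl⟩ := Q_map_surjective K0 L f
    obtain ⟨g, rfl⟩ := Q_map_surjective K0 L g
    have hfg' : (DerivedCategory.homologyFunctor C n).map (DerivedCategory.Q.map f) =
      (DerivedCategory.homologyFunctor C n).map (DerivedCategory.Q.map g) := hfg
    have h1 : HomologicalComplex.homologyMap (f - g) n = 0 := by
      rw [HomologicalComplex.homologyMap_sub, sub_eq_zero]
      refine (cancel_epi ((DerivedCategory.homologyFunctorFactors C n).hom.app K0)).1 ?_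
      rw [← DerivedCategory.homologyFunctorFactors_hom_naturality, hfg',
        DerivedCategory.homologyFunctorFactors_hom_naturality]
    obtain ⟨h⟩ := homotopy_zero_of_homologyMap K0 J n (f - g) h1
    have := DerivedCategory.Q_map_eq_of_homotopy _ h
    rw [Functor.map_sub, Functor.map_zero, sub_eq_zero] at this
    exact this
  · intro ψ
    obtain ⟨g, hg⟩ := exists_hom_of_homology K0 J n
      ((DerivedCategory.homologyFunctorFactors C n).inv.app K0 ≫ ψ ≫
        (DerivedCategory.homologyFunctorFactors C n).hom.app L)
    refine ⟨DerivedCategory.Q.map g, ?_⟩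
    change (DerivedCategory.homologyFunctor C n).map (DerivedCategory.Q.map g) = ψ
    rw [← cancel_mono ((DerivedCategory.homologyFunctorFactors C n).hom.app L),
      DerivedCategory.homologyFunctorFactors_hom_naturality]
    refine (congrArg (fun z => (DerivedCategory.homologyFunctorFactors C n).hom.app K0 ≫ z) hg).trans ?_
    exact Iso.hom_inv_id_app_assoc _ _ _

end derived

end Groth.Agent.CurvesC.Dual1
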