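import Mathlib.AlgebraicGeometry.Modules.Tilde
import Mathlib.RingTheory.SimpleModule.InjectiveProjective
import Mathlib.Algebra.Category.ModuleCat.Injective
import Mathlib.CategoryTheory.Preadditive.Injective.Basic
import Mathlib.LinearAlgebra.Basis.VectorSpace

/-!
# Modules on the spectrum of a field

For a field `k`, every `O_{Spec k}`-module `M` is the tilde of its global sections, the functor
`tilde : ModuleCat k ⥤ (Spec k).Modules` is an equivalence, and every `O_{Spec k}`-module is injective.
-/

universe u

open CategoryTheory AlgebraicGeometry Opposite TopologicalSpace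

namespace Groth.Agent.CurvesC.SpecField

variable (k : Type u) [Field k]

variable {k} in
theorem isLocalizing (N : TopCat.Sheaf (ModuleCat.{u} (CommRingCat.of k)) (Spec (CommRingCat.of k))) :
    IsLocalizing N := by
  intro f
  by_cases hf : (f : k) = 0
  · have hbot : PrimeSpectrum.basicOpen (R := (CommRingCat.of k)) f = ⊥ := by
      have : f = 0 := hf
      rw [this]; exact PrimeSpectrum.basicOpen_zero
    have hterm : Limits.IsTerminal (N.obj.obj (op (PrimeSpectrum.basicOpen (R := (CommRingCat.of k)) f))) :=
      N.isTerminalOfEqEmpty hbot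
    have hsub : Subsingleton (N.obj.obj (op (PrimeSpectrum.basicOpen (R := (CommRingCat.of k)) f))) := by
      have hz : Limits.IsZero (N.obj.obj (op (PrimeSpectrum.basicOpen (R := (CommRingCat.of k)) f))) :=
        (Limits.isZero_zero _).of_iso (hterm.uniqueUpToIso (Limits.isZero_zero _).isTerminal)
      exact ModuleCat.subsingleton_of_isZero hz
    refine ⟨fun x => ?_, fun y => ⟨(0, 1), Subsingleton.elim _ _⟩, fun {x₁ x₂} _ => ?_⟩
    · rw [Module.End.isUnit_iff]
      exact ⟨fun a b _ => Subsingleton.elim _ _, fun a => ⟨0, Subsingleton.elim _ _⟩⟩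
    · refine ⟨⟨f, Submonoid.mem_powers f⟩, ?_⟩
      have : f = 0 := hf
      change f • x₁ = f • x₂
      rw [this, zero_smul, zero_smul]
  · have hunit : IsUnit (f : (CommRingCat.of k)) := (Ne.isUnit hf : IsUnit (f : k))
    have htop : PrimeSpectrum.basicOpen (R := (CommRingCat.of k)) f = ⊤ := by
      ext p
      simp only [SetLike.mem_coe, PrimeSpectrum.mem_basicOpen, Opens.coe_top, Set.mem_univ, iff_true]
      exact fun hp => p.isPrime.ne_top (Ideal.eq_top_of_isUnit_mem _ hp hunit)
    have hall : ∀ (U : Opens (Spec (CommRingCat.of k))), U = ⊤ → IsIso (N.obj.map U.leTop.op) := by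
      intro U hU
      subst hU
      rw [Subsingleton.elim (Opens.leTop (⊤ : Opens (Spec (CommRingCat.of k)))) (𝟙 _)]
      infer_instance
    have hiso : IsIso (N.obj.map (PrimeSpectrum.basicOpen (R := (CommRingCat.of k)) f).leTop.op) :=
      hall _ htop
    have hbij := ConcreteCategory.bijective_of_isIso
      (N.obj.map (PrimeSpectrum.basicOpen (R := (CommRingCat.of k)) f).leTop.op)
    refine ⟨fun x => ?_, fun y => ?_, fun {x₁ x₂} h => ⟨1, ?_⟩⟩
    · obtain ⟨x, n, rfl⟩ := x
      exact (hunit.pow n).map (algebraMap (CommRingCat.of k) _)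
    · obtain ⟨x, hx⟩ := hbij.2 y
      exact ⟨(x, 1), by rw [one_smul]; exact hx.symm⟩
    · rw [hbij.1 h]

/-- Every `O_{Spec k}`-module is the tilde of its global sections. -/
instance isIso_fromTildeΓ (M : (Spec (CommRingCat.of k)).Modules) :
    IsIso (Scheme.Modules.fromTildeΓ (R := CommRingCat.of k) M) :=
  (isIso_fromTildeΓ_iff_isLocalizing M).2 (isLocalizing _)

instance essSurj_tilde : (tilde.functor (CommRingCat.of k)).EssSurj where
  mem_essImage M := isIso_fromTildeΓ_iff.1 (isIso_fromTildeΓ k M)

instance isEquivalence_tilde : (tilde.functor (CommRingCat.of k)).IsEquivalence where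
  faithful := tilde.fullyFaithfulFunctor.faithful
  full := tilde.fullyFaithfulFunctor.full
  essSurj := essSurj_tilde k

instance isEquivalence_Γ : (moduleSpecΓFunctor (R := CommRingCat.of k)).IsEquivalence :=
  (tilde.adjunction (R := CommRingCat.of k)).isEquivalence_right_of_isEquivalence_left

/-- Every module over a field is an injective object. -/
theorem injective_moduleCat (V : ModuleCat.{u} (CommRingCat.of k)) : Injective V := by
  have : Module.Injective (CommRingCat.of k) V :=
    @Module.injective_of_isSemisimpleRing (CommRingCat.of k) _ (inferInstanceAs (IsSemisimpleRing k)) V _ _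
  exact Module.injective_object_of_injective_module _ _

/-- Every `O_{Spec k}`-module is injective. -/
instance injective (M : (Spec (CommRingCat.of k)).Modules) : Injective M := by
  have h1 : Injective ((moduleSpecΓFunctor (R := CommRingCat.of k)).obj M) := injective_moduleCat k _
  exact ((moduleSpecΓFunctor (R := CommRingCat.of k)).asEquivalence.map_injective_iff M).1 h1

/-- Global sections of the structure sheaf of `Spec k`. -/
noncomputable def ΓunitIso : (moduleSpecΓFunctor (R := CommRingCat.of k)).obj
    (SheafOfModules.unit (Spec (CommRingCat.of k)).ringCatSheaf) ≅ ModuleCat.of (CommRingCat.of k) k :=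
  (tilde.isoTop (R := CommRingCat.of k) (ModuleCat.of (CommRingCat.of k) k)).symm

/-- Maps of `O_{Spec k}`-modules into the structure sheaf are `k`-linear forms on global sections. -/
theorem Γmap_bijective (N : (Spec (CommRingCat.of k)).Modules) :
    Function.Bijective (fun φ : N ⟶ (show (Spec (CommRingCat.of k)).Modules from
        SheafOfModules.unit (Spec (CommRingCat.of k)).ringCatSheaf) =>
      (moduleSpecΓFunctor (R := CommRingCat.of k)).map φ ≫ (ΓunitIso k).hom) := by
  have h1 : Function.Bijective (fun φ : N ⟶ (show (Spec (CommRingCat.of k)).Modules from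
        SheafOfModules.unit (Spec (CommRingCat.of k)).ringCatSheaf) =>
      (moduleSpecΓFunctor (R := CommRingCat.of k)).map φ) :=
    ⟨Functor.map_injective _, Functor.map_surjective _⟩
  exact ((ΓunitIso k).homToEquiv).bijective.comp h1

end Groth.Agent.CurvesC.SpecField
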