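import Groth.Prelude.Def_DDual2
import Groth.Agent.CurvesC.Dual1
import Groth.Agent.CurvesC.SpecField

/-!
# The trace pairing for a right adjoint of `Rf_*` over the spectrum of a field

For `f : X ⟶ Spec k` with `Rf_* ⊣ a` on `D_QCoh`, the dualizing complex `w = a(O)` satisfies
`Hom_{D(X)}(K, w) = Hom_k(Γ(Spec k, H^0(Rf_* K)), k)` for every `K` in `D_QCoh(X)`, through a trace form
`tr : Γ(Spec k, H^0(Rf_* w)) → k`.
-/

universe u

open CategoryTheory CategoryTheory.Limits AlgebraicGeometry

attribute [local instance] HasDerivedCategory.standard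

namespace Groth.Agent.CurvesC.DualTrace

variable {k : Type u} [Field k] {X : Scheme.{u}} (f : X ⟶ Spec (CommRingCat.of k))
  [DCoh.HasRpush f] (h : DCoh.RpushPreservesQCoh f) [DCoh.HasShriek f h]
  (OY : DCoh.DQCoh (Spec (CommRingCat.of k)))

/-- Maps in `D(Spec k)` into an object isomorphic to the structure sheaf in degree zero are linear forms
on the global sections of the cohomology sheaf in degree zero. -/
theorem bijective_of_iso (O : DCoh.D (Spec (CommRingCat.of k)))
    (e : O ≅ DCoh.inD (Spec (CommRingCat.of k)) (Coh.structureModule (Spec (CommRingCat.of k)))) :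
    ∃ s : (moduleSpecΓFunctor (R := CommRingCat.of k)).obj (DCoh.HD O 0) ⟶
        ModuleCat.of (CommRingCat.of k) k,
      ∀ L : DCoh.D (Spec (CommRingCat.of k)), Function.Bijective (fun φ : L ⟶ O =>
        (moduleSpecΓFunctor (R := CommRingCat.of k)).map
          ((DerivedCategory.homologyFunctor (Spec (CommRingCat.of k)).Modules 0).map φ) ≫ s) := by
  let J := Coh.structureModule (Spec (CommRingCat.of k))
  let e' : DCoh.HD (DCoh.inD (Spec (CommRingCat.of k)) J) 0 ≅ J :=
    (DerivedCategory.homologyFunctorFactors _ 0).app _ ≪≫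
      HomologicalComplex.singleObjHomologySelfIso (ComplexShape.up ℤ) 0 J
  refine ⟨(moduleSpecΓFunctor (R := CommRingCat.of k)).map
      ((DerivedCategory.homologyFunctor (Spec (CommRingCat.of k)).Modules 0).map e.hom ≫ e'.hom) ≫
        (SpecField.ΓunitIso k).hom, fun L => ?_⟩
  have h1 : Function.Bijective (fun φ : L ⟶ O => φ ≫ e.hom) := e.homToEquiv.bijective
  have h2 := Dual1.homologyFunctor_map_bijective L J 0
  have h3 : Function.Bijective (fun φ : DCoh.HD L 0 ⟶ DCoh.HD (DCoh.inD (Spec (CommRingCat.of k)) J) 0 =>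
    φ ≫ e'.hom) := e'.homToEquiv.bijective
  have h4 := SpecField.Γmap_bijective k (DCoh.HD L 0)
  have h5 := h4.comp (h3.comp (h2.comp h1))
  convert h5 using 1
  funext φ
  simp only [Function.comp_apply, Functor.map_comp, Category.assoc]

/-- Perfectness of the trace pairing: a linear form `tr` on `Γ(Spec k, H^0(Rf_* w))` such that for every `K` in
`D_QCoh(X)` the map `φ ↦ tr ∘ Γ(H^0(Rf_* φ))` from `Hom(K, w)` to the dual of `Γ(Spec k, H^0(Rf_* K))` is
bijective. -/
theorem exists_trace (hOY : Nonempty (OY.obj ≅ DCoh.inD (Spec (CommRingCat.of k))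
      (Coh.structureModule (Spec (CommRingCat.of k))))) :
    ∃ tr : (moduleSpecΓFunctor (R := CommRingCat.of k)).obj
        (DCoh.HD ((DCoh.Rpush f).obj (DCoh.dualizingCx f h OY)) 0) ⟶ ModuleCat.of (CommRingCat.of k) k,
      ∀ K : DCoh.D X, DCoh.IsQCohD K → Function.Bijective (fun φ : K ⟶ DCoh.dualizingCx f h OY =>
        (moduleSpecΓFunctor (R := CommRingCat.of k)).map
          ((DerivedCategory.homologyFunctor (Spec (CommRingCat.of k)).Modules 0).map
            ((DCoh.Rpush f).map φ)) ≫ tr) := by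
  obtain ⟨e⟩ := hOY
  obtain ⟨s, hs⟩ := bijective_of_iso OY.obj e
  let c : (DCoh.RpushQ f h).obj ((DCoh.shriek f h).obj OY) ⟶ OY := (DCoh.shriekAdj f h).counit.app OY
  refine ⟨(moduleSpecΓFunctor (R := CommRingCat.of k)).map
      ((DerivedCategory.homologyFunctor (Spec (CommRingCat.of k)).Modules 0).map c.hom) ≫ s, fun K hK => ?_⟩
  have h1 : Function.Bijective (fun φ : K ⟶ DCoh.dualizingCx f h OY =>
      (DCoh.Rpush f).map φ ≫ c.hom) := by
    let K' : DCoh.DQCoh X := ⟨K, hK⟩
    have h2 : Function.Bijective (fun φ : K' ⟶ (DCoh.shriek f h).obj OY =>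
        ((DCoh.shriekAdj f h).homEquiv K' OY).symm φ) := Equiv.bijective _
    have h3 : Function.Bijective (fun φ : K ⟶ DCoh.dualizingCx f h OY =>
      (ObjectProperty.homMk φ : K' ⟶ (DCoh.shriek f h).obj OY)) :=
      ⟨fun a b hab => congrArg (fun z => z.hom) hab, ObjectProperty.homMk_surjective⟩
    have h4 : Function.Bijective (fun φ : (DCoh.RpushQ f h).obj K' ⟶ OY => φ.hom) :=
      ⟨fun a b hab => ObjectProperty.hom_ext _ hab, fun b => ⟨ObjectProperty.homMk b, rfl⟩⟩
    have h5 := h4.comp (h2.comp h3)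
    convert h5 using 1
    funext φ
    simp only [Function.comp_apply, Adjunction.homEquiv_counit]
    rfl
  have h5 := (hs ((DCoh.Rpush f).obj K)).comp h1
  convert h5 using 1
  funext φ
  simp only [Function.comp_apply, Functor.map_comp, Category.assoc]

end Groth.Agent.CurvesC.DualTrace
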