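import Groth.Agent.CurvesC.RepSpec
import Groth.Agent.PerfA.OpenPush
import Groth.Agent.PerfB.FlatPull
import Groth.Agent.Ega1.PullFormal

/-!
# Global sections of `H^0(Rf_* K)` for `f : X ⟶ Spec k`

`K ↦ Γ(Spec k, H^0(Rf_* K))` is represented by `O_X` on `D(X)`, compatibly with the action of `k`.
-/

set_option autoImplicit false

universe u

open CategoryTheory CategoryTheory.Limits AlgebraicGeometry

attribute [local instance] HasDerivedCategory.standard

namespace Groth.Agent.CurvesC.RepX

open Groth.Agent.CurvesC.RepSpec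

variable (k : Type u) [Field k] (X : Scheme.{u}) [X.Over (Spec (CommRingCat.of k))]

instance flat_over : Flat (X ↘ Spec (CommRingCat.of k)) := inferInstance

/-- The structure sheaf in degree zero. -/
noncomputable abbrev P : DCoh.D X := DCoh.inD X (Coh.structureModule X)

/-- The action of `k` on `P`. -/
noncomputable abbrev rho (a : k) : P X ⟶ P X :=
  (DerivedCategory.singleFunctor X.Modules 0).map (Formal.smulMod k (Coh.structureModule X) a)

variable [DCoh.HasRpush (X ↘ Spec (CommRingCat.of k))]

/-- `Γ(Spec k, H^0(Rf_* K))`. -/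
noncomputable abbrev G : DCoh.D X ⥤ ModuleCat.{u} (CommRingCat.of k) :=
  DCoh.Rpush (X ↘ Spec (CommRingCat.of k)) ⋙ ΓH k

/-- `f^* ⊣ Rf_*`. -/
noncomputable def adj : (Scheme.Modules.pullback (X ↘ Spec (CommRingCat.of k))).mapDerivedCategory ⊣
    DCoh.Rpush (X ↘ Spec (CommRingCat.of k)) :=
  PerfA.OpenPush.derAdj (Scheme.Modules.pullbackPushforwardAdjunction (X ↘ Spec (CommRingCat.of k)))
    (LoccohB.RpushTri.hasKInj_modules X) (DCoh.Rpush (X ↘ Spec (CommRingCat.of k)))
    ((DCoh.pushKh (X ↘ Spec (CommRingCat.of k))).totalRightDerivedUnit DerivedCategory.Qh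
        (HomotopyCategory.quasiIso X.Modules (ComplexShape.up ℤ)))

/-- The pullback of the structure sheaf of `Spec k` in degree zero. -/
noncomputable def isoP : (Scheme.Modules.pullback (X ↘ Spec (CommRingCat.of k))).mapDerivedCategory.obj
      (P (Spec (CommRingCat.of k))) ≅ P X :=
  ((Scheme.Modules.pullback (X ↘ Spec (CommRingCat.of k))).mapDerivedCategorySingleFunctor 0).app _ ≪≫
    (DerivedCategory.singleFunctor X.Modules 0).mapIso
      (PerfB.FlatPull.pullbackUnit (X ↘ Spec (CommRingCat.of k)))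

omit [DCoh.HasRpush (X ↘ Spec (CommRingCat.of k))] in
theorem isoP_rho (a : k) : (Scheme.Modules.pullback (X ↘ Spec (CommRingCat.of k))).mapDerivedCategory.map
      (rho k (Spec (CommRingCat.of k)) a) ≫ (isoP k X).hom = (isoP k X).hom ≫ rho k X a := by
  have h1 := ((Scheme.Modules.pullback (X ↘ Spec (CommRingCat.of k))).mapDerivedCategorySingleFunctor
    0).hom.naturality (Formal.smulMod k (Coh.structureModule (Spec (CommRingCat.of k))) a)
  have h2 : (Scheme.Modules.pullback (X ↘ Spec (CommRingCat.of k))).map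
      (Formal.smulMod k (Coh.structureModule (Spec (CommRingCat.of k))) a) ≫
      (PerfB.FlatPull.pullbackUnit (X ↘ Spec (CommRingCat.of k))).hom =
      (PerfB.FlatPull.pullbackUnit (X ↘ Spec (CommRingCat.of k))).hom ≫
        Formal.smulMod k (Coh.structureModule X) a := by
    rw [Ega1.PullFormal.pullback_smulMod, FormalB.ModPow.smulMod_naturality]
  have h3 := congrArg (fun z => (DerivedCategory.singleFunctor X.Modules 0).map z) h2
  simp only [Functor.map_comp] at h3
  simp only [isoP, Iso.trans_hom, Iso.app_hom, Functor.mapIso_hom, Category.assoc]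
  rw [← h3]
  exact (Category.assoc _ _ _).symm.trans ((congrArg (fun z => z ≫
    (DerivedCategory.singleFunctor X.Modules 0).map
      (PerfB.FlatPull.pullbackUnit (X ↘ Spec (CommRingCat.of k))).hom) h1).trans (Category.assoc _ _ _))

omit [DCoh.HasRpush (X ↘ Spec (CommRingCat.of k))] in
theorem ΓH_map_smulMod (M : (Spec (CommRingCat.of k)).Modules) (a : k) :
    (ΓH k).map ((DerivedCategory.singleFunctor (Spec (CommRingCat.of k)).Modules 0).map
      (Formal.smulMod k M a)) = a • 𝟙 _ := by
  have h1 := (DerivedCategory.singleFunctorCompHomologyFunctorIso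
    (Spec (CommRingCat.of k)).Modules 0).hom.naturality (Formal.smulMod k M a)
  have h2 := congrArg (fun z => (moduleSpecΓFunctor (R := CommRingCat.of k)).map z) h1
  simp only [Functor.map_comp, Functor.id_map] at h2
  have h3 := Ega3B.TensorAUnit.moduleSpecΓ_map_smulMod M a
  rw [← cancel_mono ((moduleSpecΓFunctor (R := CommRingCat.of k)).map
    ((DerivedCategory.singleFunctorCompHomologyFunctorIso
      (Spec (CommRingCat.of k)).Modules 0).hom.app M))]
  refine h2.trans ?_
  refine (congrArg (fun z => (moduleSpecΓFunctor (R := CommRingCat.of k)).map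
    ((DerivedCategory.singleFunctorCompHomologyFunctorIso
      (Spec (CommRingCat.of k)).Modules 0).hom.app M) ≫ z) h3).trans ?_
  apply ModuleCat.hom_ext
  ext x
  simp

/-- `O_X` represents `K ↦ Γ(Spec k, H^0(Rf_* K))` on `D(X)`, compatibly with the action of `k`. -/
theorem exists_rep : ∃ x : (G k X).obj (P X), (∀ a : k, ((G k X).map (rho k X a)).hom x = a • x) ∧
    ∀ K : DCoh.D X, Function.Bijective (fun φ : P X ⟶ K => ((G k X).map φ).hom x) := by
  obtain ⟨y, hy⟩ := RepSpec.exists_rep k
  let η : P (Spec (CommRingCat.of k)) ⟶ (DCoh.Rpush (X ↘ Spec (CommRingCat.of k))).obj (P X) :=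
    (adj k X).homEquiv _ _ (isoP k X).hom
  refine ⟨((ΓH k).map η).hom y, fun a => ?_, fun K => ?_⟩
  · have h1 : η ≫ (DCoh.Rpush (X ↘ Spec (CommRingCat.of k))).map (rho k X a) =
        rho k (Spec (CommRingCat.of k)) a ≫ η := by
      dsimp only [η]
      rw [← Adjunction.homEquiv_naturality_right, ← isoP_rho, Adjunction.homEquiv_naturality_left]
    have h2 : ((G k X).map (rho k X a)).hom (((ΓH k).map η).hom y) =
        ((ΓH k).map (η ≫ (DCoh.Rpush (X ↘ Spec (CommRingCat.of k))).map (rho k X a))).hom y := by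
      rw [Functor.map_comp]
      rfl
    rw [h2, h1, Functor.map_comp, ΓH_map_smulMod]
    simp
  · have h1 : Function.Bijective (fun φ : P X ⟶ K =>
        (adj k X).homEquiv _ _ ((isoP k X).hom ≫ φ)) :=
      ((adj k X).homEquiv _ _).bijective.comp (isoP k X).symm.homFromEquiv.bijective
    have h2 := (hy ((DCoh.Rpush (X ↘ Spec (CommRingCat.of k))).obj K)).comp h1
    have h3 : (fun φ : P X ⟶ K => ((G k X).map φ).hom (((ΓH k).map η).hom y)) =
        (fun φ => (ModuleCat.Hom.hom ((ΓH k).map φ)) y) ∘ (fun φ : P X ⟶ K =>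
          (adj k X).homEquiv _ _ ((isoP k X).hom ≫ φ)) := by
      funext φ
      change _ = (ModuleCat.Hom.hom ((ΓH k).map ((adj k X).homEquiv _ _ ((isoP k X).hom ≫ φ)))) y
      rw [Adjunction.homEquiv_naturality_right, Functor.map_comp]
      rfl
    rw [h3]
    exact h2

end Groth.Agent.CurvesC.RepX
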