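import Groth.Agent.CurvesC.HomVanish
import Groth.Agent.CurvesC.ExtUnit
import Groth.Agent.CurvesC.RepX
import Groth.Agent.CurvesC.DualTrace
import Groth.Agent.LoccohB.DQCohBasic
import Groth.Agent.S0458

/-!
# The dualizing complex of a proper scheme of dimension `≤ d` over a field lives in degrees `≥ -d`
-/

set_option autoImplicit false
universe u

open CategoryTheory CategoryTheory.Limits AlgebraicGeometry TopologicalSpace

attribute [local instance] HasDerivedCategory.standard

namespace Groth.Agent.CurvesC.Dual3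

/-- On a Noetherian scheme of dimension `≤ d` there are no nonzero morphisms in `D(O_X)` from `O_X` to an object of
`D^{≤ -d-1}` (no boundedness below, no quasi-coherence). -/
theorem homD_eq_zero (X : Scheme.{u}) [hX : NoetherianSpace X] (d : ℕ) (hd : topologicalKrullDim X ≤ d)
    (K : DCoh.D X) [hK : K.IsLE (-((d + 1 : ℕ) : ℤ))]
    (φ : DCoh.inD X (Coh.structureModule X) ⟶ K) : φ = 0 := by
  have : HasExt X.Modules := HasExt.standard X.Modules
  refine HomVanish.hom_eq_zero_of_ext (d + 1) (fun Z => ?_) K φ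
  have : NoetherianSpace X.toTopCat := hX
  have h1 : Subsingleton (Coh.HH X Z (d + 1)) :=
    Groth.Agent.S0458.result (X := X.toTopCat) d hd (Coh.toAb Z) (d + 1) (Nat.lt_succ_self d)
  exact (ExtUnit.extHH Z (d + 1)).injective.subsingleton

variable {k : Type u} [Field k] {X : Scheme.{u}} [X.Over (Spec (CommRingCat.of k))]
  [DCoh.HasRpush (X ↘ Spec (CommRingCat.of k))]
  (h : DCoh.RpushPreservesQCoh (X ↘ Spec (CommRingCat.of k)))
  [DCoh.HasShriek (X ↘ Spec (CommRingCat.of k)) h]
  (OY : DCoh.DQCoh (Spec (CommRingCat.of k)))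

/-- The dualizing complex has no cohomology in degrees `< -d`. -/
theorem isGE_dualizingCx [NoetherianSpace X] (d : ℕ) (hd : topologicalKrullDim X ≤ d)
    (hOY : Nonempty (OY.obj ≅ DCoh.inD (Spec (CommRingCat.of k))
      (Coh.structureModule (Spec (CommRingCat.of k))))) :
    (DCoh.dualizingCx (X ↘ Spec (CommRingCat.of k)) h OY).IsGE (-(d : ℤ)) := by
  obtain ⟨tr, htr⟩ := DualTrace.exists_trace (X ↘ Spec (CommRingCat.of k)) h OY hOY
  obtain ⟨x, -, hx⟩ := RepX.exists_rep k X
  set W := DCoh.dualizingCx (X ↘ Spec (CommRingCat.of k)) h OY with hW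
  have hWq : DCoh.IsQCohD W := ((DCoh.shriek (X ↘ Spec (CommRingCat.of k)) h).obj OY).property
  obtain ⟨K, L, f, g, δ, hT, hK, hL, hKq, hLq, hf, hg⟩ :=
    LoccohB.DQCohBasic.exists_trunc_qcoh W hWq (-((d + 1 : ℕ) : ℤ))
  have hsub : Subsingleton (RepX.G k X |>.obj K) := by
    refine ⟨fun a b => ?_⟩
    obtain ⟨φ, rfl⟩ := (hx K).surjective a
    obtain ⟨ψ, rfl⟩ := (hx K).surjective b
    rw [homD_eq_zero X d hd K φ, homD_eq_zero X d hd K ψ]
  have hf0 : f = 0 := by
    apply (htr K hKq).injective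
    apply ModuleCat.hom_ext
    apply LinearMap.ext
    intro y
    have hy : y = 0 := hsub.elim y 0
    rw [hy, map_zero, map_zero]
  rw [DerivedCategory.isGE_iff]
  intro i hi
  have h1 := hf i (by push_cast; lia)
  rw [hf0, Functor.map_zero] at h1
  exact (IsZero.iff_id_eq_zero _).2 ((cancel_epi (0 : (DerivedCategory.homologyFunctor X.Modules i).obj K ⟶
    (DerivedCategory.homologyFunctor X.Modules i).obj W)).1 (by simp))

end Groth.Agent.CurvesC.Dual3
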