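import Groth.Agent.CurvesC.HV

/-!
# Degree zero: `HV X F 0` is `Γ(F, ⊤)`
-/

set_option autoImplicit false

universe u

open CategoryTheory CategoryTheory.Limits AlgebraicGeometry Opposite TopologicalSpace

namespace Groth.Agent.CurvesC.HV

section

variable (A : Type u) [CommRing A] (X : Scheme.{u}) [X.Over (Spec (CommRingCat.of A))]

/-- the structure map `A → Γ(X, ⊤)` -/
noncomputable def glob : A →+* Γ(X, ⊤) := Coh.toGlobal (X ↘ Spec (CommRingCat.of A))

/-- the structure map `A → Γ(X, U)` -/
noncomputable def globOn (U : X.Opens) : A →+* Γ(X, U) :=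
  (X.presheaf.map (homOfLE (le_top : U ≤ ⊤)).op).hom.comp (glob A X)

end

variable {X : Scheme.{u}}

/-- `H^0(X, F) = Γ(F, ⊤)` -/
noncomputable def zero (F : X.Modules) : HV X F 0 ≃+ Γ(F, ⊤) :=
  Sheaf.H.equiv₀ (Coh.toAb F) (T := (⊤ : Opens X)) isTerminalTop

variable (A : Type u) [CommRing A] [X.Over (Spec (CommRingCat.of A))]

theorem zero_map {F G : X.Modules} (φ : F ⟶ G) (x : HV X F 0) :
    zero G (map A φ 0 x) = φ.app ⊤ (zero F x) :=
  (Sheaf.H.equiv₀_naturality (T := (⊤ : Opens X)) isTerminalTop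
    ((SheafOfModules.toSheaf X.ringCatSheaf).map φ) x).symm

theorem smulMod_app (F : X.Modules) (a : A) (U : X.Opens) (x : Γ(F, U)) :
    (Formal.smulMod A F a).app U x = globOn A X U a • x := rfl

theorem globOn_top (a : A) : globOn A X ⊤ a = glob A X a := by
  change (X.presheaf.map (𝟙 _)).hom (glob A X a) = _
  rw [CategoryTheory.Functor.map_id]
  rfl

theorem zero_smul (F : X.Modules) (a : A) (x : HV X F 0) :
    zero F (a • x) = glob A X a • zero F x := by
  rw [← map_smulMod_apply, zero_map, smulMod_app, globOn_top]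

end Groth.Agent.CurvesC.HV
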