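import Groth.Agent.CurvesC.DualPair
import Groth.Agent.CurvesC.HV0
import Groth.Agent.CohqB.FiniteType2
import Mathlib.LinearAlgebra.Dual.Lemmas

/-!
# Coherence of the dualizing module of a proper curve: the finite generation argument

`TwoSec` : modules `P n` (`= M^{-n}`), two families of maps `a n`, `b n : P (n+1) ⟶ P n` with exact Koszul complexes.
If `(w, t)` is a dual pair, `H^0(P n)` and `H^1(P n)` finite dimensional and `a n` mono, then for large `n` every map
`P (n+2) ⟶ w` is `a ≫ ψ₁ + b ≫ ψ₂`.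
-/

set_option autoImplicit false

universe u

open CategoryTheory CategoryTheory.Limits AlgebraicGeometry Opposite TopologicalSpace

namespace Groth.Agent.CurvesC.DualCoh968

attribute [local instance] Abelian.hasFiniteBiproducts

variable {k : Type u} [Field k] {X : Scheme.{u}} [X.Over (Spec (CommRingCat.of k))]

/-- Modules `P n`, maps `a n`, `b n`, with exact Koszul complexes. -/
structure TwoSec (X : Scheme.{u}) where
  /-- the modules -/
  P : ℕ → X.Modules
  /-- first family of maps -/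
  a : ∀ n, P (n + 1) ⟶ P n
  /-- second family of maps -/
  b : ∀ n, P (n + 1) ⟶ P n
  comm : ∀ n, b (n + 1) ≫ a n = a (n + 1) ≫ b n
  exact : ∀ n, (ShortComplex.mk (biprod.lift (b (n + 1)) (-(a (n + 1)))) (biprod.desc (a n) (b n))
    (by rw [biprod.lift_desc, Preadditive.neg_comp, comm, add_neg_cancel])).ShortExact
  mono : ∀ n, Mono (a n)
  qcoh : ∀ n, Coh.IsQCoh (P n)

theorem HV_mono {F G : X.Modules} (f : F ⟶ G) [Mono f] : Function.Injective (HV.map k f 0) := by
  intro x y hxy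
  apply (HV.zero F).injective
  apply CohqB.FiniteType2.appLinear_injective f ⊤
  have := congrArg (HV.zero G) hxy
  rwa [HV.zero_map, HV.zero_map] at this

variable (D : TwoSec X)

/-- the sequence of dimensions of `H^0(P n)` is decreasing, hence eventually constant -/
theorem exists_surjective (hfin : ∀ n, Module.Finite k (HV X (D.P n) 0)) :
    ∃ N, ∀ n, N ≤ n → Function.Surjective (HV.map k (D.a n) 0) := by
  have hanti : Antitone fun n => Module.finrank k (HV X (D.P n) 0) :=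
    antitone_nat_of_succ_le fun n => by
      have := D.mono n
      exact LinearMap.finrank_le_finrank_of_injective (HV_mono (D.a n))
  obtain ⟨N, hN⟩ := WellFoundedLT.antitone_chain_condition hanti
  refine ⟨N, fun n hn => ?_⟩
  have := D.mono n
  have h1 : Module.finrank k (HV X (D.P (n + 1)) 0) = Module.finrank k (HV X (D.P n) 0) :=
    (hN (n + 1) (by omega)).symm.trans (hN n hn)
  exact (LinearMap.injective_iff_surjective_of_finrank_eq_finrank h1).1 (HV_mono (D.a n))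

theorem map_biprod_eq_zero {F G H : X.Modules} (f : F ⟶ G ⊞ H) (n : ℕ) (x : HV X F n)
    (h1 : HV.map k (f ≫ biprod.fst) n x = 0) (h2 : HV.map k (f ≫ biprod.snd) n x = 0) : HV.map k f n x = 0 := by
  have h : f = (f ≫ biprod.fst) ≫ biprod.inl + (f ≫ biprod.snd) ≫ biprod.inr := by
    rw [Category.assoc, Category.assoc, ← Preadditive.comp_add, biprod.total, Category.comp_id]
  rw [h, HV.map_add, LinearMap.add_apply, HV.map_comp_apply, h1, HV.map_comp_apply, h2, _root_.map_zero,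
    _root_.map_zero, add_zero]

theorem injective_pair {n : ℕ} (hn : Function.Surjective (HV.map k (D.a n) 0)) (x : HV X (D.P (n + 2)) 1)
    (h1 : HV.map k (D.a (n + 1)) 1 x = 0) (h2 : HV.map k (D.b (n + 1)) 1 x = 0) : x = 0 := by
  have h3 : HV.map k (biprod.lift (D.b (n + 1)) (-(D.a (n + 1)))) 1 x = 0 := by
    refine map_biprod_eq_zero _ 1 x ?_ ?_
    · rwa [biprod.lift_fst]
    · rw [biprod.lift_snd]
      have : HV.map k (-(D.a (n + 1)) + D.a (n + 1)) 1 x = 0 := by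
        rw [neg_add_cancel, HV.map_zero, LinearMap.zero_apply]
      rwa [HV.map_add, LinearMap.add_apply, h1, add_zero] at this
  obtain ⟨y, rfl⟩ := HV.exact₁ k (D.exact n) 0 x h3
  obtain ⟨z, rfl⟩ := hn y
  have h4 : HV.map k (D.a n) 0 z = HV.map k (biprod.desc (D.a n) (D.b n)) 0 (HV.map k biprod.inl 0 z) := by
    rw [← HV.map_comp_apply, biprod.inl_desc]
  rw [h4]
  exact HV.δ_map k (D.exact n) 0 _

theorem exists_decomp {w : X.Modules} {t : HV X w 1 →ₗ[k] k} (h : IsDual w t) {n : ℕ}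
    (hn : Function.Surjective (HV.map k (D.a n) 0)) (φ : D.P (n + 2) ⟶ w) :
    ∃ ψ₁ ψ₂ : D.P (n + 1) ⟶ w, φ = D.a (n + 1) ≫ ψ₁ + D.b (n + 1) ≫ ψ₂ := by
  let f : HV X (D.P (n + 2)) 1 →ₗ[k] HV X (D.P (n + 1)) 1 × HV X (D.P (n + 1)) 1 :=
    (HV.map k (D.a (n + 1)) 1).prod (HV.map k (D.b (n + 1)) 1)
  have hf : Function.Injective f := by
    rw [← LinearMap.ker_eq_bot, LinearMap.ker_eq_bot']
    intro x hx
    exact injective_pair D hn x (congrArg Prod.fst hx) (congrArg Prod.snd hx)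
  obtain ⟨g, hg⟩ := LinearMap.dualMap_surjective_of_injective hf (h.homEquiv (D.qcoh _) φ)
  obtain ⟨ψ₁, h1⟩ := (h.homEquiv (D.qcoh (n + 1))).surjective (g ∘ₗ LinearMap.inl k _ _)
  obtain ⟨ψ₂, h2⟩ := (h.homEquiv (D.qcoh (n + 1))).surjective (g ∘ₗ LinearMap.inr k _ _)
  refine ⟨ψ₁, ψ₂, (h.homEquiv (D.qcoh _)).injective ?_⟩
  rw [h.homEquiv_apply] at hg h1 h2
  rw [map_add, h.homEquiv_apply, h.homEquiv_apply, h.homEquiv_apply, HV.map_comp, HV.map_comp,
    ← LinearMap.comp_assoc, ← LinearMap.comp_assoc, h1, h2]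
  refine hg.symm.trans ?_
  ext x
  change g (HV.map k (D.a (n + 1)) 1 x, HV.map k (D.b (n + 1)) 1 x) =
    g (HV.map k (D.a (n + 1)) 1 x, 0) + g (0, HV.map k (D.b (n + 1)) 1 x)
  rw [← map_add, Prod.mk_add_mk, add_zero, zero_add]

/-- A finite spanning family of `Hom(F, w)`. -/
theorem exists_finite_span {w : X.Modules} {t : HV X w 1 →ₗ[k] k} (h : IsDual w t) {F : X.Modules}
    (hF : Coh.IsQCoh F) [Module.Finite k (HV X F 1)] :
    ∃ (m : ℕ) (ψ : Fin m → (F ⟶ w)), ∀ φ : F ⟶ w, ∃ c : Fin m → k, φ = ∑ i, Formal.smulMod k F (c i) ≫ ψ i := by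
  obtain ⟨m, v, hv⟩ := Module.Finite.exists_fin (R := k) (M := HV X F 1 →ₗ[k] k)
  refine ⟨m, fun i => (h.homEquiv hF).symm (v i), fun φ => ?_⟩
  have h1 : h.homEquiv hF φ ∈ Submodule.span k (Set.range v) := by rw [hv]; trivial
  obtain ⟨c, hc⟩ := (Submodule.mem_span_range_iff_exists_fun k).1 h1
  refine ⟨c, (h.homEquiv hF).injective ?_⟩
  rw [map_sum, ← hc]
  refine Finset.sum_congr rfl fun i _ => ?_
  rw [h.homEquiv_smul, AddEquiv.apply_symm_apply]

section sections

variable {w : X.Modules} {U : X.Opens} (e : ∀ n, Γ(D.P n, U)) (ha : ∀ n, (D.a n).app U (e (n + 1)) = e n)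
  (hb : ∀ n, ∃ g : Γ(X, U), (D.b n).app U (e (n + 1)) = g • e n)
include ha hb

theorem mem_span {w : X.Modules} (N : ℕ)
    (hN : ∀ n, N ≤ n → ∀ φ : D.P (n + 1) ⟶ w, ∃ ψ₁ ψ₂ : D.P n ⟶ w, φ = D.a n ≫ ψ₁ + D.b n ≫ ψ₂)
    (W : Submodule Γ(X, U) Γ(w, U)) (hW : ∀ ψ : D.P N ⟶ w, ψ.app U (e N) ∈ W) (n : ℕ) (hn : N ≤ n)
    (φ : D.P n ⟶ w) : φ.app U (e n) ∈ W := by
  induction n, hn using Nat.le_induction with
  | base => exact hW φ
  | succ n hn ih =>
    obtain ⟨ψ₁, ψ₂, rfl⟩ := hN n hn φ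
    obtain ⟨g, hg⟩ := hb n
    have h1 : (D.a n ≫ ψ₁ + D.b n ≫ ψ₂).app U (e (n + 1)) = ψ₁.app U (e n) + g • ψ₂.app U (e n) := by
      rw [Scheme.Modules.Hom.add_app]
      change ψ₁.app U ((D.a n).app U (e (n + 1))) + ψ₂.app U ((D.b n).app U (e (n + 1))) = _
      rw [ha, hg, Scheme.Modules.Hom.app_smul]
    rw [h1]
    exact W.add_mem (ih ψ₁) (W.smul_mem _ (ih ψ₂))

theorem finite_sections {w : X.Modules} {t : HV X w 1 →ₗ[k] k} (h : IsDual w t)
    (hfin : ∀ n, Module.Finite k (HV X (D.P n) 0)) (hfin' : ∀ n, Module.Finite k (HV X (D.P n) 1))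
    (hext : ∀ σ : Γ(w, U), ∃ (n : ℕ) (φ : D.P n ⟶ w), φ.app U (e n) = σ) :
    Module.Finite Γ(X, U) Γ(w, U) := by
  obtain ⟨N, hN⟩ := exists_surjective D hfin
  have := hfin' (N + 1)
  obtain ⟨m, ψ, hψ⟩ := exists_finite_span h (D.qcoh (N + 1))
  let W : Submodule Γ(X, U) Γ(w, U) := Submodule.span _ (Set.range fun i => (ψ i).app U (e (N + 1)))
  have hW : ∀ φ : D.P (N + 1) ⟶ w, φ.app U (e (N + 1)) ∈ W := by
    intro φ
    obtain ⟨c, rfl⟩ := hψ φ
    have h1 : (∑ i, Formal.smulMod k (D.P (N + 1)) (c i) ≫ ψ i).app U (e (N + 1)) =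
        ∑ i, HV.globOn k X U (c i) • (ψ i).app U (e (N + 1)) := by
      have h2 : ∀ s : Finset (Fin m), (∑ i ∈ s, Formal.smulMod k (D.P (N + 1)) (c i) ≫ ψ i).app U (e (N + 1)) =
        ∑ i ∈ s, HV.globOn k X U (c i) • (ψ i).app U (e (N + 1)) := by
        intro s
        induction s using Finset.cons_induction with
        | empty => simp
        | cons a s ha ih =>
          rw [Finset.sum_cons, Finset.sum_cons, ← ih, Scheme.Modules.Hom.add_app]
          change (ψ a).app U ((Formal.smulMod k (D.P (N + 1)) (c a)).app U (e (N + 1))) + _ = _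
          rw [HV.smulMod_app, Scheme.Modules.Hom.app_smul]
      exact h2 _
    rw [h1]
    exact W.sum_mem fun i _ => W.smul_mem _ (Submodule.subset_span ⟨i, rfl⟩)
  have htop : W = ⊤ := by
    rw [eq_top_iff]
    rintro σ -
    obtain ⟨n, φ, rfl⟩ := hext σ
    have key : ∀ j, ∃ φ' : D.P (n + j) ⟶ w, φ'.app U (e (n + j)) = φ.app U (e n) := by
      intro j
      induction j with
      | zero => exact ⟨φ, rfl⟩
      | succ j ih =>
        obtain ⟨φ', h'⟩ := ih
        refine ⟨D.a (n + j) ≫ φ', ?_⟩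
        change φ'.app U ((D.a (n + j)).app U (e (n + j + 1))) = _
        rw [ha, h']
    obtain ⟨φ', h'⟩ := key (N + 1)
    rw [← h']
    refine mem_span D e ha hb (N + 1) (fun n hn φ => ?_) W hW _ (by omega) φ'
    obtain ⟨n, rfl⟩ : ∃ j, n = j + 1 := ⟨n - 1, by omega⟩
    exact exists_decomp D h (hN n (by omega)) φ
  exact Module.finite_def.2 (Submodule.fg_def.2 ⟨_, Set.finite_range _, htop⟩)

end sections

end Groth.Agent.CurvesC.DualCoh968
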