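import Groth.Agent.Ega1.SubSheaf

/-!
# Morphisms of modules defined by a local relation

`exists_hom_of_rel`: a relation between sections of `F` and sections of `G` which is functional, local, compatible
with restriction, locally defined, additive and linear is the graph of a morphism `F ⟶ G`.
-/

set_option autoImplicit false

universe u

open AlgebraicGeometry CategoryTheory TopologicalSpace Opposite

namespace Groth.Agent.CurvesC.HomRel

open Groth.Agent.Ega1.SubSheaf

variable {X : Scheme.{u}}

/-- Construction of a morphism of modules from a local relation. -/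
theorem exists_hom_of_rel {F G : X.Modules} (R : ∀ U : X.Opens, Γ(F, U) → Γ(G, U) → Prop)
    (huniq : ∀ U x y y', R U x y → R U x y' → y = y')
    (hres : ∀ (U V : X.Opens) (h : V ≤ U) x y, R U x y → R V (res F h x) (res G h y))
    (hloc : ∀ (U : X.Opens) x y, (∀ p ∈ U, ∃ (V : X.Opens) (h : V ≤ U), p ∈ V ∧ R V (res F h x) (res G h y)) → R U x y)
    (hex : ∀ (U : X.Opens) (x : Γ(F, U)), ∀ p ∈ U, ∃ (V : X.Opens) (h : V ≤ U), p ∈ V ∧ ∃ y, R V (res F h x) y)
    (hadd : ∀ U x x' y y', R U x y → R U x' y' → R U (x + x') (y + y'))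
    (hsmul : ∀ (U : X.Opens) (r : Γ(X, U)) x y, R U x y → R U (r • x) (r • y)) :
    ∃ Φ : F ⟶ G, ∀ (U : X.Opens) (x : Γ(F, U)), R U x (Φ.app U x) := by
  have key : ∀ (U : X.Opens) (x : Γ(F, U)), ∃ y, R U x y := by
    intro U x
    choose V hV hp y hy using hex U x
    obtain ⟨t, ht⟩ := exists_glue G (U := U) (fun p : U => V p.1 p.2) (fun p => hV p.1 p.2)
      (fun p hp' => ⟨⟨p, hp'⟩, hp p hp'⟩) (fun p => y p.1 p.2) (by
        intro i j
        refine huniq _ (res F (inf_le_left.trans (hV i.1 i.2)) x) _ _ ?_ ?_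
        · have := hres _ _ (inf_le_left : V i.1 i.2 ⊓ V j.1 j.2 ≤ V i.1 i.2) _ _ (hy i.1 i.2)
          rwa [res_res] at this
        · have := hres _ _ (inf_le_right : V i.1 i.2 ⊓ V j.1 j.2 ≤ V j.1 j.2) _ _ (hy j.1 j.2)
          rwa [res_res] at this)
    refine ⟨t, hloc U x t fun p hp' => ⟨V p hp', hV p hp', hp p hp', ?_⟩⟩
    rw [ht ⟨p, hp'⟩]
    exact hy p hp'
  choose g hg using key
  refine ⟨homMk (fun U => AddMonoidHom.mk' (g U) fun a b => ?_) ?_ ?_, fun U x => hg U x⟩
  · exact huniq U _ _ _ (hg U _) (hadd U _ _ _ _ (hg U a) (hg U b))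
  · intro U V h s
    exact huniq V _ _ _ (hg V _) (hres U V h _ _ (hg U s))
  · intro U r s
    exact huniq U _ _ _ (hg U _) (hsmul U r _ _ (hg U s))

/-- Local surjectivity of a morphism of modules. -/
def LocSurj {A B : X.Modules} (p : A ⟶ B) : Prop :=
  ∀ (U : X.Opens) (y : Γ(B, U)), ∀ q ∈ U, ∃ (V : X.Opens) (h : V ≤ U), q ∈ V ∧ ∃ x : Γ(A, V), p.app V x = res B h y

/-- A morphism which is surjective on affine opens is locally surjective. -/
theorem locSurj_of_affine {A B : X.Modules} (p : A ⟶ B)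
    (h : ∀ U : X.Opens, IsAffineOpen U → Function.Surjective (p.app U)) : LocSurj p := by
  intro U y q hq
  obtain ⟨V, hV, hqV, hVU⟩ := (Opens.isBasis_iff_nbhd.mp X.isBasis_affineOpens) hq
  exact ⟨V, hVU, hqV, h V hV _⟩

/-- A locally surjective morphism is an epimorphism (elementwise form). -/
theorem hom_ext_of_locSurj {A B G : X.Modules} (p : A ⟶ B) (hp : LocSurj p) {f g : B ⟶ G}
    (h : p ≫ f = p ≫ g) : f = g := by
  apply Scheme.Modules.hom_ext
  intro U
  ext y
  refine section_ext G _ _ fun q hq => ?_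
  obtain ⟨V, hV, hqV, x, hx⟩ := hp U y q hq
  refine ⟨V, hV, hqV, ?_⟩
  rw [← app_res, ← app_res, ← hx]
  exact congr(($h).app V x)

theorem epi_of_locSurj {A B : X.Modules} (p : A ⟶ B) (hp : LocSurj p) : Epi p :=
  ⟨fun _ _ h => hom_ext_of_locSurj p hp h⟩

/-- Descent of a morphism along a locally surjective one. -/
theorem exists_desc {A B G : X.Modules} (p : A ⟶ B) (hp : LocSurj p) (f : A ⟶ G)
    (h : ∀ (U : X.Opens) (x : Γ(A, U)), p.app U x = 0 → f.app U x = 0) : ∃ φ : B ⟶ G, p ≫ φ = f := by
  have h' : ∀ (U : X.Opens) (x x' : Γ(A, U)), p.app U x = p.app U x' → f.app U x = f.app U x' := by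
    intro U x x' e
    rw [← sub_eq_zero, ← map_sub]
    apply h
    rw [map_sub, e, sub_self]
  obtain ⟨φ, hφ⟩ := exists_hom_of_rel (F := B) (G := G)
    (fun U y z => ∀ (V : X.Opens) (hV : V ≤ U) (x : Γ(A, V)), p.app V x = res B hV y → f.app V x = res G hV z)
    (by
      intro U y z z' hz hz'
      refine section_ext G _ _ fun q hq => ?_
      obtain ⟨V, hV, hqV, x, hx⟩ := hp U y q hq
      exact ⟨V, hV, hqV, (hz V hV x hx).symm.trans (hz' V hV x hx)⟩)
    (by
      intro U V h y z hz W hW x hx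
      rw [res_res] at hx ⊢
      exact hz W _ x hx)
    (by
      intro U y z hz V hV x hx
      refine section_ext G _ _ fun q hq => ?_
      obtain ⟨W, hW, hqW, hWz⟩ := hz q (hV hq)
      refine ⟨V ⊓ W, inf_le_left, ⟨hq, hqW⟩, ?_⟩
      have := hWz (V ⊓ W) inf_le_right (res A inf_le_left x) (by rw [app_res, hx, res_res, res_res])
      rw [app_res, res_res] at this
      rw [this, res_res])
    (by
      intro U y q hq
      obtain ⟨V, hV, hqV, x, hx⟩ := hp U y q hq
      refine ⟨V, hV, hqV, f.app V x, ?_⟩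
      intro W hW x' hx'
      rw [← hx, ← app_res] at hx'
      rw [h' _ _ _ hx', app_res])
    (by
      intro U y y' z z' hz hz'
      intro V hV x hx
      refine section_ext G _ _ fun q hq => ?_
      obtain ⟨W, hW, hqW, x₁, hx₁⟩ := hp V (res B hV y) q hq
      refine ⟨W, hW, hqW, ?_⟩
      have e1 := hz W (hW.trans hV) x₁ (by rw [hx₁, res_res])
      have e2 := hz' W (hW.trans hV) (res A hW x - x₁) (by
        rw [map_sub, hx₁, app_res, hx, res_res, res_res, map_add, add_sub_cancel_left])
      rw [map_sub, e1, app_res] at e2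
      rw [res_res, map_add, ← e2]
      abel)
    (by
      intro U r y z hz V hV x hx
      refine section_ext G _ _ fun q hq => ?_
      obtain ⟨W, hW, hqW, x₁, hx₁⟩ := hp V (res B hV y) q hq
      refine ⟨W, hW, hqW, ?_⟩
      have e1 := hz W (hW.trans hV) x₁ (by rw [hx₁, res_res])
      have e2 := h' W (res A hW x) (X.presheaf.map (homOfLE (hW.trans hV)).op r • x₁) (by
        rw [app_res, hx, app_smul', hx₁, res_res, res_res, res_smul])
      rw [← app_res, e2, app_smul', e1, res_res, res_smul])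
  refine ⟨φ, ?_⟩
  apply Scheme.Modules.hom_ext
  intro U
  ext x
  have := hφ U (p.app U x) U le_rfl x (by rw [res_self])
  rw [res_self] at this
  exact this.symm

/-- Descent of a pairing in the first variable, evaluated at a global section. -/
theorem exists_hom_pairing {A B F G : X.Modules} (p : A ⟶ B) (hp : LocSurj p) (s : Γ(B, ⊤))
    (β : ∀ U : X.Opens, Γ(A, U) → Γ(F, U) → Γ(G, U))
    (hl : ∀ U x x' y, β U (x - x') y = β U x y - β U x' y)
    (hr : ∀ U x y y', β U x (y + y') = β U x y + β U x y')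
    (hs : ∀ (U : X.Opens) x y (r : Γ(X, U)), β U x (r • y) = r • β U x y)
    (hres : ∀ (U V : X.Opens) (h : V ≤ U) x y, β V (res A h x) (res F h y) = res G h (β U x y))
    (hker : ∀ (U : X.Opens) (x : Γ(A, U)) y, p.app U x = 0 → β U x y = 0) :
    ∃ Φ : F ⟶ G, ∀ (U : X.Opens) (x : Γ(A, U)) (y : Γ(F, U)), p.app U x = res B le_top s →
      Φ.app U y = β U x y := by
  have h' : ∀ (U : X.Opens) (x x' : Γ(A, U)) y, p.app U x = p.app U x' → β U x y = β U x' y := by
    intro U x x' y e
    rw [← sub_eq_zero, ← hl]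
    apply hker
    rw [map_sub, e, sub_self]
  obtain ⟨φ, hφ⟩ := exists_hom_of_rel (F := F) (G := G)
    (fun U y z => ∀ (V : X.Opens) (hV : V ≤ U) (x : Γ(A, V)), p.app V x = res B le_top s →
      β V x (res F hV y) = res G hV z)
    (by
      intro U y z z' hz hz'
      refine section_ext G _ _ fun q hq => ?_
      obtain ⟨V, hV, hqV, x, hx⟩ := hp U (res B le_top s) q hq
      rw [res_res] at hx
      exact ⟨V, hV, hqV, (hz V hV x hx).symm.trans (hz' V hV x hx)⟩)
    (by
      intro U V h y z hz W hW x hx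
      rw [res_res, res_res]
      exact hz W _ x hx)
    (by
      intro U y z hz V hV x hx
      refine section_ext G _ _ fun q hq => ?_
      obtain ⟨W, hW, hqW, hWz⟩ := hz q (hV hq)
      refine ⟨V ⊓ W, inf_le_left, ⟨hq, hqW⟩, ?_⟩
      have := hWz (V ⊓ W) inf_le_right (res A inf_le_left x) (by rw [app_res, hx, res_res])
      rw [res_res, res_res] at this
      rw [← hres, res_res, this, res_res])
    (by
      intro U y q hq
      obtain ⟨V, hV, hqV, x, hx⟩ := hp U (res B le_top s) q hq
      rw [res_res] at hx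
      refine ⟨V, hV, hqV, β V x (res F hV y), ?_⟩
      intro W hW x' hx'
      rw [← hres]
      apply h'
      rw [hx', app_res, hx, res_res])
    (by
      intro U y y' z z' hz hz' V hV x hx
      rw [map_add, map_add, hr, hz V hV x hx, hz' V hV x hx])
    (by
      intro U r y z hz V hV x hx
      rw [res_smul, res_smul, hs, hz V hV x hx])
  refine ⟨φ, ?_⟩
  intro U x y hx
  have := hφ U y U le_rfl x hx
  rw [res_self, res_self] at this
  exact this.symm

end Groth.Agent.CurvesC.HomRel
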