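import Groth.Prelude.Def_Curv2
import Groth.Agent.CurvesC.HomRel
import Groth.Agent.CurvesC.Gen
import Groth.Agent.CurvesB.HZero
import Groth.Agent.CohqB.HSeqMod

/-!
# Counting with a dualizing pair

`(w, t)` with `t : H¹(X, w) → k` such that `φ ↦ t ∘ H¹(φ)` is a bijection `Hom(F, w) ≃ H¹(X, F)^*` for every
quasi-coherent `F`.  We compare `h⁰(G)` with `h¹(F)` through maps `Γ(X, G) → Hom(F, w)`.
-/

set_option autoImplicit false

universe u

open AlgebraicGeometry CategoryTheory TopologicalSpace Opposite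

namespace Groth.Agent.CurvesC.DualCount

open Groth.Agent.Ega1.SubSheaf Groth.Agent.CohqB.HSeqMod Groth.Agent.CurvesB.HZero

variable {X : Scheme.{u}}

/-- restriction of functions. -/
noncomputable abbrev resO {U V : X.Opens} (h : V ≤ U) : Γ(X, U) →+* Γ(X, V) :=
  (X.presheaf.map (homOfLE h).op).hom

/-- `φ` is `r` times `ψ`. -/
def IsSmul (r : Γ(X, ⊤)) {F G : X.Modules} (ψ φ : F ⟶ G) : Prop :=
  ∀ (U : X.Opens) (x : Γ(F, U)), φ.app U x = (resO (V := U) le_top r : Γ(X, U)) • ψ.app U x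

theorem hmap_isSmul {F G : X.Modules} {r : Γ(X, ⊤)} {ψ φ : F ⟶ G} (h : IsSmul r ψ φ) (n : ℕ)
    (x : Coh.HH X F n) : hmap φ n x = (show Coh.Γtop X from r) • hmap ψ n x := by
  have e : ((SheafOfModules.toSheaf X.ringCatSheaf).map φ) =
      ((SheafOfModules.toSheaf X.ringCatSheaf).map ψ) ≫ Coh.smulAb G (show Coh.Γtop X from r) := by
    ext U x
    exact h U.unop x
  change Sheaf.H.map ((SheafOfModules.toSheaf X.ringCatSheaf).map φ) n x =
    Sheaf.H.map (Coh.smulAb G _) n (Sheaf.H.map ((SheafOfModules.toSheaf X.ringCatSheaf).map ψ) n x)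
  rw [e, Sheaf.H.map_comp_apply]

theorem hmap_smul {F G : X.Modules} (φ : F ⟶ G) (n : ℕ) (r : Coh.Γtop X) (x : Coh.HH X F n) :
    hmap φ n (r • x) = r • hmap φ n x := by
  have e : Coh.smulAb F r ≫ ((SheafOfModules.toSheaf X.ringCatSheaf).map φ) =
      ((SheafOfModules.toSheaf X.ringCatSheaf).map φ) ≫ Coh.smulAb G r := by
    ext U x
    exact app_smul' φ (U := U.unop) (Coh.resTop X U r) x
  change Sheaf.H.map ((SheafOfModules.toSheaf X.ringCatSheaf).map φ) n (Sheaf.H.map (Coh.smulAb F _) n x) =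
    Sheaf.H.map (Coh.smulAb G _) n (Sheaf.H.map ((SheafOfModules.toSheaf X.ringCatSheaf).map φ) n x)
  rw [← Sheaf.H.map_comp_apply, e, Sheaf.H.map_comp_apply]

section Field

variable (k : Type u) [Field k] [X.Over (Spec (CommRingCat.of k))]

/-- `hmap` is linear over the base field. -/
noncomputable def hmapₗ {F G : X.Modules} (φ : F ⟶ G) (n : ℕ) : Coh.HH X F n →ₗ[k] Coh.HH X G n :=
  { hmap φ n with
    map_smul' := fun a x => hmap_smul φ n (Coh.toGlobal (X ↘ Spec (CommRingCat.of k)) a) x }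

@[simp] theorem hmapₗ_apply {F G : X.Modules} (φ : F ⟶ G) (n : ℕ) (x : Coh.HH X F n) :
    hmapₗ k φ n x = hmap φ n x := rfl

/-- The functional `t ∘ H¹(φ)`. -/
noncomputable def dmap {w : X.Modules} (t : Coh.HH X w 1 →ₗ[k] k) {F : X.Modules} (φ : F ⟶ w) :
    Module.Dual k (Coh.HH X F 1) := t.comp (hmapₗ k φ 1)

@[simp] theorem dmap_apply {w : X.Modules} (t : Coh.HH X w 1 →ₗ[k] k) {F : X.Modules} (φ : F ⟶ w)
    (x : Coh.HH X F 1) : dmap k t φ x = t (hmap φ 1 x) := rfl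

/-- `(w, t)` is a dualizing pair: it represents `F ↦ H¹(X, F)^*` on quasi-coherent modules. -/
def IsPair {w : X.Modules} (t : Coh.HH X w 1 →ₗ[k] k) : Prop :=
  ∀ F : X.Modules, Coh.IsQCoh F → ∀ ψ : Coh.HH X F 1 →ₗ[k] k, ∃! φ : F ⟶ w,
    ∀ x : Coh.HH X F 1, ψ x = t (Sheaf.H.map ((SheafOfModules.toSheaf X.ringCatSheaf).map φ) 1 x)

variable {k}

theorem IsPair.bijective {w : X.Modules} {t : Coh.HH X w 1 →ₗ[k] k} (ht : IsPair k t) {F : X.Modules}
    (hF : Coh.IsQCoh F) : Function.Bijective (dmap k t (F := F)) := by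
  constructor
  · intro φ φ' h
    obtain ⟨φ₀, -, hφ₀⟩ := ht F hF (dmap k t φ)
    rw [hφ₀ φ (fun x => rfl), hφ₀ φ' (fun x => by rw [h]; rfl)]
  · intro ψ
    obtain ⟨φ, hφ, -⟩ := ht F hF ψ
    exact ⟨φ, LinearMap.ext fun x => (hφ x).symm⟩

/-- Linear map to the dual obtained from a family of morphisms. -/
noncomputable def toDual {w : X.Modules} (t : Coh.HH X w 1 →ₗ[k] k) {F G : X.Modules} (θ : Γ(G, ⊤) → (F ⟶ w))
    (hadd : ∀ s s', θ (s + s') = θ s + θ s')
    (hsmul : ∀ (r : Γ(X, ⊤)) s, IsSmul r (θ s) (θ (r • s))) :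
    Coh.HH X G 0 →ₗ[k] Module.Dual k (Coh.HH X F 1) where
  toFun v := dmap k t (θ (equivAdd G v))
  map_add' v v' := by
    ext x
    simp only [dmap_apply, map_add, hadd, hmap_add_apply, LinearMap.add_apply]
  map_smul' a v := by
    ext x
    simp only [dmap_apply, LinearMap.smul_apply, RingHom.id_apply]
    rw [equivAdd_smul_over, hmap_isSmul (hsmul _ _)]
    exact t.map_smul a _

theorem h0_le {w : X.Modules} {t : Coh.HH X w 1 →ₗ[k] k} (ht : IsPair k t) {F G : X.Modules}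
    (hF : Coh.IsQCoh F) [Module.Finite k (Coh.HH X F 1)] (θ : Γ(G, ⊤) → (F ⟶ w))
    (hadd : ∀ s s', θ (s + s') = θ s + θ s')
    (hsmul : ∀ (r : Γ(X, ⊤)) s, IsSmul r (θ s) (θ (r • s))) (hinj : Function.Injective θ) :
    Module.finrank k (Coh.HH X G 0) ≤ Module.finrank k (Coh.HH X F 1) := by
  rw [← Subspace.dual_finrank_eq (K := k) (V := Coh.HH X F 1)]
  refine LinearMap.finrank_le_finrank_of_injective (f := toDual t θ hadd hsmul) ?_
  exact (ht.bijective hF).1.comp (hinj.comp (equivAdd G).injective)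

theorem h0_eq {w : X.Modules} {t : Coh.HH X w 1 →ₗ[k] k} (ht : IsPair k t) {F G : X.Modules}
    (hF : Coh.IsQCoh F) (θ : Γ(G, ⊤) → (F ⟶ w))
    (hadd : ∀ s s', θ (s + s') = θ s + θ s')
    (hsmul : ∀ (r : Γ(X, ⊤)) s, IsSmul r (θ s) (θ (r • s))) (hbij : Function.Bijective θ) :
    Module.finrank k (Coh.HH X G 0) = Module.finrank k (Coh.HH X F 1) := by
  rw [← Subspace.dual_finrank_eq (K := k) (V := Coh.HH X F 1)]
  refine LinearEquiv.finrank_eq (LinearEquiv.ofBijective (toDual t θ hadd hsmul) ?_)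
  exact (ht.bijective hF).comp (hbij.comp (equivAdd G).bijective)

end Field

end Groth.Agent.CurvesC.DualCount
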