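import Groth.Agent.VarietyB.PullSec
import Groth.Agent.CurvesC.Gen
import Groth.Prelude.Def_ClSub2

/-!
# The unit `M ⟶ i_* i^* M` for a closed immersion, on affine opens
-/

set_option autoImplicit false
set_option linter.unusedVariables false

universe u

open AlgebraicGeometry CategoryTheory CategoryTheory.Limits TopologicalSpace Opposite

namespace Groth.Agent.CurvesC.EtaClosed

open Groth.Agent.CurvesC.Gen Groth.Agent.VarietyB

variable {X Y : Scheme.{u}}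

/-- The unit of adjunction. -/
noncomputable abbrev eta (i : Y ⟶ X) (M : X.Modules) :
    M ⟶ (Scheme.Modules.pushforward i).obj ((Scheme.Modules.pullback i).obj M) :=
  (Scheme.Modules.pullbackPushforwardAdjunction i).unit.app M

theorem eta_app (i : Y ⟶ X) (M : X.Modules) (U : X.Opens) (m : Γ(M, U)) :
    (eta i M).app U m = PullSec.sec i M (le_refl (i ⁻¹ᵁ U)) m := by
  rw [PullSec.sec_apply]
  exact (map_self_section ((Scheme.Modules.pullback i).obj M) (le_refl (i ⁻¹ᵁ U)) ((eta i M).app U m)).symm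

theorem eta_smul (i : Y ⟶ X) (M : X.Modules) (U : X.Opens) (a : Γ(X, U)) (m : Γ(M, U)) :
    (eta i M).app U (a • m) =
      (show Γ((Scheme.Modules.pullback i).obj M, i ⁻¹ᵁ U) from i.app U a • (show Γ((Scheme.Modules.pullback i).obj M, i ⁻¹ᵁ U) from (eta i M).app U m)) := by
  rw [Scheme.Modules.Hom.app_smul]
  rfl

theorem eta_surjective (i : Y ⟶ X) [IsClosedImmersion i] (M : X.Modules) (hM : Coh.IsQCoh M) (U : X.Opens)
    (hU : IsAffineOpen U) : Function.Surjective ((eta i M).app U) := by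
  have hV : IsAffineOpen (i ⁻¹ᵁ U) := hU.preimage i
  let j1 : Algebra Γ(X, U) Γ(Y, i ⁻¹ᵁ U) := (i.appLE U (i ⁻¹ᵁ U) le_rfl).hom.toAlgebra
  let j2 := PullSec.secModule i M (le_refl (i ⁻¹ᵁ U))
  have j3 : IsScalarTower Γ(X, U) Γ(Y, i ⁻¹ᵁ U) Γ((Scheme.Modules.pullback i).obj M, i ⁻¹ᵁ U) :=
      ⟨fun a b c => by rw [Algebra.smul_def, mul_smul]; rfl⟩
  have hb : IsBaseChange Γ(Y, i ⁻¹ᵁ U) (PullSec.secₗ i M (le_refl (i ⁻¹ᵁ U))) :=
    PullSec.isBaseChange_secₗ i M le_rfl hM hU hV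
  have hs : Function.Surjective (algebraMap Γ(X, U) Γ(Y, i ⁻¹ᵁ U)) := by
    have h1 := i.app_surjective U hU
    rw [Scheme.Hom.app_eq_appLE] at h1
    exact h1
  intro y
  have key : ∀ y : Γ((Scheme.Modules.pullback i).obj M, i ⁻¹ᵁ U), ∃ m : Γ(M, U),
      PullSec.secₗ i M (le_refl (i ⁻¹ᵁ U)) m = y := by
    intro y
    induction y using hb.inductionOn with
    | zero => exact ⟨0, map_zero _⟩
    | tmul m => exact ⟨m, rfl⟩
    | smul b n h =>
      obtain ⟨m, rfl⟩ := h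
      obtain ⟨a, rfl⟩ := hs b
      refine ⟨a • m, ?_⟩
      rw [map_smul, algebraMap_smul]
    | add n n' h h' =>
      obtain ⟨m, rfl⟩ := h
      obtain ⟨m', rfl⟩ := h'
      exact ⟨m + m', map_add _ _ _⟩
  obtain ⟨m, hm⟩ := key y
  exact ⟨m, (eta_app i M U m).trans hm⟩

theorem eta_ker_iff (i : Y ⟶ X) [IsClosedImmersion i] (M : X.Modules) (hM : Coh.IsQCoh M) (U : X.Opens)
    (hU : IsAffineOpen U) (e : Γ(M, U)) (he : IsGen M U e) (a : Γ(X, U)) :
    (eta i M).app U (a • e) = 0 ↔ i.app U a = 0 := by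
  have hV : IsAffineOpen (i ⁻¹ᵁ U) := hU.preimage i
  let j1 : Algebra Γ(X, U) Γ(Y, i ⁻¹ᵁ U) := (i.appLE U (i ⁻¹ᵁ U) le_rfl).hom.toAlgebra
  let j2 := PullSec.secModule i M (le_refl (i ⁻¹ᵁ U))
  have j3 : IsScalarTower Γ(X, U) Γ(Y, i ⁻¹ᵁ U) Γ((Scheme.Modules.pullback i).obj M, i ⁻¹ᵁ U) :=
      ⟨fun a b c => by rw [Algebra.smul_def, mul_smul]; rfl⟩
  have hb : IsBaseChange Γ(Y, i ⁻¹ᵁ U) (PullSec.secₗ i M (le_refl (i ⁻¹ᵁ U))) :=
    PullSec.isBaseChange_secₗ i M le_rfl hM hU hV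
  have hae : algebraMap Γ(X, U) Γ(Y, i ⁻¹ᵁ U) a = i.app U a := by
    change i.appLE U (i ⁻¹ᵁ U) le_rfl a = _
    rw [Scheme.Hom.app_eq_appLE]
  constructor
  · intro h
    rw [eta_app] at h
    have h' : PullSec.secₗ i M (le_refl (i ⁻¹ᵁ U)) (a • e) = 0 := h
    let f : Γ(M, U) →ₗ[Γ(X, U)] Γ(Y, i ⁻¹ᵁ U) :=
      { toFun := fun m => algebraMap Γ(X, U) Γ(Y, i ⁻¹ᵁ U) (he.coeff m)
        map_add' := fun m m' => by
          rw [← map_add]
          congr 1
          apply he.coeff_eq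
          rw [add_smul, he.coeff_smul, he.coeff_smul]
        map_smul' := fun r m => by
          rw [RingHom.id_apply, Algebra.smul_def, ← map_mul]
          congr 1
          apply he.coeff_eq
          rw [mul_smul, he.coeff_smul] }
    have h1 : hb.lift f (PullSec.secₗ i M (le_refl (i ⁻¹ᵁ U)) (a • e)) = f (a • e) := hb.lift_eq f _
    rw [h', map_zero] at h1
    have h2 : f (a • e) = algebraMap Γ(X, U) Γ(Y, i ⁻¹ᵁ U) a := by
      change algebraMap Γ(X, U) Γ(Y, i ⁻¹ᵁ U) (he.coeff (a • e)) = _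
      rw [he.coeff_eq rfl]
    rw [← hae, ← h2, ← h1]
  · intro h
    rw [eta_smul, h]
    exact zero_smul Γ(Y, i ⁻¹ᵁ U) (show Γ((Scheme.Modules.pullback i).obj M, i ⁻¹ᵁ U) from (eta i M).app U e)

end Groth.Agent.CurvesC.EtaClosed
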