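import Groth.Agent.CurvesC.HomRel

/-!
# Short exact sequences of modules from local data
-/

set_option autoImplicit false
set_option linter.unusedVariables false

universe u

open AlgebraicGeometry CategoryTheory CategoryTheory.Limits TopologicalSpace Opposite

namespace Groth.Agent.CurvesC.SESLocal

open Groth.Agent.Ega1.SubSheaf Groth.Agent.CurvesC.HomRel

variable {X : Scheme.{u}}

/-- A section which locally lies in the image of an injective map lies in the image. -/
theorem exists_of_local {A B : X.Modules} (f : A ⟶ B) (hf : ∀ U, Function.Injective (f.app U)) {U : X.Opens}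
    (x : Γ(B, U)) (h : ∀ p ∈ U, ∃ (V : X.Opens) (hV : V ≤ U), p ∈ V ∧ ∃ y : Γ(A, V), f.app V y = res B hV x) :
    ∃ y : Γ(A, U), f.app U y = x := by
  choose V hV hp y hy using h
  obtain ⟨t, ht⟩ := exists_glue A (U := U) (fun p : U => V p.1 p.2) (fun p => hV p.1 p.2)
    (fun p hp' => ⟨⟨p, hp'⟩, hp p hp'⟩) (fun p => y p.1 p.2) (by
      intro i j
      apply hf
      rw [app_res, app_res, hy, hy, res_res, res_res])
  refine ⟨t, section_ext B _ _ fun p hp' => ⟨V p hp', hV p hp', hp p hp', ?_⟩⟩
  rw [← app_res, ht ⟨p, hp'⟩, hy]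

/-- Short exactness from sections over affine opens. -/
theorem shortExact_of_local {A B C : X.Modules} (f : A ⟶ B) (g : B ⟶ C)
    (hf : ∀ U, Function.Injective (f.app U)) (hg : LocSurj g) (w : f ≫ g = 0)
    (hex : ∀ (U : X.Opens) (x : Γ(B, U)), g.app U x = 0 → ∀ p ∈ U, ∃ (V : X.Opens) (hV : V ≤ U), p ∈ V ∧
      ∃ y : Γ(A, V), f.app V y = res B hV x) :
    (ShortComplex.mk f g w).ShortExact := by
  have hm : Mono f := (mono_iff_injective f).2 hf
  have he : Epi g := epi_of_locSurj g hg
  have hlift : ∀ {W : X.Modules} (k : W ⟶ B), k ≫ g = 0 → ∃ l : W ⟶ A, l ≫ f = k := by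
    intro W k hk
    refine exists_lift k f fun U s => exists_of_local f hf _ (hex U _ ?_)
    exact congr($(hk).app U s)
  refine { exact := ?_, mono_f := hm, epi_g := he }
  refine ShortComplex.exact_of_f_is_kernel _ ?_
  refine KernelFork.IsLimit.ofι _ _ (fun k hk => (hlift k hk).choose) (fun k hk => (hlift k hk).choose_spec) ?_
  intro W k hk m hm'
  rw [← cancel_mono f, hm', (hlift k hk).choose_spec]

end Groth.Agent.CurvesC.SESLocal
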