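import Groth.Prelude.Def_Curv2
import Groth.Agent.CurvesC.CompGeom

/-!
The ideal of a closed set `C` in a reduced Noetherian scheme and the ideal of the scheme theoretic closure of the
complement annihilate each other.
-/

set_option autoImplicit false
universe u
open CategoryTheory CategoryTheory.Limits AlgebraicGeometry TopologicalSpace Opposite

namespace Groth.Agent.CurvesC.DualIdeals

variable {X : Scheme.{u}}

theorem mem_vanishingIdeal_iff {C : Set X} (hC : IsClosed C) (U : X.affineOpens) (a : Γ(X, U.1)) :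
    a ∈ (Scheme.IdealSheafData.vanishingIdeal ⟨C, hC⟩).ideal U ↔ ∀ x ∈ C, x ∉ X.basicOpen a := by
  constructor
  · intro ha x hx hxa
    have h1 : x ∈ (Scheme.IdealSheafData.vanishingIdeal (X := X) ⟨C, hC⟩).support :=
      Scheme.IdealSheafData.le_support_iff_le_vanishingIdeal.mpr le_rfl hx
    have h2 := (Scheme.IdealSheafData.mem_support_iff_of_mem (U := U) (X.basicOpen_le a hxa)).mp h1
    rw [Scheme.mem_zeroLocus_iff] at h2
    exact h2 a ha hxa
  · intro h
    rw [Scheme.IdealSheafData.vanishingIdeal_ideal, PrimeSpectrum.mem_vanishingIdeal]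
    intro p hp
    have h1 := h _ hp
    have h2 : p ∉ U.2.fromSpec ⁻¹ᵁ X.basicOpen a := h1
    rw [U.2.fromSpec_preimage_basicOpen] at h2
    exact not_not.mp h2

theorem exists_mem_of_notMem_support {I : X.IdealSheafData} {U : X.affineOpens} {x : X} (hx : x ∈ U.1)
    (h : x ∉ I.support) : ∃ b ∈ I.ideal U, x ∈ X.basicOpen b := by
  rw [Scheme.IdealSheafData.mem_support_iff_of_mem hx, Scheme.mem_zeroLocus_iff] at h
  push Not at h
  exact h

theorem mem_ker_iff [IsReduced X] [IsNoetherian X] (V : X.Opens) (U : X.affineOpens) (b : Γ(X, U.1)) :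
    b ∈ V.ι.ker.ideal U ↔ ∀ x ∈ V, x ∉ X.basicOpen b := by
  rw [Scheme.Hom.ker_apply, RingHom.mem_ker, ← basicOpen_eq_bot_iff, ← Scheme.preimage_basicOpen]
  constructor
  · intro h x hx hxb
    have : (⟨x, hx⟩ : V) ∈ V.ι ⁻¹ᵁ X.basicOpen b := hxb
    rw [h] at this
    exact this
  · intro h
    rw [eq_bot_iff]
    intro x hx
    exact h x.1 x.2 hx

theorem eq_zero_of_basicOpen [IsReduced X] {U : X.Opens} (a : Γ(X, U)) (h : ∀ x, x ∉ X.basicOpen a) :
    a = 0 := by
  rw [← basicOpen_eq_bot_iff, eq_bot_iff]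
  intro x hx
  exact h x hx

theorem mul_eq_zero [IsReduced X] [IsNoetherian X] {C : Set X} (hC : IsClosed C) (U : X.affineOpens)
    (a b : Γ(X, U.1)) (ha : a ∈ (Scheme.IdealSheafData.vanishingIdeal ⟨C, hC⟩).ideal U)
    (hb : b ∈ (Scheme.Opens.ι (⟨Cᶜ, hC.isOpen_compl⟩ : X.Opens)).ker.ideal U) : a * b = 0 := by
  apply eq_zero_of_basicOpen
  intro x hx
  rw [Scheme.basicOpen_mul] at hx
  by_cases hxC : x ∈ C
  · exact (mem_vanishingIdeal_iff hC U a).mp ha x hxC hx.1
  · exact (mem_ker_iff _ U b).mp hb x hxC hx.2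

theorem notMem_basicOpen_of_mul {U : X.Opens} {a b : Γ(X, U)} (h : a * b = 0) {x : X} (hb : x ∈ X.basicOpen b) :
    x ∉ X.basicOpen a := by
  intro ha
  have : x ∈ X.basicOpen (a * b) := by
    rw [Scheme.basicOpen_mul]
    exact ⟨ha, hb⟩
  rw [h, Scheme.basicOpen_zero] at this
  exact this

theorem mem_of_annJ [IsReduced X] [IsNoetherian X] {C : Set X} (hC : IsClosed C) (U : X.affineOpens)
    (a : Γ(X, U.1)) (ha : ∀ b ∈ (Scheme.IdealSheafData.vanishingIdeal ⟨C, hC⟩).ideal U, a * b = 0) :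
    a ∈ (Scheme.Opens.ι (⟨Cᶜ, hC.isOpen_compl⟩ : X.Opens)).ker.ideal U := by
  rw [mem_ker_iff]
  intro x hx hxa
  obtain ⟨b, hb, hxb⟩ := exists_mem_of_notMem_support
    (I := Scheme.IdealSheafData.vanishingIdeal (X := X) ⟨C, hC⟩) (U := U) (X.basicOpen_le a hxa) (by
      intro h
      rw [← SetLike.mem_coe, Scheme.IdealSheafData.coe_support_vanishingIdeal] at h
      exact hx h)
  exact notMem_basicOpen_of_mul (ha b hb) hxb hxa

theorem mem_of_annK [IsReduced X] [IsNoetherian X] {C : Set X} (hC : IsClosed C) (hC' : C ⊆ closure (interior C))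
    (U : X.affineOpens) (a : Γ(X, U.1))
    (ha : ∀ b ∈ (Scheme.Opens.ι (⟨Cᶜ, hC.isOpen_compl⟩ : X.Opens)).ker.ideal U, a * b = 0) :
    a ∈ (Scheme.IdealSheafData.vanishingIdeal ⟨C, hC⟩).ideal U := by
  rw [mem_vanishingIdeal_iff]
  intro x hx hxa
  obtain ⟨y, hya, hy⟩ := mem_closure_iff.mp (hC' hx) _ (X.basicOpen a).2 hxa
  obtain ⟨b, hb, hyb⟩ := exists_mem_of_notMem_support
    (I := (Scheme.Opens.ι (⟨Cᶜ, hC.isOpen_compl⟩ : X.Opens)).ker) (U := U) (X.basicOpen_le a hya) (by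
      intro h
      rw [← SetLike.mem_coe, Scheme.Hom.support_ker, Scheme.Opens.range_ι] at h
      obtain ⟨z, hz, hz'⟩ := mem_closure_iff.mp h _ isOpen_interior hy
      exact hz' (interior_subset hz))
  exact notMem_basicOpen_of_mul (ha b hb) hyb hya

theorem subset_closure_interior [TopologicalSpace.NoetherianSpace X] (I : Set (Set X))
    (hI : I ⊆ irreducibleComponents (X : Type u)) : ⋃₀ I ⊆ closure (interior (⋃₀ I)) := by
  rintro x ⟨Z, hZ, hx⟩
  obtain ⟨o, ho, hne, hoZ⟩ :=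
    TopologicalSpace.NoetherianSpace.exists_isOpen_nonempty_subset_irreducibleComponent Z (hI hZ)
  have h1 : o ⊆ interior (⋃₀ I) := interior_maximal (hoZ.trans (Set.subset_sUnion_of_mem hZ)) ho
  refine closure_mono h1 ?_
  have h2 : Z ⊆ closure (Z ∩ o) := subset_closure_inter_of_isPreirreducible_of_isOpen (hI hZ).1.2 ho
    (by
      obtain ⟨y, hy⟩ := hne
      exact ⟨y, hoZ hy, hy⟩)
  exact closure_mono Set.inter_subset_right (h2 hx)

end Groth.Agent.CurvesC.DualIdeals
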