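import Mathlib.AlgebraicGeometry.Morphisms.Proper
import Mathlib.RingTheory.Polynomial.Basic
import Mathlib.Algebra.Polynomial.Inductions
import Mathlib.Tactic

/-!
# Global functions on a reduced connected scheme, universally closed over a field, form a field
-/

set_option autoImplicit false
universe u
open CategoryTheory CategoryTheory.Limits AlgebraicGeometry TopologicalSpace Opposite

namespace Groth.Agent.CurvesC.ReducedConnField

/-- A reduced ring without nontrivial idempotents which is integral over a field is a field. -/
theorem isField_of_isIntegral_of_isReduced {k R : Type*} [Field k] [CommRing R] [Nontrivial R]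
    [_root_.IsReduced R]
    [Algebra k R] (hint : Algebra.IsIntegral k R) (hidem : ∀ e : R, e * e = e → e = 0 ∨ e = 1) :
    IsField R := by
  refine ⟨⟨0, 1, zero_ne_one⟩, mul_comm, ?_⟩
  intro a ha
  obtain ⟨p, hp, hpa⟩ := hint.isIntegral a
  have hp0 : p ≠ 0 := hp.ne_zero
  obtain ⟨q, hq⟩ := Polynomial.X_pow_dvd_iff.mpr (fun d hd => Polynomial.coeff_eq_zero_of_lt_natTrailingDegree hd :
    ∀ d < p.natTrailingDegree, p.coeff d = 0)
  generalize hm : p.natTrailingDegree = m at hq
  have hq0 : q.coeff 0 ≠ 0 := by
    have h1 : p.coeff m = q.coeff 0 := by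
      rw [hq]
      have := Polynomial.coeff_X_pow_mul q m 0
      rwa [zero_add] at this
    rw [← h1, ← hm]
    exact Polynomial.trailingCoeff_nonzero_iff_nonzero.mpr hp0
  have h1 : a ^ m * Polynomial.aeval a q = 0 := by
    have : Polynomial.aeval a p = 0 := hpa
    rw [hq, map_mul, map_pow, Polynomial.aeval_X] at this
    exact this
  have h2 : a * Polynomial.aeval a q = 0 := by
    apply eq_zero_of_pow_eq_zero (n := m + 1)
    calc (a * Polynomial.aeval a q) ^ (m + 1)
        = a * (Polynomial.aeval a q) ^ m * (a ^ m * Polynomial.aeval a q) := by ring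
      _ = 0 := by rw [h1, mul_zero]
  -- write `q = X q' + c`
  have h3 : Polynomial.aeval a q = Polynomial.aeval a q.divX * a + algebraMap k R (q.coeff 0) := by
    conv_lhs => rw [← Polynomial.divX_mul_X_add q]
    simp
  let c := algebraMap k R (q.coeff 0)⁻¹
  have hc : c * algebraMap k R (q.coeff 0) = 1 := by
    rw [← map_mul, inv_mul_cancel₀ hq0, map_one]
  let b := - (c * Polynomial.aeval a q.divX)
  -- `a = a * (a * b)`
  have h4 : a = a * (a * b) := by
    have h5 : a * (Polynomial.aeval a q.divX * a + algebraMap k R (q.coeff 0)) = 0 := by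
      rw [← h3]; exact h2
    simp only [b]
    linear_combination c * h5 - a * hc
  rcases hidem (a * b) (by
    calc a * b * (a * b) = (a * (a * b)) * b := by ring
      _ = a * b := by rw [← h4]) with h | h
  · exact absurd (by rw [h4, h, mul_zero]) ha
  · exact ⟨b, h⟩

/-- An idempotent global function on a reduced connected scheme is `0` or `1`. -/
theorem eq_zero_or_one_of_idem {X : Scheme.{u}} [PreconnectedSpace X] [AlgebraicGeometry.IsReduced X]
    (e : Γ(X, ⊤)) (he : e * e = e) : e = 0 ∨ e = 1 := by
  have h1 : X.basicOpen e ⊓ X.basicOpen (1 - e) = ⊥ := by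
    rw [← Scheme.basicOpen_mul]
    have : e * (1 - e) = 0 := by rw [mul_sub, mul_one, he, sub_self]
    rw [this, Scheme.basicOpen_zero]
  have h2 : X.basicOpen e ⊔ X.basicOpen (1 - e) = ⊤ := by
    apply top_le_iff.mp
    have h3 := X.basicOpen_add_le e (1 - e)
    rw [add_sub_cancel, Scheme.basicOpen_one] at h3
    exact h3
  have hcl : IsClopen (X.basicOpen e : Set X) := by
    refine ⟨⟨?_⟩, (X.basicOpen e).2⟩
    have : (X.basicOpen e : Set X)ᶜ = X.basicOpen (1 - e) := by
      ext x
      rw [Set.mem_compl_iff]
      constructor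
      · intro hx
        have : x ∈ X.basicOpen e ⊔ X.basicOpen (1 - e) := by rw [h2]; trivial
        rcases this with h | h
        · exact absurd h hx
        · exact h
      · intro hx hx'
        have : x ∈ X.basicOpen e ⊓ X.basicOpen (1 - e) := ⟨hx', hx⟩
        rw [h1] at this
        exact this
    rw [this]
    exact (X.basicOpen (1 - e)).2
  rcases isClopen_iff.mp hcl with h | h
  · left
    rw [← AlgebraicGeometry.basicOpen_eq_bot_iff]
    ext1
    exact h
  · right
    have h3 : X.basicOpen e = ⊤ := by ext1; exact h
    rw [h3, top_inf_eq, AlgebraicGeometry.basicOpen_eq_bot_iff, sub_eq_zero] at h1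
    exact h1.symm

/-- Global functions on a reduced connected scheme, universally closed over a field, form a field. -/
theorem isField_of_universallyClosed {K : Type u} [Field K] {X : Scheme.{u}} (f : X ⟶ Spec (CommRingCat.of K))
    [ConnectedSpace X] [AlgebraicGeometry.IsReduced X] [UniversallyClosed f] : IsField Γ(X, ⊤) := by
  let F := (Scheme.ΓSpecIso _).inv ≫ f.appTop
  have hF : F.hom.IsIntegral := by
    apply RingHom.isIntegral_respectsIso.2 (e := (Scheme.ΓSpecIso _).symm.commRingCatIsoToRingEquiv)
    exact isIntegral_appTop_of_universallyClosed f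
  let : Algebra K Γ(X, ⊤) := F.hom.toAlgebra
  have : Nonempty (⊤ : X.Opens) := (inferInstance : Nonempty X).map fun x => ⟨x, trivial⟩
  exact isField_of_isIntegral_of_isReduced (k := K) ⟨hF⟩ (fun e he => eq_zero_or_one_of_idem e he)

end Groth.Agent.CurvesC.ReducedConnField
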