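import Mathlib.Algebra.Polynomial.Eval.Defs
import Mathlib.RingTheory.Polynomial.Basic
import Mathlib.RingTheory.Finiteness.Basic
import Mathlib.RingTheory.RingHom.Finite

/-!
# A module with an injective family of residue functionals is finite

Algebraic step in the proof that the dualizing module of a proper one-dimensional scheme is coherent.
-/

set_option autoImplicit false
universe u

namespace Groth.Agent.CurvesC.DualFinAlg

open Polynomial

theorem finite {k A B M : Type u} [Field k] [CommRing A] [CommRing B] [AddCommGroup M] [Module A M]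
    (φ : k →+* A) (ρ : A →+* B) (a : A) (s : B) (hs : s * ρ a = 1)
    (hB : ∀ x : B, ∃ (n : ℕ) (y : A), ρ a ^ n * x = ρ y)
    (hfin : (Polynomial.eval₂RingHom φ a).Finite)
    (lam : M →+ B →+ k)
    (h1 : ∀ g m f, lam (g • m) f = lam m (ρ g * f))
    (h2 : ∀ m g, lam m (ρ g) = 0)
    (h3 : ∀ m f, ∃ N, ∀ n ≥ N, lam m (s ^ n * f) = 0)
    (h4 : ∀ c m f, lam m (ρ (φ c) * f) = c * lam m f)
    (hinj : ∀ m, (∀ f, lam m f = 0) → m = 0) : Module.Finite A M := by
  have key : ∀ m f, ∃ p : k[X], ∀ j, p.coeff j = lam m (s ^ (j + 1) * f) := by
    intro m f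
    obtain ⟨N, hN⟩ := h3 m f
    refine ⟨∑ j ∈ Finset.range N, Polynomial.monomial j (lam m (s ^ (j + 1) * f)), fun j => ?_⟩
    rw [Polynomial.finsetSum_coeff]
    simp only [Polynomial.coeff_monomial]
    rw [Finset.sum_ite_eq' (Finset.range N) j]
    split_ifs with hj
    · rfl
    · rw [hN (j + 1) (by rw [Finset.mem_range] at hj; omega)]
  choose P hP using key
  let alg : Algebra k[X] A := (Polynomial.eval₂RingHom φ a).toAlgebra
  let mod : Module k[X] M := Module.compHom M (Polynomial.eval₂RingHom φ a)
  have hsm : ∀ (p : k[X]) (m : M), p • m = (Polynomial.eval₂RingHom φ a p) • m := fun _ _ => rfl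
  have tower : IsScalarTower k[X] A M := ⟨fun p g m => by
    rw [hsm, ← mul_smul]
    rfl⟩
  have hfin' : Module.Finite k[X] A := hfin
  obtain ⟨S, hS⟩ := hfin'.fg_top
  -- compatibility of `P` with the module structure
  have hPadd : ∀ m m' f, P (m + m') f = P m f + P m' f := by
    intro m m' f
    ext j
    rw [Polynomial.coeff_add, hP, hP, hP, map_add]
    rfl
  have hPC : ∀ c m f, P (C c • m : M) f = C c * P m f := by
    intro c m f
    ext j
    rw [Polynomial.coeff_C_mul, hP, hP, hsm]
    have : Polynomial.eval₂RingHom φ a (C c) = φ c := by simp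
    rw [this, h1, h4]
  have hPX : ∀ m i, P ((X : k[X]) • m : M) (ρ i) = X * P m (ρ i) := by
    intro m i
    have hX : Polynomial.eval₂RingHom φ a X = a := by simp
    ext j
    rw [hP, hsm, hX, h1]
    cases j with
    | zero =>
      rw [Polynomial.coeff_X_mul_zero]
      have : ρ a * (s ^ (0 + 1) * ρ i) = ρ i := by
        rw [zero_add, pow_one, ← mul_assoc, mul_comm (ρ a), hs, one_mul]
      rw [this, h2]
    | succ j =>
      rw [Polynomial.coeff_X_mul, hP]
      congr 1
      calc ρ a * (s ^ (j + 1 + 1) * ρ i) = (s * ρ a) * (s ^ (j + 1) * ρ i) := by ring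
        _ = s ^ (j + 1) * ρ i := by rw [hs, one_mul]
  have hPsmul : ∀ (p : k[X]) (m : M) (i : A), P (p • m) (ρ i) = p * P m (ρ i) := by
    intro p m i
    induction p using Polynomial.induction_on with
    | C c => exact hPC c m _
    | add p q hp hq => rw [add_smul, hPadd, hp, hq, add_mul]
    | monomial n c h =>
      have : (C c * X ^ (n + 1) : k[X]) = X * (C c * X ^ n) := by ring
      rw [this, mul_smul, hPX, h]
      ring
  let Φ : M →ₗ[k[X]] (S → k[X]) :=
    { toFun := fun m i => P m (ρ i)
      map_add' := fun m m' => by
        funext i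
        exact hPadd m m' _
      map_smul' := fun p m => by
        funext i
        exact hPsmul p m _ }
  have hΦ : Function.Injective Φ := by
    rw [injective_iff_map_eq_zero]
    intro m hm
    apply hinj
    have h0 : ∀ (i : S) (j : ℕ), lam m (s ^ (j + 1) * ρ i) = 0 := by
      intro i j
      rw [← hP]
      have : P m (ρ i) = 0 := congrFun hm i
      rw [this, Polynomial.coeff_zero]
    -- the functional vanishes on `s ^ n * ρ y`
    have h5 : ∀ (y : A) (n : ℕ), lam m (s ^ n * ρ y) = 0 := by
      intro y
      have hy : y ∈ Submodule.span k[X] (S : Set A) := by rw [hS]; trivial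
      induction hy using Submodule.span_induction with
      | mem x hx =>
        intro n
        cases n with
        | zero => rw [pow_zero, one_mul, h2]
        | succ n => exact h0 ⟨x, hx⟩ n
      | zero => intro n; rw [map_zero, mul_zero, map_zero]
      | add x y _ _ hx hy => intro n; rw [map_add, mul_add, map_add, hx, hy, add_zero]
      | smul p x _ hx =>
        have hp : p • x = Polynomial.eval₂RingHom φ a p * x := rfl
        rw [hp]
        clear hp
        induction p using Polynomial.induction_on with
        | C c =>
          intro n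
          have h6 : Polynomial.eval₂RingHom φ a (C c) = φ c := by simp
          have : s ^ n * ρ (φ c * x) = ρ (φ c) * (s ^ n * ρ x) := by rw [map_mul]; ring
          rw [h6, this, h4, hx, mul_zero]
        | add p q hp hq => intro n; rw [map_add, add_mul, map_add, mul_add, map_add, hp, hq, add_zero]
        | monomial j c h =>
          intro n
          have h6 : Polynomial.eval₂RingHom φ a (C c * X ^ (j + 1)) * x =
              a * (Polynomial.eval₂RingHom φ a (C c * X ^ j) * x) := by
            simp only [coe_eval₂RingHom, eval₂_mul, eval₂_C, eval₂_X_pow]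
            ring
          rw [h6]
          cases n with
          | zero => rw [pow_zero, one_mul, h2]
          | succ n =>
            have : s ^ (n + 1) * ρ (a * (Polynomial.eval₂RingHom φ a (C c * X ^ j) * x)) =
                (s * ρ a) * (s ^ n * ρ (Polynomial.eval₂RingHom φ a (C c * X ^ j) * x)) := by
              rw [map_mul]; ring
            rw [this, hs, one_mul, h]
    intro f
    obtain ⟨n, y, hy⟩ := hB f
    have : f = s ^ n * ρ y := by
      rw [← hy, ← mul_assoc, ← mul_pow, hs, one_pow, one_mul]
    rw [this, h5]
  have hfinM : Module.Finite k[X] M := Module.Finite.of_injective Φ hΦ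
  exact Module.Finite.of_restrictScalars_finite k[X] A M

end Groth.Agent.CurvesC.DualFinAlg
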