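import Groth.Agent.CurvesC.DualInvSec
import Groth.Agent.CurvesC.CurveNum
import Groth.Agent.CurvesC.CurveCoh
import Groth.Agent.CurvesC.Dim1Top
import Groth.Agent.CohqB.DevGeom
import Groth.Agent.Ega1.QcqsPush
import Groth.Agent.S0009

/-!
# The dualizing module of a proper curve is generically nonzero
-/

set_option autoImplicit false

universe u

open CategoryTheory CategoryTheory.Limits AlgebraicGeometry Opposite TopologicalSpace

namespace Groth.Agent.CurvesC.DualInvNonvan

open Groth.Agent.CohqB.QC2 Groth.Agent.CurvesC.DualInvSec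

/-- a proper curve over a field is not affine -/
theorem not_isAffine (k : Type u) [Field k] {Z : Scheme.{u}} (f : Z ⟶ Spec (CommRingCat.of k)) [IsProper f]
    (hdim : topologicalKrullDim Z = 1) : ¬ IsAffine Z := by
  intro hZ
  have h1 : IsFinite f := IsFinite.iff_isProper_and_isAffineHom.2 ⟨inferInstance, inferInstance⟩
  have h2 : (f.app ⊤).hom.Finite := IsFinite.finite_app f ⊤ (isAffineOpen_top _)
  have h3 : (Scheme.ΓSpecIso (CommRingCat.of k)).inv.hom.Finite :=
    RingHom.Finite.of_surjective _ (ConcreteCategory.bijective_of_isIso _).2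
  let φ : k →+* Γ(Z, ⊤) := (f.app ⊤).hom.comp (Scheme.ΓSpecIso (CommRingCat.of k)).inv.hom
  have h4 : φ.Finite := h2.comp h3
  have h5 : IsArtinianRing Γ(Z, ⊤) := by
    let := φ.toAlgebra
    have : Module.Finite k Γ(Z, ⊤) := h4
    exact IsArtinianRing.of_finite k Γ(Z, ⊤)
  have h6 : DiscreteTopology (Spec Γ(Z, ⊤)) := inferInstanceAs (DiscreteTopology (PrimeSpectrum Γ(Z, ⊤)))
  have h7 : DiscreteTopology Z := Z.isoSpec.hom.homeomorph.symm.discreteTopology
  have h8 := topologicalKrullDim_zero_of_discreteTopology Z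
  rw [hdim] at h8
  exact absurd h8 (by decide)

variable {k : Type u} [Field k] {X : Scheme.{u}} [X.Over (Spec (CommRingCat.of k))] {w : X.Modules}
  {t : HV X w 1 →ₗ[k] k}

/-- **Generic nonvanishing of the dualizing module.** -/
theorem exists_section_ne_zero [IsProper (X ↘ Spec (CommRingCat.of k))]
    (hequi : ∀ Z ∈ irreducibleComponents (X : Type u), topologicalKrullDim Z = 1)
    (h : IsDual w t) (hw : Coh.IsQCoh w) (D : X.Opens) (hD : (D : Set X).Nonempty) :
    ∃ (D' : X.Opens) (_ : D' ≤ D) (s : Γ(w, D')), s ≠ 0 := by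
  by_contra hcon
  push Not at hcon
  obtain ⟨y, hyD⟩ := hD
  obtain ⟨C, hC, hyC⟩ : ∃ C ∈ irreducibleComponents (X : Type u), y ∈ C :=
    ⟨irreducibleComponent y, irreducibleComponent_mem_irreducibleComponents y, mem_irreducibleComponent⟩
  have hCc : IsClosed C := isClosed_of_mem_irreducibleComponents C hC
  obtain ⟨Z, i, hi, hZ, hr⟩ := Groth.Agent.CohqB.DevGeom.exists_integral C hCc hC.1
  have hdimZ : topologicalKrullDim Z = 1 := by
    rw [← hequi C hC, ← hr]
    exact IsHomeomorph.topologicalKrullDim_eq _ (i.isClosedEmbedding.isEmbedding.toHomeomorph).isHomeomorph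
  have hprop : IsProper (i ≫ (X ↘ Spec (CommRingCat.of k))) := inferInstance
  let : Z.Over (Spec (CommRingCat.of k)) := ⟨i ≫ (X ↘ Spec (CommRingCat.of k))⟩
  have hN : IsNoetherian Z := by
    have : IsProper (Z ↘ Spec (CommRingCat.of k)) := hprop
    exact CurveCoh.noetherianSpace k Z
  -- a module on the component with nonzero first cohomology
  obtain ⟨I, hI, hI1⟩ : ∃ I : Z.Modules, Coh.IsQCoh I ∧ ¬ Subsingleton (Coh.HH Z I 1) := by
    by_contra hno
    push Not at hno
    exact not_isAffine k (i ≫ (X ↘ Spec (CommRingCat.of k))) hdimZ (Groth.Agent.S0009.result Z fun I _ _ hI => hno I hI)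
  have hF := Groth.Agent.Ega1.QcqsPush.isQCoh_pushforward i I hI
  have hF1 : ¬ Subsingleton (HV X ((Scheme.Modules.pushforward i).obj I) 1) := fun hs =>
    hI1 ⟨fun a b => (CurveNum.hhPush i I 1).injective (hs.elim _ _)⟩
  rw [not_subsingleton_iff_nontrivial] at hF1
  obtain ⟨c, hc⟩ := exists_ne (0 : HV X ((Scheme.Modules.pushforward i).obj I) 1)
  have hψ : ∃ ψ : Module.Dual k (HV X ((Scheme.Modules.pushforward i).obj I) 1), ψ c ≠ 0 := by
    by_contra hno
    push Not at hno
    exact hc ((Module.forall_dual_apply_eq_zero_iff k c).1 hno)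
  obtain ⟨ψ, hψc⟩ := hψ
  obtain ⟨φ, hφ, -⟩ := h _ hF ψ
  -- the exceptional set
  have hsub : ∀ T : Set X, T ⊆ C \ D → IsClosed T := by
    intro T hT
    have h1 : IsClosed (i ⁻¹' T) := by
      refine Dim1Top.isClosed_of_subset (X := Z) hdimZ.le (Z := i ⁻¹' (D : Set X)ᶜ) ?_ ?_
        (Set.preimage_mono (hT.trans fun z hz => hz.2))
      · exact D.2.isClosed_compl.preimage i.continuous
      · intro h2
        obtain ⟨z, hz⟩ : y ∈ Set.range i := hr ▸ hyC
        have h3 : z ∈ i ⁻¹' (D : Set X)ᶜ := h2 ▸ Set.mem_univ z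
        exact h3 (show i z ∈ D from hz ▸ hyD)
    have h2 : T = i '' (i ⁻¹' T) := by
      rw [Set.image_preimage_eq_inter_range, hr]
      exact (Set.inter_eq_left.2 (hT.trans Set.sdiff_subset)).symm
    rw [h2]
    exact i.isClosedEmbedding.isClosedMap _ h1
  have hφ0 : φ = 0 := by
    refine eq_zero_of_image h hw hF φ (C \ D) hsub fun W hW s => ?_
    let N : X.Opens := ⟨Cᶜ, hCc.isOpen_compl⟩
    have hcov : W ≤ ⨆ b : Bool, W ⊓ cond b D N := by
      intro z hz
      by_cases hzD : z ∈ D
      · exact Opens.mem_iSup.2 ⟨true, hz, hzD⟩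
      · refine Opens.mem_iSup.2 ⟨false, hz, fun hzC => ?_⟩
        exact Set.disjoint_left.1 hW hz ⟨hzC, hzD⟩
    refine section_ext w (fun b : Bool => W ⊓ cond b D N) (fun _ => inf_le_left) hcov _ _ fun b => ?_
    rw [map_zero]
    match b with
    | true => exact hcon _ inf_le_right _
    | false =>
      rw [← app_res]
      have h1 : i ⁻¹ᵁ (W ⊓ N) = ⊥ := by
        ext1
        rw [Opens.coe_bot, Set.eq_empty_iff_forall_notMem]
        intro z hz
        exact hz.2 (hr ▸ Set.mem_range_self z)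
      have h2 : Subsingleton Γ((Scheme.Modules.pushforward i).obj I, W ⊓ N) := by
        change Subsingleton Γ(I, i ⁻¹ᵁ (W ⊓ N))
        refine subsingleton_of_forall_eq 0 fun a => ?_
        refine section_ext I (fun e : Empty => e.elim) (fun e => e.elim) (fun z hz => ?_) a 0 (fun e => e.elim)
        rw [h1] at hz
        exact hz.elim
      rw [Subsingleton.elim (α := Γ((Scheme.Modules.pushforward i).obj I, W ⊓ N)) (res _ _ s) 0, map_zero]
  apply hψc
  rw [← hφ, hφ0, HV.map_zero, LinearMap.comp_zero, LinearMap.zero_apply]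

end Groth.Agent.CurvesC.DualInvNonvan
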