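import Groth.Agent.CurvesC.DualInvPoint
import Groth.Agent.CurvesC.DualInvNonvan

/-!
# The dualizing module of a reduced proper curve with at worst double points is invertible
-/

set_option autoImplicit false

universe u

open CategoryTheory CategoryTheory.Limits AlgebraicGeometry Opposite TopologicalSpace

namespace Groth.Agent.CurvesC.DualInv

/-- **The dualizing module is invertible**, if the closed points are double points: `m = (t, ε)`, `ε ^ 2 ∈ (t)`. -/
theorem isInvertible {k : Type u} [Field k] {X : Scheme.{u}} [X.Over (Spec (CommRingCat.of k))]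
    [IsProper (X ↘ Spec (CommRingCat.of k))] [IsReduced X]
    (hequi : ∀ Z ∈ irreducibleComponents (X : Type u), topologicalKrullDim Z = 1)
    (hd : ∀ x : X, IsClosed ({x} : Set X) → DualInvPoint.IsDouble (X.presheaf.stalk x))
    {w : X.Modules} {t : HV X w 1 →ₗ[k] k} (h : IsDual w t) (hw : Coh.IsCoh w) : PicF.IsInvertible w := by
  have hN : IsNoetherian X := CurveCoh.noetherianSpace k X
  exact DualInvPoint.isInvertible_of_nonvanishing h hw
    (DualInvNonvan.exists_section_ne_zero hequi h hw.1) hd

end Groth.Agent.CurvesC.DualInv
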