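import Mathlib.CategoryTheory.Abelian.Basic
import Mathlib.Algebra.Homology.ShortComplex.ShortExact
import Mathlib.Algebra.Homology.ShortComplex.Abelian

/-!
Abelian-category part of the socle bound: pull back a short exact sequence `0 → w → P → Q → 0` along `g : G ⟶ Q`;
the pulled back sequence is short exact, and if it has a retraction while `Hom(G, P) = 0`, then `g = 0`.
-/

set_option autoImplicit false

universe v u

open CategoryTheory CategoryTheory.Limits

namespace Groth.Agent.CurvesC.DualInvAb

variable {C : Type u} [Category.{v} C] [Abelian C] {w P Q G : C} {i : w ⟶ P} {p : P ⟶ Q} (z : i ≫ p = 0)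
  (g : G ⟶ Q)

/-- the inclusion of `w` into the pulled back extension -/
noncomputable def incl : w ⟶ pullback p g := pullback.lift i 0 (by rw [z, zero_comp])

@[reassoc (attr := simp)]
theorem incl_fst : incl z g ≫ pullback.fst p g = i := pullback.lift_fst _ _ _

@[reassoc (attr := simp)]
theorem incl_snd : incl z g ≫ pullback.snd p g = 0 := pullback.lift_snd _ _ _

/-- the pulled back short complex `w ⟶ P ×_Q G ⟶ G` -/
noncomputable abbrev pb : ShortComplex C :=
  ShortComplex.mk (incl z g) (pullback.snd p g) (incl_snd z g)

/-- the map from the pulled back complex to the original one -/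
noncomputable def pbMap : pb z g ⟶ ShortComplex.mk i p z where
  τ₁ := 𝟙 w
  τ₂ := pullback.fst p g
  τ₃ := g
  comm₁₂ := by simp
  comm₂₃ := pullback.condition

variable {z}

theorem shortExact (h : (ShortComplex.mk i p z).ShortExact) : (pb z g).ShortExact := by
  have hi : Mono i := h.mono_f
  have hp : Epi p := h.epi_g
  have hm : Mono (incl z g) := by
    refine @mono_of_mono _ _ _ _ _ _ (pullback.fst p g) ?_
    rw [incl_fst]
    exact hi
  refine
    { exact := ?_
      mono_f := hm
      epi_g := (inferInstance : Epi (pullback.snd p g)) }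
  refine ShortComplex.exact_of_f_is_kernel _ (KernelFork.IsLimit.ofι' _ _ fun {T} k hk => ?_)
  have h1 : (k ≫ pullback.fst p g) ≫ p = 0 := by
    rw [Category.assoc, pullback.condition, ← Category.assoc, hk, zero_comp]
  refine ⟨h.exact.lift (k ≫ pullback.fst p g) h1, ?_⟩
  apply pullback.hom_ext
  · rw [Category.assoc, incl_fst]
    exact h.exact.lift_f (k ≫ pullback.fst p g) h1
  · rw [Category.assoc, incl_snd, comp_zero]
    exact hk.symm

/-- If the pulled back sequence has a retraction and `Hom(G, P) = 0`, then `g = 0`. -/
theorem eq_zero_of_retraction (h : (ShortComplex.mk i p z).ShortExact) (hGP : ∀ f : G ⟶ P, f = 0)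
    (r : pullback p g ⟶ w) (hr : incl z g ≫ r = 𝟙 w) : g = 0 := by
  have hS := shortExact g h
  have he : Epi (pullback.snd p g) := hS.epi_g
  -- the difference `fst - r ≫ i` factors through `G`
  have h1 : incl z g ≫ (pullback.fst p g - r ≫ i) = 0 := by
    rw [Preadditive.comp_sub, reassoc_of% hr, incl_fst, sub_self]
  obtain ⟨d, hd⟩ : ∃ d : G ⟶ P, pullback.snd p g ≫ d = pullback.fst p g - r ≫ i :=
    ⟨hS.exact.desc _ h1, hS.exact.g_desc _ h1⟩
  rw [hGP d, comp_zero] at hd
  have h2 : pullback.fst p g = r ≫ i := (sub_eq_zero.mp hd.symm)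
  rw [← cancel_epi (pullback.snd p g), ← pullback.condition, h2, Category.assoc, z, comp_zero, comp_zero]

end Groth.Agent.CurvesC.DualInvAb
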