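import Mathlib.RingTheory.LocalRing.MaximalIdeal.Basic
import Mathlib.RingTheory.Ideal.MinimalPrime.Basic
import Mathlib.RingTheory.Nakayama
import Mathlib.RingTheory.Noetherian.Basic
import Mathlib.RingTheory.Nilpotent.Lemmas
import Mathlib.Tactic.LinearCombination
import Mathlib.Tactic.Module

/-!
Algebra for the invertibility of the dualizing module of a nodal curve: over a local ring whose maximal ideal is
generated by `t, ε` with `ε ^ 2 ∈ (t)`, a finite module `W` such that the socle of `W / tW` is at most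
one-dimensional is cyclic; if moreover the ring is reduced and `W` is generically nonzero it is free of rank one.
-/

set_option autoImplicit false

universe u v

namespace Groth.Agent.CurvesC.DualInvAlg

open IsLocalRing Pointwise

variable {A : Type u} [CommRing A] [IsLocalRing A] {W : Type v} [AddCommGroup W] [Module A W]

/-- `W / tW` has a socle of dimension at most one, in elementary form. -/
def SmallSocle (A : Type u) [CommRing A] [IsLocalRing A] (W : Type v) [AddCommGroup W] [Module A W] (t : A) : Prop :=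
  ∀ e₁ e₂ : W, (∀ a ∈ maximalIdeal A, ∃ v : W, a • e₁ = t • v) → (∀ a ∈ maximalIdeal A, ∃ v : W, a • e₂ = t • v) →
    ∃ a₁ a₂ : A, (IsUnit a₁ ∨ IsUnit a₂) ∧ ∃ v : W, a₁ • e₁ + a₂ • e₂ = t • v

variable {t ε : A}

theorem mul_mem (hm : maximalIdeal A = Ideal.span {t, ε}) (hε : ε ^ 2 ∈ Ideal.span {t}) {a b : A}
    (ha : a ∈ maximalIdeal A) (hb : b ∈ maximalIdeal A) : ∃ c, a * b = t * c := by
  rw [hm, Ideal.mem_span_pair] at ha hb
  obtain ⟨a1, a2, rfl⟩ := ha
  obtain ⟨b1, b2, rfl⟩ := hb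
  obtain ⟨c, hc⟩ := Ideal.mem_span_singleton'.mp hε
  exact ⟨a1 * (b1 * t + b2 * ε) + a2 * ε * b1 + a2 * b2 * c, by linear_combination (a2 * b2) * (-hc)⟩

/-- the cyclicity statement -/
theorem exists_generator [Module.Finite A W] (hm : maximalIdeal A = Ideal.span {t, ε})
    (hε : ε ^ 2 ∈ Ideal.span {t}) (hsoc : SmallSocle A W t) : ∃ e : W, Submodule.span A {e} = ⊤ := by
  have ht : t ∈ maximalIdeal A := by rw [hm]; exact Ideal.subset_span (by simp)
  have hεm : ε ∈ maximalIdeal A := by rw [hm]; exact Ideal.subset_span (by simp)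
  -- reduction by Nakayama
  have key : ∀ e : W, (∀ v : W, ∃ (a : A) (v' : W), v = a • e + t • v') → Submodule.span A {e} = ⊤ := by
    intro e he
    have h1 : (⊤ : Submodule A W) ≤ Submodule.span A {e} ⊔ maximalIdeal A • ⊤ := by
      intro v _
      obtain ⟨a, v', rfl⟩ := he v
      exact Submodule.add_mem_sup (Submodule.smul_mem _ _ (Submodule.mem_span_singleton_self e))
        (Submodule.smul_mem_smul ht trivial)
    exact top_le_iff.mp (Submodule.le_of_le_smul_of_le_jacobson_bot Module.Finite.fg_top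
      (maximalIdeal_le_jacobson _) h1)
  by_cases h : ∃ w : W, ∀ v : W, ε • w ≠ t • v
  · obtain ⟨w, hw⟩ := h
    refine ⟨w, key w fun v => ?_⟩
    have hs : ∀ u : W, ∀ a ∈ maximalIdeal A, ∃ v : W, a • (ε • u) = t • v := by
      intro u a ha
      obtain ⟨c, hc⟩ := mul_mem hm hε ha hεm
      exact ⟨c • u, by rw [smul_smul, hc, mul_smul]⟩
    -- a nonunit multiple of a socle element is divisible by `t`
    obtain ⟨a₁, a₂, ha, x, hx⟩ := hsoc (ε • w) (ε • v) (hs w) (hs v)
    have h2 : IsUnit a₂ := by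
      by_contra h2
      have h1 : IsUnit a₁ := ha.resolve_right h2
      obtain ⟨y, hy⟩ := hs v a₂ ((mem_maximalIdeal _).2 h2)
      obtain ⟨u, rfl⟩ := h1
      apply hw ((↑(u⁻¹) : A) • (x - y))
      rw [hy] at hx
      have h3 : (u : A) • ε • w = t • (x - y) := by rw [smul_sub, ← hx]; abel
      rw [smul_comm t, ← h3, smul_smul, Units.inv_mul, one_smul]
    obtain ⟨u₂, rfl⟩ := h2
    set z : W := v + (↑(u₂⁻¹) * a₁ : A) • w with hz
    have hεz : ∃ y : W, ε • z = t • y := by
      refine ⟨(↑(u₂⁻¹) : A) • x, ?_⟩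
      rw [smul_comm t, ← hx, hz, smul_add (↑(u₂⁻¹) : A), smul_smul (↑(u₂⁻¹) : A) (u₂ : A), Units.inv_mul, one_smul]
      module
    have hzs : ∀ a ∈ maximalIdeal A, ∃ v : W, a • z = t • v := by
      intro a ha
      rw [hm, Ideal.mem_span_pair] at ha
      obtain ⟨c, d, rfl⟩ := ha
      obtain ⟨y, hy⟩ := hεz
      refine ⟨c • z + d • y, ?_⟩
      rw [add_smul, mul_smul d, hy]
      module
    obtain ⟨b₁, b₂, hb, x', hx'⟩ := hsoc (ε • w) z (hs w) hzs
    have h2 : IsUnit b₂ := by
      by_contra h2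
      have h1 : IsUnit b₁ := hb.resolve_right h2
      obtain ⟨y, hy⟩ := hzs b₂ ((mem_maximalIdeal _).2 h2)
      obtain ⟨u, rfl⟩ := h1
      apply hw ((↑(u⁻¹) : A) • (x' - y))
      rw [hy] at hx'
      have h3 : (u : A) • ε • w = t • (x' - y) := by rw [smul_sub, ← hx']; abel
      rw [smul_comm t, ← h3, smul_smul, Units.inv_mul, one_smul]
    obtain ⟨v₂, rfl⟩ := h2
    refine ⟨-(↑(u₂⁻¹) * a₁ + ↑(v₂⁻¹) * b₁ * ε), (↑(v₂⁻¹) : A) • x', ?_⟩
    have h4 : (↑(v₂⁻¹) : A) • (b₁ • ε • w + (v₂ : A) • z) = t • (↑(v₂⁻¹) : A) • x' := by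
      rw [hx', smul_comm t]
    rw [← h4, smul_add, smul_smul (↑(v₂⁻¹) : A) (v₂ : A), Units.inv_mul, one_smul, hz, neg_smul, add_smul,
      smul_smul, smul_smul]
    abel
  · push Not at h
    have hs : ∀ z : W, ∀ a ∈ maximalIdeal A, ∃ v : W, a • z = t • v := by
      intro z a ha
      rw [hm, Ideal.mem_span_pair] at ha
      obtain ⟨c, d, rfl⟩ := ha
      obtain ⟨y, hy⟩ := h z
      refine ⟨c • z + d • y, ?_⟩
      rw [add_smul, mul_smul d, hy]
      module
    by_cases h0 : ∃ w : W, ∀ v : W, w ≠ t • v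
    · obtain ⟨w, hw⟩ := h0
      refine ⟨w, key w fun v => ?_⟩
      obtain ⟨b₁, b₂, hb, x', hx'⟩ := hsoc w v (hs w) (hs v)
      have h2 : IsUnit b₂ := by
        by_contra h2
        have h1 : IsUnit b₁ := hb.resolve_right h2
        obtain ⟨y, hy⟩ := hs v b₂ ((mem_maximalIdeal _).2 h2)
        obtain ⟨u, rfl⟩ := h1
        apply hw ((↑(u⁻¹) : A) • (x' - y))
        rw [hy] at hx'
        have h3 : (u : A) • w = t • (x' - y) := by rw [smul_sub, ← hx']; abel
        rw [smul_comm t, ← h3, smul_smul, Units.inv_mul, one_smul]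
      obtain ⟨v₂, rfl⟩ := h2
      refine ⟨-(↑(v₂⁻¹) * b₁), (↑(v₂⁻¹) : A) • x', ?_⟩
      have h4 : (↑(v₂⁻¹) : A) • (b₁ • w + (v₂ : A) • v) = t • (↑(v₂⁻¹) : A) • x' := by
        rw [hx', smul_comm t]
      rw [← h4, smul_add, smul_smul (↑(v₂⁻¹) : A) (v₂ : A), Units.inv_mul, one_smul, neg_smul, smul_smul]
      abel
    · push Not at h0
      refine ⟨0, key 0 fun v => ?_⟩
      obtain ⟨y, hy⟩ := h0 v
      exact ⟨0, y, by rw [zero_smul, zero_add, hy]⟩

/-- A finite module with small socle which is generically nonzero is free of rank one. -/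
theorem exists_bijective [IsReduced A] [Module.Finite A W] (hm : maximalIdeal A = Ideal.span {t, ε})
    (hε : ε ^ 2 ∈ Ideal.span {t}) (hsoc : SmallSocle A W t)
    (hgen : ∀ p ∈ minimalPrimes A, ∃ w : W, ∀ a : A, a • w = 0 → a ∈ p) :
    ∃ e : W, Function.Bijective fun a : A => a • e := by
  obtain ⟨e, he⟩ := exists_generator hm hε hsoc
  refine ⟨e, ?_, fun v => ?_⟩
  · intro a b hab
    have h1 : ∀ w : W, (a - b) • w = 0 := by
      intro w
      obtain ⟨c, rfl⟩ := Submodule.mem_span_singleton.mp (he ▸ Submodule.mem_top : w ∈ Submodule.span A {e})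
      rw [smul_comm, sub_smul, show a • e = b • e from hab, sub_self, smul_zero]
    have h2 : a - b ∈ nilradical A := by
      rw [nilradical_eq_sInf, Ideal.mem_sInf]
      intro p hp
      have hp' : p.IsPrime := hp
      obtain ⟨q, hq, hqp⟩ := Ideal.exists_minimalPrimes_le (I := ⊥) (J := p) bot_le
      obtain ⟨w, hw⟩ := hgen q hq
      exact hqp (hw _ (h1 w))
    rw [nilradical_eq_zero, Ideal.zero_eq_bot, Ideal.mem_bot] at h2
    exact sub_eq_zero.mp h2
  · exact Submodule.mem_span_singleton.mp (he ▸ Submodule.mem_top)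

end Groth.Agent.CurvesC.DualInvAlg
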