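import Groth.Agent.CurvesC.DualInvSec
import Groth.Agent.CurvesC.DualInvAb
import Groth.Agent.CurvesC.HV0
import Groth.Agent.CohqB.P1MV
import Groth.Agent.Ega1.QcqsPush

/-!
# The socle bound, sheaf part

`X` over a field `k`, `(w, t)` a dual pair, `x` a closed point with complement `U`; `P = j_* j^* w` for `j : U → X` and
`Q = P / w`.  Sections of `Q` live at `x`.  `eq_zero_of_trace`: a quasi-coherent submodule `G` of `Q` such that the
composite `H^0(G) → H^0(Q) → H^1(w) → k` is zero is zero.  `exists_form`: a `k`-linear form `l` on `Γ(Q, V)`, `V` an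
affine neighbourhood of `x`, which does not vanish on any nonzero `Γ(X, V)`-submodule.
-/

set_option autoImplicit false

universe u

open CategoryTheory CategoryTheory.Limits AlgebraicGeometry Opposite TopologicalSpace

namespace Groth.Agent.CurvesC.DualInvExt

open Groth.Agent.CohqB.QC2 Groth.Agent.CohqB.QC4 Groth.Agent.CohqB.QC6 Groth.Agent.CohqB.QCSheaf
  Groth.Agent.CohqB.P1MV Groth.Agent.CurvesC.DualInvSec

variable {X : Scheme.{u}}

/-- the complement of a closed point -/
def compl (x : X) (hx : IsClosed ({x} : Set X)) : X.Opens := ⟨{x}ᶜ, hx.isOpen_compl⟩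

theorem mem_compl (x : X) (hx : IsClosed ({x} : Set X)) (y : X) : y ∈ compl x hx ↔ y ≠ x := Iff.rfl

theorem le_compl_iff (x : X) (hx : IsClosed ({x} : Set X)) (W : X.Opens) : W ≤ compl x hx ↔ x ∉ W :=
  ⟨fun h hxW => h hxW rfl, fun h _ hy hyx => h (hyx ▸ hy)⟩

section general

variable (M : X.Modules) (U : X.Opens)

theorem tr_tr (W : X.Opens) : tr U (tr U W) = tr U W := by
  simp only [tr_eq, inf_left_idem]

/-- a section of `j_* j^* M` is determined by its restriction to `U` -/
theorem GM_res_injective (W : X.Opens) : Function.Injective (res (GM M U) (tr_le U W)) := by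
  intro a b hab
  apply (secGM M U W).injective
  have h := congrArg (secGM M U (tr U W)) hab
  rw [secGM_res, secGM_res] at h
  exact (res_injective_of_eq M (tr_mono le_rfl (tr_le U W)) (tr_tr U W).symm).1 h

/-- a module whose sections over opens contained in `U` vanish has no maps to `j_* j^* M` -/
theorem hom_GM_eq_zero {G : X.Modules} (hG : ∀ W : X.Opens, W ≤ U → ∀ s : Γ(G, W), s = 0)
    (f : G ⟶ GM M U) : f = 0 := by
  ext W s
  change f.app W s = 0
  apply GM_res_injective M U W
  rw [map_zero, ← app_res, hG _ (tr_le_left U W) (res G (tr_le U W) s), map_zero]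

/-- the cokernel of `M ⟶ j_* j^* M` -/
noncomputable abbrev QM : X.Modules := cokernel (toGM M U)

/-- over opens contained in `U` the map `M ⟶ j_* j^* M` is surjective -/
theorem toGM_surjective {W : X.Opens} (hW : W ≤ U) : Function.Surjective ((toGM M U).app W) := by
  intro s
  have hWt : W = tr U W := by rw [tr_eq, inf_eq_right.2 hW]
  obtain ⟨m, hm⟩ := (res_injective_of_eq M (tr_le U W) hWt).2 (secGM M U W s)
  refine ⟨m, ?_⟩
  rw [toGM_app, hm, AddEquiv.symm_apply_apply]

theorem app_zero {M N : X.Modules} (W : X.Opens) (s : Γ(M, W)) : (0 : M ⟶ N).app W s = 0 := rfl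

theorem QM_eq_zero {W : X.Opens} (hW : W ≤ U) (s : Γ(QM M U, W)) : s = 0 := by
  choose V hV t hxV ht using fun x : W => exists_local_lift (cokernel.π (toGM M U)) s x.1 x.2
  refine section_ext (QM M U) V hV (fun x hx => Opens.mem_iSup.2 ⟨⟨x, hx⟩, hxV ⟨x, hx⟩⟩) _ _ fun x => ?_
  rw [map_zero]
  have h1 : res (QM M U) (hV x) s = (cokernel.π (toGM M U)).app (V x) (t x) := (ht x).symm
  rw [h1]
  obtain ⟨m, hm⟩ := toGM_surjective M U ((hV x).trans hW) (t x)
  rw [← hm]
  exact congr((Scheme.Modules.Hom.app $(cokernel.condition (toGM M U)) (V x)) m)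

end general

section point

variable {k : Type u} [Field k] [X.Over (Spec (CommRingCat.of k))] {w : X.Modules} {t : HV X w 1 →ₗ[k] k}

theorem mono_toGM (h : IsDual w t) (hw : Coh.IsQCoh w) (x : X) (hx : IsClosed ({x} : Set X)) :
    Mono (toGM w (compl x hx)) := by
  apply mono_of_app_injective
  intro W
  rw [injective_iff_map_eq_zero]
  intro m hm
  refine section_eq_zero h hw ({x} ∩ W) (fun T hT => ?_) Set.inter_subset_right m fun W' hW' hd => ?_
  · rcases Set.subset_singleton_iff_eq.1 (hT.trans Set.inter_subset_left) with rfl | rfl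
    · exact isClosed_empty
    · exact hx
  · have h1 : res w (tr_le (compl x hx) W) m = 0 := by
      rw [toGM_app] at hm
      exact (map_eq_zero_iff _ (secGM w (compl x hx) W).symm.injective).1 hm
    have h2 : W' ≤ tr (compl x hx) W := by
      rw [tr_eq]
      refine le_inf ?_ hW'
      rw [le_compl_iff]
      exact fun hxW => Set.disjoint_left.1 hd hxW ⟨rfl, hW' hxW⟩
    rw [← res_res w (tr_le (compl x hx) W) h2, h1, map_zero]

/-- the short exact sequence `0 → w → j_* j^* w → Q → 0` -/
theorem shortExact (h : IsDual w t) (hw : Coh.IsQCoh w) (x : X) (hx : IsClosed ({x} : Set X)) :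
    (ShortComplex.mk (toGM w (compl x hx)) (cokernel.π (toGM w (compl x hx))) (cokernel.condition _)).ShortExact where
  exact := ShortComplex.exact_cokernel _
  mono_f := mono_toGM h hw x hx
  epi_g := inferInstance

theorem isQCoh_QM [IsLocallyNoetherian X] (hw : Coh.IsQCoh w) (U : X.Opens) : Coh.IsQCoh (QM w U) := by
  refine isQCoh_cokernel _ hw (Groth.Agent.Ega1.QcqsPush.isQCoh_pushforward U.ι _ ?_)
  exact Groth.Agent.Ega1.QCohLoc.isQCoh_restrict w U.ι

/-- **A quasi-coherent submodule of `Q` killed by the trace is zero.** -/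
theorem eq_zero_of_trace (h : IsDual w t) (hw : Coh.IsQCoh w) (x : X) (hx : IsClosed ({x} : Set X))
    {G : X.Modules} (g : G ⟶ QM w (compl x hx)) [Mono g] (hG : Coh.IsQCoh G)
    (ht : ∀ c : HV X G 0, t (HV.δ k (shortExact h hw x hx) 0 (HV.map k g 0 c)) = 0) : g = 0 := by
  have hS := DualInvAb.shortExact g (shortExact h hw x hx)
  obtain ⟨r, hr⟩ := h.exists_retraction hw hS (isQCoh_of_shortExact₂ hS hw hG) (fun c => by
    have h1 := HV.δ_naturality k hS (shortExact h hw x hx)
      (DualInvAb.pbMap (cokernel.condition (toGM w (compl x hx))) g) 0 c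
    have h2 : HV.map k (DualInvAb.pbMap (cokernel.condition (toGM w (compl x hx))) g).τ₁ (0 + 1)
        (HV.δ k hS 0 c) = HV.δ k hS 0 c := by
      change HV.map k (𝟙 w) (0 + 1) (HV.δ k hS 0 c) = _
      rw [HV.map_id]
      rfl
    rw [h2] at h1
    rw [← h1]
    exact ht c)
  refine DualInvAb.eq_zero_of_retraction g (shortExact h hw x hx) (fun f => ?_) r hr
  refine hom_GM_eq_zero w _ (fun W hW s => ?_) f
  apply app_injective_of_mono g W
  rw [QM_eq_zero w _ hW (g.app W s), map_zero]

/-- sections of `Q` over a neighbourhood of `x` are global -/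
theorem res_QM_bijective (M : X.Modules) (x : X) (hx : IsClosed ({x} : Set X)) {V : X.Opens} (hxV : x ∈ V) :
    Function.Bijective (res (QM M (compl x hx)) (le_top : V ≤ ⊤)) := by
  constructor
  · rw [injective_iff_map_eq_zero]
    intro σ hσ
    have hcov : (⊤ : X.Opens) ≤ ⨆ b : Bool, cond b V (compl x hx) := by
      intro y _
      by_cases hy : y = x
      · exact Opens.mem_iSup.2 ⟨true, hy ▸ hxV⟩
      · exact Opens.mem_iSup.2 ⟨false, hy⟩
    refine section_ext (QM M (compl x hx)) _ (fun _ => le_top) hcov _ _ fun b => ?_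
    rw [map_zero]
    match b with
    | true => exact hσ
    | false => exact QM_eq_zero M _ le_rfl _
  · intro s
    obtain ⟨σ, hσ, -⟩ := exists_extension (QM M (compl x hx)) hx (Set.singleton_subset_iff.2 hxV) s
      (fun W hW hd => QM_eq_zero M _ ((le_compl_iff x hx W).2 fun hxW => Set.disjoint_left.1 hd hxW rfl) _)
    exact ⟨σ, hσ⟩

/-- **A `k`-linear form on `Γ(Q, V)` which does not vanish on any nonzero submodule.** -/
theorem exists_form [IsLocallyNoetherian X] (h : IsDual w t) (hw : Coh.IsQCoh w) (x : X)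
    (hx : IsClosed ({x} : Set X)) {V : X.Opens} (hV : IsAffineOpen V) (hxV : x ∈ V) :
    ∃ l : Γ(QM w (compl x hx), V) →+ k, (∀ (c : k) (q : Γ(QM w (compl x hx), V)),
      l (HV.globOn k X V c • q) = c * l q) ∧
      ∀ q : Γ(QM w (compl x hx), V), (∀ b : Γ(X, V), l (b • q) = 0) → q = 0 := by
  let e : Γ(QM w (compl x hx), ⊤) ≃+ Γ(QM w (compl x hx), V) :=
    AddEquiv.ofBijective (res (QM w (compl x hx)) le_top) (res_QM_bijective w x hx hxV)
  have he : ∀ σ, e σ = res (QM w (compl x hx)) le_top σ := fun _ => rfl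
  let D : HV X (QM w (compl x hx)) 0 →ₗ[k] k := t ∘ₗ HV.δ k (shortExact h hw x hx) 0
  let l : Γ(QM w (compl x hx), V) →+ k :=
    D.toAddMonoidHom.comp ((HV.zero (QM w (compl x hx))).symm.toAddMonoidHom.comp e.symm.toAddMonoidHom)
  have hl : ∀ c, l (e (HV.zero _ c)) = D c := by
    intro c
    change D ((HV.zero (QM w (compl x hx))).symm (e.symm (e (HV.zero _ c)))) = D c
    rw [AddEquiv.symm_apply_apply, AddEquiv.symm_apply_apply]
  refine ⟨l, fun c q => ?_, fun q hq => ?_⟩
  · obtain ⟨σ, rfl⟩ := e.surjective q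
    obtain ⟨y, rfl⟩ := (HV.zero (QM w (compl x hx))).surjective σ
    have h1 : HV.globOn k X V c • e (HV.zero _ y) = e (HV.zero _ (c • y)) := by
      rw [he, he, HV.zero_smul, res_smul]
      rfl
    rw [h1, hl, hl, map_smul, smul_eq_mul]
  · obtain ⟨σ, rfl⟩ := e.surjective q
    let s : Coh.structureModule X ⟶ QM w (compl x hx) := Gen.ofSec σ
    have hQ := isQCoh_QM hw (compl x hx)
    have hG := isQCoh_image s (UnitCoh.isQCoh_unit X) hQ
    have hg : Abelian.image.ι s = 0 := by
      refine eq_zero_of_trace h hw x hx (Abelian.image.ι s) hG fun c => ?_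
      obtain ⟨b, hb⟩ := Groth.Agent.CohqB.QC5.app_surjective_of_epi (Abelian.factorThruImage s)
        (UnitCoh.isQCoh_unit X) hG hV (res (Abelian.image s) le_top (HV.zero _ c))
      have h1 : e (HV.zero _ (HV.map k (Abelian.image.ι s) 0 c)) = (show Γ(X, V) from b) • e σ := by
        rw [he, he, HV.zero_map, ← app_res, ← hb]
        have h2 := congr((Scheme.Modules.Hom.app $(Abelian.image.fac s) V) b)
        refine Eq.trans h2 ?_
        refine (Gen.app_eq_smul s V b).trans ?_
        congr 1
        exact Gen.sec_ofSec σ V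
      have h3 : D (HV.map k (Abelian.image.ι s) 0 c) = 0 := by
        rw [← hl, h1]
        exact hq b
      exact h3
    have hs : s = 0 := by rw [← Abelian.image.fac s, hg, comp_zero]
    have hσ : σ = 0 := by
      rw [← Gen.sec_ofSec_top σ]
      change Gen.sec s ⊤ = 0
      rw [hs]
      rfl
    rw [hσ, map_zero]

end point

end Groth.Agent.CurvesC.DualInvExt
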