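import Groth.Agent.CurvesC.Gen
import Groth.Agent.CohqB.QC2
import Groth.Agent.Fdesc.QCohStalk
import Groth.Agent.CohqA.FinSec
import Groth.Agent.CurvesC.DualInvLoc

/-!
# Local generators of modules from stalks

`isGen_of_germ`: a section whose germs are free generators of the stalks is a free generator;
`exists_isGen`: a coherent module with free stalk of rank one at `x` has a free generator near `x`;
`exists_stalk_nonzero`: a coherent module with no nonempty open on which all its sections vanish has stalks `W_x` such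
that for each prime `p` of `O_{X,x}` some element of `W_x` has annihilator contained in `p`.
-/

set_option autoImplicit false

universe u v w

open CategoryTheory CategoryTheory.Limits AlgebraicGeometry Opposite TopologicalSpace

namespace Groth.Agent.CurvesC.DualInvGen

open Groth.Agent.CohqB.QC2 Groth.Agent.Fdesc

section algebra

open IsLocalRing

variable {A : Type u} [CommRing A] [IsLocalRing A] {B : Type v} [CommRing B] [IsNoetherianRing B] (g : B →+* A)
variable {M : Type w} [AddCommGroup M] [Module B M] {W : Type w} [AddCommGroup W] [Module A W] (γ : M →+ W)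

/-- spreading out a free generator -/
theorem exists_denominator [Module.Finite B M] (hA : ∀ a : A, ∃ s b : B, IsUnit (g s) ∧ g b = g s * a)
    (hA0 : ∀ b : B, g b = 0 → ∃ s, IsUnit (g s) ∧ s * b = 0) (hγ : ∀ (b : B) (m : M), γ (b • m) = g b • γ m)
    (hinj : ∀ m : M, γ m = 0 → ∃ s : B, IsUnit (g s) ∧ s • m = 0) (m : M)
    (hm : Function.Bijective fun a : A => a • γ m) :
    ∃ s, IsUnit (g s) ∧ (∀ m' : M, ∃ b : B, s • m' = b • m) ∧ ∀ b : B, b • m = 0 → s * b = 0 := by
  classical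
  -- generators of `M`
  obtain ⟨S, hS⟩ := (Module.Finite.fg_top : (⊤ : Submodule B M).FG)
  have h1 : ∀ m' : M, ∃ s, IsUnit (g s) ∧ ∃ b : B, s • m' = b • m := by
    intro m'
    obtain ⟨a, ha⟩ := hm.2 (γ m')
    obtain ⟨s, b, hs, hb⟩ := hA a
    obtain ⟨s', hs', h0⟩ := hinj (s • m' - b • m) (by
      rw [map_sub, hγ, hγ, hb, ← ha, mul_smul, sub_self])
    refine ⟨s' * s, by rw [map_mul]; exact hs'.mul hs, s' * b, ?_⟩
    rw [smul_sub, sub_eq_zero] at h0
    rw [mul_smul, h0, mul_smul]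
  have h2 : ∀ T : Finset M, ∃ s, IsUnit (g s) ∧ ∀ m' ∈ T, ∃ b : B, s • m' = b • m := by
    intro T
    induction T using Finset.induction_on with
    | empty => exact ⟨1, by simp, by simp⟩
    | insert c T _ ih =>
      obtain ⟨s, hs, hT⟩ := ih
      obtain ⟨s', hs', b', hb'⟩ := h1 c
      refine ⟨s * s', by rw [map_mul]; exact hs.mul hs', fun m' hm' => ?_⟩
      rcases Finset.mem_insert.1 hm' with rfl | hm'
      · exact ⟨s * b', by rw [mul_smul, hb', mul_smul]⟩
      · obtain ⟨b, hb⟩ := hT m' hm'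
        exact ⟨s' * b, by rw [mul_comm, mul_smul, hb, mul_smul]⟩
  obtain ⟨s, hs, hsS⟩ := h2 S
  have h3 : ∀ m' : M, ∃ b : B, s • m' = b • m := by
    have h4 : (⊤ : Submodule B M) ≤ (LinearMap.range (LinearMap.toSpanSingleton B M m)).comap (LinearMap.lsmul B M s) := by
      rw [← hS]
      refine Submodule.span_le.2 fun c hc => ?_
      obtain ⟨b, hb⟩ := hsS c hc
      exact ⟨b, hb.symm⟩
    intro m'
    obtain ⟨b, hb⟩ := h4 (Submodule.mem_top (x := m'))
    exact ⟨b, hb.symm⟩
  -- the annihilator of `m`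
  let I : Ideal B := LinearMap.ker (LinearMap.toSpanSingleton B M m)
  obtain ⟨T, hT⟩ := IsNoetherian.noetherian I
  obtain ⟨s', hs', hsT⟩ := DualInvLoc.exists_common g (P := fun a s => s * a = 0)
    (by intro a s s' h; rw [mul_assoc, h, mul_zero]) T (by
      intro a ha
      have haI : a ∈ I := by rw [← hT]; exact Submodule.subset_span ha
      apply hA0
      apply hm.1
      dsimp only
      rw [← hγ, zero_smul]
      have : a • m = 0 := haI
      rw [this, map_zero])
  have h5 : ∀ b : B, b • m = 0 → s' * b = 0 := by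
    have h6 : I ≤ LinearMap.ker (LinearMap.mulLeft B s') := by
      rw [← hT]
      exact Submodule.span_le.2 fun c hc => hsT c hc
    intro b hb
    exact h6 hb
  refine ⟨s * s', by rw [map_mul]; exact hs.mul hs', fun m' => ?_, fun b hb => ?_⟩
  · obtain ⟨b, hb⟩ := h3 m'
    exact ⟨s' * b, by rw [mul_comm, mul_smul, hb, mul_smul]⟩
  · rw [mul_assoc, h5 b hb, mul_zero]

/-- if each element of `W` is killed by an element outside of `p`, then so is `M` by an element not mapping to `p` -/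
theorem exists_killing [Module.Finite B M] (hA : ∀ a : A, ∃ s b : B, IsUnit (g s) ∧ g b = g s * a)
    (hγ : ∀ (b : B) (m : M), γ (b • m) = g b • γ m)
    (hinj : ∀ m : M, γ m = 0 → ∃ s : B, IsUnit (g s) ∧ s • m = 0) (p : Ideal A) [hp : p.IsPrime]
    (hW : ∀ v : W, ∃ a : A, a • v = 0 ∧ a ∉ p) : ∃ b : B, g b ∉ p ∧ ∀ m : M, b • m = 0 := by
  classical
  obtain ⟨S, hS⟩ := (Module.Finite.fg_top : (⊤ : Submodule B M).FG)
  have hu : ∀ {s a : A}, IsUnit s → a ∉ p → s * a ∉ p := fun hs ha h =>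
    (hp.mem_or_mem h).elim (fun h => hp.ne_top (Ideal.eq_top_of_isUnit_mem _ h hs)) ha
  have h1 : ∀ m' : M, ∃ b, g b ∉ p ∧ b • m' = 0 := by
    intro m'
    obtain ⟨a, ha, hap⟩ := hW (γ m')
    obtain ⟨s, b, hs, hb⟩ := hA a
    obtain ⟨s', hs', h0⟩ := hinj (b • m') (by rw [hγ, hb, mul_smul, ha, smul_zero])
    refine ⟨s' * b, ?_, by rw [mul_smul, h0]⟩
    rw [map_mul, hb]
    exact hu hs' (hu hs hap)
  have h2 : ∀ T : Finset M, ∃ b, g b ∉ p ∧ ∀ m' ∈ T, b • m' = 0 := by
    intro T
    induction T using Finset.induction_on with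
    | empty => exact ⟨1, by rw [map_one]; exact fun h => hp.ne_top ((Ideal.eq_top_iff_one _).2 h), by simp⟩
    | insert c T _ ih =>
      obtain ⟨s, hs, hT⟩ := ih
      obtain ⟨s', hs', hb'⟩ := h1 c
      refine ⟨s * s', by rw [map_mul]; exact fun h => (hp.mem_or_mem h).elim hs hs', fun m' hm' => ?_⟩
      rcases Finset.mem_insert.1 hm' with rfl | hm'
      · rw [mul_smul, hb', smul_zero]
      · rw [mul_comm, mul_smul, hT m' hm', smul_zero]
  obtain ⟨b, hb, hbS⟩ := h2 S
  refine ⟨b, hb, fun m => ?_⟩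
  have h4 : (⊤ : Submodule B M) ≤ LinearMap.ker (LinearMap.lsmul B M b) := by
    rw [← hS]
    exact Submodule.span_le.2 fun c hc => hbS c hc
  exact h4 (Submodule.mem_top (x := m))

end algebra

variable {X : Scheme.{u}} (M : X.Modules)

/-- a section which freely generates all stalks is a free generator -/
theorem isGen_of_germ (W : X.Opens) (e : Γ(M, W))
    (h : ∀ (y : X) (hy : y ∈ W), Function.Bijective
      (fun a : X.presheaf.stalk y => a • (M.presheaf.germ W y hy e : M.presheaf.stalk y))) :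
    Gen.IsGen M W e := by
  -- injectivity
  have hinj : ∀ (V : X.Opens) (hV : V ≤ W) (a b : Γ(X, V)),
      a • M.presheaf.map (homOfLE hV).op e = b • M.presheaf.map (homOfLE hV).op e → a = b := by
    intro V hV a b hab
    refine TopCat.Presheaf.section_ext X.sheaf V a b fun y hy => ?_
    apply (h y (hV hy)).1
    have h1 := congrArg (M.presheaf.germ V y hy) hab
    rw [QCohStalk.germ_smul', QCohStalk.germ_smul', QCohStalk.germ_map] at h1
    exact h1
  intro V hV
  refine ⟨fun a b hab => hinj V hV a b hab, fun v => ?_⟩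
  -- local solutions
  have hloc : ∀ y : V, ∃ (V' : X.Opens) (hV' : V' ≤ V) (a : Γ(X, V')), y.1 ∈ V' ∧
      a • M.presheaf.map (homOfLE (hV'.trans hV)).op e = M.presheaf.map (homOfLE hV').op v := by
    intro y
    obtain ⟨α, hα⟩ := (h y.1 (hV y.2)).2 (M.presheaf.germ V y.1 y.2 v)
    obtain ⟨V₁, hyV₁, a, rfl⟩ := TopCat.Presheaf.exists_germ_eq X.presheaf α
    have h1 : M.presheaf.germ (V₁ ⊓ V) y.1 ⟨hyV₁, y.2⟩
        (X.presheaf.map (homOfLE (inf_le_left : V₁ ⊓ V ≤ V₁)).op a •
          M.presheaf.map (homOfLE ((inf_le_right : V₁ ⊓ V ≤ V).trans hV)).op e) =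
        M.presheaf.germ (V₁ ⊓ V) y.1 ⟨hyV₁, y.2⟩ (M.presheaf.map (homOfLE (inf_le_right : V₁ ⊓ V ≤ V)).op v) := by
      rw [QCohStalk.germ_smul', QCohStalk.germ_map, QCohStalk.germ_map, QCohStalk.ring_germ_map]
      exact hα
    obtain ⟨V₂, hyV₂, i₁, i₂, h2⟩ := M.presheaf.germ_eq y.1 _ _ _ _ h1
    refine ⟨V₂, i₁.le.trans inf_le_right, X.presheaf.map (homOfLE (i₁.le.trans inf_le_left)).op a, hyV₂, ?_⟩
    have h3 := h2
    change M.presheaf.map (homOfLE i₁.le).op (X.presheaf.map (homOfLE (inf_le_left : V₁ ⊓ V ≤ V₁)).op a •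
          M.presheaf.map (homOfLE ((inf_le_right : V₁ ⊓ V ≤ V).trans hV)).op e) =
      M.presheaf.map (homOfLE i₁.le).op (M.presheaf.map (homOfLE (inf_le_right : V₁ ⊓ V ≤ V)).op v) at h3
    rw [Gen.map_smul_section, Gen.map_map_section, Gen.map_map_section, Gen.map_map_function] at h3
    exact h3
  choose V' hV' a hyV' ha using hloc
  have hcov : V ≤ ⨆ y, V' y := fun y hy => Opens.mem_iSup.2 ⟨⟨y, hy⟩, hyV' ⟨y, hy⟩⟩
  obtain ⟨s, hs, -⟩ := Gen.exists_glue_function V' hV' hcov a (by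
    intro i j
    apply hinj (V' i ⊓ V' j) (inf_le_left.trans ((hV' i).trans hV))
    have h1 := congr(M.presheaf.map (homOfLE (inf_le_left : V' i ⊓ V' j ≤ V' i)).op $(ha i))
    have h2 := congr(M.presheaf.map (homOfLE (inf_le_right : V' i ⊓ V' j ≤ V' j)).op $(ha j))
    simp only [Gen.map_smul_section, Gen.map_map_section] at h1 h2
    rw [h1, h2])
  refine ⟨s, ?_⟩
  apply Gen.section_ext M V' hV' hcov
  intro i
  simp only [Gen.map_smul_section, Gen.map_map_section, hs]
  exact ha i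

section charts

variable {M} {V : X.Opens} (hV : IsAffineOpen V) (x : X) (hxV : x ∈ V)

include hV in
theorem germ_surj (a : X.presheaf.stalk x) : ∃ s b : Γ(X, V), IsUnit (X.presheaf.germ V x hxV s) ∧
    X.presheaf.germ V x hxV b = X.presheaf.germ V x hxV s * a := by
  let := TopCat.Presheaf.algebra_section_stalk X.presheaf (⟨x, hxV⟩ : V)
  have := hV.isLocalization_stalk ⟨x, hxV⟩
  obtain ⟨⟨b, s⟩, hb⟩ := IsLocalization.surj (hV.primeIdealOf ⟨x, hxV⟩).asIdeal.primeCompl a
  refine ⟨s, b, IsLocalization.map_units (X.presheaf.stalk x) s, ?_⟩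
  rw [mul_comm]
  exact hb.symm

include hV in
theorem germ_inj (b : Γ(X, V)) (hb : X.presheaf.germ V x hxV b = 0) :
    ∃ s : Γ(X, V), IsUnit (X.presheaf.germ V x hxV s) ∧ s * b = 0 := by
  let := TopCat.Presheaf.algebra_section_stalk X.presheaf (⟨x, hxV⟩ : V)
  have := hV.isLocalization_stalk ⟨x, hxV⟩
  obtain ⟨s, hs⟩ := (IsLocalization.map_eq_zero_iff (hV.primeIdealOf ⟨x, hxV⟩).asIdeal.primeCompl
    (X.presheaf.stalk x) b).1 hb
  exact ⟨s, IsLocalization.map_units (X.presheaf.stalk x) s, hs⟩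

include hV in
theorem mod_surj (hM : Coh.IsQCoh M) (v : M.presheaf.stalk x) : ∃ (s : Γ(X, V)) (m : Γ(M, V)),
    IsUnit (X.presheaf.germ V x hxV s) ∧ M.presheaf.germ V x hxV m = X.presheaf.germ V x hxV s • v := by
  obtain ⟨s, m, hs, hm⟩ := QCohStalk.exists_germ_eq_smul M hV hM x hxV v
  exact ⟨s, m, (X.mem_basicOpen s x hxV).1 hs, hm⟩

include hV in
theorem mod_inj (hM : Coh.IsQCoh M) (m : Γ(M, V)) (hm : M.presheaf.germ V x hxV m = 0) :
    ∃ s : Γ(X, V), IsUnit (X.presheaf.germ V x hxV s) ∧ s • m = 0 := by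
  obtain ⟨s, hs, hm⟩ := QCohStalk.exists_smul_eq_zero_of_germ_eq_zero M hV hM x hxV m hm
  exact ⟨s, (X.mem_basicOpen s x hxV).1 hs, hm⟩

end charts

/-- a coherent module with free stalk of rank one at `x` has a free generator near `x` -/
theorem exists_isGen [IsLocallyNoetherian X] (hM : Coh.IsCoh M) (x : X) (e : M.presheaf.stalk x)
    (he : Function.Bijective fun a : X.presheaf.stalk x => a • e) :
    ∃ W : X.Opens, x ∈ W ∧ ∃ e' : Γ(M, W), Gen.IsGen M W e' := by
  obtain ⟨_, ⟨V, hV, rfl⟩, hxV, -⟩ := X.isBasis_affineOpens.exists_subset_of_mem_open (Set.mem_univ x) isOpen_univ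
  have hN : IsNoetherianRing Γ(X, V) := IsLocallyNoetherian.component_noetherian ⟨V, hV⟩
  have hfin : Module.Finite Γ(X, V) Γ(M, V) := Groth.Agent.CohqA.FinSec.finite_sections hV hM.1 hM.2
  obtain ⟨s₀, m, hs₀, hm⟩ := mod_surj hV x hxV hM.1 e
  obtain ⟨u, hu⟩ := hs₀
  have hbij : Function.Bijective fun a : X.presheaf.stalk x => a • (M.presheaf.germ V x hxV m : M.presheaf.stalk x) := by
    have h1 : (fun a : X.presheaf.stalk x => a • (M.presheaf.germ V x hxV m : M.presheaf.stalk x)) =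
        (fun a : X.presheaf.stalk x => a • e) ∘ fun a => a * u := by
      funext a
      simp only [Function.comp_apply]
      rw [hm, ← hu, mul_smul]
    rw [h1]
    exact he.comp (Units.mulRight_bijective u)
  obtain ⟨s, hs, hsurj, hinj⟩ := exists_denominator (X.presheaf.germ V x hxV).hom
    (M.presheaf.germ V x hxV).hom (germ_surj hV x hxV) (germ_inj hV x hxV)
    (fun b m => QCohStalk.germ_smul' M x hxV b m) (mod_inj hV x hxV hM.1) m hbij
  refine ⟨X.basicOpen s, (X.mem_basicOpen s x hxV).2 hs,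
    M.presheaf.map (homOfLE (X.basicOpen_le s)).op m, isGen_of_germ M _ _ fun y hy => ?_⟩
  have hyV : y ∈ V := X.basicOpen_le s hy
  have hsy : IsUnit (X.presheaf.germ V y hyV s) := (X.mem_basicOpen s y hyV).1 hy
  rw [QCohStalk.germ_map]
  constructor
  · intro a a' haa
    rw [← sub_eq_zero]
    set d := a - a' with hd
    have h0 : d • (M.presheaf.germ V y hyV m : M.presheaf.stalk y) = 0 := by
      rw [hd, sub_smul]
      exact sub_eq_zero.2 haa
    obtain ⟨s₁, c, hs₁, hc⟩ := germ_surj hV y hyV d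
    obtain ⟨s₂, hs₂, h2⟩ := mod_inj hV y hyV hM.1 (c • m) (by
      rw [QCohStalk.germ_smul', hc, mul_smul, h0, smul_zero])
    have h3 := hinj (s₂ * c) (by rw [mul_smul, h2])
    have h4 := congrArg (X.presheaf.germ V y hyV) h3
    rw [map_mul, map_mul, map_zero, hc] at h4
    exact (hs₁.mul_right_eq_zero).1 ((hs₂.mul_right_eq_zero).1 ((hsy.mul_right_eq_zero).1 h4))
  · intro v
    obtain ⟨s₁, m', hs₁, hm'⟩ := mod_surj hV y hyV hM.1 v
    obtain ⟨b, hb⟩ := hsurj m'
    have h1 := congrArg (M.presheaf.germ V y hyV) hb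
    rw [QCohStalk.germ_smul', QCohStalk.germ_smul', hm', smul_smul] at h1
    obtain ⟨u', hu'⟩ := hsy.mul hs₁
    refine ⟨(↑(u'⁻¹) : X.presheaf.stalk y) * X.presheaf.germ V y hyV b, ?_⟩
    dsimp only
    rw [mul_smul, ← h1, ← hu', smul_smul, Units.inv_mul, one_smul]

/-- stalks of a coherent module which is nonzero on every nonempty open -/
theorem exists_stalk_nonzero [IsLocallyNoetherian X] (hM : Coh.IsCoh M)
    (hne : ∀ D : X.Opens, (D : Set X).Nonempty → ∃ (D' : X.Opens) (_ : D' ≤ D) (s : Γ(M, D')), s ≠ 0)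
    (x : X) (p : Ideal (X.presheaf.stalk x)) [hp : p.IsPrime] :
    ∃ v : M.presheaf.stalk x, ∀ a : X.presheaf.stalk x, a • v = 0 → a ∈ p := by
  by_contra hcon
  push Not at hcon
  obtain ⟨_, ⟨V, hV, rfl⟩, hxV, -⟩ := X.isBasis_affineOpens.exists_subset_of_mem_open (Set.mem_univ x) isOpen_univ
  have hN : IsNoetherianRing Γ(X, V) := IsLocallyNoetherian.component_noetherian ⟨V, hV⟩
  have hfin : Module.Finite Γ(X, V) Γ(M, V) := Groth.Agent.CohqA.FinSec.finite_sections hV hM.1 hM.2
  obtain ⟨b, hb, hb0⟩ := exists_killing (X.presheaf.germ V x hxV).hom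
    (M.presheaf.germ V x hxV).hom (germ_surj hV x hxV)
    (fun b m => QCohStalk.germ_smul' M x hxV b m) (mod_inj hV x hxV hM.1) p hcon
  obtain ⟨D', hD', s, hs⟩ := hne (X.basicOpen b) (by
    rw [Set.nonempty_iff_ne_empty]
    intro h0
    have h1 : X.basicOpen b = ⊥ := by ext1; exact h0
    have h2 := (Scheme.isNilpotent_iff_basicOpen_eq_bot_of_isCompact hV.isCompact b).2 h1
    have h3 : IsNilpotent (X.presheaf.germ V x hxV b) := h2.map (X.presheaf.germ V x hxV).hom
    exact hb (hp.radical ▸ (nilradical_le_prime p (mem_nilradical.2 h3))))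
  apply hs
  choose! f hf hyf using fun (y : X) (hy : y ∈ D') =>
    hV.exists_basicOpen_le (V := D') ⟨y, hy⟩ (X.basicOpen_le b (hD' hy))
  refine section_ext M (fun y : D' => X.basicOpen (f y.1)) (fun y => hf y.1 y.2)
    (fun y hy => Opens.mem_iSup.2 ⟨⟨y, hy⟩, hyf y hy⟩) s 0 fun y => ?_
  rw [map_zero]
  have hloc := (isQuasicoherent_iff_loc M).1 hM.1 V hV
  obtain ⟨n, m, hm⟩ := hloc.exists_lift (f y.1) (res M (hf y.1 y.2) s)
  have hub : IsUnit (resR (X := X) (X.basicOpen_le (f y.1)) b) := by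
    have h1 := RingedSpace.isUnit_res_basicOpen X.toRingedSpace b
    have h2 : X.basicOpen (f y.1) ≤ X.basicOpen b := (hf y.1 y.2).trans hD'
    have h3 : resR (X := X) (X.basicOpen_le (f y.1)) b = resR h2 (resR (X.basicOpen_le b) b) := by rw [resR_resR]
    rw [h3]
    exact IsUnit.map (resR h2) h1
  have huf : IsUnit (resR (X := X) (X.basicOpen_le (f y.1)) (f y.1)) :=
    RingedSpace.isUnit_res_basicOpen X.toRingedSpace (f y.1)
  have h4 : resR (X := X) (X.basicOpen_le (f y.1)) b •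
      ((resR (X := X) (X.basicOpen_le (f y.1)) (f y.1)) ^ n • res M (hf y.1 y.2) s) = 0 := by
    rw [← hm, ← res_smul, hb0, map_zero]
  exact ((huf.pow n).smul_eq_zero).1 ((hub.smul_eq_zero).1 h4)

end Groth.Agent.CurvesC.DualInvGen
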