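import Groth.Agent.CurvesC.DualInv
import Groth.Agent.CurvesB.NodeSch2
import Groth.Agent.CurvesB.NodeCriterion

/-!
# The local rings of at-worst-nodal curves are double; invertibility of the dualizing module
-/

set_option autoImplicit false

universe u

open CategoryTheory CategoryTheory.Limits AlgebraicGeometry Opposite TopologicalSpace IsLocalRing

namespace Groth.Agent.CurvesC.DualInvNodal

open Groth.Agent.CurvesC.DualInvPoint Groth.Agent.CurvesB

/-- node-like local rings are double -/
theorem isDouble_of_nodeLike {A : Type u} [CommRing A] [IsLocalRing A] (h : Node.NodeLike A) : IsDouble A := by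
  obtain ⟨a, b, α, β, γ, hm, hd, hrel⟩ := h.exists_gens
  by_cases hα : IsUnit α
  · obtain ⟨v, hv⟩ := hα.exists_left_inv
    refine ⟨b, a, by rw [hm, Set.pair_comm], Ideal.mem_span_singleton'.2 ⟨-(v * (β * a + γ * b)), ?_⟩⟩
    linear_combination (a ^ 2) * hv - v * hrel
  by_cases hγ : IsUnit γ
  · obtain ⟨v, hv⟩ := hγ.exists_left_inv
    refine ⟨a, b, hm, Ideal.mem_span_singleton'.2 ⟨-(v * (α * a + β * b)), ?_⟩⟩
    linear_combination (b ^ 2) * hv - v * hrel
  · have hα' : α ∈ maximalIdeal A := (mem_maximalIdeal _).2 hα
    have hγ' : γ ∈ maximalIdeal A := (mem_maximalIdeal _).2 hγ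
    have hu : IsUnit (α - β + γ) := by
      by_contra hu
      have h1 : α - β + γ ∈ maximalIdeal A := (mem_maximalIdeal _).2 hu
      have hβ : β ∈ maximalIdeal A := by
        have : β = α + γ - (α - β + γ) := by ring
        rw [this]
        exact Ideal.sub_mem _ (Ideal.add_mem _ hα' hγ') h1
      have h2 : 4 * α * γ - β ^ 2 ∈ maximalIdeal A :=
        Ideal.sub_mem _ (Ideal.mul_mem_left _ _ hγ') (Ideal.pow_mem_of_mem _ hβ 2 (by norm_num))
      exact ((mem_maximalIdeal _).1 h2) hd
    obtain ⟨v, hv⟩ := hu.exists_left_inv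
    refine ⟨a + b, a, ?_, Ideal.mem_span_singleton'.2 ⟨-(v * (β * a + γ * b - γ * a)), ?_⟩⟩
    · rw [hm]
      apply le_antisymm
      · rw [Ideal.span_le]
        rintro x (rfl | rfl)
        · exact Ideal.subset_span (by simp)
        · have : x = (a + x) - a := by ring
          rw [this]
          exact Ideal.sub_mem _ (Ideal.subset_span (by simp)) (Ideal.subset_span (by simp))
      · rw [Ideal.span_le]
        rintro x (rfl | rfl)
        · exact Ideal.add_mem _ (Ideal.subset_span (by simp)) (Ideal.subset_span (by simp))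
        · exact Ideal.subset_span (by simp)
    · linear_combination (a ^ 2) * hv - v * hrel

/-- regular local rings of dimension at most one are double -/
theorem isDouble_of_isRegularLocalRing {A : Type u} [CommRing A] [IsRegularLocalRing A]
    (hd : Ring.KrullDimLE 1 A) : IsDouble A := by
  have h1 : ringKrullDim A ≤ 1 := by
    have := (Ring.krullDimLE_iff (n := 1) (R := A)).1 hd
    exact this
  rw [← IsRegularLocalRing.spanFinrank_maximalIdeal] at h1
  have h2 : (maximalIdeal A).spanFinrank ≤ 1 := by exact_mod_cast h1
  have h3 : (maximalIdeal A).FG := (maximalIdeal A).fg_of_isNoetherianRing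
  obtain ⟨t, ht⟩ : ∃ t, maximalIdeal A = Ideal.span {t} := by
    have h4 := Submodule.FG.generators_ncard h3
    have h5 := Submodule.FG.finite_generators h3
    have h6 := Submodule.span_generators (maximalIdeal A)
    rw [← h4] at h2
    have h5' : Finite (maximalIdeal A).generators := h5
    rcases (Set.ncard_le_one_iff_subsingleton.1 h2).eq_empty_or_singleton with h7 | ⟨t, h7⟩
    · refine ⟨0, ?_⟩
      rw [← h6, h7]
      simp
    · refine ⟨t, ?_⟩
      rw [← h6, h7]
  refine ⟨t, 0, ?_, by simp⟩
  rw [ht]
  apply le_antisymm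
  · exact Ideal.span_mono (by simp)
  · rw [Ideal.span_le]
    rintro x (rfl | rfl)
    · exact Ideal.subset_span rfl
    · exact Ideal.zero_mem _

variable {k : Type u} [Field k] {X : Scheme.{u}} [X.Over (Spec (CommRingCat.of k))]

/-- closed points of at-worst-nodal curves are double points -/
theorem isDouble_of_atWorstNodal [LocallyOfFiniteType (X ↘ Spec (CommRingCat.of k))]
    (hdim : topologicalKrullDim X ≤ 1) (hX : Curv2.AtWorstNodal k X) (x : X) (hx : IsClosed ({x} : Set X)) :
    IsDouble (X.presheaf.stalk x) := by
  rcases hX x hx with h | h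
  · have h1 := NodeSch2.isRegularLocalRing_of_exists k x h
    exact isDouble_of_isRegularLocalRing (NodeSch2.krullDimLE_one_stalk hdim x)
  · exact isDouble_of_nodeLike ((Node.isNode_iff k X x).1 h).2

theorem isReduced_of_atWorstNodal [LocallyOfFiniteType (X ↘ Spec (CommRingCat.of k))]
    (hX : Curv2.AtWorstNodal k X) : IsReduced X := by
  have := NodeSch2.geometricallyReduced_of_atWorstNodal k hX
  have : IsLocallyNoetherian (Spec (CommRingCat.of k)) := inferInstance
  exact GeometricallyReduced.isReduced_of_flat_of_isLocallyNoetherian (X ↘ (Spec (CommRingCat.of k)))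

/-- **The dualizing module of a proper at-worst-nodal curve is invertible.** -/
theorem isInvertible [IsProper (X ↘ Spec (CommRingCat.of k))]
    (hequi : ∀ Z ∈ irreducibleComponents (X : Type u), topologicalKrullDim Z = 1)
    (hX : Curv2.AtWorstNodal k X)
    {w : X.Modules} {t : HV X w 1 →ₗ[k] k} (h : IsDual w t) (hw : Coh.IsCoh w) : PicF.IsInvertible w := by
  have := isReduced_of_atWorstNodal hX
  exact DualInv.isInvertible hequi
    (isDouble_of_atWorstNodal (NodeSch2.topologicalKrullDim_le_one_of_components hequi) hX) h hw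

end Groth.Agent.CurvesC.DualInvNodal
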