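import Groth.Agent.CurvesC.DualInvSocle
import Groth.Agent.CurvesC.DualInvGen

/-!
# The stalk of the dualizing module at a closed double point is free of rank one
-/

set_option autoImplicit false

universe u

open CategoryTheory CategoryTheory.Limits AlgebraicGeometry Opposite TopologicalSpace

namespace Groth.Agent.CurvesC.DualInvPoint

open Groth.Agent.CohqB.QC2 Groth.Agent.CohqB.QC4 Groth.Agent.CohqB.QC6 Groth.Agent.CohqB.QCSheaf
  Groth.Agent.CohqB.P1MV Groth.Agent.CurvesC.DualInvSec Groth.Agent.CurvesC.DualInvExt Groth.Agent.Fdesc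
  Groth.Agent.CurvesC.DualInvGen

variable {X : Scheme.{u}}

/-- The maximal ideal is generated by `t, ε` with `ε ^ 2 ∈ (t)`. -/
def IsDouble (A : Type u) [CommRing A] [IsLocalRing A] : Prop :=
  ∃ t ε : A, IsLocalRing.maximalIdeal A = Ideal.span {t, ε} ∧ ε ^ 2 ∈ Ideal.span {t}

/-- a good chart at a closed double point -/
theorem exists_good_chart [IsLocallyNoetherian X] (x : X) (hx : IsClosed ({x} : Set X))
    (hd : IsDouble (X.presheaf.stalk x)) :
    ∃ (V : X.Opens) (_ : IsAffineOpen V) (hxV : x ∈ V) (t₀ : Γ(X, V)), X.basicOpen t₀ = tr (compl x hx) V ∧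
      ∃ ε : X.presheaf.stalk x,
        IsLocalRing.maximalIdeal (X.presheaf.stalk x) = Ideal.span {X.presheaf.germ V x hxV t₀, ε} ∧
          ε ^ 2 ∈ Ideal.span {X.presheaf.germ V x hxV t₀} := by
  obtain ⟨t, ε, hm, hε⟩ := hd
  obtain ⟨_, ⟨V₀, hV₀, rfl⟩, hxV₀, -⟩ := X.isBasis_affineOpens.exists_subset_of_mem_open (Set.mem_univ x) isOpen_univ
  have hN : IsNoetherianRing Γ(X, V₀) := IsLocallyNoetherian.component_noetherian ⟨V₀, hV₀⟩
  obtain ⟨t₀, s, ⟨u, hu, ht₀⟩, hs, hq⟩ := DualInvLoc.exists_chart (X.presheaf.germ V₀ x hxV₀).hom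
    (germ_surj hV₀ x hxV₀) (germ_inj hV₀ x hxV₀) t (fun a ha => DualInvAlg.mul_mem hm hε ha ha)
  have ht₀' : X.presheaf.germ V₀ x hxV₀ t₀ = u * t := ht₀
  have hsV : x ∈ X.basicOpen s := (X.mem_basicOpen s x hxV₀).2 hs
  have hgerm : X.presheaf.germ (X.basicOpen s) x hsV (resR (X.basicOpen_le s) t₀) = u * t := by
    rw [← ht₀']
    exact QCohStalk.ring_germ_map (X.basicOpen_le s) x hsV t₀
  obtain ⟨u', rfl⟩ := hu
  have hsp : Ideal.span {(u' : X.presheaf.stalk x) * t} = Ideal.span {t} :=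
    Ideal.span_singleton_mul_left_unit u'.isUnit t
  refine ⟨X.basicOpen s, hV₀.basicOpen s, hsV, resR (X.basicOpen_le s) t₀, ?_, ε, ?_, ?_⟩
  · have h1 : X.basicOpen (resR (X := X) (X.basicOpen_le s) t₀) = X.basicOpen s ⊓ X.basicOpen t₀ :=
      X.basicOpen_res t₀ (homOfLE (X.basicOpen_le s)).op
    rw [h1, tr_eq]
    apply le_antisymm
    · refine le_inf ?_ inf_le_left
      rw [le_compl_iff]
      rintro ⟨-, hxt⟩
      have h2 := (X.mem_basicOpen t₀ x hxV₀).1 hxt
      rw [ht₀'] at h2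
      have h3 : t ∈ IsLocalRing.maximalIdeal (X.presheaf.stalk x) := by
        rw [hm]; exact Ideal.subset_span (by simp)
      exact ((IsLocalRing.mem_maximalIdeal _).1 h3) (isUnit_of_mul_isUnit_right h2)
    · rintro y ⟨hyx, hys⟩
      refine ⟨hys, ?_⟩
      by_contra hyt
      have hyV₀ : y ∈ V₀ := X.basicOpen_le s hys
      have h2 : ∀ a : Γ(X, V₀), y ∈ X.basicOpen a → x ∈ X.basicOpen a := by
        intro a hya
        by_contra hxa
        have h3 := hq (hV₀.primeIdealOf ⟨y, hyV₀⟩).asIdeal (hV₀.primeIdealOf ⟨y, hyV₀⟩).isPrime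
          (by
            by_contra h4
            exact hyt ((QCohStalk.mem_basicOpen_iff hV₀ y hyV₀ t₀).2 h4))
          ((QCohStalk.mem_basicOpen_iff hV₀ y hyV₀ s).1 hys) a
          (fun h4 => hxa ((X.mem_basicOpen a x hxV₀).2 h4))
        exact (QCohStalk.mem_basicOpen_iff hV₀ y hyV₀ a).1 hya h3
      have h3 : y ∈ closure ({x} : Set X) := by
        rw [mem_closure_iff]
        intro W hW hyW
        obtain ⟨f, hf, hyf⟩ := hV₀.exists_basicOpen_le (V := ⟨W, hW⟩) ⟨y, hyW⟩ hyV₀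
        exact ⟨x, hf (h2 f hyf), rfl⟩
      rw [hx.closure_eq] at h3
      exact hyx h3
  · rw [hgerm, hm, Ideal.span_insert, Ideal.span_insert, hsp]
  · rw [hgerm, hsp]
    exact hε

variable {k : Type u} [Field k] [X.Over (Spec (CommRingCat.of k))] {w : X.Modules} {t : HV X w 1 →ₗ[k] k}

/-- the stalk of `w` at a closed double point is free of rank one -/
theorem exists_bijective [IsLocallyNoetherian X] [LocallyOfFiniteType (X ↘ Spec (CommRingCat.of k))] [IsReduced X]
    (h : IsDual w t) (hw : Coh.IsCoh w)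
    (hne : ∀ D : X.Opens, (D : Set X).Nonempty → ∃ (D' : X.Opens) (_ : D' ≤ D) (s : Γ(w, D')), s ≠ 0)
    (x : X) (hx : IsClosed ({x} : Set X)) (hd : IsDouble (X.presheaf.stalk x)) :
    ∃ e : w.presheaf.stalk x, Function.Bijective fun a : X.presheaf.stalk x => a • e := by
  obtain ⟨V, hV, hxV, t₀, ht₀, ε, hm, hε⟩ := exists_good_chart x hx hd
  have hN : IsNoetherianRing Γ(X, V) := IsLocallyNoetherian.component_noetherian ⟨V, hV⟩
  have hfin : Module.Finite Γ(X, V) Γ(w, V) := Groth.Agent.CohqA.FinSec.finite_sections hV hw.1 hw.2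
  have hsoc : DualInvAlg.SmallSocle (X.presheaf.stalk x) (w.presheaf.stalk x) (X.presheaf.germ V x hxV t₀) := by
    refine DualInvLoc.smallSocle (X.presheaf.germ V x hxV).hom (w.presheaf.germ V x hxV).hom
      (fun b m => QCohStalk.germ_smul' w x hxV b m) (mod_surj hV x hxV hw.1) (mod_inj hV x hxV hw.1) t₀ ?_
    intro e₁ e₂ h₁ h₂
    have hiff : ∀ a : Γ(X, V), x ∈ X.basicOpen a ↔ IsUnit (X.presheaf.germ V x hxV a) :=
      fun a => X.mem_basicOpen a x hxV
    obtain ⟨b₁, b₂, hb, hv⟩ := DualInvSocle.exists_relation h hw.1 x hx hV hxV t₀ ht₀ e₁ e₂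
      (fun a ha => h₁ a (fun hu => ha ((hiff a).2 hu))) (fun a ha => h₂ a (fun hu => ha ((hiff a).2 hu)))
    exact ⟨b₁, b₂, hb.imp (hiff b₁).1 (hiff b₂).1, hv⟩
  -- finiteness of the stalk
  have hfin' : Module.Finite (X.presheaf.stalk x) (w.presheaf.stalk x) := by
    obtain ⟨S, hS⟩ := (Module.Finite.fg_top : (⊤ : Submodule Γ(X, V) Γ(w, V)).FG)
    classical
    let N : Submodule (X.presheaf.stalk x) (w.presheaf.stalk x) :=
      Submodule.span _ (S.image fun m : Γ(w, V) => (w.presheaf.germ V x hxV m : w.presheaf.stalk x))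
    have h1 : ∀ m : Γ(w, V), (w.presheaf.germ V x hxV m : w.presheaf.stalk x) ∈ N := by
      intro m
      have hm' : m ∈ Submodule.span Γ(X, V) (S : Set Γ(w, V)) := hS ▸ Submodule.mem_top
      induction hm' using Submodule.span_induction with
      | mem m hm' =>
        refine Submodule.subset_span ?_
        rw [Finset.coe_image]
        exact ⟨m, hm', rfl⟩
      | zero => rw [map_zero]; exact N.zero_mem
      | add a b _ _ ha hb => rw [map_add]; exact N.add_mem ha hb
      | smul b m _ hm' => rw [QCohStalk.germ_smul']; exact N.smul_mem _ hm'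
    refine ⟨S.image fun m : Γ(w, V) => (w.presheaf.germ V x hxV m : w.presheaf.stalk x), ?_⟩
    rw [eq_top_iff]
    intro v _
    obtain ⟨s, m, hs, hmv⟩ := mod_surj hV x hxV hw.1 v
    obtain ⟨u, hu⟩ := hs
    have h2 : v = (↑(u⁻¹) : X.presheaf.stalk x) • (w.presheaf.germ V x hxV m : w.presheaf.stalk x) := by
      rw [hmv, ← hu, smul_smul, Units.inv_mul, one_smul]
    rw [h2]
    exact N.smul_mem _ (h1 m)
  exact DualInvAlg.exists_bijective hm hε hsoc (fun p hp => by
    have hpp : p.IsPrime := hp.1.1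
    exact exists_stalk_nonzero w hw hne x p)

/-- **Invertibility of the dualizing module of a curve with closed double points, given generic nonvanishing.** -/
theorem isInvertible_of_nonvanishing [IsLocallyNoetherian X] [CompactSpace X]
    [LocallyOfFiniteType (X ↘ Spec (CommRingCat.of k))] [IsReduced X] (h : IsDual w t) (hw : Coh.IsCoh w)
    (hne : ∀ D : X.Opens, (D : Set X).Nonempty → ∃ (D' : X.Opens) (_ : D' ≤ D) (s : Γ(w, D')), s ≠ 0)
    (hd : ∀ x : X, IsClosed ({x} : Set X) → IsDouble (X.presheaf.stalk x)) : PicF.IsInvertible w := by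
  apply Gen.isInvertible_of_isGen
  intro y
  obtain ⟨x, hxy, hx⟩ := (isClosed_closure (s := ({y} : Set X))).exists_closed_singleton ⟨y, subset_closure rfl⟩
  obtain ⟨e, he⟩ := exists_bijective h hw hne x hx (hd x hx)
  obtain ⟨W, hxW, e', he'⟩ := exists_isGen w hw x e he
  refine ⟨W, ?_, e', he'⟩
  obtain ⟨z, hzW, hz⟩ := mem_closure_iff.1 hxy W W.2 hxW
  rw [Set.mem_singleton_iff.1 hz] at hzW
  exact hzW

end Groth.Agent.CurvesC.DualInvPoint
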