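import Groth.Agent.CurvesC.DualPair
import Groth.Agent.CurvesC.Gen
import Groth.Agent.CurvesC.UnitCoh
import Groth.Agent.CurvesC.FlasqueCoker
import Groth.Agent.CohqB.QC6
import Groth.Agent.S0453

/-!
# The dualizing module of a proper curve has no sections with finite support

`HVsub`: a module whose sections vanish off a set all of whose subsets are closed has no first cohomology.
`eq_zero_of_image`: hence a map `F ⟶ w` whose values vanish off such a set is zero.
-/

set_option autoImplicit false

universe u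

open CategoryTheory CategoryTheory.Limits AlgebraicGeometry Opposite TopologicalSpace

namespace Groth.Agent.CurvesC.DualInvSec

open Groth.Agent.CohqB.QC2 Groth.Agent.CohqB.QC4 Groth.Agent.CohqB.QC6 Groth.Agent.CohqB.QCSheaf

variable {X : Scheme.{u}}

/-- Sections vanish off `Z`, and all subsets of `Z` are closed: no first cohomology. -/
theorem subsingleton_HV (M : X.Modules) (Z : Set X) (hZ : ∀ T : Set X, T ⊆ Z → IsClosed T)
    (hM : ∀ U : X.Opens, Disjoint (U : Set X) Z → ∀ s : Γ(M, U), s = 0) : Subsingleton (HV X M 1) := by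
  have hf := FlasqueCoker.isFlasque_of_support (X := (X : TopCat.{u})) (Coh.toAb M) Z hZ hM
  exact Groth.Agent.S0453.result (X := (X : TopCat.{u})) (Coh.toAb M) 0

/-- a section which vanishes locally off `Z` on its domain, `Z` closed contained in the domain, extends by zero -/
theorem exists_extension (M : X.Modules) {V : X.Opens} {Z : Set X} (hZ : IsClosed Z) (hZV : Z ⊆ V) (s : Γ(M, V))
    (hs : ∀ (W : X.Opens) (h : W ≤ V), Disjoint (W : Set X) Z → res M h s = 0) :
    ∃ σ : Γ(M, ⊤), res M le_top σ = s ∧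
      ∀ W : X.Opens, Disjoint (W : Set X) Z → res M (le_top : W ≤ ⊤) σ = 0 := by
  let N : X.Opens := ⟨Zᶜ, hZ.isOpen_compl⟩
  let f : Bool → X.Opens := fun b => cond b V N
  let sf : ∀ b : Bool, Γ(M, f b) := fun b => match b with
    | true => s
    | false => (0 : Γ(M, N))
  have hN : ∀ W : X.Opens, W ≤ N → Disjoint (W : Set X) Z := fun W hW =>
    Set.disjoint_left.2 fun x hx hxZ => hW hx hxZ
  have hcov : (⊤ : X.Opens) ≤ ⨆ i, f i := by
    intro x _
    by_cases hx : x ∈ Z
    · exact Opens.mem_iSup.2 ⟨true, hZV hx⟩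
    · exact Opens.mem_iSup.2 ⟨false, hx⟩
  have hcomp : ∀ i j, res M (inf_le_left : f i ⊓ f j ≤ f i) (sf i) =
      res M (inf_le_right : f i ⊓ f j ≤ f j) (sf j) := by
    intro a b
    match a, b with
    | true, true => rfl
    | false, false => rfl
    | true, false =>
      refine (hs _ _ (hN _ inf_le_right)).trans (map_zero _).symm
    | false, true =>
      exact (map_zero _).trans (hs _ _ (hN _ inf_le_left)).symm
  obtain ⟨σ, hσ⟩ := exists_glue M f (fun _ => le_top) hcov sf hcomp
  refine ⟨σ, hσ true, fun W hW => ?_⟩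
  have hWN : W ≤ N := fun x hx hxZ => Set.disjoint_left.1 hW hx hxZ
  have h0 : res M (le_top : N ≤ ⊤) σ = 0 := hσ false
  rw [← res_res M (le_top : N ≤ ⊤) hWN, h0, map_zero]

/-- sections of the image of a map whose values vanish on opens disjoint from `Z` -/
theorem image_sections {M N : X.Modules} (φ : M ⟶ N) (Z : Set X)
    (hφ : ∀ W : X.Opens, Disjoint (W : Set X) Z → ∀ s : Γ(M, W), φ.app W s = 0)
    (W : X.Opens) (hW : Disjoint (W : Set X) Z) (s : Γ(Abelian.image φ, W)) : s = 0 := by
  apply app_injective_of_mono (Abelian.image.ι φ) W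
  rw [map_zero]
  choose V hV t hxV ht using fun x : W => exists_local_lift (Abelian.factorThruImage φ) s x.1 x.2
  refine section_ext N V hV (fun x hx => Opens.mem_iSup.2 ⟨⟨x, hx⟩, hxV ⟨x, hx⟩⟩) _ _ fun x => ?_
  rw [map_zero, ← app_res]
  have h1 : res (Abelian.image φ) (hV x) s = (Abelian.factorThruImage φ).app (V x) (t x) := (ht x).symm
  rw [h1]
  have h2 := congr((Scheme.Modules.Hom.app $(Abelian.image.fac φ) (V x)) (t x))
  refine Eq.trans h2 (hφ _ (hW.mono_left (hV x)) _)

variable {k : Type u} [Field k] [X.Over (Spec (CommRingCat.of k))] {w : X.Modules} {t : HV X w 1 →ₗ[k] k}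

/-- A map to the dualizing module whose values vanish off a "finite" set is zero. -/
theorem eq_zero_of_image (h : IsDual w t) (hw : Coh.IsQCoh w) {M : X.Modules} (hM : Coh.IsQCoh M)
    (φ : M ⟶ w) (Z : Set X) (hZ : ∀ T : Set X, T ⊆ Z → IsClosed T)
    (hφ : ∀ W : X.Opens, Disjoint (W : Set X) Z → ∀ s : Γ(M, W), φ.app W s = 0) : φ = 0 := by
  have h1 := subsingleton_HV (Abelian.image φ) Z hZ (image_sections φ Z hφ)
  have h2 := h.eq_zero (isQCoh_image φ hM hw) h1 (Abelian.image.ι φ)
  rw [← Abelian.image.fac φ, h2, comp_zero]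

/-- A section of the dualizing module which vanishes off a "finite" subset of its domain is zero. -/
theorem section_eq_zero (h : IsDual w t) (hw : Coh.IsQCoh w) {V : X.Opens} (Z : Set X)
    (hZ : ∀ T : Set X, T ⊆ Z → IsClosed T) (hZV : Z ⊆ V) (s : Γ(w, V))
    (hs : ∀ (W : X.Opens) (h : W ≤ V), Disjoint (W : Set X) Z → res w h s = 0) : s = 0 := by
  obtain ⟨σ, hσ, hσ0⟩ := exists_extension w (hZ Z subset_rfl) hZV s hs
  have h1 := eq_zero_of_image h hw (UnitCoh.isQCoh_unit X) (Gen.ofSec σ) Z hZ (fun W hW a => by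
    refine (Gen.app_eq_smul (Gen.ofSec σ) W a).trans ?_
    rw [Gen.sec_ofSec]
    refine Eq.trans ?_ (smul_zero (show Γ(X, W) from a))
    congr 1
    exact hσ0 W hW)
  have h2 : σ = 0 := by
    rw [← Gen.sec_ofSec_top σ, h1]
    rfl
  rw [← hσ, h2, map_zero]

end Groth.Agent.CurvesC.DualInvSec
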