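import Groth.Agent.CurvesB.NodeCriterion
import Groth.Agent.CurvesB.NodeSch2
import Groth.Agent.CurvesB.NodeSub
import Groth.Agent.S0549
import Groth.Agent.S0558
import Mathlib.RingTheory.DiscreteValuationRing.Basic
import Mathlib.RingTheory.DiscreteValuationRing.TFAE

/-!
# Good parameters at the closed points of an at-worst-nodal curve

At a closed point of an at-worst-nodal curve the maximal ideal of the local ring is generated by `t, ε` with
`ε ^ 2 ∈ (t)` and `t` a nonzerodivisor.
-/

set_option autoImplicit false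
universe u
open CategoryTheory CategoryTheory.Limits AlgebraicGeometry IsLocalRing

attribute [local instance] Curv2.resAlgebra Curv2.stalkAlgebra

namespace Groth.Agent.CurvesC.NodalLen

open Groth.Agent.CurvesB.Node Groth.Agent.CurvesB

/-- The local structure used for the dualizing module. -/
def GoodParam (A : Type*) [CommRing A] [IsLocalRing A] : Prop :=
  ∃ t ε : A, maximalIdeal A = Ideal.span {t, ε} ∧ ε ^ 2 ∈ Ideal.span {t} ∧ t ∈ nonZeroDivisors A

/-- An element `t` of a reduced Noetherian local ring which is not a field, such that the maximal ideal is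
generated by `t, ε` with `ε ^ 2 ∈ (t)`, is a nonzerodivisor. -/
theorem mem_nonZeroDivisors {A : Type*} [CommRing A] [IsLocalRing A] [IsNoetherianRing A] [IsReduced A]
    (hA : ¬ IsField A) {t ε : A} (hm : maximalIdeal A = Ideal.span {t, ε}) (hε : ε ^ 2 ∈ Ideal.span {t}) :
    t ∈ nonZeroDivisors A := by
  by_contra ht
  have h1 : ∃ p ∈ minimalPrimes A, t ∈ p := by
    by_contra hcon
    push Not at hcon
    apply ht
    rw [mem_nonZeroDivisors_iff_right]
    intro x hx
    have h2 : x ∈ nilradical A := by
      rw [nilradical_eq_sInf, Ideal.mem_sInf]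
      intro q (hq : q.IsPrime)
      obtain ⟨p, hp, hpq⟩ := Ideal.exists_minimalPrimes_le (bot_le (a := q))
      have hpp : p.IsPrime := hp.1.1
      have h3 : x * t ∈ p := by rw [hx]; exact p.zero_mem
      exact hpq ((hpp.mem_or_mem h3).resolve_right (hcon p hp))
    rwa [nilradical_eq_zero, Ideal.zero_eq_bot, Ideal.mem_bot] at h2
  obtain ⟨p, hp, htp⟩ := h1
  have hpp : p.IsPrime := hp.1.1
  have hεp : ε ∈ p := by
    obtain ⟨c, hc⟩ := Ideal.mem_span_singleton'.mp hε
    exact hpp.mem_of_pow_mem 2 (hc ▸ p.mul_mem_left _ htp)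
  have hmp : maximalIdeal A ≤ p := by
    rw [hm, Ideal.span_le]
    rintro x (rfl | rfl)
    · exact htp
    · exact hεp
  have hpm : p = maximalIdeal A := ((maximalIdeal.isMaximal A).eq_of_le hpp.ne_top hmp).symm
  apply hA
  rw [IsLocalRing.isField_iff_maximalIdeal_eq, ← hpm, eq_bot_iff]
  intro x hx
  have h2 : x ∈ nilradical A := by
    rw [nilradical_eq_sInf, Ideal.mem_sInf]
    intro q (hq : q.IsPrime)
    have h3 : q ≤ p := hpm ▸ IsLocalRing.le_maximalIdeal hq.ne_top
    exact hp.2 ⟨hq, bot_le⟩ h3 hx
  rwa [nilradical_eq_zero] at h2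

/-- Good parameters for a node-like local ring. -/
theorem goodParam_of_nodeLike {A : Type*} [CommRing A] [IsLocalRing A] [IsNoetherianRing A] [IsReduced A]
    (h : NodeLike A) : GoodParam A := by
  have hA : ¬ IsField A := by
    intro hf
    apply h.not_principal 1 le_rfl
    rw [pow_one, IsLocalRing.isField_iff_maximalIdeal_eq.mp hf]
    exact ⟨⟨0, by simp⟩⟩
  obtain ⟨a, b, α, β, γ, hm, hd, hrel⟩ := h.exists_gens
  have main : ∀ (t ε p q r : A), maximalIdeal A = Ideal.span {t, ε} → IsUnit r →
      p * t ^ 2 + q * t * ε + r * ε ^ 2 = 0 → GoodParam A := by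
    intro t ε p q r hm hr hrel
    obtain ⟨r, rfl⟩ := hr
    have hε : ε ^ 2 ∈ Ideal.span {t} := by
      rw [Ideal.mem_span_singleton']
      refine ⟨-((↑r⁻¹ : A) * (p * t + q * ε)), ?_⟩
      have : ε ^ 2 = (↑r⁻¹ : A) * (r * ε ^ 2) := by rw [← mul_assoc, Units.inv_mul, one_mul]
      rw [this]
      linear_combination (-(↑r⁻¹ : A)) * hrel
    exact ⟨t, ε, hm, hε, mem_nonZeroDivisors hA hm hε⟩
  by_cases hγ : IsUnit γ
  · exact main a b α β γ hm hγ hrel
  by_cases hα : IsUnit α
  · refine main b a γ β α (by rw [hm, Set.pair_comm]) hα (by linear_combination hrel)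
  · -- `β` is a unit and `t = a - b`
    have hβ : IsUnit (α + β + γ) := by
      by_contra hcon
      have h1 : α ∈ maximalIdeal A := hα
      have h2 : γ ∈ maximalIdeal A := hγ
      have h3 : α + β + γ ∈ maximalIdeal A := hcon
      have h4 : β ∈ maximalIdeal A := by
        have := Ideal.sub_mem _ (Ideal.sub_mem _ h3 h1) h2
        have h5 : α + β + γ - α - γ = β := by ring
        rwa [h5] at this
      have h6 : 4 * α * γ - β ^ 2 ∈ maximalIdeal A :=
        Ideal.sub_mem _ (Ideal.mul_mem_left _ _ h2) (Ideal.pow_mem_of_mem _ h4 2 (by norm_num))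
      exact h6 hd
    refine main (a - b) b α (2 * α + β) (α + β + γ) ?_ hβ (by linear_combination hrel)
    rw [hm]
    apply le_antisymm
    · rw [Ideal.span_le]
      rintro x (rfl | rfl)
      · rw [SetLike.mem_coe, Ideal.mem_span_pair]
        exact ⟨1, 1, by ring⟩
      · exact Ideal.subset_span (by simp)
    · rw [Ideal.span_le]
      rintro x (rfl | rfl)
      · rw [SetLike.mem_coe, Ideal.mem_span_pair]
        exact ⟨1, -1, by ring⟩
      · exact Ideal.subset_span (by simp)

/-- Good parameters for a regular local ring of dimension one. -/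
theorem goodParam_of_regular {A : Type u} [CommRing A] [IsRegularLocalRing A] [Ring.KrullDimLE 1 A]
    (hA : ¬ IsField A) : GoodParam A := by
  have hD : IsDomain A := Groth.Agent.S0558.result A
  have h1 : ringKrullDim A = 1 := by
    apply le_antisymm
    · exact (Ring.krullDimLE_iff (n := 1) (R := A)).mp inferInstance
    · by_contra hcon
      apply hA
      have h2 : ringKrullDim A ≤ 0 := by
        rw [not_le] at hcon
        have h3 : ringKrullDim A < ((0 : ℕ) : WithBot ℕ∞) + 1 := by simpa using hcon
        simpa using ENat.WithBot.lt_add_one_iff.mp h3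
      have : Ring.KrullDimLE 0 A := (Ring.krullDimLE_iff (n := 0) (R := A)).mpr (by simpa using h2)
      exact Ring.KrullDimLE.isField_of_isReduced (R := A)
  obtain ⟨_, _⟩ := (Groth.Agent.S0549.dvr_iff A).mpr ⟨inferInstance, h1⟩
  obtain ⟨t, ht⟩ := IsDiscreteValuationRing.exists_irreducible A
  refine ⟨t, 0, ?_, by simp, mem_nonZeroDivisors_of_ne_zero ht.ne_zero⟩
  rw [ht.maximalIdeal_eq, Set.pair_comm, Ideal.span_insert_zero]

variable (k : Type u) [Field k] {X : Scheme.{u}} [X.Over (Spec (CommRingCat.of k))]
  [LocallyOfFiniteType (X ↘ Spec (CommRingCat.of k))]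

/-- Stalks of an at-worst-nodal scheme are reduced. -/
theorem isReduced_stalk (hX : Curv2.AtWorstNodal k X) (x : X) :
    _root_.IsReduced (X.presheaf.stalk x) := by
  have h3 := NodeSch2.geometricallyReduced_of_atWorstNodal k hX
  have h4 := (Groth.Agent.VarietyA.GeomRed.geometricallyReduced_iff_forall_stalk k X).mp h3 x
  exact Algebra.isReduced_of_isGeometricallyReduced k

/-- Good parameters at a closed point of an at-worst-nodal curve. -/
theorem goodParam_stalk (hX : Curv2.AtWorstNodal k X) (hdim : topologicalKrullDim X ≤ 1) (x : X)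
    (hx : IsClosed ({x} : Set X)) (hxf : ¬ IsField (X.presheaf.stalk x)) :
    GoodParam (X.presheaf.stalk x) := by
  have : IsLocallyNoetherian X :=
    NodeSch2.isLocallyNoetherian_of_locallyOfFiniteType (X ↘ (Spec (CommRingCat.of k)))
  have h1 := NodeSch2.krullDimLE_one_stalk hdim x
  rcases hX x hx with h | h
  · have := NodeSch2.isRegularLocalRing_of_exists k x h
    exact goodParam_of_regular hxf
  · have := isReduced_stalk k hX x
    exact goodParam_of_nodeLike ((isNode_iff k X x).mp h).2

end Groth.Agent.CurvesC.NodalLen
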