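import Groth.Agent.CurvesC.DualCount
import Groth.Agent.CurvesC.KerSec

/-!
# Comparing `h⁰` and `h¹` through pairings with values in the dualizing module
-/

set_option autoImplicit false
set_option linter.unusedVariables false

universe u

open AlgebraicGeometry CategoryTheory CategoryTheory.Limits TopologicalSpace Opposite

namespace Groth.Agent.CurvesC.DualPairing

open Groth.Agent.Ega1.SubSheaf Groth.Agent.CurvesC.HomRel Groth.Agent.CurvesC.DualCount
  Groth.Agent.CurvesC.Gen

variable {X : Scheme.{u}}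

/-- Bilinear pairing of modules. -/
structure Pairing (A N w : X.Modules) where
  β : ∀ U : X.Opens, Γ(A, U) → Γ(N, U) → Γ(w, U)
  add_left : ∀ U x x' y, β U (x + x') y = β U x y + β U x' y
  add_right : ∀ U x y y', β U x (y + y') = β U x y + β U x y'
  smul_left : ∀ (U : X.Opens) (r : Γ(X, U)) x y, β U (r • x) y = r • β U x y
  smul_right : ∀ (U : X.Opens) (r : Γ(X, U)) x y, β U x (r • y) = r • β U x y
  hres : ∀ (U V : X.Opens) (h : V ≤ U) x y, β V (res A h x) (res N h y) = res w h (β U x y)

namespace Pairing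

/-- Swap the two variables. -/
noncomputable def flip {A N w : X.Modules} (P : Pairing A N w) : Pairing N A w where
  β U x y := P.β U y x
  add_left U x x' y := P.add_right U y x x'
  add_right U x y y' := P.add_left U y y' x
  smul_left U r x y := P.smul_right U r y x
  smul_right U r x y := P.smul_left U r y x
  hres U V h x y := P.hres U V h y x

/-- Pull back a pairing. -/
noncomputable def map {A N w A' N' : X.Modules} (P : Pairing A N w) (f : A' ⟶ A) (g : N' ⟶ N) : Pairing A' N' w where
  β U x y := P.β U (f.app U x) (g.app U y)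
  add_left U x x' y := by rw [map_add, P.add_left]
  add_right U x y y' := by rw [map_add, P.add_right]
  smul_left U r x y := by rw [app_smul', P.smul_left]
  smul_right U r x y := by rw [app_smul', P.smul_right]
  hres U V h x y := by rw [app_res, app_res, P.hres]

/-- The multiplication pairing. -/
noncomputable def mul (w : X.Modules) : Pairing (Coh.structureModule X) w w where
  β U a m := (show Γ(X, U) from a) • m
  add_left U x x' y := add_smul (show Γ(X, U) from x) (show Γ(X, U) from x') y
  add_right U x y y' := smul_add _ _ _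
  smul_left U r x y := mul_smul r (show Γ(X, U) from x) y
  smul_right U r x y := smul_comm _ _ _
  hres U V h x y := (res_smul w h (show Γ(X, U) from x) y).symm

theorem sub_left {A N w : X.Modules} (P : Pairing A N w) (U : X.Opens) (x x' : Γ(A, U)) (y : Γ(N, U)) :
    P.β U (x - x') y = P.β U x y - P.β U x' y := by
  rw [eq_sub_iff_add_eq, ← P.add_left, sub_add_cancel]

theorem sub_right {A N w : X.Modules} (P : Pairing A N w) (U : X.Opens) (x : Γ(A, U)) (y y' : Γ(N, U)) :
    P.β U x (y - y') = P.β U x y - P.β U x y' := P.flip.sub_left U y y' x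

end Pairing

/-- The morphism attached to a global section by a pairing. -/
noncomputable def Pairing.toHom {A N w : X.Modules} (P : Pairing A N w) (n : Γ(N, ⊤)) : A ⟶ w :=
  homMk (fun U => AddMonoidHom.mk' (fun x => P.β U x (res N le_top n)) fun a b => P.add_left U a b _)
    (by
      intro U V h s
      simp only [AddMonoidHom.mk'_apply]
      rw [← P.hres U V h, res_res])
    (by
      intro U r s
      exact P.smul_left U r s _)

theorem Pairing.toHom_app {A N w : X.Modules} (P : Pairing A N w) (n : Γ(N, ⊤)) (U : X.Opens) (x : Γ(A, U)) :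
    (P.toHom n).app U x = P.β U x (res N le_top n) := rfl

theorem hom_ext' {F G : X.Modules} {φ ψ : F ⟶ G} (h : ∀ (U : X.Opens) (x : Γ(F, U)), φ.app U x = ψ.app U x) :
    φ = ψ := by
  apply Scheme.Modules.hom_ext
  intro U
  ext x
  exact h U x

theorem add_app' {F G : X.Modules} (φ ψ : F ⟶ G) (U : X.Opens) (x : Γ(F, U)) :
    (φ + ψ).app U x = φ.app U x + ψ.app U x := rfl

section Field

variable {k : Type u} [Field k] [X.Over (Spec (CommRingCat.of k))]

theorem h0_eq_of_pairing {A F N w : X.Modules} {t : Coh.HH X w 1 →ₗ[k] k} (ht : IsPair k t)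
    (hF : Coh.IsQCoh F) (q : A ⟶ F) (hq : LocSurj q) (P : Pairing A N w)
    (hker : ∀ U x y, q.app U x = 0 → P.β U x y = 0)
    (hinj : ∀ n : Γ(N, ⊤), (∀ U (x : Γ(A, U)), P.β U x (res N le_top n) = 0) → n = 0)
    (hsurj : ∀ f : A ⟶ w, (∀ U x, q.app U x = 0 → f.app U x = 0) →
      ∃ n : Γ(N, ⊤), ∀ U x, f.app U x = P.β U x (res N le_top n)) :
    Module.finrank k (Coh.HH X N 0) = Module.finrank k (Coh.HH X F 1) := by
  have hex : ∀ n : Γ(N, ⊤), ∃ φ : F ⟶ w, q ≫ φ = P.toHom n := fun n =>
    exists_desc q hq (P.toHom n) (fun U x hx => hker U x _ hx)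
  choose θ hθ using hex
  have hθ' : ∀ (n : Γ(N, ⊤)) (U : X.Opens) (x : Γ(A, U)),
      (θ n).app U (q.app U x) = P.β U x (res N le_top n) := fun n U x => by
    rw [← P.toHom_app, ← hθ]
    rfl
  refine h0_eq ht hF θ ?_ ?_ ⟨?_, ?_⟩
  · intro s s'
    refine hom_ext_of_locSurj q hq (hom_ext' fun U x => ?_)
    change (θ (s + s')).app U (q.app U x) = (θ s).app U (q.app U x) + (θ s').app U (q.app U x)
    rw [hθ', hθ', hθ', map_add, P.add_right]
  · intro r s U y
    refine section_ext w _ _ fun p hp => ?_
    obtain ⟨V, hV, hpV, x, hx⟩ := hq U y p hp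
    refine ⟨V, hV, hpV, ?_⟩
    rw [← app_res, res_smul, ← app_res, ← hx, hθ', hθ', res_smul, P.smul_right]
    congr 1
    change _ = (X.presheaf.map _ ≫ X.presheaf.map _) r
    rw [← Functor.map_comp]
    rfl
  · intro s s' h
    rw [← sub_eq_zero]
    refine hinj _ fun U x => ?_
    rw [map_sub, P.sub_right, ← hθ', ← hθ', h, sub_self]
  · intro φ
    obtain ⟨n, hn⟩ := hsurj (q ≫ φ) (fun U x hx => by
      change φ.app U (q.app U x) = 0
      rw [hx, map_zero])
    refine ⟨n, hom_ext_of_locSurj q hq (hom_ext' fun U x => ?_)⟩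
    rw [hn]
    exact hθ' n U x

theorem h0_le_of_pairing {A B F w : X.Modules} {t : Coh.HH X w 1 →ₗ[k] k} (ht : IsPair k t)
    (hF : Coh.IsQCoh F) [Module.Finite k (Coh.HH X F 1)] (p : A ⟶ B) (hp : LocSurj p) (P : Pairing A F w)
    (hker : ∀ U x y, p.app U x = 0 → P.β U x y = 0)
    (hinj : ∀ (U : X.Opens) (x : Γ(A, U)), (∀ (V : X.Opens) (h : V ≤ U) (y : Γ(F, V)),
      P.β V (res A h x) y = 0) → p.app U x = 0) :
    Module.finrank k (Coh.HH X B 0) ≤ Module.finrank k (Coh.HH X F 1) := by
  have hex : ∀ s : Γ(B, ⊤), ∃ Φ : F ⟶ w, ∀ (U : X.Opens) (x : Γ(A, U)) (y : Γ(F, U)),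
      p.app U x = res B le_top s → Φ.app U y = P.β U x y := fun s =>
    exists_hom_pairing p hp s P.β P.sub_left P.add_right (fun U x y r => P.smul_right U r x y) P.hres hker
  choose θ hθ using hex
  have hadd : ∀ s s', θ (s + s') = θ s + θ s' := by
    intro s s'
    refine hom_ext' fun U y => section_ext w _ _ fun q hq => ?_
    obtain ⟨V, hV, hqV, x, hx⟩ := hp U (res B le_top s) q hq
    obtain ⟨V', hV', hqV', x', hx'⟩ := hp U (res B le_top s') q hq
    refine ⟨V ⊓ V', inf_le_left.trans hV, ⟨hqV, hqV'⟩, ?_⟩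
    have e1 : p.app (V ⊓ V') (res A inf_le_left x) = res B le_top s := by
      rw [app_res, hx, res_res, res_res]
    have e2 : p.app (V ⊓ V') (res A inf_le_right x') = res B le_top s' := by
      rw [app_res, hx', res_res, res_res]
    rw [← app_res, add_app', map_add, ← app_res, ← app_res, hθ s _ _ _ e1, hθ s' _ _ _ e2,
      hθ (s + s') _ (res A inf_le_left x + res A inf_le_right x') _ (by rw [map_add, e1, e2, map_add]),
      P.add_left]
  refine h0_le ht hF θ hadd ?_ ?_
  · intro r s U y
    refine section_ext w _ _ fun q hq => ?_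
    obtain ⟨V, hV, hqV, x, hx⟩ := hp U (res B le_top s) q hq
    rw [res_res] at hx
    refine ⟨V, hV, hqV, ?_⟩
    have e2 : p.app V ((resO (V := V) le_top r : Γ(X, V)) • x) = res B le_top (r • s) := by
      rw [app_smul', hx, res_smul]
    rw [← app_res, res_smul, ← app_res, hθ s _ _ _ hx, hθ (r • s) _ _ _ e2, P.smul_left]
    congr 1
    change _ = (X.presheaf.map _ ≫ X.presheaf.map _) r
    rw [← Functor.map_comp]
    rfl
  · intro s s' h
    rw [← sub_eq_zero]
    have h0 : θ (s - s') = 0 := by
      have := hadd (s - s') s'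
      rw [sub_add_cancel, h] at this
      exact (right_eq_add.mp this)
    refine section_ext B _ _ fun q hq => ?_
    obtain ⟨V, hV, hqV, x, hx⟩ := hp ⊤ (s - s') q hq
    refine ⟨V, hV, hqV, ?_⟩
    rw [← hx, map_zero]
    refine hinj V x fun W hW y => ?_
    rw [← hθ (s - s') W (res A hW x) y (by rw [app_res, hx, res_res]), h0]
    rfl

end Field

end Groth.Agent.CurvesC.DualPairing
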