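import Groth.Agent.CurvesC.CurveCoh
import Groth.Agent.CurvesC.HV
import Groth.Agent.VarietyB.DimTop

/-!
# The Euler characteristic on a proper scheme of dimension `≤ 1` in terms of `HV`
-/

set_option autoImplicit false

universe u

open CategoryTheory CategoryTheory.Limits AlgebraicGeometry TopologicalSpace

namespace Groth.Agent.CurvesC.EulerHV

/-- A scheme all of whose irreducible components have dimension one has dimension `≤ 1`. -/
theorem dim_le (X : Scheme.{u}) (hequi : ∀ Z ∈ irreducibleComponents (X : Type u), topologicalKrullDim Z = 1) :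
    topologicalKrullDim X ≤ 1 := by
  rw [VarietyB.DimTop.topologicalKrullDim_eq_iSup_irreducibleComponents]
  exact iSup_le fun Z => (hequi Z.1 Z.2).le

theorem subsingleton_HV (k : Type u) [Field k] (X : Scheme.{u}) [X.Over (Spec (CommRingCat.of k))]
    [IsProper (X ↘ (Spec (CommRingCat.of k)))] (hd : topologicalKrullDim X ≤ 1) (F : X.Modules) (p : ℕ)
    (hp : 1 < p) : Subsingleton (HV X F p) := by
  have := CurveCoh.noetherianSpace k X
  exact Groth.Agent.S0458.result 1 hd (Coh.toAb F) p hp

/-- `χ(F) = h^0(F) - h^1(F)` on a proper scheme of dimension `≤ 1`. -/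
theorem euler_eq (k : Type u) [Field k] (X : Scheme.{u}) [X.Over (Spec (CommRingCat.of k))]
    [IsProper (X ↘ (Spec (CommRingCat.of k)))] (hd : topologicalKrullDim X ≤ 1) (F : X.Modules) :
    Curv2.euler k X F = Module.finrank k (HV X F 0) - Module.finrank k (HV X F 1) := by
  have h1 : Curv2.euler k X F = ∑ᶠ i : ℕ, (-1 : ℤ) ^ i * (Module.finrank k (HV X F i) : ℤ) := rfl
  rw [h1, finsum_eq_sum_of_support_subset (s := Finset.range 2)]
  · simp [Finset.sum_range_succ]
    ring
  · intro i hi
    simp only [Function.mem_support] at hi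
    by_contra hi'
    simp only [Finset.coe_range, Set.mem_Iio, not_lt] at hi'
    have := subsingleton_HV k X hd F i (by omega)
    apply hi
    rw [Module.finrank_zero_of_subsingleton]
    simp

end Groth.Agent.CurvesC.EulerHV
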