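import Groth.Agent.CurvesC.ModDim
import Groth.Agent.CurvesC.KerSec
import Groth.Agent.CohqA.IdealMod
import Groth.Agent.CohqB.AlgMod
import Groth.Agent.LoccohB.HHmap
import Groth.Agent.Divis.IdealComap
import Groth.Prelude.Def_Curv2

/-!
# Ideal sheaves generated by ideals of the base ring, and their modules
-/

set_option autoImplicit false
universe u
open CategoryTheory CategoryTheory.Limits AlgebraicGeometry TopologicalSpace Opposite

namespace Groth.Agent.CurvesC.ExtIdeal

open Groth.Agent.CurvesC.ModDim Groth.Agent.CurvesC.KerSec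

variable {A : Type u} [CommRing A] {X : Scheme.{u}} (f : X ⟶ Spec (CommRingCat.of A))

/-- The ideal sheaf on `X` generated by an ideal of the base ring. -/
noncomputable def ext (I : Ideal A) : X.IdealSheafData := (Curv2.idealSheaf A I).comap f

theorem toSec_eq (V : X.Opens) :
    toSec f V = (f.appLE ⊤ V le_top).hom.comp (Scheme.ΓSpecIso (CommRingCat.of A)).inv.hom := by
  rfl

theorem ideal_ext (I : Ideal A) (V : X.affineOpens) : (ext f I).ideal V = I.map (toSec f V.1) := by
  unfold ext
  rw [Divis.IdealComap.ideal_comap _ f ⟨⊤, isAffineOpen_top _⟩ V le_top]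
  have h : (Curv2.idealSheaf A I).ideal ⟨⊤, isAffineOpen_top _⟩ =
      I.map (Scheme.ΓSpecIso (CommRingCat.of A)).inv.hom := by
    unfold Curv2.idealSheaf
    simp
  rw [h, Ideal.map_map, toSec_eq]

/-- The `O_X`-module of `ext f I`. -/
noncomputable abbrev extMod (I : Ideal A) : X.Modules := ClSub.idealMod (ext f I)

/-- Sections of `extMod f I` as functions. -/
noncomputable def val (I : Ideal A) (U : X.Opens) : Γ(extMod f I, U) →+ Γ(X, U) where
  toFun y := toFun ((ClSub.idealModι (ext f I)).app U y)
  map_zero' := map_zero _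
  map_add' := map_add _

theorem val_injective (I : Ideal A) (U : X.Opens) : Function.Injective (val f I U) :=
  idealModι_app_injective _ U

theorem val_res (I : Ideal A) {U V : X.Opens} (h : V ≤ U) (y : Γ(extMod f I, U)) :
    val f I V ((extMod f I).presheaf.map (homOfLE h).op y) = rs h (val f I U y) := by
  have h1 := congrArg (fun ψ => ψ y) ((ClSub.idealModι (ext f I)).mapPresheaf.naturality (homOfLE h).op)
  exact h1

theorem val_mem (I : Ideal A) (U : X.affineOpens) (y : Γ(extMod f I, U.1)) :
    val f I U.1 y ∈ I.map (toSec f U.1) := by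
  rw [← ideal_ext]
  exact idealModι_app_mem (ext f I) U y

theorem exists_val_eq (I : Ideal A) (U : X.affineOpens) (s : Γ(X, U.1)) (hs : s ∈ I.map (toSec f U.1)) :
    ∃ y : Γ(extMod f I, U.1), val f I U.1 y = s := by
  rw [← ideal_ext] at hs
  exact exists_idealModι_app_eq (ext f I) U s hs

/-- Multiplication by `a` from `I O_X` to `J O_X`, when `a I ⊆ J`. -/
noncomputable def mul (a : A) {I J : Ideal A} (h : ∀ x ∈ I, a * x ∈ J) : extMod f I ⟶ extMod f J :=
  kernel.lift (ClSub.toSubscheme (ext f J))
    (ClSub.idealModι (ext f I) ≫ LoccohB.HHmap.smulHom _ (toSec f ⊤ a)) (by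
    apply CohqB.AlgMod.hom_ext_affine
    intro U hU m
    change (ClSub.toSubscheme (ext f J)).app U
      ((LoccohB.HHmap.smulHom _ (toSec f ⊤ a)).app U ((ClSub.idealModι (ext f I)).app U m)) = 0
    refine (CohqA.IdealMod.toSubscheme_app_eq_zero_iff (ext f J) ⟨U, hU⟩ _).mpr ?_
    rw [ideal_ext]
    have h1 : (LoccohB.HHmap.smulHom (Coh.structureModule X) (toSec f ⊤ a)).app U ((ClSub.idealModι (ext f I)).app U m) =
      ofFun (toSec f U a * val f I U m) := by
      rw [← toSec_res f (le_top : U ≤ ⊤) a]
      rfl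
    rw [h1]
    change toSec f U a * val f I U m ∈ _
    have h2 := val_mem f I ⟨U, hU⟩ m
    have h3 : ∀ z ∈ I.map (toSec f U), toSec f U a * z ∈ J.map (toSec f U) := by
      intro z hz
      induction hz using Submodule.span_induction with
      | mem x hx =>
        obtain ⟨x, hx, rfl⟩ := hx
        rw [← map_mul]
        exact Ideal.mem_map_of_mem _ (h x hx)
      | zero => rw [mul_zero]; exact Ideal.zero_mem _
      | add x y _ _ hx hy => rw [mul_add]; exact Ideal.add_mem _ hx hy
      | smul r x _ hx =>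
        rw [smul_eq_mul, mul_left_comm]
        exact Ideal.mul_mem_left _ _ hx
    exact h3 _ h2)

theorem val_mul (a : A) {I J : Ideal A} (h : ∀ x ∈ I, a * x ∈ J) (U : X.Opens) (y : Γ(extMod f I, U)) :
    val f J U ((mul f a h).app U y) = toSec f U a * val f I U y := by
  have h1 : mul f a h ≫ ClSub.idealModι (ext f J) =
      ClSub.idealModι (ext f I) ≫ LoccohB.HHmap.smulHom _ (toSec f ⊤ a) := kernel.lift_ι _ _ _
  have h2 := congrArg (fun ψ => Scheme.Modules.Hom.app ψ U y) h1
  change (ClSub.idealModι (ext f J)).app U ((mul f a h).app U y) = _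
  refine Eq.trans h2 ?_
  change (LoccohB.HHmap.smulHom (Coh.structureModule X) (toSec f ⊤ a)).app U ((ClSub.idealModι (ext f I)).app U y) = _
  rw [← toSec_res f (le_top : U ≤ ⊤) a]
  rfl

end Groth.Agent.CurvesC.ExtIdeal
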