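import Groth.Agent.CurvesC.Dim1Top
import Mathlib.AlgebraicGeometry.ZariskisMainTheorem
import Mathlib.AlgebraicGeometry.FunctionField

/-!
# Nonconstant morphisms from a curve are finite
-/

set_option autoImplicit false
universe u
open CategoryTheory CategoryTheory.Limits AlgebraicGeometry TopologicalSpace Opposite

namespace Groth.Agent.CurvesC.FinMap

/-- A proper morphism `f : X ⟶ Y` from an integral scheme of dimension `≤ 1` with Noetherian topological space is
finite, as soon as `f` does not factor set-theoretically through a member of an open cover of `Y`. -/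
theorem isFinite_of_cover {X Y : Scheme.{u}} (f : X ⟶ Y) [IsIntegral X] [NoetherianSpace X]
    (hdim : topologicalKrullDim X ≤ 1) [IsProper f] {ι : Type*} (V : ι → Y.Opens) (hV : ⨆ i, V i = ⊤)
    (hne : ∀ i, f ⁻¹ᵁ V i ≠ ⊤) : IsFinite f := by
  have hfib : ∀ y, (f ⁻¹' {y}).Finite := by
    intro y
    by_contra hinf
    obtain ⟨x, hx, hxg⟩ : ∃ x ∈ f ⁻¹' {y}, x ≠ genericPoint X := by
      by_contra h
      push Not at h
      exact hinf ((Set.finite_singleton (genericPoint X)).subset h)
    have hxcl : closure ({x} : Set X) ≠ Set.univ := fun h =>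
      hxg ((genericPoint_spec X).eq (show IsGenericPoint x Set.univ from h)).symm
    have hx1 : IsClosed ({x} : Set X) :=
      Dim1Top.isClosed_singleton_of_mem hdim isClosed_closure hxcl (subset_closure rfl)
    have hy : IsClosed ({y} : Set Y) := by
      have h1 := f.isClosedMap _ hx1
      rwa [Set.image_singleton, show f x = y from hx] at h1
    have h2 : IsClosed (f ⁻¹' {y}) := hy.preimage f.continuous
    have h3 : f ⁻¹' {y} = Set.univ := by
      by_contra h
      exact hinf (Dim1Top.finite_of_isClosed hdim h2 h)
    have hy' : y ∈ ⨆ i, V i := hV ▸ trivial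
    obtain ⟨i, hi⟩ := Opens.mem_iSup.1 hy'
    apply hne i
    rw [eq_top_iff]
    intro z _
    have hz : z ∈ f ⁻¹' {y} := h3 ▸ trivial
    change f z ∈ V i
    rw [show f z = y from hz]
    exact hi
  have := LocallyQuasiFinite.of_finite_preimage_singleton f hfib
  exact IsFinite.of_isProper_of_locallyQuasiFinite f

end Groth.Agent.CurvesC.FinMap
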