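import Groth.Agent.CohqB.HSeqMod
import Groth.Agent.PerfA.CohSerre
import Groth.Agent.CohqA.H1Lift

/-!
# Vanishing of `H^p` of quotients when `H^{p+1}` vanishes on coherent modules
-/

set_option autoImplicit false
universe u
open CategoryTheory CategoryTheory.Limits AlgebraicGeometry TopologicalSpace Opposite

namespace Groth.Agent.CurvesC.GGVanish

variable {X : Scheme.{u}}

theorem shortExact_kernel {M N : X.Modules} (g : M ⟶ N) [Epi g] :
    (ShortComplex.mk (kernel.ι g) g (kernel.condition g)).ShortExact where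
  exact := ShortComplex.exact_of_f_is_kernel _ (kernelIsKernel g)
  mono_f := inferInstanceAs (Mono (kernel.ι g))
  epi_g := ‹_›

/-- If `H^{p+1}` vanishes on coherent modules, then quotients of coherent modules with vanishing `H^p` have
vanishing `H^p`. -/
theorem subsingleton_of_epi [IsLocallyNoetherian X] (p : ℕ)
    (hvan : ∀ M : X.Modules, Coh.IsCoh M → Subsingleton (Coh.HH X M (p + 1)))
    {M N : X.Modules} (g : M ⟶ N) [Epi g] (hM : Coh.IsCoh M) (hN : Coh.IsQCoh N)
    (h : Subsingleton (Coh.HH X M p)) : Subsingleton (Coh.HH X N p) := by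
  have hK : Subsingleton (Coh.HH X (kernel g) (p + 1)) := hvan _ (PerfA.CohSerre.isCoh_kernel g hM hN)
  have hS := shortExact_kernel g
  rw [subsingleton_iff_forall_eq 0]
  intro x
  obtain ⟨y, rfl⟩ := CohqB.HSeqMod.exact₃ hS p x (@Subsingleton.elim _ hK _ _)
  rw [Subsingleton.elim y 0, map_zero]

/-- Surjectivity on global sections in the right exact sequence. -/
theorem app_top_surjective_of_exact [IsLocallyNoetherian X]
    (hvan : ∀ M : X.Modules, Coh.IsCoh M → Subsingleton (Coh.HH X M 2))
    (S : ShortComplex X.Modules) (hS : S.Exact) [Epi S.g] (h1 : Coh.IsCoh S.X₁) (h2 : Coh.IsCoh S.X₂)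
    (h3 : Coh.IsQCoh S.X₃) (h : Subsingleton (Coh.HH X S.X₁ 1)) : Function.Surjective (S.g.app ⊤) := by
  have hK : Coh.IsCoh (kernel S.g) := PerfA.CohSerre.isCoh_kernel S.g h2 h3
  have he : Epi (kernel.lift S.g S.f S.zero) := by
    have := (S.exact_iff_epi_kernel_lift).mp hS
    exact this
  have hH : Subsingleton (Coh.HH X (kernel S.g) 1) :=
    subsingleton_of_epi 1 hvan (kernel.lift S.g S.f S.zero) h1 hK.1 h
  have hse := shortExact_kernel S.g
  have hepi : Epi ((CohqA.H1Lift.toAbF X).map S.g) := by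
    have := (CohqB.ToSheafExact.shortExact_toAb hse).epi_g
    exact this
  have hloc : CohqA.H1Lift.LocSurj S.g := by
    intro U s x hx
    have h5 := (TopCat.Sheaf.isLocallySurjective_iff_epi (X := X.toTopCat)
      (C := AddCommGrpCat.{u}) ((CohqA.H1Lift.toAbF X).map S.g)).mpr hepi
    rw [TopCat.Presheaf.isLocallySurjective_iff] at h5
    obtain ⟨V, hVU, ⟨t, ht⟩, hxV⟩ := h5 U s x hx
    exact ⟨V, hVU, t, hxV, ht⟩
  exact CohqA.H1Lift.app_top_surjective_of_H1 S.g hloc hH

end Groth.Agent.CurvesC.GGVanish
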