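import Groth.Prelude.Def_Coh
import Groth.Agent.CohqA.SheafHLocal
import Mathlib.Topology.Sheaves.MayerVietoris

/-!
# Mayer-Vietoris for sections: if `H^1(X, M) = 0`, sections over `U ⊓ V` are differences of sections over `U`
and `V` when `U ⊔ V = X`.
-/

set_option autoImplicit false
universe w v u

namespace Groth.Agent.CurvesC.MVSec

open CategoryTheory Opposite Limits AlgebraicGeometry TopologicalSpace Abelian
open Groth.Agent.CohqA.SheafH

theorem ext_exists_sub {A : Type u} [Category.{v} A] [Abelian A] [HasExt.{w} A]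
    {X₁ X₂ X₃ X₄ : A} (f : X₁ ⟶ X₂) (g : X₁ ⟶ X₃) (h : X₂ ⟶ X₄) (k : X₃ ⟶ X₄)
    (w : biprod.lift f (-g) ≫ biprod.desc h k = 0)
    (hS : (ShortComplex.mk (biprod.lift f (-g)) (biprod.desc h k) w).ShortExact)
    (F : A) (n : ℕ) (h1 : Subsingleton (Ext X₄ F (n + 1))) (z : Ext X₁ F n) :
    ∃ (a : Ext X₂ F n) (b : Ext X₃ F n),
      (Ext.mk₀ f).comp a (zero_add n) - (Ext.mk₀ g).comp b (zero_add n) = z := by
  obtain ⟨y, hy⟩ := Ext.contravariant_sequence_exact₁ hS F z (add_comm 1 n) (h1.elim _ _)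
  obtain ⟨⟨a, b⟩, rfl⟩ := Ext.biprodAddEquiv.symm.surjective y
  refine ⟨a, b, ?_⟩
  rw [← hy, Ext.biprodAddEquiv_symm_apply]
  simp [sub_eq_add_neg]

variable {X : Scheme.{u}}

theorem exists_sub_sheaf (F : Sheaf (Opens.grothendieckTopology X) AddCommGrpCat.{u}) {U V : X.Opens}
    (hcov : U ⊔ V = ⊤) (h1 : Subsingleton (Sheaf.H F 1)) (z : F.obj.obj (op (U ⊓ V))) :
    ∃ (a : F.obj.obj (op U)) (b : F.obj.obj (op V)),
      F.obj.map (homOfLE (inf_le_left : U ⊓ V ≤ U)).op a -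
        F.obj.map (homOfLE (inf_le_right : U ⊓ V ≤ V)).op b = z := by
  let sq : Square (Opens X) :=
    { X₁ := U ⊓ V
      X₂ := U
      X₃ := V
      X₄ := ⊤
      f₁₂ := homOfLE inf_le_left
      f₁₃ := homOfLE inf_le_right
      f₂₄ := homOfLE le_top
      f₃₄ := homOfLE le_top
      fac := Subsingleton.elim _ _ }
  have h2 : Subsingleton (HU F 1 (⊤ : Opens X)) :=
    (HEquivHU F 1 (isTerminalTop (α := Opens X))).symm.toEquiv.subsingleton
  obtain ⟨a, b, hab⟩ : ∃ (a : HU F 0 U) (b : HU F 0 V), res F 0 (homOfLE (inf_le_left : U ⊓ V ≤ U)) a -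
      res F 0 (homOfLE (inf_le_right : U ⊓ V ≤ V)) b = (H0 F (U ⊓ V)).symm z :=
    ext_exists_sub _ _ _ _ (Opens.mayerVietorisSquare' sq hcov.symm rfl).shortComplex.zero
      (Opens.mayerVietorisSquare' sq hcov.symm rfl).shortComplex_shortExact F 0 h2 _
  refine ⟨H0 F U a, H0 F V b, ?_⟩
  have h3 := congrArg (H0 F (U ⊓ V)) hab
  rw [AddEquiv.apply_symm_apply, map_sub, H0_res, H0_res] at h3
  exact h3

/-- If `H^1(X, M) = 0` and `X = U ∪ V` then every section over `U ∩ V` is a difference. -/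
theorem exists_sub (M : X.Modules) (h1 : Subsingleton (Coh.HH X M 1)) {U V : X.Opens} (hcov : U ⊔ V = ⊤)
    (z : Γ(M, U ⊓ V)) : ∃ (a : Γ(M, U)) (b : Γ(M, V)),
      M.presheaf.map (homOfLE (inf_le_left : U ⊓ V ≤ U)).op a -
        M.presheaf.map (homOfLE (inf_le_right : U ⊓ V ≤ V)).op b = z :=
  exists_sub_sheaf (Coh.toAb M) hcov h1 z

/-- If `H^1(X, O_X) = 0` and `X = U ∪ V` then every function on `U ∩ V` is a difference. -/
theorem exists_sub_function (h1 : Subsingleton (Coh.HH X (Coh.structureModule X) 1)) {U V : X.Opens}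
    (hcov : U ⊔ V = ⊤) (z : Γ(X, U ⊓ V)) : ∃ (a : Γ(X, U)) (b : Γ(X, V)),
      X.presheaf.map (homOfLE (inf_le_left : U ⊓ V ≤ U)).op a -
        X.presheaf.map (homOfLE (inf_le_right : U ⊓ V ≤ V)).op b = z :=
  exists_sub (Coh.structureModule X) h1 hcov z

end Groth.Agent.CurvesC.MVSec
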