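import Groth.Agent.CurvesC.Gen
import Groth.Agent.CurvesC.MVSec
import Groth.Agent.CurvesC.InvSec
import Groth.Agent.CurvesC.Dim1Top
import Mathlib.AlgebraicGeometry.FunctionField

/-!
# Where global sections of an invertible module generate; adding sections on a curve with `H^1(X, O_X) = 0`
-/

set_option autoImplicit false
universe u
open CategoryTheory CategoryTheory.Limits AlgebraicGeometry TopologicalSpace Opposite

namespace Groth.Agent.CurvesC.GenPt

open Gen

variable {X : Scheme.{u}} {L : X.Modules}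

theorem mem_genLocus_iff {W : X.Opens} {e : Γ(L, W)} (he : IsGen L W e) (s : Coh.structureModule X ⟶ L)
    {a : Γ(X, W)} (ha : a • e = sec s W) {x : X} (hx : x ∈ W) :
    x ∈ CohB1.genLocus L s ↔ x ∈ X.basicOpen a := by
  rw [← genLocus_inf_eq_basicOpen he s ha]
  exact ⟨fun h => ⟨h, hx⟩, fun h => h.1⟩

/-- The locus where the global section `t` generates `L`. -/
noncomputable abbrev loc (t : Γ(L, ⊤)) : X.Opens := CohB1.genLocus L (ofSec t)

theorem mem_loc_iff {W : X.Opens} {e : Γ(L, W)} (he : IsGen L W e) (t : Γ(L, ⊤))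
    {a : Γ(X, W)} (ha : a • e = L.presheaf.map (homOfLE (le_top : W ≤ ⊤)).op t) {x : X} (hx : x ∈ W) :
    x ∈ loc t ↔ IsUnit (X.presheaf.germ W x hx a) := by
  rw [loc, mem_genLocus_iff he (ofSec t) (by rw [sec_ofSec]; exact ha) hx, Scheme.mem_basicOpen X a x hx]

/-- The sections which do not generate at `x`. -/
noncomputable def nonGen (hL : PicF.IsInvertible L) (x : X) : Submodule Γ(X, ⊤) Γ(L, ⊤) where
  carrier := {t | x ∉ loc t}
  zero_mem' := by
    obtain ⟨W, hx, e, he⟩ := exists_isGen hL x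
    change ¬ _
    rw [mem_loc_iff he 0 (a := 0) (by rw [zero_smul, map_zero]) hx, map_zero]
    exact not_isUnit_zero
  add_mem' := by
    intro t t' ht ht'
    obtain ⟨W, hx, e, he⟩ := exists_isGen hL x
    obtain ⟨a, ha⟩ := he.exists_eq (L.presheaf.map (homOfLE (le_top : W ≤ ⊤)).op t)
    obtain ⟨a', ha'⟩ := he.exists_eq (L.presheaf.map (homOfLE (le_top : W ≤ ⊤)).op t')
    change ¬ _ at ht ht' ⊢
    rw [mem_loc_iff he t ha hx] at ht
    rw [mem_loc_iff he t' ha' hx] at ht'
    rw [mem_loc_iff he (t + t') (a := a + a') (by rw [add_smul, map_add, ha, ha']) hx, map_add]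
    exact fun h => (IsLocalRing.isUnit_or_isUnit_of_isUnit_add h).elim ht ht'
  smul_mem' := by
    intro c t ht
    obtain ⟨W, hx, e, he⟩ := exists_isGen hL x
    obtain ⟨a, ha⟩ := he.exists_eq (L.presheaf.map (homOfLE (le_top : W ≤ ⊤)).op t)
    change ¬ _ at ht ⊢
    rw [mem_loc_iff he t ha hx] at ht
    rw [mem_loc_iff he (c • t) (a := X.presheaf.map (homOfLE (le_top : W ≤ ⊤)).op c * a)
      (by rw [mul_smul, map_smul_section, ha]) hx, map_mul]
    exact fun h => ht (isUnit_of_mul_isUnit_right h)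

theorem mem_nonGen_iff (hL : PicF.IsInvertible L) (x : X) (t : Γ(L, ⊤)) : t ∈ nonGen hL x ↔ x ∉ loc t := Iff.rfl

theorem mem_loc_add_iff (hL : PicF.IsInvertible L) {x : X} {t t' : Γ(L, ⊤)} (ht' : x ∉ loc t') :
    x ∈ loc (t + t') ↔ x ∈ loc t := by
  rw [← not_iff_not, ← mem_nonGen_iff hL, ← mem_nonGen_iff hL]
  exact Submodule.add_mem_iff_left _ ht'

/-- If `t` is locally a multiple of `σ` and generates at `x` then so does `σ`. -/
theorem mem_loc_of_smul (hL : PicF.IsInvertible L) {x : X} {t σ : Γ(L, ⊤)} {V : X.Opens} (hx : x ∈ V)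
    (α : Γ(X, V)) (h : L.presheaf.map (homOfLE (le_top : V ≤ ⊤)).op t =
      α • L.presheaf.map (homOfLE (le_top : V ≤ ⊤)).op σ) (ht : x ∈ loc t) : x ∈ loc σ := by
  obtain ⟨W', hx', e', he'⟩ := exists_isGen hL x
  have he := he'.mono (inf_le_left : W' ⊓ V ≤ W')
  set e := L.presheaf.map (homOfLE (inf_le_left : W' ⊓ V ≤ W')).op e'
  have hxW : x ∈ W' ⊓ V := ⟨hx', hx⟩
  obtain ⟨a, ha⟩ := he.exists_eq (L.presheaf.map (homOfLE (le_top : W' ⊓ V ≤ ⊤)).op σ)
  rw [mem_loc_iff he t (a := X.presheaf.map (homOfLE (inf_le_right : W' ⊓ V ≤ V)).op α * a) (by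
    have := congr(L.presheaf.map (homOfLE (inf_le_right : W' ⊓ V ≤ V)).op $h)
    rw [map_smul_section, map_map_section, map_map_section] at this
    rw [mul_smul, ha, this]) hxW, map_mul] at ht
  rw [mem_loc_iff he σ ha hxW]
  exact isUnit_of_mul_isUnit_right ht

/-- Gluing over two opens. -/
theorem exists_glue_two (L : X.Modules) {U V : X.Opens} (hcov : U ⊔ V = ⊤) (a : Γ(L, U)) (b : Γ(L, V))
    (h : L.presheaf.map (homOfLE (inf_le_left : U ⊓ V ≤ U)).op a =
      L.presheaf.map (homOfLE (inf_le_right : U ⊓ V ≤ V)).op b) :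
    ∃ t : Γ(L, ⊤), L.presheaf.map (homOfLE (le_top : U ≤ ⊤)).op t = a ∧
      L.presheaf.map (homOfLE (le_top : V ≤ ⊤)).op t = b := by
  obtain ⟨t, ht, -⟩ := exists_glue L (W := ⊤) (fun i : Bool => cond i U V) (fun i => le_top)
    (by rw [iSup_bool_eq]; exact hcov.ge)
    (fun i => match i with
      | true => a
      | false => b) (by
    rintro (_ | _) (_ | _)
    · rfl
    · have h1 := congr(L.presheaf.map (homOfLE (le_inf inf_le_right inf_le_left : V ⊓ U ≤ U ⊓ V)).op $h)
      rw [map_map_section, map_map_section] at h1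
      exact h1.symm
    · exact h
    · rfl)
  exact ⟨t, ht true, ht false⟩

theorem exists_glue_two_function {U V : X.Opens} (hcov : U ⊔ V = ⊤) (a : Γ(X, U)) (b : Γ(X, V))
    (h : X.presheaf.map (homOfLE (inf_le_left : U ⊓ V ≤ U)).op a =
      X.presheaf.map (homOfLE (inf_le_right : U ⊓ V ≤ V)).op b) :
    ∃ t : Γ(X, ⊤), X.presheaf.map (homOfLE (le_top : U ≤ ⊤)).op t = a ∧
      X.presheaf.map (homOfLE (le_top : V ≤ ⊤)).op t = b :=
  exists_glue_two (Coh.structureModule X) hcov a b h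

/-- **Adding a point**: on a scheme with `H^1(X, O_X) = 0`, if the section `σ` of the invertible module `L` fails to
generate at the closed point `x` but generates on a punctured neighbourhood, there is a section generating at `x`,
which is a multiple of `σ` away from `x`. -/
theorem exists_section_at (hL : PicF.IsInvertible L) (h1 : Subsingleton (Coh.HH X (Coh.structureModule X) 1))
    (σ : Γ(L, ⊤)) {x : X} (hcl : IsClosed ({x} : Set X)) (hx : x ∉ loc σ)
    (hW : ∃ W : X.Opens, x ∈ W ∧ ∀ y ∈ W, y ≠ x → y ∈ loc σ) :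
    ∃ t : Γ(L, ⊤), x ∈ loc t ∧ ∀ y, y ≠ x → y ∉ loc σ → y ∉ loc t := by
  obtain ⟨W₁, hxW₁, hW₁⟩ := hW
  obtain ⟨W, hWW₁, hxW, e, he⟩ : ∃ W : X.Opens, W ≤ W₁ ∧ x ∈ W ∧ ∃ e : Γ(L, W), IsGen L W e := by
    obtain ⟨W₀, hxW₀, e₀, he₀⟩ := exists_isGen hL x
    exact ⟨W₀ ⊓ W₁, inf_le_right, ⟨hxW₀, hxW₁⟩, _, he₀.mono inf_le_left⟩
  let U : X.Opens := ⟨{x}ᶜ, hcl.isOpen_compl⟩
  have hcov : U ⊔ W = ⊤ := by
    rw [eq_top_iff]
    intro y _
    by_cases hy : y = x
    · exact Or.inr (hy ▸ hxW)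
    · exact Or.inl hy
  have hUW : U ⊓ W ≤ loc σ := fun y hy => hW₁ y (hWW₁ hy.2) hy.1
  have hσ : IsGen L (U ⊓ W) (L.presheaf.map (homOfLE (le_top : U ⊓ W ≤ ⊤)).op σ) := by
    rw [← sec_ofSec]
    exact (le_genLocus_iff _ _).1 hUW
  obtain ⟨z, hz⟩ := hσ.exists_eq (L.presheaf.map (homOfLE (inf_le_right : U ⊓ W ≤ W)).op e)
  obtain ⟨α, β, hαβ⟩ := MVSec.exists_sub_function h1 hcov z
  obtain ⟨t, ht1, ht2⟩ := exists_glue_two L hcov (α • L.presheaf.map (homOfLE (le_top : U ≤ ⊤)).op σ)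
    (e + β • L.presheaf.map (homOfLE (le_top : W ≤ ⊤)).op σ) (by
      rw [map_add, map_smul_section, map_smul_section, map_map_section, map_map_section, ← hz, ← hαβ, sub_smul]
      abel)
  refine ⟨t, ?_, ?_⟩
  · obtain ⟨a, ha⟩ := he.exists_eq (L.presheaf.map (homOfLE (le_top : W ≤ ⊤)).op σ)
    rw [mem_loc_iff he σ ha hxW] at hx
    rw [mem_loc_iff he t (a := 1 + β * a) (by rw [ht2, add_smul, one_smul, mul_smul, ha]) hxW, map_add, map_one,
      map_mul]
    rcases IsLocalRing.isUnit_or_isUnit_of_isUnit_add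
      (a := 1 + X.presheaf.germ W x hxW β * X.presheaf.germ W x hxW a)
      (b := -(X.presheaf.germ W x hxW β * X.presheaf.germ W x hxW a)) (by simp) with h | h
    · exact h
    · exact absurd (isUnit_of_mul_isUnit_right ((IsUnit.neg_iff _).1 h)) hx
  · intro y hy hyσ hyt
    exact hyσ (mem_loc_of_smul hL (V := U) (x := y) hy α ht1 hyt)

/-- On an integral scheme a nonzero section of an invertible module generates somewhere. -/
theorem loc_ne_bot [IsIntegral X] (hL : PicF.IsInvertible L) {σ : Γ(L, ⊤)} (hσ : σ ≠ 0) : loc σ ≠ ⊥ := by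
  intro h
  obtain ⟨W, hx, e, he⟩ := exists_isGen hL (genericPoint X)
  obtain ⟨a, ha⟩ := he.exists_eq (L.presheaf.map (homOfLE (le_top : W ≤ ⊤)).op σ)
  have h1 : X.basicOpen a = ⊥ := by
    rw [eq_bot_iff, ← h]
    intro y hy
    exact (mem_loc_iff he σ ha (X.basicOpen_le a hy)).2 ((Scheme.mem_basicOpen X a y (X.basicOpen_le a hy)).1 hy)
  rw [basicOpen_eq_bot_iff] at h1
  apply hσ
  apply InvSec.eq_zero_of_res_eq_zero hL (le_top : W ≤ ⊤) ⟨_, hx⟩
  rw [← ha, h1, zero_smul]

/-- **Complementary section**: on an integral Noetherian scheme of dimension `≤ 1` with `H^1(X, O_X) = 0`, for every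
nonzero section `σ` of an invertible module there is a section `t` with `X = X_σ ∪ X_t`. -/
theorem exists_complement [IsIntegral X] [NoetherianSpace X] (hdim : topologicalKrullDim X ≤ 1)
    (h1 : Subsingleton (Coh.HH X (Coh.structureModule X) 1)) (hL : PicF.IsInvertible L) {σ : Γ(L, ⊤)}
    (hσ : σ ≠ 0) : ∃ t : Γ(L, ⊤), loc σ ⊔ loc t = ⊤ := by
  have hne : ((loc σ : X.Opens) : Set X)ᶜ ≠ Set.univ := by
    intro h
    rw [Set.compl_univ_iff] at h
    exact loc_ne_bot hL hσ (Opens.ext h)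
  have hcl : IsClosed ((loc σ : X.Opens) : Set X)ᶜ := (loc σ).2.isClosed_compl
  have hfin := Dim1Top.finite_of_isClosed hdim hcl hne
  have key : ∀ D : Set X, D.Finite → D ⊆ ((loc σ : X.Opens) : Set X)ᶜ → ∃ t : Γ(L, ⊤), ∀ y ∈ D, y ∈ loc t := by
    intro D hD
    induction D, hD using Set.Finite.induction_on with
    | empty => exact fun _ => ⟨0, fun y hy => absurd hy (Set.notMem_empty y)⟩
    | @insert x D hx hD ih =>
      intro hsub
      obtain ⟨t, ht⟩ := ih ((Set.subset_insert x D).trans hsub)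
      by_cases hxt : x ∈ loc t
      · refine ⟨t, ?_⟩
        rintro y (rfl | hy)
        · exact hxt
        · exact ht y hy
      · obtain ⟨t', hxt', ht'⟩ := exists_section_at hL h1 σ
          (Dim1Top.isClosed_singleton_of_mem hdim hcl hne (hsub (Set.mem_insert x D)))
          (hsub (Set.mem_insert x D)) (by
            refine ⟨⟨(((loc σ : X.Opens) : Set X)ᶜ \ {x})ᶜ,
              (Dim1Top.isClosed_of_subset hdim hcl hne Set.sdiff_subset).isOpen_compl⟩, ?_, ?_⟩
            · exact fun h => h.2 rfl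
            · intro y hy hne
              by_contra hy'
              exact hy ⟨hy', hne⟩)
        refine ⟨t' + t, ?_⟩
        rintro y (rfl | hy)
        · exact (mem_loc_add_iff hL hxt).2 hxt'
        · rw [add_comm]
          exact (mem_loc_add_iff hL (ht' y (fun h => hx (h ▸ hy))
            (hsub (Set.mem_insert_of_mem x hy)))).2 (ht y hy)
  obtain ⟨t, ht⟩ := key _ hfin le_rfl
  refine ⟨t, ?_⟩
  rw [eq_top_iff]
  intro y _
  by_cases hy : y ∈ loc σ
  · exact Or.inl hy
  · exact Or.inr (ht y hy)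

end Groth.Agent.CurvesC.GenPt
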