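import Groth.Agent.Dcoh.LeftRes
import Mathlib.Algebra.Homology.DerivedCategory.Fractions
import Mathlib.Algebra.Homology.DerivedCategory.TStructure
import Mathlib.Algebra.Homology.DerivedCategory.Ext.Basic

/-!
# Vanishing of morphisms from an object of finite projective-like dimension to unbounded complexes

If every morphism `P[0] ⟶ Z[-m]` in the derived category vanishes, then `Hom_D(P[0], K) = 0` for every
`K` in `D^{≤ m}` (`m ≤ 0`), without boundedness below.
-/

set_option autoImplicit false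
universe w v u

open CategoryTheory CategoryTheory.Limits DerivedCategory HomologicalComplex
open Groth.Agent.Dcoh.LeftRes

namespace Groth.Agent.CurvesC.HomVanish

variable {C : Type u} [Category.{v} C] [Abelian C]

section

open ComplexShape

/-- The stupid truncation in degrees `≤ n`. -/
noncomputable abbrev stup (n : ℤ) (K : CochainComplex C ℤ) : CochainComplex C ℤ :=
  (K.restriction (embeddingUpIntLE n)).extend (embeddingUpIntLE n)

theorem isIso_toStupid_f (n : ℤ) (K : CochainComplex C ℤ) (i : ℤ) (hi : i ≤ n) :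
    IsIso ((toStupid n K).f i) := by
  obtain ⟨k, hk⟩ : ∃ k, (embeddingUpIntLE n).f k = i := ⟨(n - i).toNat, by
    change n - _ = i
    lia⟩
  rw [toStupid, (embeddingUpIntLE n).isIso_liftExtend_f_iff _ _ hk]
  infer_instance

theorem quasiIsoAt_toStupid (n : ℤ) (K : CochainComplex C ℤ) (i : ℤ) (hi : i < n) :
    QuasiIsoAt (toStupid n K) i := by
  rw [quasiIsoAt_iff' (toStupid n K) (i - 1) i (i + 1) (by simp) (by simp)]
  have h1 : IsIso ((shortComplexFunctor' C _ (i - 1) i (i + 1)).map (toStupid n K)).τ₁ :=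
    isIso_toStupid_f n K _ (by lia)
  have h2 : IsIso ((shortComplexFunctor' C _ (i - 1) i (i + 1)).map (toStupid n K)).τ₂ :=
    isIso_toStupid_f n K _ (by lia)
  have h3 : IsIso ((shortComplexFunctor' C _ (i - 1) i (i + 1)).map (toStupid n K)).τ₃ :=
    isIso_toStupid_f n K _ (by lia)
  exact ShortComplex.quasiIso_of_epi_of_isIso_of_mono _

instance isStrictlyLE_stup (n : ℤ) (K : CochainComplex C ℤ) : (stup n K).IsStrictlyLE n := by
  rw [CochainComplex.isStrictlyLE_iff]
  intro i hi
  exact isZero_extend_X _ _ _ (by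
    intro k hk
    have : n - (k : ℤ) = i := hk
    lia)

end

variable [HasDerivedCategory.{w} C]

/-- Morphisms from `P[0]` to `K ∈ D^{≤ m}` vanish as soon as all morphisms from `P[0]` to objects concentrated
in degree `m` vanish. -/
theorem hom_eq_zero {P : C} (m : ℤ) (hm : m ≤ 0)
    (hP : ∀ (Z : C) (x : (singleFunctor C 0).obj P ⟶ (singleFunctor C m).obj Z), x = 0)
    (K : DerivedCategory C) [K.IsLE m] (f : (singleFunctor C 0).obj P ⟶ K) : f = 0 := by
  obtain ⟨K0, hK0, ⟨e⟩⟩ := K.exists_iso_Q_obj_of_isLE m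
  suffices h : f ≫ e.hom = 0 by
    rw [← cancel_mono e.hom, h, zero_comp]
  let P0 : CochainComplex C ℤ := (CochainComplex.singleFunctor C 0).obj P
  obtain ⟨X', s, hs, g, hg⟩ := right_fac (X := P0) (Y := K0) (f ≫ e.hom)
  have hfac : g = toStupid m X' ≫ (extendMap (restrictionMap g (ComplexShape.embeddingUpIntLE m))
      (ComplexShape.embeddingUpIntLE m)) ≫ inv (toStupid m K0) := by
    rw [toStupid_naturality_assoc, IsIso.hom_inv_id, Category.comp_id]
  have hX' : (Q.obj (stup m X')).IsGE m := by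
    rw [isGE_Q_obj_iff, CochainComplex.isGE_iff]
    intro i hi
    have h1 := quasiIsoAt_toStupid m X' i hi
    rw [← exactAt_iff_of_quasiIsoAt (toStupid m X') i]
    have h2 : QuasiIso s := by
      rwa [isIso_Q_map_iff_quasiIso] at hs
    rw [exactAt_iff_of_quasiIsoAt s i]
    exact exactAt_single_obj _ _ _ _ (by lia)
  have hX'' : (Q.obj (stup m X')).IsLE m := inferInstance
  obtain ⟨Z, ⟨e'⟩⟩ := exists_iso_singleFunctor_obj_of_isGE_of_isLE (Q.obj (stup m X')) m
  have h0 : Q.map (toStupid m X') = 0 := by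
    have h2 : inv (Q.map s) ≫ Q.map (toStupid m X') ≫ e'.hom = 0 :=
      hP Z ((@inv _ _ _ _ (Q.map s) hs : Q.obj P0 ⟶ Q.obj X') ≫ Q.map (toStupid m X') ≫ e'.hom)
    rw [← cancel_mono e'.hom, ← cancel_epi (inv (Q.map s)), h2, zero_comp, comp_zero]
  refine hg.trans ?_
  rw [hfac, Functor.map_comp, h0, zero_comp, comp_zero]
  rfl

/-- The same statement in terms of `Ext`-groups. -/
theorem hom_eq_zero_of_ext [HasExt.{w} C] {P : C} (n : ℕ)
    (hP : ∀ Z : C, Subsingleton (Abelian.Ext P Z n))
    (K : DerivedCategory C) [K.IsLE (-(n : ℤ))] (f : (singleFunctor C 0).obj P ⟶ K) : f = 0 := by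
  refine hom_eq_zero (-(n : ℤ)) (by lia) (fun Z x => ?_) K f
  have e := ((singleFunctors C).shiftIso (n : ℤ) (-(n : ℤ)) 0 (by simp)).app Z
  have h1 : x ≫ e.inv = 0 := by
    have := hP Z
    exact (Abelian.Ext.homEquiv (X := P) (Y := Z) (n := n)).symm.injective (Subsingleton.elim _ _)
  rw [← cancel_mono e.inv, h1, zero_comp]

end Groth.Agent.CurvesC.HomVanish
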