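import Groth.Agent.CurvesC.ExtIdeal
import Groth.Agent.CohqA.HBiprod
import Groth.Agent.PerfB.ModExact

/-!
# The first Koszul relations between the modules `I^n O_X`
-/

set_option autoImplicit false
universe u
open CategoryTheory CategoryTheory.Limits AlgebraicGeometry TopologicalSpace Opposite

namespace Groth.Agent.CurvesC.KoszulOne

open Groth.Agent.CurvesC.ModDim Groth.Agent.CurvesC.KerSec Groth.Agent.CurvesC.ExtIdeal

attribute [local instance] Abelian.hasFiniteBiproducts

section biprod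

variable {X : Scheme.{u}} {J : Type} [Fintype J] (F : J → X.Modules)

/-- Components of a section of a biproduct. -/
noncomputable def comp {U : X.Opens} (j : J) : Γ(⨁ F, U) →+ Γ(F j, U) := ((biproduct.π F j).app U).hom

theorem comp_ext {U : X.Opens} {x y : Γ(⨁ F, U)} (h : ∀ j, comp F j x = comp F j y) : x = y := by
  rw [CohqA.HBiprod.eq_sum F U x, CohqA.HBiprod.eq_sum F U y]
  exact Finset.sum_congr rfl fun j _ => congrArg _ (h j)

theorem comp_apply {A B C : X.Modules} (f : A ⟶ B) (g : B ⟶ C) (U : X.Opens) (x : Γ(A, U)) :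
    (f ≫ g).app U x = g.app U (f.app U x) := rfl

theorem exists_comp [DecidableEq J] {U : X.Opens} (y : ∀ j, Γ(F j, U)) : ∃ x : Γ(⨁ F, U), ∀ j, comp F j x = y j := by
  refine ⟨∑ j, (biproduct.ι F j).app U (y j), fun j => ?_⟩
  rw [map_sum, Finset.sum_eq_single j]
  · change (biproduct.π F j).app U _ = _
    rw [← comp_apply, biproduct.ι_π_self]; rfl
  · intro j' _ hj'
    change (biproduct.π F j).app U _ = _
    rw [← comp_apply, biproduct.ι_π_ne _ hj']; rfl
  · intro h; exact absurd (Finset.mem_univ _) h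

theorem comp_res {U V : X.Opens} (h : V ≤ U) (j : J) (x : Γ(⨁ F, U)) :
    comp F j ((⨁ F).presheaf.map (homOfLE h).op x) = (F j).presheaf.map (homOfLE h).op (comp F j x) :=
  congrArg (fun ψ => ψ x) ((biproduct.π F j).mapPresheaf.naturality (homOfLE h).op)

theorem desc_app {U : X.Opens} {M : X.Modules} (φ : ∀ j, F j ⟶ M) (x : Γ(⨁ F, U)) :
    (biproduct.desc φ).app U x = ∑ j, (φ j).app U (comp F j x) := by
  conv_lhs => rw [CohqA.HBiprod.eq_sum F U x]
  rw [map_sum]
  refine Finset.sum_congr rfl fun j _ => ?_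
  rw [← comp_apply, biproduct.ι_desc]
  rfl

theorem sum_app {M N : X.Modules} {ι : Type*} (s : Finset ι) (f : ι → (M ⟶ N)) (V : X.Opens)
    (x : Γ(M, V)) :
    (∑ j ∈ s, f j).app V x = ∑ j ∈ s, (f j).app V x := by
  induction s using Finset.cons_induction with
  | empty => simp
  | cons a s ha ih =>
    rw [Finset.sum_cons, Finset.sum_cons, Scheme.Modules.Hom.add_app, ← ih]
    rfl

theorem sub_app {M N : X.Modules} (φ ψ : M ⟶ N) (V : X.Opens) (x : Γ(M, V)) :
    (φ - ψ).app V x = φ.app V x - ψ.app V x := by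
  have h1 : φ = (φ - ψ) + ψ := by rw [sub_add_cancel]
  have h2 := congrArg (fun χ => Scheme.Modules.Hom.app χ V x) h1
  rw [eq_sub_iff_add_eq]
  refine Eq.trans ?_ h2.symm
  dsimp only
  rw [Scheme.Modules.Hom.add_app]
  rfl

end biprod

variable {A : Type u} [CommRing A] {X : Scheme.{u}} (f : X ⟶ Spec (CommRingCat.of A))
variable {r : ℕ} (a : Fin r → A)

/-- The ideal generated by the family. -/
abbrev I : Ideal A := Ideal.span (Set.range a)

theorem mul_mem_pow (j : Fin r) (n : ℕ) : ∀ x ∈ (I a) ^ n, a j * x ∈ (I a) ^ (n + 1) := by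
  intro x hx
  rw [pow_succ']
  exact Ideal.mul_mem_mul (Ideal.subset_span ⟨j, rfl⟩) hx

/-- The module `I^n O_X`. -/
noncomputable abbrev L (n : ℕ) : X.Modules := extMod f ((I a) ^ n)

/-- Multiplication by `a j`. -/
noncomputable abbrev T (j : Fin r) (n : ℕ) : L f a n ⟶ L f a (n + 1) := mul f (a j) (mul_mem_pow a j n)

/-- `(x_j) ↦ ∑ a_j x_j`. -/
noncomputable def σ (n : ℕ) : (⨁ fun _ : Fin r => L f a n) ⟶ L f a (n + 1) := biproduct.desc fun j => T f a j n

/-- The Koszul relations. -/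
noncomputable def κ (n : ℕ) : (⨁ fun _ : Fin r × Fin r => L f a n) ⟶ (⨁ fun _ : Fin r => L f a (n + 1)) :=
  biproduct.lift fun k => ∑ p, biproduct.π (fun _ : Fin r × Fin r => L f a n) (p, k) ≫ T f a p n -
    ∑ q, biproduct.π (fun _ : Fin r × Fin r => L f a n) (k, q) ≫ T f a q n

theorem val_σ (n : ℕ) {U : X.Opens} (x : Γ(⨁ fun _ : Fin r => L f a n, U)) :
    val f _ U ((σ f a n).app U x) = ∑ j, toSec f U (a j) * val f _ U (comp _ j x) := by
  unfold σ
  rw [desc_app, map_sum]
  exact Finset.sum_congr rfl fun j _ => val_mul f _ _ _ _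

theorem val_κ (n : ℕ) {U : X.Opens} (z : Γ(⨁ fun _ : Fin r × Fin r => L f a n, U)) (k : Fin r) :
    val f _ U (comp (fun _ : Fin r => L f a (n + 1)) k ((κ f a n).app U z)) =
      ∑ p, toSec f U (a p) * val f _ U (comp (fun _ : Fin r × Fin r => L f a n) (p, k) z) -
      ∑ q, toSec f U (a q) * val f _ U (comp (fun _ : Fin r × Fin r => L f a n) (k, q) z) := by
  have h1 : comp (fun _ : Fin r => L f a (n + 1)) k ((κ f a n).app U z) =
    (κ f a n ≫ biproduct.π (fun _ : Fin r => L f a (n + 1)) k).app U z := rfl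
  have h2 : κ f a n ≫ biproduct.π (fun _ : Fin r => L f a (n + 1)) k =
    ∑ p, biproduct.π (fun _ : Fin r × Fin r => L f a n) (p, k) ≫ T f a p n -
    ∑ q, biproduct.π (fun _ : Fin r × Fin r => L f a n) (k, q) ≫ T f a q n := biproduct.lift_π _ _
  have h3 : ∀ pq : Fin r × Fin r, ∀ j, val f _ U ((biproduct.π (fun _ : Fin r × Fin r => L f a n) pq ≫ T f a j n).app U z) =
      toSec f U (a j) * val f _ U (comp (fun _ : Fin r × Fin r => L f a n) pq z) := fun pq j =>
    val_mul f (a j) (mul_mem_pow a j n) U (comp (fun _ : Fin r × Fin r => L f a n) pq z)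
  rw [h1, h2, sub_app, sum_app, sum_app, map_sub, map_sum, map_sum]
  simp_rw [h3]

theorem κ_σ (n : ℕ) : κ f a n ≫ σ f a (n + 1) = 0 := by
  apply CohqB.AlgMod.hom_ext_affine
  intro U hU z
  apply val_injective
  change val f _ U ((σ f a (n + 1)).app U ((κ f a n).app U z)) = val f _ U 0
  rw [val_σ, map_zero]
  simp_rw [val_κ, mul_sub, Finset.mul_sum]
  rw [Finset.sum_sub_distrib, sub_eq_zero, Finset.sum_comm]
  refine Finset.sum_congr rfl fun p _ => Finset.sum_congr rfl fun q _ => ?_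
  ring

/-- The right exact sequence. -/
noncomputable def S (n : ℕ) : ShortComplex X.Modules := ShortComplex.mk (κ f a n) (σ f a (n + 1)) (κ_σ f a n)

theorem epi_σ (n : ℕ) : Epi (σ f a n) := by
  apply CohqB.AlgMod.epi_of_surjective_affine
  intro U hU y
  have h1 := val_mem f _ ⟨U, hU⟩ y
  have key : ∀ s ∈ ((I a) ^ (n + 1)).map (toSec f U), ∃ c : Fin r → Γ(X, U),
      (∀ j, c j ∈ ((I a) ^ n).map (toSec f U)) ∧ s = ∑ j, toSec f U (a j) * c j := by
    intro s hs
    rw [pow_succ', Ideal.map_mul] at hs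
    induction hs using Submodule.mul_induction_on' with
    | mem_mul_mem m hm t ht =>
      rw [Ideal.map_span] at hm
      induction hm using Submodule.span_induction with
      | mem x hx =>
        obtain ⟨_, ⟨j, rfl⟩, rfl⟩ := hx
        classical
        refine ⟨fun k => if k = j then t else 0, fun k => ?_, ?_⟩
        · dsimp only
          split_ifs
          · exact ht
          · exact Ideal.zero_mem _
        · simp
      | zero => exact ⟨0, fun _ => Ideal.zero_mem _, by simp⟩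
      | add x y _ _ hx hy =>
        obtain ⟨c, hc, hcx⟩ := hx
        obtain ⟨d, hd, hdy⟩ := hy
        refine ⟨c + d, fun j => Ideal.add_mem _ (hc j) (hd j), ?_⟩
        rw [add_mul, hcx, hdy, ← Finset.sum_add_distrib]
        exact Finset.sum_congr rfl fun j _ => by rw [Pi.add_apply, mul_add]
      | smul w x _ hx =>
        obtain ⟨c, hc, hcx⟩ := hx
        refine ⟨fun j => w * c j, fun j => Ideal.mul_mem_left _ _ (hc j), ?_⟩
        rw [smul_eq_mul, mul_assoc, hcx, Finset.mul_sum]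
        exact Finset.sum_congr rfl fun j _ => by ring
    | add x _ y _ hx hy =>
      obtain ⟨c, hc, hcx⟩ := hx
      obtain ⟨d, hd, hdy⟩ := hy
      refine ⟨c + d, fun j => Ideal.add_mem _ (hc j) (hd j), ?_⟩
      rw [hcx, hdy, ← Finset.sum_add_distrib]
      exact Finset.sum_congr rfl fun j _ => by rw [Pi.add_apply, mul_add]
  obtain ⟨c, hc, hcy⟩ := key _ h1
  choose z hz using fun j => exists_val_eq f _ ⟨U, hU⟩ (c j) (hc j)
  obtain ⟨x, hx⟩ := exists_comp (fun _ : Fin r => L f a n) z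
  refine ⟨x, ?_⟩
  apply val_injective
  rw [val_σ]
  rw [hcy]
  refine Finset.sum_congr rfl fun j _ => ?_
  rw [hx j, hz j]

/-- Exactness of the Koszul relations where `I O_X` is locally generated by one of the `a i`. -/
theorem exact_S [IsIntegral X]
    (hloc : ∀ x : X, ∃ (V : X.Opens) (i : Fin r), x ∈ V ∧ toSec f V (a i) ≠ 0 ∧
      ∀ j, ∃ c : Γ(X, V), toSec f V (a j) = c * toSec f V (a i)) (n : ℕ) :
    (S f a n).Exact := by
  apply PerfB.ModExact.exact_of_locally_lifts
  intro U y hy x hxU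
  obtain ⟨V₀, i, hxV₀, hi, hj⟩ := hloc x
  obtain ⟨V, hV, hxV, hVU⟩ := exists_isAffineOpen_mem_and_subset (x := x) (U := U ⊓ V₀) ⟨hxU, hxV₀⟩
  have hVU' : V ≤ U := fun z hz => (hVU hz).1
  have hVV₀ : V ≤ V₀ := fun z hz => (hVU hz).2
  refine ⟨V, hVU', hxV, ?_⟩
  have hne : Nonempty V := ⟨⟨x, hxV⟩⟩
  have hne0 : Nonempty V₀ := ⟨⟨x, hxV₀⟩⟩
  set α : Γ(X, V) := toSec f V (a i) with hα
  have hα0 : α ≠ 0 := by
    intro h
    apply hi
    apply map_injective_of_isIntegral X (homOfLE hVV₀)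
    change rs hVV₀ _ = rs hVV₀ _
    rw [toSec_res, map_zero]
    exact h
  have hjV : ∀ j, ∃ c : Γ(X, V), toSec f V (a j) = c * α := by
    intro j
    obtain ⟨c, hc⟩ := hj j
    refine ⟨rs hVV₀ c, ?_⟩
    rw [← toSec_res f hVV₀ (a j), hc, map_mul, toSec_res]
  have hspan : (I a).map (toSec f V) = Ideal.span {α} := by
    apply le_antisymm
    · rw [Ideal.map_span, Ideal.span_le]
      rintro _ ⟨_, ⟨j, rfl⟩, rfl⟩
      obtain ⟨c, hc⟩ := hjV j
      rw [hc]
      exact Ideal.mem_span_singleton'.mpr ⟨c, rfl⟩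
    · rw [Ideal.span_singleton_le_iff_mem]
      exact Ideal.mem_map_of_mem _ (Ideal.subset_span ⟨i, rfl⟩)
  have hspan' : ∀ m, ((I a) ^ m).map (toSec f V) = Ideal.span {α ^ m} := by
    intro m
    rw [Ideal.map_pow, hspan, Ideal.span_singleton_pow]
  set yV : Γ(⨁ fun _ : Fin r => L f a (n + 1), V) :=
    (⨁ fun _ : Fin r => L f a (n + 1)).presheaf.map (homOfLE hVU').op y with hyV
  have hyV0 : (σ f a (n + 1)).app V yV = 0 := by
    have h1 := congrArg (fun ψ => ψ y) ((σ f a (n + 1)).mapPresheaf.naturality (homOfLE hVU').op)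
    refine Eq.trans h1 ?_
    change (L f a (n + 1 + 1)).presheaf.map (homOfLE hVU').op ((σ f a (n + 1)).app U y) = 0
    have h2 : (σ f a (n + 1)).app U y = 0 := hy
    rw [h2, map_zero]
  have hy2 : ∀ k, ∃ c : Γ(X, V), val f _ V (comp (fun _ : Fin r => L f a (n + 1)) k yV) = c * α ^ (n + 1) := by
    intro k
    have h1 := val_mem f _ ⟨V, hV⟩ (comp (fun _ : Fin r => L f a (n + 1)) k yV)
    rw [hspan', Ideal.mem_span_singleton'] at h1
    obtain ⟨c, hc⟩ := h1
    exact ⟨c, hc.symm⟩
  choose c hc using hy2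
  have hz : ∀ k, ∃ z : Γ(L f a n, V), val f _ V z = c k * α ^ n := by
    intro k
    refine exists_val_eq f _ ⟨V, hV⟩ _ ?_
    rw [hspan', Ideal.mem_span_singleton']
    exact ⟨c k, rfl⟩
  choose z hz using hz
  classical
  obtain ⟨w, hw⟩ := exists_comp (fun _ : Fin r × Fin r => L f a n) (fun pq => if pq.1 = i then z pq.2 else 0)
  refine ⟨w, ?_⟩
  change (κ f a n).app V w = yV
  apply comp_ext
  intro k
  apply val_injective
  rw [val_κ, hc k]
  have h1 : ∑ p, toSec f V (a p) * val f _ V (comp (fun _ : Fin r × Fin r => L f a n) (p, k) w) =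
      α * (c k * α ^ n) := by
    rw [Finset.sum_eq_single i]
    · rw [hw, if_pos rfl, hz]
    · intro p _ hp
      rw [hw, if_neg hp, map_zero, mul_zero]
    · intro h; exact absurd (Finset.mem_univ _) h
  have h2 : ∑ q, toSec f V (a q) * val f _ V (comp (fun _ : Fin r × Fin r => L f a n) (k, q) w) = 0 := by
    by_cases hk : k = i
    · have h3 : ∀ q, val f _ V (comp (fun _ : Fin r × Fin r => L f a n) (k, q) w) = c q * α ^ n := by
        intro q
        rw [hw, if_pos hk, hz]
      simp_rw [h3]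
      have h4 : val f _ V ((σ f a (n + 1)).app V yV) = 0 := by rw [hyV0, map_zero]
      rw [val_σ] at h4
      simp_rw [hc] at h4
      have h5 : (∑ q, toSec f V (a q) * (c q * α ^ n)) * α = 0 := by
        rw [Finset.sum_mul, ← h4]
        refine Finset.sum_congr rfl fun q _ => ?_
        ring
      exact (mul_eq_zero.mp h5).resolve_right hα0
    · refine Finset.sum_eq_zero fun q _ => ?_
      rw [hw, if_neg hk, map_zero, mul_zero]
  rw [h1, h2]
  ring

end Groth.Agent.CurvesC.KoszulOne
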