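import Mathlib.Algebra.Homology.DerivedCategory.Linear
import Mathlib.Algebra.Homology.DerivedCategory.Ext.Linear
import Groth.Prelude.Def_DCoh2
import Groth.Agent.FormalB.ModPow

/-!
# The linear structure on the category of modules on a scheme over `Spec A`

`linearModules A X : Linear A X.Modules`, with `a • φ = φ ≫ (multiplication by a)`; on the derived category
multiplication by `a` on a module placed in degree zero is `a • 𝟙`.
-/

set_option autoImplicit false

universe u

open CategoryTheory CategoryTheory.Limits AlgebraicGeometry
open Groth.Agent.FormalB.ModPow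

attribute [local instance] HasDerivedCategory.standard

namespace Groth.Agent.CurvesC.LinMod

variable (A : Type u) [CommRing A] (X : Scheme.{u}) [X.Over (Spec (CommRingCat.of A))]

/-- The `A`-linear structure on `X.Modules`. -/
@[reducible] noncomputable def linearModules : Linear A X.Modules where
  homModule M N :=
    { smul := fun a φ => φ ≫ Formal.smulMod A N a
      one_smul := fun φ => by
        change φ ≫ Formal.smulMod A N 1 = φ
        rw [smulMod_one, Category.comp_id]
      mul_smul := fun a b φ => by
        change φ ≫ Formal.smulMod A N (a * b) = (φ ≫ Formal.smulMod A N b) ≫ Formal.smulMod A N a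
        rw [smulMod_mul, Category.assoc]
      smul_zero := fun a => by
        change (0 : M ⟶ N) ≫ Formal.smulMod A N a = 0
        rw [zero_comp]
      smul_add := fun a φ ψ => by
        change (φ + ψ) ≫ Formal.smulMod A N a = φ ≫ Formal.smulMod A N a + ψ ≫ Formal.smulMod A N a
        rw [Preadditive.add_comp]
      add_smul := fun a b φ => by
        change φ ≫ Formal.smulMod A N (a + b) = φ ≫ Formal.smulMod A N a + φ ≫ Formal.smulMod A N b
        rw [smulMod_add, Preadditive.comp_add]
      zero_smul := fun φ => by
        change φ ≫ Formal.smulMod A N 0 = 0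
        rw [smulMod_zero, comp_zero] }
  smul_comp M N K a φ ψ := by
    change (φ ≫ Formal.smulMod A N a) ≫ ψ = (φ ≫ ψ) ≫ Formal.smulMod A K a
    rw [Category.assoc, Category.assoc, smulMod_naturality]
  comp_smul M N K φ a ψ := by
    change φ ≫ ψ ≫ Formal.smulMod A K a = (φ ≫ ψ) ≫ Formal.smulMod A K a
    rw [Category.assoc]

attribute [local instance] linearModules

theorem smul_def {M N : X.Modules} (a : A) (φ : M ⟶ N) : a • φ = φ ≫ Formal.smulMod A N a := rfl

theorem smul_id (M : X.Modules) (a : A) : a • 𝟙 M = Formal.smulMod A M a := by
  rw [smul_def, Category.id_comp]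

theorem singleFunctor_map_smulMod (n : ℤ) (M : X.Modules) (a : A) :
    (DerivedCategory.singleFunctor X.Modules n).map (Formal.smulMod A M a) = a • 𝟙 _ := by
  rw [← smul_id, Functor.map_smul, CategoryTheory.Functor.map_id]

/-- Multiplication by `a` is central in the derived category. -/
theorem smul_comm {M N : X.Modules} (n m i : ℤ) (a : A)
    (s : (DerivedCategory.singleFunctor X.Modules n).obj M ⟶
      ((DerivedCategory.singleFunctor X.Modules m).obj N)⟦i⟧) :
    (DerivedCategory.singleFunctor X.Modules n).map (Formal.smulMod A M a) ≫ s =
      s ≫ ((DerivedCategory.singleFunctor X.Modules m).map (Formal.smulMod A N a))⟦i⟧' := by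
  rw [singleFunctor_map_smulMod, singleFunctor_map_smulMod, Linear.smul_comp, Functor.map_smul,
    Linear.comp_smul, CategoryTheory.Functor.map_id, Category.id_comp, Category.comp_id]

end Groth.Agent.CurvesC.LinMod
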