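import Groth.Agent.FlatA.ProperApprox
import Mathlib.Algebra.Category.Ring.FilteredColimits
import Mathlib.CategoryTheory.Limits.Types.Filtered
import Mathlib.RingTheory.Localization.Away.Basic

/-!
# A localization as a filtered colimit, and models of proper schemes over a localization
-/

set_option autoImplicit false
universe u
open CategoryTheory CategoryTheory.Limits AlgebraicGeometry Opposite

namespace Groth.Agent.CurvesC.LocSys

variable {R : Type u} [CommRing R] (M : Submonoid R)

/-- The index set: elements of `M`, ordered by divisibility. -/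
structure Idx : Type u where
  /-- the element to be inverted -/
  val : R
  /-- it lies in the submonoid -/
  mem : val ∈ M

variable {M}

instance : Preorder (Idx M) where
  le i j := i.val ∣ j.val
  le_refl i := dvd_refl _
  le_trans i j k h h' := dvd_trans h h'

instance : Nonempty (Idx M) := ⟨⟨1, M.one_mem⟩⟩

instance : IsDirectedOrder (Idx M) where
  directed i j := ⟨⟨i.val * j.val, M.mul_mem i.mem j.mem⟩, dvd_mul_right _ _, dvd_mul_left _ _⟩

/-- The ring `R_s`. -/
abbrev Stage (j : Idx M) : Type u := Localization.Away j.val

theorem ringHom_ext {B : Type u} [CommRing B] (j : Idx M) {φ ψ : Stage j →+* B}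
    (h : φ.comp (algebraMap R (Stage j)) = ψ.comp (algebraMap R (Stage j))) : φ = ψ :=
  IsLocalization.ringHom_ext (Submonoid.powers j.val) h

/-- Transition maps. -/
noncomputable def trans {j k : Idx M} (h : j ≤ k) : Stage j →+* Stage k :=
  IsLocalization.Away.lift (S := Stage j) j.val (g := algebraMap R (Stage k))
    (isUnit_of_dvd_unit (map_dvd _ h) (IsLocalization.Away.algebraMap_isUnit k.val))

@[simp]
theorem trans_algebraMap {j k : Idx M} (h : j ≤ k) (r : R) :
    trans h (algebraMap R (Stage j) r) = algebraMap R (Stage k) r :=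
  IsLocalization.Away.lift_eq _ _ _

variable (M) in
/-- The diagram of the `R_s`. -/
noncomputable def ringDiagram : Idx M ⥤ CommRingCat.{u} where
  obj j := .of (Stage j)
  map h := CommRingCat.ofHom (trans h.le)
  map_id j := by
    ext1
    apply ringHom_ext
    ext r
    simp
  map_comp {i j k} f g := by
    ext1
    apply ringHom_ext
    ext r
    simp

section

variable (L : Type u) [CommRing L] [Algebra R L] [IsLocalization M L]

/-- The map from the stage to the localization. -/
noncomputable def toL (j : Idx M) : Stage j →+* L :=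
  IsLocalization.Away.lift (S := Stage j) j.val (g := algebraMap R L) (IsLocalization.map_units L ⟨j.val, j.mem⟩)

@[simp]
theorem toL_algebraMap (j : Idx M) (r : R) : toL L j (algebraMap R (Stage j) r) = algebraMap R L r :=
  IsLocalization.Away.lift_eq _ _ _

variable (M) in
/-- The cocone. -/
noncomputable def ringCocone : Cocone (ringDiagram M) where
  pt := .of L
  ι :=
    { app j := CommRingCat.ofHom (toL L j)
      naturality {j k} f := by
        ext1
        apply ringHom_ext
        ext r
        simp [ringDiagram] }

theorem exists_toL_eq (x : L) : ∃ (j : Idx M) (y : Stage j), toL L j y = x := by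
  obtain ⟨⟨a, s⟩, h⟩ := IsLocalization.surj M x
  let j : Idx M := ⟨s, s.2⟩
  obtain ⟨u, hu⟩ := IsLocalization.Away.algebraMap_isUnit (S := Stage j) j.val
  refine ⟨j, algebraMap R (Stage j) a * ↑u⁻¹, ?_⟩
  have hu' : IsUnit (algebraMap R L s) := IsLocalization.map_units L s
  refine hu'.mul_left_injective ?_
  have h1 : toL L j (↑u⁻¹ : Stage j) * algebraMap R L s = 1 := by
    have : algebraMap R L s = toL L j (u : Stage j) := by rw [hu, toL_algebraMap]
    rw [this, ← map_mul, Units.inv_mul, map_one]
  change toL L j (algebraMap R (Stage j) a * ↑u⁻¹) * algebraMap R L s = x * algebraMap R L s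
  rw [map_mul, mul_assoc, h1, mul_one, toL_algebraMap]
  exact h.symm

theorem exists_trans_eq (j : Idx M) (x y : Stage j) (h : toL L j x = toL L j y) :
    ∃ (k : Idx M) (hjk : j ≤ k), trans hjk x = trans hjk y := by
  obtain ⟨n, a, ha⟩ := IsLocalization.Away.surj j.val x
  obtain ⟨m, b, hb⟩ := IsLocalization.Away.surj j.val y
  have key : algebraMap R L (a * j.val ^ m) = algebraMap R L (b * j.val ^ n) := by
    have ha' := congrArg (toL L j) ha
    have hb' := congrArg (toL L j) hb
    simp only [map_mul, map_pow, toL_algebraMap] at ha' hb'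
    rw [map_mul, map_mul, map_pow, map_pow, ← ha', ← hb', h]
    ring
  obtain ⟨c, hc⟩ := (IsLocalization.eq_iff_exists M L).mp key
  let k : Idx M := ⟨j.val * c, M.mul_mem j.mem c.2⟩
  have hjk : j ≤ k := dvd_mul_right _ _
  refine ⟨k, hjk, ?_⟩
  have hk : IsUnit (algebraMap R (Stage k) (j.val * c)) := IsLocalization.Away.algebraMap_isUnit k.val
  have hu : IsUnit (algebraMap R (Stage k) j.val) := isUnit_of_dvd_unit (map_dvd _ (dvd_mul_right _ _)) hk
  have huc : IsUnit (algebraMap R (Stage k) c) := isUnit_of_dvd_unit (map_dvd _ (dvd_mul_left _ _)) hk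
  have hz : algebraMap R (Stage k) (a * j.val ^ m) = algebraMap R (Stage k) (b * j.val ^ n) := by
    have := congrArg (algebraMap R (Stage k)) hc
    rw [map_mul, map_mul (algebraMap R (Stage k)) (c : R)] at this
    exact huc.mul_left_cancel this
  refine ((hu.pow n).mul (hu.pow m)).mul_left_injective ?_
  have ha' := congrArg (trans hjk) ha
  have hb' := congrArg (trans hjk) hb
  simp only [map_mul, map_pow, trans_algebraMap] at ha' hb' hz
  calc trans hjk x * (algebraMap R (Stage k) j.val ^ n * algebraMap R (Stage k) j.val ^ m)
      = (trans hjk x * algebraMap R (Stage k) j.val ^ n) * algebraMap R (Stage k) j.val ^ m := by ring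
    _ = (trans hjk y * algebraMap R (Stage k) j.val ^ m) * algebraMap R (Stage k) j.val ^ n := by
        rw [ha', hb', hz]
    _ = _ := by ring

variable (M) in
/-- `L` is the filtered colimit of the `R_s`. -/
noncomputable def isColimit : IsColimit (ringCocone M L) := by
  haveI : ReflectsColimit (ringDiagram M) (forget CommRingCat) :=
    reflectsColimit_of_reflectsIsomorphisms _ _
  refine isColimitOfReflects (forget CommRingCat) ?_
  refine Types.FilteredColimit.isColimitOf' _ _ ?_ ?_
  · intro x
    obtain ⟨j, y, hy⟩ := exists_toL_eq (M := M) L x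
    exact ⟨j, y, hy.symm⟩
  · intro i x y h
    obtain ⟨k, hk, h'⟩ := exists_trans_eq (M := M) L i x y h
    exact ⟨k, homOfLE hk, h'⟩

end

variable (M) in
/-- The diagram of schemes. -/
noncomputable def schDiagram : (Idx M)ᵒᵖ ⥤ Scheme.{u} := (ringDiagram M).op ⋙ Scheme.Spec

section

variable (L : Type u) [CommRing L] [Algebra R L] [IsLocalization M L]

variable (M) in
/-- The cone of schemes. -/
noncomputable def schCone : Cone (schDiagram M) := Scheme.Spec.mapCone (ringCocone M L).op

variable (M) in
/-- `Spec L` is the limit of the `Spec R_s`. -/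
noncomputable def isLimit : IsLimit (schCone M L) := isLimitOfPreserves Scheme.Spec (isColimit M L).op

/-- A proper finitely presented scheme over a localization comes from a principal localization. -/
theorem exists_proper_model {Y : Scheme.{u}} (f : Y ⟶ Spec (CommRingCat.of L)) [IsProper f]
    [LocallyOfFinitePresentation f] :
    ∃ (j : Idx M) (Z : Scheme.{u}) (g : Z ⟶ Spec (CommRingCat.of (Stage j))) (p : Y ⟶ Z),
      IsPullback p f g (Spec.map (CommRingCat.ofHom (toL L j))) ∧ IsProper g ∧ LocallyOfFinitePresentation g := by
  have h1 : ∀ (i j : (Idx M)ᵒᵖ) (t : i ⟶ j), IsAffineHom ((schDiagram M).map t) := by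
    intro i j t
    change IsAffineHom (Spec.map _)
    infer_instance
  have h2 : ∀ i, CompactSpace ((schDiagram M).obj i) := by
    intro i
    change CompactSpace (Spec _)
    infer_instance
  have h3 : ∀ i, QuasiSeparatedSpace ((schDiagram M).obj i) := by
    intro i
    change QuasiSeparatedSpace (Spec _)
    infer_instance
  let f' : Y ⟶ (schCone M L).pt := f
  have h4 : IsProper f' := ‹IsProper f›
  have h5 : LocallyOfFinitePresentation f' := ‹LocallyOfFinitePresentation f›
  obtain ⟨i, Z, g, p, h, hg, hg'⟩ := FlatA.ProperApprox.exists_proper_model (schDiagram M) (schCone M L) (isLimit M L) f'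
  exact ⟨i.unop, Z, g, p, h, hg, hg'⟩

end

end Groth.Agent.CurvesC.LocSys
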