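import Groth.Agent.CurvesC.NodeEt
import Mathlib.FieldTheory.IsAlgClosed.Basic
import Mathlib.RingTheory.Localization.Away.Basic

/-!
# Morse lemma (algebraic core)

If `y` are étale coordinates of `B` over `C` along a section `σ` with ideal `(y₀, y₁)` and `h : B` has its first
derivatives vanishing along `σ` and invertible Hessian at a geometric point, then étale locally
`h = u v + σ h` with `u, v` étale coordinates.
-/

set_option autoImplicit false
set_option linter.style.haveILetI false

namespace Groth.Agent.CurvesC.MorseCore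

open Groth.Agent.CurvesC.NodeEt

universe u v w

/-- A polynomial ring localized at an element has the variables as étale coordinates. -/
theorem isEtaleCoord_localization {B : Type u} [CommRing B] {n : ℕ} (G : MvPolynomial (Fin n) B) :
    IsEtaleCoord B (fun i => algebraMap (MvPolynomial (Fin n) B) (Localization.Away G) (MvPolynomial.X i)) := by
  have h : (algebraMap (MvPolynomial (Fin n) B) (Localization.Away G)).Etale := by
    rw [RingHom.etale_algebraMap]
    exact Algebra.Etale.of_isLocalizationAway G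
  rw [IsEtaleCoord]
  convert h using 1
  ext <;> simp [IsScalarTower.algebraMap_apply B (MvPolynomial (Fin n) B) (Localization.Away G),
    MvPolynomial.algebraMap_eq]

/-- A quadratic polynomial with nonzero discriminant has a root over an algebraically closed field. -/
theorem exists_root_quadratic {K : Type w} [Field K] [IsAlgClosed K] (a b c : K) (hD : b ^ 2 - 4 * a * c ≠ 0) :
    ∃ r : K, a * r ^ 2 - b * r + c = 0 ∧ 2 * a * r - b ≠ 0 := by
  have key : ∀ r : K, a * r ^ 2 - b * r + c = 0 → 2 * a * r - b ≠ 0 := by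
    intro r hr h0
    apply hD
    have : b ^ 2 - 4 * a * c = (2 * a * r - b) ^ 2 - 4 * a * (a * r ^ 2 - b * r + c) := by ring
    rw [this, hr, h0]
    ring
  suffices ∃ r : K, a * r ^ 2 - b * r + c = 0 by
    obtain ⟨r, hr⟩ := this
    exact ⟨r, hr, key r hr⟩
  by_cases ha : a = 0
  · subst ha
    have hb : b ≠ 0 := by
      intro hb
      apply hD
      rw [hb]
      ring
    refine ⟨c / b, ?_⟩
    field_simp
    ring
  · obtain ⟨r, hr⟩ := IsAlgClosed.exists_root
      (Polynomial.C a * Polynomial.X ^ 2 + Polynomial.C (-b) * Polynomial.X + Polynomial.C c)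
      (by rw [Polynomial.degree_quadratic ha]; decide)
    refine ⟨r, ?_⟩
    simp only [Polynomial.IsRoot, Polynomial.eval_add, Polynomial.eval_mul, Polynomial.eval_C,
      Polynomial.eval_pow, Polynomial.eval_X] at hr
    linear_combination hr

/-- Adjoining étale-locally a simple root of a quadratic polynomial. -/
theorem exists_etale_root {B : Type u} [CommRing B] {K : Type w} [Field K] [IsAlgClosed K] (θ : B →+* K)
    (α β γ : B) (hD : θ (β ^ 2 - 4 * α * γ) ≠ 0) :
    ∃ (B' : Type u) (_ : CommRing B') (_ : Algebra B B') (q : B') (θ' : B' →+* K),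
      Algebra.Etale B B' ∧ algebraMap B B' α * q ^ 2 - algebraMap B B' β * q + algebraMap B B' γ = 0 ∧
      (∀ b, θ' (algebraMap B B' b) = θ b) ∧ θ' (2 * algebraMap B B' α * q - algebraMap B B' β) ≠ 0 := by
  obtain ⟨r, hr, hr'⟩ := exists_root_quadratic (θ α) (θ β) (θ γ) (by
    simpa only [map_sub, map_pow, map_mul, map_ofNat] using hD)
  let P := MvPolynomial (Fin 1) B
  let T : P := MvPolynomial.X 0
  let G : P := 2 * MvPolynomial.C α * T - MvPolynomial.C β
  let P' := Localization.Away G
  let F : P' := algebraMap P P' (MvPolynomial.C α * T ^ 2 - MvPolynomial.C β * T + MvPolynomial.C γ)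
  have hx := isEtaleCoord_localization G
  have hC : ∀ b : B, algebraMap P P' (MvPolynomial.C b) = algebraMap B P' b := by
    intro b
    rw [IsScalarTower.algebraMap_apply B P P', MvPolynomial.algebraMap_eq]
  have hpd : hx.pd 0 F = algebraMap P P' G := by
    have hT : hx.pd 0 (algebraMap P P' T) = 1 := by
      have := hx.pd_coord 0 0
      simpa using this
    have hB : ∀ b : B, hx.pd 0 (algebraMap B P' b) = 0 := fun b => (hx.pd 0).map_algebraMap b
    simp only [F, G, map_add, map_sub, map_mul, map_pow, hC, Derivation.leibniz, Derivation.leibniz_pow,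
      hB, hT, map_ofNat]
    simp only [smul_eq_mul, mul_zero, add_zero, mul_one, nsmul_eq_mul, Nat.cast_ofNat]
    ring
  have hu : IsEtaleCoord B (fun _ : Fin 1 => F) := by
    apply hx.of_isUnit_det
    simp only [Matrix.det_unique, Matrix.of_apply, Fin.default_eq_zero, hpd]
    exact IsLocalization.Away.algebraMap_isUnit G
  have het := hu.etale_quotient (Ideal.span {F}) (by simp)
  rw [RingHom.etale_algebraMap] at het
  -- the geometric point
  let θP : P →+* K := MvPolynomial.eval₂Hom θ (fun _ => r)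
  have hθC : ∀ b : B, θP (MvPolynomial.C b) = θ b := fun b => MvPolynomial.eval₂Hom_C _ _ _
  have hθT : θP T = r := MvPolynomial.eval₂Hom_X' _ _ _
  have hθG : IsUnit (θP G) := by
    rw [isUnit_iff_ne_zero]
    simpa only [G, map_sub, map_mul, map_ofNat, hθC, hθT] using hr'
  let θP' : P' →+* K := IsLocalization.Away.lift G hθG
  have hθP' : ∀ p : P, θP' (algebraMap P P' p) = θP p := fun p => IsLocalization.Away.lift_eq G hθG p
  have hθF : θP' F = 0 := by
    rw [hθP']
    simpa only [map_sub, map_add, map_mul, map_pow, hθC, hθT] using hr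
  let θ' : (P' ⧸ Ideal.span {F}) →+* K := Ideal.Quotient.lift _ θP' (by
    intro a ha
    obtain ⟨c, rfl⟩ := Ideal.mem_span_singleton'.mp ha
    rw [map_mul, hθF, mul_zero])
  have hθ' : ∀ p : P, θ' (Ideal.Quotient.mk _ (algebraMap P P' p)) = θP p := fun p => by
    rw [Ideal.Quotient.lift_mk, hθP']
  have halg : ∀ b : B, algebraMap B (P' ⧸ Ideal.span {F}) b =
      Ideal.Quotient.mk _ (algebraMap P P' (MvPolynomial.C b)) := by
    intro b
    rw [hC]
    rfl
  refine ⟨P' ⧸ Ideal.span {F}, inferInstance, inferInstance, Ideal.Quotient.mk _ (algebraMap P P' T), θ', het,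
    ?_, ?_, ?_⟩
  · simp only [halg, ← map_mul, ← map_pow, ← map_sub, ← map_add]
    exact Ideal.Quotient.eq_zero_iff_mem.mpr (Ideal.subset_span rfl)
  · intro b
    rw [halg, hθ', hθC]
  · have : (2 * algebraMap B (P' ⧸ Ideal.span {F}) α * Ideal.Quotient.mk _ (algebraMap P P' T) -
        algebraMap B (P' ⧸ Ideal.span {F}) β) = Ideal.Quotient.mk _ (algebraMap P P' G) := by
      simp only [halg, G, map_sub, map_mul, map_ofNat]
    rw [this, hθ']
    exact hθG.ne_zero

/-- Existence of the second order expansion along the section. -/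
theorem exists_expansion {C B : Type u} [CommRing C] [CommRing B] [Algebra C B]
    (y : Fin 2 → B) (hy : IsEtaleCoord C y) (σ : B →ₐ[C] C) (hker : RingHom.ker σ = Ideal.span (Set.range y))
    (h : B) (hd : ∀ i, σ (hy.pd i h) = 0) :
    ∃ α β γ : B, h = algebraMap C B (σ h) + (α * y 0 ^ 2 + β * y 0 * y 1 + γ * y 1 ^ 2) ∧
      σ (hy.pd 0 (hy.pd 0 h) * hy.pd 1 (hy.pd 1 h) - hy.pd 0 (hy.pd 1 h) * hy.pd 1 (hy.pd 0 h)) =
        σ (4 * α * γ - β ^ 2) := by
  have hrange : Set.range y = {y 0, y 1} := by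
    ext z
    simp [Fin.exists_fin_two, eq_comm]
  have hmem : ∀ b : B, σ b = 0 → ∃ c d : B, c * y 0 + d * y 1 = b := by
    intro b hb
    have : b ∈ Ideal.span (Set.range y) := by
      rw [← hker]
      exact hb
    rw [hrange] at this
    exact Ideal.mem_span_pair.mp this
  have hσy : ∀ i, σ (y i) = 0 := by
    intro i
    have : y i ∈ RingHom.ker σ := by
      rw [hker]
      exact Ideal.subset_span ⟨i, rfl⟩
    exact this
  have h00 : hy.pd 0 (y 0) = 1 := by simpa using hy.pd_coord 0 0
  have h01 : hy.pd 0 (y 1) = 0 := by simpa using hy.pd_coord 0 1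
  have h10 : hy.pd 1 (y 0) = 0 := by simpa using hy.pd_coord 1 0
  have h11 : hy.pd 1 (y 1) = 1 := by simpa using hy.pd_coord 1 1
  have hC : ∀ (i : Fin 2) (c : C), hy.pd i (algebraMap C B c) = 0 := fun i c => (hy.pd i).map_algebraMap c
  obtain ⟨b0, b1, hb⟩ := hmem (h - algebraMap C B (σ h)) (by
    rw [map_sub, AlgHom.commutes, Algebra.algebraMap_self, RingHom.id_apply, sub_self])
  have hh : h = algebraMap C B (σ h) + (b0 * y 0 + b1 * y 1) := by
    rw [hb]
    ring
  have hb0 : σ b0 = 0 := by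
    have := hd 0
    rw [hh] at this
    simp only [map_add, Derivation.leibniz, hC, h00, h01, smul_eq_mul, mul_zero, map_zero, map_mul,
      hσy, mul_one, zero_add, zero_mul, add_zero] at this
    exact this
  have hb1 : σ b1 = 0 := by
    have := hd 1
    rw [hh] at this
    simp only [map_add, Derivation.leibniz, hC, h10, h11, smul_eq_mul, mul_zero, map_zero, map_mul,
      hσy, mul_one, zero_add, zero_mul, add_zero] at this
    exact this
  obtain ⟨c00, c01, hc0⟩ := hmem b0 hb0
  obtain ⟨c10, c11, hc1⟩ := hmem b1 hb1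
  have hh' : h = algebraMap C B (σ h) + (c00 * y 0 ^ 2 + (c01 + c10) * y 0 * y 1 + c11 * y 1 ^ 2) := by
    rw [← hc0, ← hc1] at hh
    linear_combination hh
  refine ⟨c00, c01 + c10, c11, hh', ?_⟩
  have e0 : hy.pd 0 h = hy.pd 0 c00 * y 0 ^ 2 + 2 * c00 * y 0 + hy.pd 0 (c01 + c10) * y 0 * y 1 +
      (c01 + c10) * y 1 + hy.pd 0 c11 * y 1 ^ 2 := by
    rw [hh']
    simp only [map_add, Derivation.leibniz, Derivation.leibniz_pow, hC, h00, h01, smul_eq_mul, mul_zero,
      mul_one, zero_add, add_zero, nsmul_eq_mul, Nat.cast_ofNat]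
    ring
  have e1 : hy.pd 1 h = hy.pd 1 c00 * y 0 ^ 2 + hy.pd 1 (c01 + c10) * y 0 * y 1 +
      (c01 + c10) * y 0 + hy.pd 1 c11 * y 1 ^ 2 + 2 * c11 * y 1 := by
    rw [hh']
    simp only [map_add, Derivation.leibniz, Derivation.leibniz_pow, hC, h10, h11, smul_eq_mul, mul_zero,
      mul_one, zero_add, add_zero, nsmul_eq_mul, Nat.cast_ofNat]
    ring
  have h2 : ∀ i : Fin 2, hy.pd i (2 : B) = 0 := fun i => by
    have := hC i 2
    rwa [map_ofNat] at this
  have s00 : σ (hy.pd 0 (hy.pd 0 h)) = 2 * σ c00 := by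
    rw [e0]
    simp only [map_add, map_mul, map_pow, Derivation.leibniz, Derivation.leibniz_pow, h00, h01, h2,
      smul_eq_mul, mul_zero, mul_one, zero_add, add_zero, nsmul_eq_mul, Nat.cast_ofNat, hσy, map_ofNat,
      zero_mul, zero_pow two_ne_zero, pow_one, Nat.add_one_sub_one, map_zero]
  have s11 : σ (hy.pd 1 (hy.pd 1 h)) = 2 * σ c11 := by
    rw [e1]
    simp only [map_add, map_mul, map_pow, Derivation.leibniz, Derivation.leibniz_pow, h10, h11, h2,
      smul_eq_mul, mul_zero, mul_one, zero_add, add_zero, nsmul_eq_mul, Nat.cast_ofNat, hσy, map_ofNat,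
      zero_mul, zero_pow two_ne_zero, pow_one, Nat.add_one_sub_one, map_zero]
  have s01 : σ (hy.pd 0 (hy.pd 1 h)) = σ (c01 + c10) := by
    rw [e1]
    simp only [map_add, map_mul, map_pow, Derivation.leibniz, Derivation.leibniz_pow, h00, h01, h2,
      smul_eq_mul, mul_zero, mul_one, zero_add, add_zero, nsmul_eq_mul, Nat.cast_ofNat, hσy, map_ofNat,
      zero_mul, zero_pow two_ne_zero, pow_one, Nat.add_one_sub_one, map_zero]
  have s10 : σ (hy.pd 1 (hy.pd 0 h)) = σ (c01 + c10) := by
    rw [e0]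
    simp only [map_add, map_mul, map_pow, Derivation.leibniz, Derivation.leibniz_pow, h10, h11, h2,
      smul_eq_mul, mul_zero, mul_one, zero_add, add_zero, nsmul_eq_mul, Nat.cast_ofNat, hσy, map_ofNat,
      zero_mul, zero_pow two_ne_zero, pow_one, Nat.add_one_sub_one, map_zero]
  rw [map_sub, map_mul, map_mul, s00, s11, s01, s10]
  simp only [map_sub, map_mul, map_pow, map_ofNat]
  ring

/-- **Morse lemma**, algebraic core. -/
theorem morse_core {C B K : Type u} [CommRing C] [CommRing B] [Algebra C B] [Field K] [IsAlgClosed K]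
    (y : Fin 2 → B) (hy : IsEtaleCoord C y) (σ : B →ₐ[C] C) (hker : RingHom.ker σ = Ideal.span (Set.range y))
    (h : B) (hd : ∀ i, σ (hy.pd i h) = 0) (χ : C →+* K)
    (hH : χ (σ (hy.pd 0 (hy.pd 0 h) * hy.pd 1 (hy.pd 1 h) - hy.pd 0 (hy.pd 1 h) * hy.pd 1 (hy.pd 0 h))) ≠ 0) :
    ∃ (B' : Type u) (_ : CommRing B') (_ : Algebra B B') (_ : Algebra C B') (_ : IsScalarTower C B B')
      (u v : B') (χ' : B' →+* K), Algebra.Etale B B' ∧ IsEtaleCoord C ![u, v] ∧
      algebraMap B B' h = u * v + algebraMap C B' (σ h) ∧ ∀ b, χ' (algebraMap B B' b) = χ (σ b) := by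
  obtain ⟨α, β, γ, hexp, hhess⟩ := exists_expansion y hy σ hker h hd
  have hσy : ∀ i, σ (y i) = 0 := by
    intro i
    have : y i ∈ RingHom.ker σ := by
      rw [hker]
      exact Ideal.subset_span ⟨i, rfl⟩
    exact this
  rw [hhess] at hH
  obtain ⟨B₁, _, _, q, θ₁, het₁, hq, hθ₁, hθ₁'⟩ := exists_etale_root (χ.comp σ.toRingHom) α β γ (by
    intro h0
    apply hH
    have : (4 * α * γ - β ^ 2 : B) = -(β ^ 2 - 4 * α * γ) := by ring
    rw [this, map_neg, map_neg]
    rw [neg_eq_zero]
    exact h0)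
  replace hθ₁ : ∀ b, θ₁ (algebraMap B B₁ b) = χ (σ b) := hθ₁
  letI : Algebra C B₁ := ((algebraMap B B₁).comp (algebraMap C B)).toAlgebra
  haveI : IsScalarTower C B B₁ := IsScalarTower.of_algebraMap_eq' rfl
  have hy₁ := hy.comp (IsScalarTower.toAlgHom C B B₁) (RingHom.etale_algebraMap.mpr het₁)
  -- the new coordinates
  let a : B₁ := algebraMap B B₁ α
  let b : B₁ := algebraMap B B₁ β
  let Y : Fin 2 → B₁ := fun i => IsScalarTower.toAlgHom C B B₁ (y i)
  let u : B₁ := Y 0 + q * Y 1
  let v : B₁ := a * Y 0 + (b - q * a) * Y 1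
  have hθY : ∀ i, θ₁ (Y i) = 0 := by
    intro i
    have : θ₁ (Y i) = χ (σ (y i)) := hθ₁ _
    rw [this, hσy, map_zero]
  let J : B₁ := (Matrix.of fun i j => hy₁.pd i ((![u, v] : Fin 2 → B₁) j)).det
  have h00 : hy₁.pd 0 (Y 0) = 1 := by
    have := hy₁.pd_coord 0 0
    simpa only [Fin.isValue, reduceIte, zero_ne_one, one_ne_zero] using this
  have h01 : hy₁.pd 0 (Y 1) = 0 := by
    have := hy₁.pd_coord 0 1
    simpa only [Fin.isValue, reduceIte, zero_ne_one, one_ne_zero] using this
  have h10 : hy₁.pd 1 (Y 0) = 0 := by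
    have := hy₁.pd_coord 1 0
    simpa only [Fin.isValue, reduceIte, zero_ne_one, one_ne_zero] using this
  have h11 : hy₁.pd 1 (Y 1) = 1 := by
    have := hy₁.pd_coord 1 1
    simpa only [Fin.isValue, reduceIte, zero_ne_one, one_ne_zero] using this
  have hJ : J = hy₁.pd 0 u * hy₁.pd 1 v - hy₁.pd 0 v * hy₁.pd 1 u := by
    simp only [J, Matrix.det_fin_two, Matrix.of_apply, Matrix.cons_val_zero, Matrix.cons_val_one]
  have hθJ : θ₁ J = - θ₁ (2 * algebraMap B B₁ α * q - algebraMap B B₁ β) := by
    rw [hJ]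
    simp only [u, v, map_add, Derivation.leibniz, map_sub, map_mul, h00, h01, h10, h11, smul_eq_mul,
      mul_zero, mul_one, zero_add, add_zero, hθY, zero_mul, map_one]
    simp only [a, b, map_ofNat]
    ring
  have hθJ' : IsUnit (θ₁ J) := by
    rw [isUnit_iff_ne_zero, hθJ]
    exact neg_ne_zero.mpr hθ₁'
  let B₂ := Localization.Away J
  have het₂ : Algebra.Etale B₁ B₂ := Algebra.Etale.of_isLocalizationAway J
  have hy₂ := hy₁.comp (IsScalarTower.toAlgHom C B₁ B₂) (RingHom.etale_algebraMap.mpr het₂)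
  have hpd : ∀ (i : Fin 2) (z : B₁), hy₂.pd i (algebraMap B₁ B₂ z) = algebraMap B₁ B₂ (hy₁.pd i z) := by
    intro i z
    have := hy₁.der_ext (M := B₂) ((hy₂.pd i).compAlgebraMap B₁)
      ((Algebra.linearMap B₁ B₂).compDer (hy₁.pd i)) (fun j => by
        have e1 := hy₂.pd_coord i j
        have e2 := hy₁.pd_coord i j
        have e3 : ((hy₂.pd i).compAlgebraMap B₁) ((IsScalarTower.toAlgHom C B B₁) (y j)) =
          hy₂.pd i ((IsScalarTower.toAlgHom C B₁ B₂) ((IsScalarTower.toAlgHom C B B₁) (y j))) := rfl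
        have e4 : ((Algebra.linearMap B₁ B₂).compDer (hy₁.pd i)) ((IsScalarTower.toAlgHom C B B₁) (y j)) =
          algebraMap B₁ B₂ (hy₁.pd i ((IsScalarTower.toAlgHom C B B₁) (y j))) := rfl
        rw [e3, e1, e4, e2]
        split_ifs <;> simp)
    exact DFunLike.congr_fun this z
  have hJ₂ : IsUnit (Matrix.of fun i j => hy₂.pd i
      ((![algebraMap B₁ B₂ u, algebraMap B₁ B₂ v] : Fin 2 → B₂) j)).det := by
    have : (Matrix.of fun i j => hy₂.pd i
      ((![algebraMap B₁ B₂ u, algebraMap B₁ B₂ v] : Fin 2 → B₂) j)).det = algebraMap B₁ B₂ J := by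
      simp only [hJ, Matrix.det_fin_two, Matrix.of_apply, Matrix.cons_val_zero, Matrix.cons_val_one, hpd,
        map_sub, map_mul]
    rw [this]
    exact IsLocalization.Away.algebraMap_isUnit J
  have huv := hy₂.of_isUnit_det _ hJ₂
  haveI : IsScalarTower C B B₂ := IsScalarTower.of_algebraMap_eq' (by
    ext c
    rw [IsScalarTower.algebraMap_apply C B₁ B₂, RingHom.comp_apply, IsScalarTower.algebraMap_apply B B₁ B₂,
      IsScalarTower.algebraMap_apply C B B₁])
  refine ⟨B₂, inferInstance, inferInstance, inferInstance, inferInstance, algebraMap B₁ B₂ u,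
    algebraMap B₁ B₂ v, IsLocalization.Away.lift J hθJ', Algebra.Etale.comp B B₁ B₂, huv, ?_, ?_⟩
  · have e : algebraMap B B₁ h = u * v + algebraMap C B₁ (σ h) := by
      conv_lhs => rw [hexp]
      simp only [map_add, map_mul, map_pow, u, v, a, b, Y, IsScalarTower.coe_toAlgHom',
        ← IsScalarTower.algebraMap_apply C B B₁]
      linear_combination ((algebraMap B B₁ (y 1)) ^ 2) * hq
    rw [IsScalarTower.algebraMap_apply B B₁ B₂, e, map_add, map_mul,
      ← IsScalarTower.algebraMap_apply C B₁ B₂]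
  · intro z
    rw [IsScalarTower.algebraMap_apply B B₁ B₂, IsLocalization.Away.lift_eq]
    exact hθ₁ z

end Groth.Agent.CurvesC.MorseCore
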