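import Mathlib.RingTheory.PowerSeries.WeierstrassPreparation
import Mathlib.RingTheory.PowerSeries.NoZeroDivisors
import Mathlib.RingTheory.MvPowerSeries.Evaluation
import Mathlib.RingTheory.MvPowerSeries.Inverse
import Mathlib.RingTheory.MvPowerSeries.NoZeroDivisors
import Mathlib.RingTheory.MvPowerSeries.Equiv
import Mathlib.RingTheory.AdicCompletion.Completeness
import Mathlib.RingTheory.AdicCompletion.LocalRing
import Mathlib.RingTheory.AdicCompletion.Topology
import Mathlib.RingTheory.AdicCompletion.AsTensorProduct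
import Mathlib.RingTheory.AdicCompletion.Noetherian
import Mathlib.RingTheory.Ideal.AssociatedPrime.Finiteness
import Mathlib.RingTheory.Regular.Flat
import Mathlib.RingTheory.Smooth.AdicCompletion
import Mathlib.RingTheory.Etale.Field
import Mathlib.Algebra.Module.SpanRankOperations
import Mathlib.Tactic

/-!
# Algebra for nodal singularities (Stacks 0C49)

Weierstrass normal forms modulo a nondegenerate binary quadratic form, the Hensel-type lifting of an
approximate zero of a nondegenerate quadratic form, evaluation of multivariate power series in adically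
complete rings, coefficient fields for separable residue extensions.
-/

namespace Groth.Agent.CurvesC.NodalAlg

open PowerSeries IsLocalRing

section Quad

variable {D : Type*} [CommRing D] (v b c : D)

/-- The monic quadratic `X² + b v X + c v²` as a polynomial. -/
noncomputable def quadPoly : Polynomial D :=
  Polynomial.X ^ 2 + Polynomial.C (b * v) * Polynomial.X + Polynomial.C (c * v ^ 2)

/-- The monic quadratic as a power series. -/
noncomputable def quadSer : PowerSeries D := X ^ 2 + C (b * v) * X + C (c * v ^ 2)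

lemma quadPoly_coe : ((quadPoly v b c : Polynomial D) : PowerSeries D) = quadSer v b c := by
  simp [quadPoly, quadSer]

lemma quadPoly_natDegree [Nontrivial D] : (quadPoly v b c).natDegree = 2 := by
  unfold quadPoly
  compute_degree!

lemma quadPoly_monic : (quadPoly v b c).Monic := by
  nontriviality D
  unfold quadPoly
  monicity!

lemma quadPoly_isDistinguished [Nontrivial D] :
    (quadPoly v b c).IsDistinguishedAt (Ideal.span {v}) := by
  refine ⟨⟨fun {n} hn => ?_⟩, quadPoly_monic v b c⟩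
  rw [quadPoly_natDegree] at hn
  interval_cases n
  · have : (quadPoly v b c).coeff 0 = c * v ^ 2 := by
      simp only [quadPoly, Polynomial.coeff_add, Polynomial.coeff_X_pow, Polynomial.coeff_C_mul,
        Polynomial.coeff_X_zero, Polynomial.coeff_C_zero]
      simp
    rw [this, Ideal.mem_span_singleton]
    exact Dvd.dvd.mul_left (dvd_pow_self v two_ne_zero) c
  · have : (quadPoly v b c).coeff 1 = b * v := by
      simp only [quadPoly, Polynomial.coeff_add, Polynomial.coeff_X_pow, Polynomial.coeff_C_mul,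
        Polynomial.coeff_X_one, Polynomial.coeff_C]
      simp
    rw [this, Ideal.mem_span_singleton]
    exact Dvd.intro_left b rfl

lemma quad_order [Nontrivial (D ⧸ Ideal.span {v})] :
    ((quadSer v b c).map (Ideal.Quotient.mk (Ideal.span {v}))).order.toNat = 2 := by
  have h : (quadSer v b c).map (Ideal.Quotient.mk (Ideal.span {v})) = X ^ 2 := by
    simp [quadSer]
  rw [h, PowerSeries.order_X_pow]
  rfl

lemma quad_div [IsAdicComplete (Ideal.span {v}) D] (hv : Ideal.span {v} ≠ ⊤) (g : PowerSeries D) :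
    ∃ (h : PowerSeries D) (d₁ d₂ : D), g = quadSer v b c * h + (C d₁ + C d₂ * X) := by
  have : Nontrivial (D ⧸ Ideal.span {v}) := Ideal.Quotient.nontrivial_iff.mpr hv
  have : Nontrivial D := (Ideal.Quotient.mk (Ideal.span {v})).domain_nontrivial
  have H : (quadSer v b c).IsWeierstrassDivisorAt (Ideal.span {v}) := by
    rw [← quadPoly_coe]
    exact (quadPoly_isDistinguished v b c).isWeierstrassDivisorAt hv
  have h := H.isWeierstrassDivisionAt_div_mod g
  refine ⟨H.div g, (H.mod g).coeff 0, (H.mod g).coeff 1, ?_⟩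
  have h1 := h.degree_lt
  rw [quad_order] at h1
  conv_lhs => rw [h.eq_mul_add]
  congr 1
  have h2 : H.mod g = Polynomial.C ((H.mod g).coeff 0) + Polynomial.C ((H.mod g).coeff 1) * Polynomial.X := by
    ext n
    by_cases hn : n < 2
    · interval_cases n <;> simp [Polynomial.coeff_C]
    · rw [Polynomial.coeff_eq_zero_of_degree_lt (lt_of_lt_of_le h1 (by exact_mod_cast not_lt.mp hn))]
      match n, hn with
      | (n+2), _ => simp
      | 0, h => exact absurd (by norm_num) h
      | 1, h => exact absurd (by norm_num) h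
  conv_lhs => rw [h2]
  simp

lemma quad_uniq [IsAdicComplete (Ideal.span {v}) D] (hv : Ideal.span {v} ≠ ⊤) (d₁ d₂ : D)
    (h : (C d₁ + C d₂ * X : PowerSeries D) ∈ Ideal.span {quadSer v b c}) : d₁ = 0 ∧ d₂ = 0 := by
  have : Nontrivial (D ⧸ Ideal.span {v}) := Ideal.Quotient.nontrivial_iff.mpr hv
  have : Nontrivial D := (Ideal.Quotient.mk (Ideal.span {v})).domain_nontrivial
  have H : (quadSer v b c).IsWeierstrassDivisorAt (Ideal.span {v}) := by
    rw [← quadPoly_coe]
    exact (quadPoly_isDistinguished v b c).isWeierstrassDivisorAt hv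
  rw [Ideal.mem_span_singleton] at h
  obtain ⟨q, hq⟩ := h
  have h1 := H.eq_zero_of_mul_eq (q := q) (r := Polynomial.C d₁ + Polynomial.C d₂ * Polynomial.X)
    (by
      rw [quad_order]
      compute_degree!)
    (by rw [← hq]; simp)
  have h2 := h1.2
  have e0 := congrArg (fun p => Polynomial.coeff p 0) h2
  have e1 := congrArg (fun p => Polynomial.coeff p 1) h2
  simp [Polynomial.coeff_C] at e0 e1
  exact ⟨e0, e1⟩

lemma quad_reduced [IsDomain D] [IsAdicComplete (Ideal.span {v}) D] (hv : Ideal.span {v} ≠ ⊤)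
    (hv0 : v ≠ 0) (hd : 4 * c - b ^ 2 ≠ 0) (z : PowerSeries D)
    (hz : z ^ 2 ∈ Ideal.span {quadSer v b c}) : z ∈ Ideal.span {quadSer v b c} := by
  obtain ⟨h, d₁, d₂, rfl⟩ := quad_div v b c hv z
  have key : (C (d₁ ^ 2 - c * v ^ 2 * d₂ ^ 2) + C (2 * d₁ * d₂ - b * v * d₂ ^ 2) * X : PowerSeries D) ∈
      Ideal.span {quadSer v b c} := by
    have e : (C (d₁ ^ 2 - c * v ^ 2 * d₂ ^ 2) + C (2 * d₁ * d₂ - b * v * d₂ ^ 2) * X : PowerSeries D) =
      (quadSer v b c * h + (C d₁ + C d₂ * X)) ^ 2 - quadSer v b c * (quadSer v b c * h ^ 2 +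
        2 * h * (C d₁ + C d₂ * X) + C d₂ ^ 2) := by
      simp only [quadSer, map_sub, map_mul, map_pow, map_ofNat]
      ring
    rw [e]
    exact Ideal.sub_mem _ hz (Ideal.mul_mem_right _ _ (Ideal.mem_span_singleton_self _))
  obtain ⟨e1, e2⟩ := quad_uniq v b c hv _ _ key
  have hd2 : d₂ = 0 := by
    by_contra hne
    have e3 : 2 * d₁ = b * v * d₂ := by
      have : d₂ * (2 * d₁ - b * v * d₂) = 0 := by linear_combination e2
      rcases mul_eq_zero.mp this with h | h
      · exact absurd h hne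
      · linear_combination h
    have e4 : (4 * c - b ^ 2) * (v ^ 2 * d₂ ^ 2) = 0 := by
      linear_combination (-4) * e1 + (2 * d₁ + b * v * d₂) * e3
    rcases mul_eq_zero.mp e4 with h | h
    · exact hd h
    · rcases mul_eq_zero.mp h with h | h
      · exact hv0 (pow_eq_zero_iff (two_ne_zero) |>.mp h)
      · exact hne (pow_eq_zero_iff (two_ne_zero) |>.mp h)
  have hd1 : d₁ = 0 := by
    subst hd2
    have : d₁ ^ 2 = 0 := by linear_combination e1
    exact pow_eq_zero_iff (two_ne_zero) |>.mp this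
  subst hd1 hd2
  simpa using Ideal.mul_mem_right _ _ (Ideal.mem_span_singleton_self _)

end Quad

section Hensel

variable {B : Type*} [CommRing B] (J : Ideal B)

/-- the quadratic form -/
def qf (a b c x y : B) : B := a * x ^ 2 + b * x * y + c * y ^ 2

lemma lin_mem_span {a b c x y : B} (hu : IsUnit (4 * a * c - b ^ 2)) (hJ : J = Ideal.span {x, y}) :
    J = Ideal.span {2 * a * x + b * y, b * x + 2 * c * y} := by
  obtain ⟨u, hu⟩ := hu
  rw [hJ]
  apply le_antisymm
  · rw [Ideal.span_le]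
    have e : (↑u⁻¹ : B) * (4 * a * c - b ^ 2) = 1 := by rw [← hu]; exact u.inv_mul
    rintro z (rfl | rfl)
    · refine Ideal.mem_span_pair.mpr ⟨↑u⁻¹ * (2 * c), ↑u⁻¹ * (-b), ?_⟩
      linear_combination z * e
    · refine Ideal.mem_span_pair.mpr ⟨↑u⁻¹ * (-b), ↑u⁻¹ * (2 * a), ?_⟩
      linear_combination z * e
  · rw [Ideal.span_le]
    rintro z (rfl | rfl)
    · exact Ideal.mem_span_pair.mpr ⟨2 * a, b, by ring⟩
    · exact Ideal.mem_span_pair.mpr ⟨b, 2 * c, by ring⟩

lemma step {a b c x y : B} (hu : IsUnit (4 * a * c - b ^ 2)) (hJ : J = Ideal.span {x, y})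
    (n : ℕ) (x' y' : B) (hx : x' - x ∈ J ^ 2) (hy : y' - y ∈ J ^ 2)
    (hq : qf a b c x' y' ∈ J ^ (n + 3)) :
    ∃ x'' y'', x'' - x' ∈ J ^ (n + 2) ∧ y'' - y' ∈ J ^ (n + 2) ∧ qf a b c x'' y'' ∈ J ^ (n + 4) := by
  have h1 : J ^ (n + 3) = Ideal.span {2 * a * x + b * y, b * x + 2 * c * y} * J ^ (n + 2) := by
    rw [← lin_mem_span J hu hJ, ← pow_succ']
  rw [h1, Ideal.span_insert, Ideal.sup_mul] at hq
  obtain ⟨s, hs, t, ht, hst⟩ := Submodule.mem_sup.mp hq
  obtain ⟨h, hh, rfl⟩ := Ideal.mem_span_singleton_mul.mp hs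
  obtain ⟨k, hk, rfl⟩ := Ideal.mem_span_singleton_mul.mp ht
  refine ⟨x' - h, y' - k, by simpa using hh, by simpa using hk, ?_⟩
  have e : qf a b c (x' - h) (y' - k) = - ((2 * a * (x' - x) + b * (y' - y)) * h
      + (b * (x' - x) + 2 * c * (y' - y)) * k) + (a * h ^ 2 + b * h * k + c * k ^ 2) := by
    have : qf a b c x' y' = a * x' ^ 2 + b * x' * y' + c * y' ^ 2 := rfl
    rw [this] at hst
    unfold qf
    linear_combination -hst
  rw [e]
  have m1 : ∀ s ∈ J ^ 2, ∀ t ∈ J ^ (n + 2), s * t ∈ J ^ (n + 4) := fun s hs t ht => by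
    have := Ideal.mul_mem_mul hs ht
    rwa [← pow_add, show 2 + (n + 2) = n + 4 by ring] at this
  have m2 : ∀ s ∈ J ^ (n + 2), ∀ t ∈ J ^ (n + 2), s * t ∈ J ^ (n + 4) := fun s hs t ht =>
    m1 s (Ideal.pow_le_pow_right (by omega) hs) t ht
  refine Ideal.add_mem _ (neg_mem (Ideal.add_mem _ ?_ ?_)) (Ideal.add_mem _ (Ideal.add_mem _ ?_ ?_) ?_)
  · exact m1 _ (Ideal.add_mem _ (Ideal.mul_mem_left _ _ hx) (Ideal.mul_mem_left _ _ hy)) _ hh
  · exact m1 _ (Ideal.add_mem _ (Ideal.mul_mem_left _ _ hx) (Ideal.mul_mem_left _ _ hy)) _ hk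
  · rw [pow_two]; exact Ideal.mul_mem_left _ _ (m2 _ hh _ hh)
  · rw [mul_assoc]; exact Ideal.mul_mem_left _ _ (m2 _ hh _ hk)
  · rw [pow_two]; exact Ideal.mul_mem_left _ _ (m2 _ hk _ hk)

theorem exists_exact_zero [IsAdicComplete J B] {a b c x y : B} (hu : IsUnit (4 * a * c - b ^ 2))
    (hJ : J = Ideal.span {x, y}) (hq : qf a b c x y ∈ J ^ 3) :
    ∃ x' y', x' - x ∈ J ^ 2 ∧ y' - y ∈ J ^ 2 ∧ qf a b c x' y' = 0 := by
  classical
  -- the sequence of approximations
  let P : ℕ → Type _ := fun n => {p : B × B // p.1 - x ∈ J ^ 2 ∧ p.2 - y ∈ J ^ 2 ∧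
    qf a b c p.1 p.2 ∈ J ^ (n + 3)}
  have stp : ∀ n (p : P n), ∃ p' : P (n + 1), p'.1.1 - p.1.1 ∈ J ^ (n + 2) ∧
      p'.1.2 - p.1.2 ∈ J ^ (n + 2) := by
    rintro n ⟨⟨x', y'⟩, h1, h2, h3⟩
    obtain ⟨x'', y'', h4, h5, h6⟩ := step J hu hJ n x' y' h1 h2 h3
    refine ⟨⟨⟨x'', y''⟩, ?_, ?_, h6⟩, h4, h5⟩
    · have := Ideal.add_mem _ (Ideal.pow_le_pow_right (by omega) h4) h1
      simpa using this
    · have := Ideal.add_mem _ (Ideal.pow_le_pow_right (by omega) h5) h2
      simpa using this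
  choose nxt hn1 hn2 using stp
  let s : ∀ n, P n := fun n => Nat.rec ⟨⟨x, y⟩, by simp, by simp, hq⟩ (fun n p => nxt n p) n
  have hs1 : ∀ n, (s (n + 1)).1.1 - (s n).1.1 ∈ J ^ (n + 2) := fun n => hn1 n (s n)
  have hs2 : ∀ n, (s (n + 1)).1.2 - (s n).1.2 ∈ J ^ (n + 2) := fun n => hn2 n (s n)
  have cau : ∀ f : ℕ → B, (∀ n, f (n + 1) - f n ∈ J ^ (n + 2)) →
      ∃ L, ∀ n, f n - L ∈ J ^ n := by
    intro f hf
    have h1 : ∀ {m n}, m ≤ n → f m ≡ f n [SMOD (J ^ m • ⊤ : Submodule B B)] := by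
      intro m n hmn
      induction n, hmn using Nat.le_induction with
      | base => rfl
      | succ n hmn ih =>
        refine ih.trans ?_
        rw [SModEq.sub_mem, smul_eq_mul, Ideal.mul_top, ← neg_mem_iff, neg_sub]
        exact Ideal.pow_le_pow_right (by omega) (hf n)
    obtain ⟨L, hL⟩ := IsPrecomplete.prec' f h1
    refine ⟨L, fun n => ?_⟩
    have := hL n
    rwa [SModEq.sub_mem, smul_eq_mul, Ideal.mul_top] at this
  obtain ⟨L, hL⟩ := cau (fun n => (s n).1.1) hs1
  obtain ⟨M, hM⟩ := cau (fun n => (s n).1.2) hs2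
  refine ⟨L, M, ?_, ?_, ?_⟩
  · have h1 := (s 2).2.1
    have h2 := hL 2
    have := Ideal.sub_mem _ h1 h2
    simpa using this
  · have h1 := (s 2).2.2.1
    have h2 := hM 2
    have := Ideal.sub_mem _ h1 h2
    simpa using this
  · refine IsHausdorff.haus' (I := J) _ fun n => ?_
    rw [SModEq.zero, smul_eq_mul, Ideal.mul_top]
    have h1 := (s n).2.2.2
    have h2 := hL n
    have h3 := hM n
    have e : qf a b c L M = qf a b c (s n).1.1 (s n).1.2
      - ((s n).1.1 - L) * (a * ((s n).1.1 + L) + b * M)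
      - ((s n).1.2 - M) * (b * (s n).1.1 + c * ((s n).1.2 + M)) := by
      unfold qf; ring
    rw [e]
    exact Ideal.sub_mem _ (Ideal.sub_mem _ (Ideal.pow_le_pow_right (by omega) h1)
      (Ideal.mul_mem_right _ _ h2)) (Ideal.mul_mem_right _ _ h3)

end Hensel

section Eval

theorem exists_evalHom {κ B σ : Type*} [CommRing κ] [CommRing B] [Algebra κ B] [Finite σ] (J : Ideal B)
    [hJ : IsAdicComplete J B] (x : σ → B) (hx : ∀ i, x i ∈ J) :
    ∃ φ : MvPowerSeries σ κ →ₐ[κ] B, ∀ i, φ (MvPowerSeries.X i) = x i := by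
  let : WithIdeal B := ⟨J⟩
  let : UniformSpace κ := ⊥
  have : DiscreteTopology κ := ⟨rfl⟩
  obtain ⟨h1, h2⟩ := (IsAdic.isAdicComplete_iff (R := B) (I := J) rfl).mp hJ
  have : IsUniformAddGroup κ := inferInstance
  have : ContinuousSMul κ B := continuousSMul_of_algebraMap _ _ (continuous_of_discreteTopology)
  have hE : MvPowerSeries.HasEval x := by
    refine ⟨fun s => ?_, ?_⟩
    · have hb := (show IsAdic J from rfl).hasBasis_nhds_zero
      unfold IsTopologicallyNilpotent
      rw [hb.tendsto_right_iff]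
      intro n _
      rw [Filter.eventually_atTop]
      exact ⟨n, fun m hm => Ideal.pow_le_pow_right hm (Ideal.pow_mem_pow (hx s) m)⟩
    · rw [Filter.cofinite_eq_bot]; exact Filter.tendsto_bot
  refine ⟨MvPowerSeries.aeval hE, fun i => ?_⟩
  rw [MvPowerSeries.coe_aeval hE, MvPowerSeries.eval₂_X]

theorem evalHom_surjective {κ B σ : Type*} [CommRing κ] [CommRing B] [Algebra κ B] [Finite σ] (J : Ideal B)
    [hJ : IsAdicComplete J B] (x : σ → B) (hx : J = Ideal.span (Set.range x))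
    (hs : ∀ b : B, ∃ t : κ, b - algebraMap κ B t ∈ J)
    (φ : MvPowerSeries σ κ →ₐ[κ] B) (hφ : ∀ i, φ (MvPowerSeries.X i) = x i) :
    Function.Surjective φ := by
  have h1 : (Ideal.span (Set.range (MvPowerSeries.X (R := κ) (σ := σ)))).map (φ : MvPowerSeries σ κ →+* B) = J := by
    rw [Ideal.map_span, hx, ← Set.range_comp]
    congr 2
    ext i
    simp [hφ]
  have : IsHausdorff ((Ideal.span (Set.range (MvPowerSeries.X (R := κ) (σ := σ)))).map (φ : MvPowerSeries σ κ →+* B)) B := by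
    rw [h1]; infer_instance
  refine surjective_of_mk_map_comp_surjective (I := Ideal.span (Set.range (MvPowerSeries.X (R := κ) (σ := σ))))
    (φ : MvPowerSeries σ κ →+* B) ?_
  intro b
  obtain ⟨b, rfl⟩ := Ideal.Quotient.mk_surjective b
  obtain ⟨t, ht⟩ := hs b
  refine ⟨algebraMap κ _ t, ?_⟩
  rw [RingHom.comp_apply, Ideal.Quotient.eq, h1, ← neg_mem_iff, neg_sub]
  simpa using ht

end Eval

section Transport

variable (κ : Type*) [Field κ]

/-- One-variable power series (as `MvPowerSeries (Fin 1)`). -/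
abbrev DD := MvPowerSeries (Fin 1) κ

/-- The variable. -/
noncomputable abbrev vv : DD κ := MvPowerSeries.X 0

instance adicDD : IsAdicComplete (Ideal.span {vv κ}) (DD κ) := by
  have : IsAdicComplete (.span (.range MvPowerSeries.X) : Ideal (MvPowerSeries (Fin 1) κ))
    (MvPowerSeries (Fin 1) κ) := inferInstance
  rwa [Set.range_unique] at this

instance isDomainDD : IsDomain (DD κ) := NoZeroDivisors.to_isDomain _

lemma vv_dvd_iff (d : DD κ) : vv κ ∣ d ↔ MvPowerSeries.constantCoeff d = 0 := by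
  rw [MvPowerSeries.X_dvd_iff]
  constructor
  · intro h; exact h 0 rfl
  · intro h m hm
    have : m = 0 := Finsupp.ext (fun i => by fin_cases i; exact hm)
    rw [this]; exact h

lemma isUnit_or_dvd (d : DD κ) : IsUnit d ∨ vv κ ∣ d := by
  rw [vv_dvd_iff, MvPowerSeries.isUnit_iff_constantCoeff, isUnit_iff_ne_zero]
  tauto

lemma span_vv_ne_top : Ideal.span {vv κ} ≠ ⊤ := by
  rw [Ne, Ideal.span_singleton_eq_top, MvPowerSeries.isUnit_iff_constantCoeff]
  simp

lemma vv_ne_zero : vv κ ≠ 0 := by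
  intro h
  have := congrArg (MvPowerSeries.coeff (Finsupp.single 0 1)) h
  simp [vv] at this

/-- The identification `κ⟦u,v⟧ = κ⟦v⟧⟦u⟧`. -/
noncomputable abbrev EE : MvPowerSeries (Fin 2) κ ≃ₐ[κ] PowerSeries (DD κ) :=
  MvPowerSeries.finSuccEquiv κ 1

/-- The quadratic form as a power series `a u² + b u v + c v²`. -/
noncomputable def QQ (a b c : κ) : MvPowerSeries (Fin 2) κ :=
  MvPowerSeries.C a * MvPowerSeries.X 0 ^ 2 + MvPowerSeries.C b * MvPowerSeries.X 0 * MvPowerSeries.X 1 +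
                MvPowerSeries.C c * MvPowerSeries.X 1 ^ 2

lemma EE_X0 : EE κ (MvPowerSeries.X 0) = X := MvPowerSeries.finSuccEquiv_X_zero
lemma EE_X1 : EE κ (MvPowerSeries.X 1) = C (vv κ) := MvPowerSeries.finSuccEquiv_X_succ 0
lemma EE_C (t : κ) : EE κ (MvPowerSeries.C t) = C (MvPowerSeries.C t) := by
  simp

lemma EE_QQ (b c : κ) : EE κ (QQ κ 1 b c) = quadSer (vv κ) (MvPowerSeries.C b) (MvPowerSeries.C c) := by
  unfold QQ quadSer
  simp only [map_add, map_mul, map_pow, EE_X0, EE_X1, EE_C, map_one, one_mul]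
  ring

lemma QQ_div (b c : κ) (g : MvPowerSeries (Fin 2) κ) :
    ∃ (h : MvPowerSeries (Fin 2) κ) (d₁ d₂ : DD κ),
      g = QQ κ 1 b c * h + ((EE κ).symm (C d₁) + (EE κ).symm (C d₂) * MvPowerSeries.X 0) := by
  obtain ⟨h, d₁, d₂, e⟩ := quad_div (vv κ) (MvPowerSeries.C b) (MvPowerSeries.C c)
    (span_vv_ne_top κ) (EE κ g)
  refine ⟨(EE κ).symm h, d₁, d₂, (EE κ).injective ?_⟩
  rw [e]
  simp only [map_add, map_mul, AlgEquiv.apply_symm_apply, EE_QQ, EE_X0]

lemma QQ_uniq (b c : κ) (d₁ d₂ : DD κ)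
    (h : ((EE κ).symm (C d₁) + (EE κ).symm (C d₂) * MvPowerSeries.X 0) ∈ Ideal.span {QQ κ 1 b c}) :
    d₁ = 0 ∧ d₂ = 0 := by
  refine quad_uniq (vv κ) (MvPowerSeries.C b) (MvPowerSeries.C c) (span_vv_ne_top κ) d₁ d₂ ?_
  rw [Ideal.mem_span_singleton] at h ⊢
  have := map_dvd (EE κ) h
  simpa only [map_add, map_mul, AlgEquiv.apply_symm_apply, EE_QQ, EE_X0] using this

lemma QQ_reduced_one (b c : κ) (hd : 4 * c - b ^ 2 ≠ 0) (z : MvPowerSeries (Fin 2) κ)
    (hz : z ^ 2 ∈ Ideal.span {QQ κ 1 b c}) : z ∈ Ideal.span {QQ κ 1 b c} := by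
  have h := quad_reduced (vv κ) (MvPowerSeries.C b) (MvPowerSeries.C c) (span_vv_ne_top κ)
    (vv_ne_zero κ) (by
      intro h
      apply hd
      have := congrArg MvPowerSeries.constantCoeff h
      simpa only [map_sub, map_mul, map_pow, map_ofNat, MvPowerSeries.constantCoeff_C, map_zero]
        using this) (EE κ z) (by
      rw [Ideal.mem_span_singleton] at hz ⊢
      have := map_dvd (EE κ) hz
      simpa only [map_pow, EE_QQ] using this)
  rw [Ideal.mem_span_singleton] at h ⊢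
  have := map_dvd (EE κ).symm h
  rw [← EE_QQ] at this
  simpa only [AlgEquiv.symm_apply_apply] using this

/-- The swap of the two variables. -/
noncomputable abbrev SW : MvPowerSeries (Fin 2) κ ≃ₐ[κ] MvPowerSeries (Fin 2) κ :=
  MvPowerSeries.renameEquiv κ (Equiv.swap 0 1)

lemma SW_X0 : SW κ (MvPowerSeries.X 0) = MvPowerSeries.X 1 := by
  simp [SW, MvPowerSeries.renameEquiv, MvPowerSeries.rename_X]

lemma SW_X1 : SW κ (MvPowerSeries.X 1) = MvPowerSeries.X 0 := by
  simp [SW, MvPowerSeries.renameEquiv, MvPowerSeries.rename_X]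

lemma SW_C (t : κ) : SW κ (MvPowerSeries.C t) = MvPowerSeries.C t := by
  simp [SW, MvPowerSeries.renameEquiv, MvPowerSeries.rename_C]

lemma X0_prime : Prime (MvPowerSeries.X 0 : MvPowerSeries (Fin 2) κ) := by
  rw [← MulEquiv.prime_iff (EE κ).toMulEquiv]
  show Prime (EE κ (MvPowerSeries.X 0))
  rw [EE_X0]
  exact PowerSeries.X_prime

lemma X1_prime : Prime (MvPowerSeries.X 1 : MvPowerSeries (Fin 2) κ) := by
  rw [← MulEquiv.prime_iff (SW κ).toMulEquiv]
  show Prime (SW κ (MvPowerSeries.X 1))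
  rw [SW_X1]
  exact X0_prime κ

lemma X1_not_dvd_X0 : ¬ (MvPowerSeries.X 1 : MvPowerSeries (Fin 2) κ) ∣ MvPowerSeries.X 0 := by
  rw [MvPowerSeries.X_dvd_iff]
  intro h
  have := h (Finsupp.single 0 1) (by simp)
  simp [MvPowerSeries.coeff_X] at this

lemma isUnit_C {t : κ} (ht : t ≠ 0) : IsUnit (MvPowerSeries.C t : MvPowerSeries (Fin 2) κ) :=
  (isUnit_iff_ne_zero.mpr ht).map _

lemma QQ_reduced_of_ne_zero (a b c : κ) (ha : a ≠ 0) (hd : 4 * a * c - b ^ 2 ≠ 0)
    (z : MvPowerSeries (Fin 2) κ)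
    (hz : z ^ 2 ∈ Ideal.span {QQ κ a b c}) : z ∈ Ideal.span {QQ κ a b c} := by
  have e : QQ κ a b c = QQ κ 1 (b / a) (c / a) * MvPowerSeries.C a := by
    have e1 : (MvPowerSeries.C b : MvPowerSeries (Fin 2) κ) = MvPowerSeries.C (b / a) * MvPowerSeries.C a := by
      rw [← map_mul]; congr 1; field_simp
    have e2 : (MvPowerSeries.C c : MvPowerSeries (Fin 2) κ) = MvPowerSeries.C (c / a) * MvPowerSeries.C a := by
      rw [← map_mul]; congr 1; field_simp
    unfold QQ
    rw [e1, e2, map_one]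
    ring
  rw [e, Ideal.span_singleton_mul_right_unit (isUnit_C κ ha)] at hz ⊢
  refine QQ_reduced_one κ _ _ ?_ z hz
  intro h
  apply hd
  field_simp at h
  linear_combination h

lemma QQ_reduced (a b c : κ) (hd : 4 * a * c - b ^ 2 ≠ 0)
    (z : MvPowerSeries (Fin 2) κ)
    (hz : z ^ 2 ∈ Ideal.span {QQ κ a b c}) : z ∈ Ideal.span {QQ κ a b c} := by
  by_cases ha : a = 0
  · by_cases hc : c = 0
    · subst ha hc
      have hb : b ≠ 0 := by
        rintro rfl
        simp at hd
      have e : QQ κ 0 b 0 = (MvPowerSeries.X 0 * MvPowerSeries.X 1) * MvPowerSeries.C b := by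
        unfold QQ
        rw [map_zero]
        ring
      rw [e, Ideal.span_singleton_mul_right_unit (isUnit_C κ hb), Ideal.mem_span_singleton] at hz ⊢
      have h0 : MvPowerSeries.X 0 ∣ z := (X0_prime κ).dvd_of_dvd_pow ((Dvd.intro _ rfl).trans hz)
      have h1 : MvPowerSeries.X 1 ∣ z := (X1_prime κ).dvd_of_dvd_pow ((Dvd.intro_left _ rfl).trans hz)
      obtain ⟨w, rfl⟩ := h0
      exact mul_dvd_mul_left _ (((X1_prime κ).dvd_or_dvd h1).resolve_left (X1_not_dvd_X0 κ))
    · have e : SW κ (QQ κ c b a) = QQ κ a b c := by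
        unfold QQ
        simp only [map_add, map_mul, map_pow, SW_X0, SW_X1, SW_C]
        ring
      have := QQ_reduced_of_ne_zero κ c b a hc (by rwa [mul_right_comm]) ((SW κ).symm z) (by
        rw [Ideal.mem_span_singleton] at hz ⊢
        have := map_dvd (SW κ).symm hz
        rwa [← e, map_pow, AlgEquiv.symm_apply_apply] at this)
      rw [Ideal.mem_span_singleton] at this ⊢
      have := map_dvd (SW κ) this
      rwa [e, AlgEquiv.apply_symm_apply] at this
  · exact QQ_reduced_of_ne_zero κ a b c ha hd z hz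

lemma QQ_quot_isReduced (a b c : κ) (hd : 4 * a * c - b ^ 2 ≠ 0) :
    IsReduced (MvPowerSeries (Fin 2) κ ⧸ Ideal.span {QQ κ a b c}) := by
  have h2 : ∀ z : MvPowerSeries (Fin 2) κ ⧸ Ideal.span {QQ κ a b c}, z ^ 2 = 0 → z = 0 := by
    intro z hz
    obtain ⟨z, rfl⟩ := Ideal.Quotient.mk_surjective z
    rw [← map_pow, Ideal.Quotient.eq_zero_iff_mem] at hz
    rw [Ideal.Quotient.eq_zero_iff_mem]
    exact QQ_reduced κ a b c hd z hz
  exact (isReduced_iff_pow_one_lt 2 (by norm_num)).mpr h2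
end Transport

section Kernel



theorem ker_eval {κ : Type*} [Field κ] {B : Type*} [CommRing B] [IsLocalRing B] [Algebra κ B]
    (φ : MvPowerSeries (Fin 2) κ →ₐ[κ] B) (x y : B)
    (hx : φ (MvPowerSeries.X 0) = x) (hy : φ (MvPowerSeries.X 1) = y)
    (hxm : x ∈ maximalIdeal B)
    (hxy : x ∉ Ideal.span {y}) (hreg : ∀ z, y * z = 0 → z = 0) (b c : κ)
    (hq : x ^ 2 + algebraMap κ B b * x * y + algebraMap κ B c * y ^ 2 = 0) :
    RingHom.ker φ = Ideal.span {QQ κ 1 b c} := by
  have hQ : φ (QQ κ 1 b c) = 0 := by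
    rw [← hq]
    unfold QQ
    have e : ∀ t, φ (MvPowerSeries.C t) = algebraMap κ B t := fun t => φ.commutes t
    simp only [map_add, map_mul, map_pow, hx, hy, e, map_one, one_mul]
  apply le_antisymm
  · intro g hg
    rw [RingHom.mem_ker] at hg
    obtain ⟨h, d₁, d₂, rfl⟩ := QQ_div κ b c g
    let ψ : DD κ → B := fun d => φ ((EE κ).symm (C d))
    have hψmul : ∀ d e, ψ (d * e) = ψ d * ψ e := fun d e => by simp [ψ]
    have hψv : ψ (vv κ) = y := by
      show φ ((EE κ).symm (C (vv κ))) = y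
      rw [← EE_X1, AlgEquiv.symm_apply_apply, hy]
    have hψu : ∀ d, IsUnit d → IsUnit (ψ d) := fun d hd =>
      ((hd.map (PowerSeries.C : DD κ →+* _)).map (EE κ).symm).map φ
    have h0 : ψ d₁ + ψ d₂ * x = 0 := by
      rw [← hg]
      simp [hQ, ψ, hx]
    have claim1 : ∀ d₁ d₂, ψ d₁ + ψ d₂ * x = 0 → vv κ ∣ d₁ ∧ vv κ ∣ d₂ := by
      intro d₁ d₂ h
      have h1 : vv κ ∣ d₁ := by
        refine (isUnit_or_dvd κ d₁).resolve_left (fun hu => ?_)
        have hu' := hψu _ hu
        have : ψ d₁ ∈ maximalIdeal B := by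
          have : ψ d₁ = - (ψ d₂ * x) := by linear_combination h
          rw [this]
          exact neg_mem (Ideal.mul_mem_left _ _ hxm)
        exact (mem_maximalIdeal _).mp this hu'
      refine ⟨h1, ?_⟩
      refine (isUnit_or_dvd κ d₂).resolve_left (fun hu => ?_)
      obtain ⟨e, rfl⟩ := h1
      obtain ⟨w, hw⟩ := hψu _ hu
      apply hxy
      rw [Ideal.mem_span_singleton]
      refine ⟨- (↑w⁻¹ * ψ e), ?_⟩
      rw [hψmul, hψv, ← hw] at h
      have : (↑w⁻¹ : B) * ↑w = 1 := w.inv_mul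
      linear_combination (↑w⁻¹ : B) * h - x * this
    have claim2 : ∀ n d₁ d₂, ψ d₁ + ψ d₂ * x = 0 → vv κ ^ n ∣ d₁ ∧ vv κ ^ n ∣ d₂ := by
      intro n
      induction n with
      | zero => intro d₁ d₂ _; simp
      | succ n ih =>
        intro d₁ d₂ h
        obtain ⟨⟨e₁, rfl⟩, ⟨e₂, rfl⟩⟩ := claim1 d₁ d₂ h
        rw [hψmul, hψmul, hψv] at h
        obtain ⟨h1, h2⟩ := ih e₁ e₂ (hreg _ (by linear_combination h))
        rw [pow_succ']
        exact ⟨mul_dvd_mul_left _ h1, mul_dvd_mul_left _ h2⟩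
    have claim3 : ∀ d : DD κ, (∀ n, vv κ ^ n ∣ d) → d = 0 := by
      intro d hd
      refine IsHausdorff.haus' (I := Ideal.span {vv κ}) _ fun n => ?_
      rw [SModEq.zero, smul_eq_mul, Ideal.mul_top, Ideal.span_singleton_pow,
        Ideal.mem_span_singleton]
      exact hd n
    have e1 : d₁ = 0 := claim3 _ fun n => (claim2 n _ _ h0).1
    have e2 : d₂ = 0 := claim3 _ fun n => (claim2 n _ _ h0).2
    subst e1 e2
    simpa using Ideal.mul_mem_right _ _ (Ideal.mem_span_singleton_self _)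
  · rw [Ideal.span_singleton_le_iff_mem, RingHom.mem_ker]
    exact hQ

end Kernel

section Completion

variable (A : Type*) [CommRing A] [IsLocalRing A] [IsNoetherianRing A]

lemma pow_maximal_eq (n : ℕ) (β : AdicCompletion (maximalIdeal A) A) :
    β ∈ maximalIdeal (AdicCompletion (maximalIdeal A) A) ^ n ↔
      AdicCompletion.eval (maximalIdeal A) A n β = 0 := by
  have h := AdicCompletion.pow_smul_top_eq_ker_eval (I := maximalIdeal A) (M := A) (n := n)
    (maximalIdeal A).fg_of_isNoetherianRing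
  rw [AdicCompletion.maximalIdeal_eq_map, ← Ideal.map_pow, ← Submodule.restrictScalars_mem A,
    ← Ideal.smul_top_eq_map, h]
  exact LinearMap.mem_ker

lemma comap_pow (n : ℕ) (x : A) :
    algebraMap A (AdicCompletion (maximalIdeal A) A) x ∈
      maximalIdeal (AdicCompletion (maximalIdeal A) A) ^ n ↔ x ∈ maximalIdeal A ^ n := by
  rw [pow_maximal_eq]
  have : algebraMap A (AdicCompletion (maximalIdeal A) A) x = AdicCompletion.of (maximalIdeal A) A x := rfl
  rw [this, AdicCompletion.eval_of, Submodule.mkQ_apply, Submodule.Quotient.mk_eq_zero, smul_eq_mul,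
    Ideal.mul_top]

lemma exists_approx (n : ℕ) (β : AdicCompletion (maximalIdeal A) A) :
    ∃ α : A, algebraMap A (AdicCompletion (maximalIdeal A) A) α - β ∈
      maximalIdeal (AdicCompletion (maximalIdeal A) A) ^ n := by
  obtain ⟨α, hα⟩ := Submodule.Quotient.mk_surjective _ (AdicCompletion.eval (maximalIdeal A) A n β)
  refine ⟨α, ?_⟩
  rw [pow_maximal_eq, map_sub, sub_eq_zero, ← hα]
  have : algebraMap A (AdicCompletion (maximalIdeal A) A) α = AdicCompletion.of (maximalIdeal A) A α := rfl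
  rw [this, AdicCompletion.eval_of]
  rfl

lemma algebraMap_injective : Function.Injective (algebraMap A (AdicCompletion (maximalIdeal A) A)) := by
  rw [injective_iff_map_eq_zero]
  intro x hx
  refine IsHausdorff.haus' (I := maximalIdeal A) _ fun n => ?_
  rw [SModEq.zero, smul_eq_mul, Ideal.mul_top, ← comap_pow, hx]
  exact Ideal.zero_mem _

lemma mul_left_cancel_completion (t : A) (ht : ∀ z, t * z = 0 → z = 0)
    (z : AdicCompletion (maximalIdeal A) A) (hz : algebraMap A _ t * z = 0) : z = 0 := by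
  have h1 : IsSMulRegular A t := by
    rw [isSMulRegular_iff_right_eq_zero_of_smul]
    exact fun x hx => ht x hx
  have h2 : IsSMulRegular (AdicCompletion (maximalIdeal A) A) (algebraMap A (AdicCompletion (maximalIdeal A) A) t) :=
    h1.of_flat
  rw [isSMulRegular_iff_right_eq_zero_of_smul] at h2
  exact h2 z hz

lemma exists_regular {A : Type*} [CommRing A] [IsLocalRing A] [IsNoetherianRing A] [IsReduced A]
    (hne : maximalIdeal A ≠ ⊥) : ∃ t ∈ maximalIdeal A, ∀ z, t * z = 0 → z = 0 := by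
  by_contra hcon
  have hdis : Disjoint ((maximalIdeal A : Ideal A) : Set A) (nonZeroDivisors A) := by
    rw [Set.disjoint_left]
    intro t ht ht'
    exact hcon ⟨t, ht, fun z hz => (mul_left_mem_nonZeroDivisors_eq_zero_iff ht').mp hz⟩
  obtain ⟨z, hz, hz0⟩ := SetLike.exists_of_lt (Ideal.bot_lt_annihilator_of_disjoint_nonZeroDivisors hdis)
  have hz0' : z ≠ 0 := fun h => hz0 (by rw [h]; exact Ideal.zero_mem _)
  have hann : ∀ s ∈ maximalIdeal A, z * s = 0 := fun s hs => by
    exact Submodule.mem_annihilator.mp hz s hs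
  by_cases hu : IsUnit z
  · apply hne
    rw [eq_bot_iff]
    intro s hs
    exact (hu.mul_right_eq_zero).mp (hann s hs)
  · exact hz0' (pow_eq_zero_iff (two_ne_zero) |>.mp (by rw [pow_two]; exact hann z hu))

end Completion

end Groth.Agent.CurvesC.NodalAlg
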