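import Groth.Agent.CurvesC.NodalAlg

/-!
# The completion of a nodal local ring (Stacks 0C49)
-/

namespace Groth.Agent.CurvesC.NodalComplete

open IsLocalRing Groth.Agent.CurvesC.NodalAlg

universe u

section Forward

/-- Linear change of coordinates making the coefficient of `x²` a unit. -/
lemma normalize {A : Type u} [CommRing A] [IsLocalRing A] (x y a b c : A)
    (hx : x ∈ maximalIdeal A) (hy : y ∈ maximalIdeal A)
    (hxy : Ideal.span {x, y} ⊔ maximalIdeal A ^ 2 = maximalIdeal A)
    (hd : IsUnit (4 * a * c - b ^ 2))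
    (hq : a * x ^ 2 + b * x * y + c * y ^ 2 ∈ maximalIdeal A ^ 3) :
    ∃ x y a b c : A, x ∈ maximalIdeal A ∧ y ∈ maximalIdeal A ∧
      Ideal.span {x, y} ⊔ maximalIdeal A ^ 2 = maximalIdeal A ∧
      IsUnit (4 * a * c - b ^ 2) ∧
      a * x ^ 2 + b * x * y + c * y ^ 2 ∈ maximalIdeal A ^ 3 ∧ IsUnit a := by
  by_cases ha : IsUnit a
  · exact ⟨x, y, a, b, c, hx, hy, hxy, hd, hq, ha⟩
  by_cases hc : IsUnit c
  · refine ⟨y, x, c, b, a, hy, hx, ?_, ?_, ?_, hc⟩
    · rwa [Set.pair_comm]
    · convert hd using 1; ring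
    · convert hq using 1; ring
  -- both nonunits
  have ha' : a ∈ maximalIdeal A := ha
  have hc' : c ∈ maximalIdeal A := hc
  have hb : IsUnit b := by
    by_contra hb
    have hb' : b ∈ maximalIdeal A := hb
    refine (mem_maximalIdeal _).mp ?_ hd
    refine Ideal.sub_mem _ (Ideal.mul_mem_left _ _ hc') ?_
    rw [pow_two]; exact Ideal.mul_mem_left _ _ hb'
  refine ⟨x, y - x, b, b, 0, hx, Ideal.sub_mem _ hy hx, ?_, ?_, ?_, hb⟩
  · have : Ideal.span {x, y - x} = Ideal.span {x, y} := by
      apply le_antisymm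
      · rw [Ideal.span_le]
        rintro z (rfl | rfl)
        · exact Ideal.mem_span_pair.mpr ⟨1, 0, by ring⟩
        · exact Ideal.mem_span_pair.mpr ⟨-1, 1, by ring⟩
      · rw [Ideal.span_le]
        rintro z (rfl | rfl)
        · exact Ideal.mem_span_pair.mpr ⟨1, 0, by ring⟩
        · exact Ideal.mem_span_pair.mpr ⟨1, 1, by ring⟩
    rw [this, hxy]
  · simpa using hb.pow 2
  · have h1 : b * x * y ∈ maximalIdeal A ^ 3 := by
      have e : b * x * y = (a * x ^ 2 + b * x * y + c * y ^ 2) - a * x ^ 2 - c * y ^ 2 := by ring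
      rw [e]
      refine Ideal.sub_mem _ (Ideal.sub_mem _ hq ?_) ?_
      · rw [pow_succ']; exact Ideal.mul_mem_mul ha' (Ideal.pow_mem_pow hx 2)
      · rw [pow_succ']; exact Ideal.mul_mem_mul hc' (Ideal.pow_mem_pow hy 2)
    convert h1 using 1; ring

lemma span_eq_of_sup {B : Type u} [CommRing B] [IsLocalRing B] (x y : B)
    (hfg : (maximalIdeal B).FG)
    (hxy : maximalIdeal B ≤ Ideal.span {x, y} ⊔ maximalIdeal B ^ 2)
    (hx : x ∈ maximalIdeal B) (hy : y ∈ maximalIdeal B) :
    maximalIdeal B = Ideal.span {x, y} := by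
  apply le_antisymm
  · refine Submodule.le_of_le_smul_of_le_jacobson_bot (I := maximalIdeal B) hfg
      (by rw [IsLocalRing.jacobson_eq_maximalIdeal _ bot_ne_top]) ?_
    rw [smul_eq_mul, ← pow_two]
    exact hxy
  · rw [Ideal.span_le]
    rintro z (rfl | rfl)
    · exact hx
    · exact hy

theorem forward (k : Type u) [Field k] (A : Type u) [CommRing A] [IsLocalRing A] [IsNoetherianRing A]
    [Algebra k A] (hsep : Algebra.IsSeparable k (ResidueField A)) (hred : IsReduced A)
    (hfr : Module.finrank (ResidueField A) (CotangentSpace A) = 2)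
    (x y a b c : A) (hx : x ∈ maximalIdeal A) (hy : y ∈ maximalIdeal A)
    (hxy : Ideal.span {x, y} ⊔ maximalIdeal A ^ 2 = maximalIdeal A)
    (hd : residue A (4 * a * c - b ^ 2) ≠ 0)
    (hq : a * x ^ 2 + b * x * y + c * y ^ 2 ∈ maximalIdeal A ^ 3) :
    ∃ a b c : ResidueField A, 4 * a * c - b ^ 2 ≠ 0 ∧
      ∃ e : AdicCompletion (maximalIdeal A) A ≃+*
        (MvPowerSeries (Fin 2) (ResidueField A) ⧸ Ideal.span {QQ (ResidueField A) a b c}),
      ∀ t : k, e (algebraMap A _ (algebraMap k A t)) =
        Ideal.Quotient.mk _ (MvPowerSeries.C (algebraMap A (ResidueField A) (algebraMap k A t))) := by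
  have hd' : IsUnit (4 * a * c - b ^ 2) := by
    rwa [Ne, residue_eq_zero_iff, notMem_maximalIdeal] at hd
  obtain ⟨x, y, a, b, c, hx, hy, hxy, hd, hq, ha⟩ := normalize x y a b c hx hy hxy hd' hq
  clear hd'
  set B := AdicCompletion (maximalIdeal A) A with hB
  set κ := ResidueField A with hκ
  -- the map on residue fields
  let f : κ →ₐ[k] (B ⧸ maximalIdeal B) :=
    { toRingHom := IsLocalRing.ResidueField.map (algebraMap A B)
      commutes' := fun t => rfl }
  have : Algebra.FormallyEtale k κ := Algebra.FormallyEtale.of_isSeparable k κ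
  obtain ⟨σ, hσ⟩ := Algebra.FormallySmooth.exists_mkₐ_comp_eq_of_isAdicComplete (I := maximalIdeal B) f
  have hσ' : ∀ s : A, algebraMap A B s - σ (residue A s) ∈ maximalIdeal B := by
    intro s
    rw [← Ideal.Quotient.eq]
    have h1 := congrArg (fun g => g (residue A s)) hσ
    have h2 : f (residue A s) = Ideal.Quotient.mk (maximalIdeal B) (algebraMap A B s) := by
      exact IsLocalRing.ResidueField.map_residue (algebraMap A B) s
    rw [← h2]
    exact h1.symm
  let α := residue A a
  let β := residue A b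
  let γ := residue A c
  have hα : α ≠ 0 := by
    rwa [Ne, residue_eq_zero_iff, notMem_maximalIdeal]
  have hdisc : 4 * α * γ - β ^ 2 ≠ 0 := by
    intro h
    apply (notMem_maximalIdeal.mpr hd)
    rw [← residue_eq_zero_iff]
    simpa only [map_sub, map_mul, map_pow, map_ofNat] using h
  let b' := β / α
  let c' := γ / α
  have hdisc' : 4 * c' - b' ^ 2 ≠ 0 := by
    intro h
    apply hdisc
    simp only [b', c'] at h
    field_simp at h
    linear_combination h
  let algκ : Algebra κ B := σ.toRingHom.toAlgebra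
  have hamap : ∀ t : κ, algebraMap κ B t = σ t := fun t => rfl
  -- the coordinates in `B`
  set X := algebraMap A B x with hX
  set Y := algebraMap A B y with hY
  have hXm : X ∈ maximalIdeal B := by
    have := (comap_pow A 1 x).mpr (by rwa [pow_one])
    rwa [pow_one] at this
  have hYm : Y ∈ maximalIdeal B := by
    have := (comap_pow A 1 y).mpr (by rwa [pow_one])
    rwa [pow_one] at this
  have hfgA : (maximalIdeal A).FG := (maximalIdeal A).fg_of_isNoetherianRing
  have hmA : maximalIdeal A = Ideal.span {x, y} := span_eq_of_sup x y hfgA hxy.ge hx hy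
  have hmB0 : maximalIdeal B = (maximalIdeal A).map (algebraMap A B) :=
    AdicCompletion.maximalIdeal_eq_map
  have hmB : maximalIdeal B = Ideal.span {X, Y} := by
    rw [hmB0]
    refine (congrArg (Ideal.map (algebraMap A B)) hmA).trans ?_
    rw [Ideal.map_span, Set.image_pair]
  have hfgB : (maximalIdeal B).FG := by rw [hmB0]; exact hfgA.map _
  -- approximate zero
  have hq1 : qf (1 : B) (σ b') (σ c') X Y ∈ maximalIdeal B ^ 3 := by
    have h0 : algebraMap A B (a * x ^ 2 + b * x * y + c * y ^ 2) ∈ maximalIdeal B ^ 3 :=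
      (comap_pow A 3 _).mpr hq
    have h1 : σ α * X ^ 2 + σ β * X * Y + σ γ * Y ^ 2 ∈ maximalIdeal B ^ 3 := by
      have e : σ α * X ^ 2 + σ β * X * Y + σ γ * Y ^ 2 =
          algebraMap A B (a * x ^ 2 + b * x * y + c * y ^ 2) -
          ((algebraMap A B a - σ α) * (X * X) + (algebraMap A B b - σ β) * (X * Y) +
            (algebraMap A B c - σ γ) * (Y * Y)) := by
        simp only [map_add, map_mul, map_pow]
        ring
      rw [e]
      have hm : ∀ s ∈ maximalIdeal B, ∀ t ∈ maximalIdeal B, ∀ w ∈ maximalIdeal B,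
          s * (t * w) ∈ maximalIdeal B ^ 3 := fun s hs t ht w hw => by
        rw [pow_succ', pow_two]
        exact Ideal.mul_mem_mul hs (Ideal.mul_mem_mul ht hw)
      exact Ideal.sub_mem _ h0 (Ideal.add_mem _ (Ideal.add_mem _ (hm _ (hσ' a) _ hXm _ hXm)
        (hm _ (hσ' b) _ hXm _ hYm)) (hm _ (hσ' c) _ hYm _ hYm))
    have e1 : qf (1 : B) (σ b') (σ c') X Y = σ α⁻¹ * (σ α * X ^ 2 + σ β * X * Y + σ γ * Y ^ 2) := by
      have ea : σ α⁻¹ * σ α = 1 := by rw [← map_mul, inv_mul_cancel₀ hα, map_one]
      have eb : σ b' = σ α⁻¹ * σ β := by rw [← map_mul]; congr 1; simp only [b']; field_simp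
      have ec : σ c' = σ α⁻¹ * σ γ := by rw [← map_mul]; congr 1; simp only [c']; field_simp
      unfold qf
      rw [eb, ec]
      linear_combination (-X ^ 2) * ea
    rw [e1]
    exact Ideal.mul_mem_left _ _ h1
  have hunit : IsUnit (4 * (1 : B) * σ c' - (σ b') ^ 2) := by
    have : (4 * (1 : B) * σ c' - (σ b') ^ 2) = σ (4 * c' - b' ^ 2) := by
      simp only [map_sub, map_mul, map_pow, map_ofNat, mul_one]
    rw [this]
    exact (isUnit_iff_ne_zero.mpr hdisc').map σ
  obtain ⟨X', Y', hX', hY', hq'⟩ := exists_exact_zero (maximalIdeal B) hunit hmB hq1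
  have hX'm : X' ∈ maximalIdeal B := by
    have := Ideal.add_mem _ (Ideal.pow_le_self two_ne_zero hX') hXm
    simpa using this
  have hY'm : Y' ∈ maximalIdeal B := by
    have := Ideal.add_mem _ (Ideal.pow_le_self two_ne_zero hY') hYm
    simpa using this
  have hmB' : maximalIdeal B = Ideal.span {X', Y'} := by
    refine span_eq_of_sup X' Y' hfgB ?_ hX'm hY'm
    conv_lhs => rw [hmB]
    rw [Ideal.span_le]
    rintro z (h | h)
    · have e : z = X' - (X' - X) := by rw [h]; ring
      rw [e]
      exact Ideal.sub_mem _ (Ideal.mem_sup_left (Ideal.subset_span (by simp))) (Ideal.mem_sup_right hX')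
    · have e : z = Y' - (Y' - Y) := by rw [h]; ring
      rw [e]
      exact Ideal.sub_mem _ (Ideal.mem_sup_left (Ideal.subset_span (by simp))) (Ideal.mem_sup_right hY')
  -- evaluation
  obtain ⟨φ, hφ⟩ := exists_evalHom (κ := κ) (maximalIdeal B) ![X', Y']
    (by intro i; fin_cases i; exacts [hX'm, hY'm])
  have hφ0 : φ (MvPowerSeries.X 0) = X' := hφ 0
  have hφ1 : φ (MvPowerSeries.X 1) = Y' := hφ 1
  have hsurj : Function.Surjective φ := by
    refine evalHom_surjective (maximalIdeal B) ![X', Y'] ?_ ?_ φ hφ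
    · rw [hmB']; congr 1; simp [Matrix.range_cons, Matrix.range_empty]
      exact Set.pair_comm _ _
    · intro z
      obtain ⟨s, hs⟩ := exists_approx A 1 z
      refine ⟨residue A s, ?_⟩
      have := Ideal.sub_mem _ (hσ' s) (by simpa using hs : algebraMap A B s - z ∈ maximalIdeal B)
      rw [hamap]
      convert this using 1; ring
  -- non-principality
  have hsr : (maximalIdeal B).spanFinrank = 2 := by
    rw [AdicCompletion.spanFinrank_maximalIdeal_eq,
      IsLocalRing.spanFinrank_maximalIdeal_eq_finrank_cotangentSpace, hfr]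
  have hXY : X' ∉ Ideal.span {Y'} := by
    intro h
    have h1 : maximalIdeal B = Ideal.span {Y'} := by
      rw [hmB']
      apply le_antisymm
      · rw [Ideal.span_le]
        rintro z (rfl | rfl)
        · exact h
        · exact Ideal.mem_span_singleton_self _
      · exact Ideal.span_mono (by simp)
    have h2 : (maximalIdeal B).spanFinrank ≤ 1 := by
      rw [h1]
      have := Submodule.spanFinrank_span_le_ncard_of_finite (R := B) (s := {Y'}) (Set.finite_singleton _)
      simpa using this
    omega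
  -- regularity
  have hne : maximalIdeal A ≠ ⊥ := by
    intro h
    have h1 : (maximalIdeal A).spanFinrank = 0 := by rw [h, Submodule.spanFinrank_bot]
    rw [IsLocalRing.spanFinrank_maximalIdeal_eq_finrank_cotangentSpace, hfr] at h1
    omega
  obtain ⟨t, ht, htreg⟩ := exists_regular hne
  have hsoc : ∀ z : B, X' * z = 0 → Y' * z = 0 → z = 0 := by
    intro z h1 h2
    apply mul_left_cancel_completion A t htreg
    have ht' : algebraMap A B t ∈ maximalIdeal B := by
      have := (comap_pow A 1 t).mpr (by rwa [pow_one])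
      rwa [pow_one] at this
    rw [hmB'] at ht'
    obtain ⟨r, s, hrs⟩ := Ideal.mem_span_pair.mp ht'
    rw [← hrs]
    linear_combination r * h1 + s * h2
  have hreg : ∀ z : B, Y' * z = 0 → z = 0 := by
    intro z hz
    have hq'' : X' ^ 2 + σ b' * X' * Y' + σ c' * Y' ^ 2 = 0 := by
      have := hq'
      unfold qf at this
      linear_combination this
    have h2 : X' * z = 0 := by
      apply hsoc
      · linear_combination z * hq'' - (σ b' * X' + σ c' * Y') * hz
      · linear_combination X' * hz
    exact hsoc z h2 hz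
  have hker : RingHom.ker φ = Ideal.span {QQ κ 1 b' c'} := by
    refine ker_eval φ X' Y' hφ0 hφ1 hX'm hXY hreg b' c' ?_
    have := hq'
    unfold qf at this
    rw [hamap, hamap]
    linear_combination this
  refine ⟨1, b', c', by simpa using hdisc', ?_⟩
  let e1 : (MvPowerSeries (Fin 2) κ ⧸ RingHom.ker φ) ≃+* B :=
    RingHom.quotientKerEquivOfSurjective (f := (φ : MvPowerSeries (Fin 2) κ →+* B)) hsurj
  let e2 : (MvPowerSeries (Fin 2) κ ⧸ RingHom.ker φ) ≃+*
      (MvPowerSeries (Fin 2) κ ⧸ Ideal.span {QQ κ 1 b' c'}) := Ideal.quotEquivOfEq hker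
  refine ⟨e1.symm.trans e2, fun s => ?_⟩
  have h1 : algebraMap A B (algebraMap k A s) = φ (MvPowerSeries.C (algebraMap A κ (algebraMap k A s))) := by
    have h2 : φ (MvPowerSeries.C (algebraMap A κ (algebraMap k A s))) = σ (algebraMap k κ s) := by
      have := φ.commutes (algebraMap A κ (algebraMap k A s))
      rw [hamap] at this
      exact this
    rw [h2, σ.commutes]
    rfl
  have h3 : e1 (Ideal.Quotient.mk _ (MvPowerSeries.C (algebraMap A κ (algebraMap k A s)))) =
      algebraMap A B (algebraMap k A s) := by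
    rw [h1]; rfl
  rw [RingEquiv.trans_apply, ← h3, RingEquiv.symm_apply_apply]
  rfl

end Forward

section Backward

variable (κ : Type*) [Field κ]

lemma mem_span_X_iff (z : MvPowerSeries (Fin 2) κ) :
    z ∈ Ideal.span {MvPowerSeries.X 0, MvPowerSeries.X 1} ↔ MvPowerSeries.constantCoeff z = 0 := by
  constructor
  · intro h
    obtain ⟨r, s, rfl⟩ := Ideal.mem_span_pair.mp h
    simp
  · intro h
    have h1 : PowerSeries.X ∣ EE κ z - PowerSeries.C (PowerSeries.constantCoeff (EE κ z)) := by
      rw [PowerSeries.X_dvd_iff]; simp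
    obtain ⟨w, hw⟩ := h1
    have h2 : vv κ ∣ PowerSeries.constantCoeff (EE κ z) := by
      rw [vv_dvd_iff, ← h]
      have h3 := MvPowerSeries.coeff_coeff_finSuccEquiv (R := κ) (n := 1) z (k := 0) (x := 0)
      have h4 : Finsupp.cons 0 (0 : Fin 1 →₀ ℕ) = 0 := Finsupp.cons_zero_zero
      rw [h4] at h3
      simpa using h3
    obtain ⟨d, hd⟩ := h2
    refine Ideal.mem_span_pair.mpr ⟨(EE κ).symm w, (EE κ).symm (PowerSeries.C d), (EE κ).injective ?_⟩
    simp only [map_add, map_mul, AlgEquiv.apply_symm_apply, EE_X0, EE_X1]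
    have : EE κ z = PowerSeries.X * w + PowerSeries.C (vv κ * d) := by
      rw [← hd, ← hw]; ring
    rw [this, map_mul]
    ring

/-- The quotient ring `κ⟦u,v⟧/(a u² + b u v + c v²)`. -/
abbrev CC (a b c : κ) := MvPowerSeries (Fin 2) κ ⧸ Ideal.span {QQ κ a b c}

variable {κ}

lemma coeff_single_mul (f g : MvPowerSeries (Fin 2) κ) (i : Fin 2) :
    MvPowerSeries.coeff (Finsupp.single i 1) (f * g) =
      MvPowerSeries.constantCoeff f * MvPowerSeries.coeff (Finsupp.single i 1) g +
      MvPowerSeries.coeff (Finsupp.single i 1) f * MvPowerSeries.constantCoeff g := by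
  classical
  rw [MvPowerSeries.coeff_mul, Finsupp.antidiagonal_single, Finset.sum_map,
    Finset.Nat.antidiagonal_succ]
  simp

lemma coeff_QQ_mul (a b c : κ) (w : MvPowerSeries (Fin 2) κ) (i : Fin 2) :
    MvPowerSeries.coeff (Finsupp.single i 1) (QQ κ a b c * w) = 0 := by
  simp [coeff_single_mul, QQ, pow_two]

lemma constantCoeff_QQ (a b c : κ) : MvPowerSeries.constantCoeff (QQ κ a b c) = 0 := by
  simp [QQ]

/-- The augmentation of the quotient. -/
noncomputable def aug (a b c : κ) : CC κ a b c →+* κ :=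
  Ideal.Quotient.lift _ MvPowerSeries.constantCoeff (by
    intro z hz
    obtain ⟨w, rfl⟩ := Ideal.mem_span_singleton.mp hz
    simp [constantCoeff_QQ])

lemma aug_mk (a b c : κ) (z : MvPowerSeries (Fin 2) κ) :
    aug a b c (Ideal.Quotient.mk _ z) = MvPowerSeries.constantCoeff z := rfl

section

variable {B : Type*} [CommRing B] [IsLocalRing B] {a b c : κ} (e : B ≃+* CC κ a b c)

include e

lemma mem_maximalIdeal_iff (z : B) : z ∈ maximalIdeal B ↔ aug a b c (e z) = 0 := by
  have hs : Function.Surjective ((aug a b c).comp (e : B →+* CC κ a b c)) := by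
    intro t
    refine ⟨e.symm (Ideal.Quotient.mk _ (MvPowerSeries.C t)), ?_⟩
    simp [aug_mk]
  have hm : (RingHom.ker ((aug a b c).comp (e : B →+* CC κ a b c))).IsMaximal :=
    RingHom.ker_isMaximal_of_surjective _ hs
  rw [← IsLocalRing.eq_maximalIdeal hm, RingHom.mem_ker]
  rfl

lemma maximalIdeal_eq_span : maximalIdeal B = Ideal.span {e.symm (Ideal.Quotient.mk _ (MvPowerSeries.X 0)),
    e.symm (Ideal.Quotient.mk _ (MvPowerSeries.X 1))} := by
  apply le_antisymm
  · intro z hz
    rw [mem_maximalIdeal_iff e] at hz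
    obtain ⟨w, hw⟩ := Ideal.Quotient.mk_surjective (e z)
    rw [← hw, aug_mk, ← mem_span_X_iff] at hz
    obtain ⟨r, s, hrs⟩ := Ideal.mem_span_pair.mp hz
    refine Ideal.mem_span_pair.mpr ⟨e.symm (Ideal.Quotient.mk _ r), e.symm (Ideal.Quotient.mk _ s),
      e.injective ?_⟩
    simp only [map_add, map_mul, RingEquiv.apply_symm_apply]
    rw [← hw, ← hrs]
    simp only [map_add, map_mul]
  · rw [Ideal.span_le]
    rintro z (rfl | rfl)
    · rw [SetLike.mem_coe, mem_maximalIdeal_iff e, RingEquiv.apply_symm_apply, aug_mk]; simp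
    · rw [SetLike.mem_coe, mem_maximalIdeal_iff e, RingEquiv.apply_symm_apply, aug_mk]; simp

lemma not_principal (w : B) : maximalIdeal B ≠ Ideal.span {w} := by
  intro h
  have hw : w ∈ maximalIdeal B := by rw [h]; exact Ideal.mem_span_singleton_self _
  obtain ⟨w', hw'⟩ := Ideal.Quotient.mk_surjective (e w)
  have hw0 : MvPowerSeries.constantCoeff w' = 0 := by
    rw [mem_maximalIdeal_iff e, ← hw', aug_mk] at hw
    exact hw
  have key : ∀ i : Fin 2, ∃ r : κ, ∀ j : Fin 2,
      MvPowerSeries.coeff (Finsupp.single j 1) (MvPowerSeries.X i : MvPowerSeries (Fin 2) κ) =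
        r * MvPowerSeries.coeff (Finsupp.single j 1) w' := by
    intro i
    have hi : e.symm (Ideal.Quotient.mk _ (MvPowerSeries.X i)) ∈ maximalIdeal B := by
      rw [mem_maximalIdeal_iff e, RingEquiv.apply_symm_apply, aug_mk]; simp
    rw [h] at hi
    obtain ⟨r, hr⟩ := Ideal.mem_span_singleton.mp hi
    obtain ⟨r', hr'⟩ := Ideal.Quotient.mk_surjective (e r)
    have h1 := congrArg e hr
    rw [RingEquiv.apply_symm_apply, map_mul, ← hw', ← hr', ← map_mul, Ideal.Quotient.eq,
      Ideal.mem_span_singleton] at h1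
    obtain ⟨q, hq⟩ := h1
    refine ⟨MvPowerSeries.constantCoeff r', fun j => ?_⟩
    have h2 : (MvPowerSeries.X i : MvPowerSeries (Fin 2) κ) = w' * r' + QQ κ a b c * q := by
      rw [← hq]; ring
    have h3 := congrArg (MvPowerSeries.coeff (Finsupp.single j 1)) h2
    rw [map_add, coeff_QQ_mul, coeff_single_mul, hw0, zero_mul, zero_add, add_zero] at h3
    rw [h3]; ring
  obtain ⟨r0, h0⟩ := key 0
  obtain ⟨r1, h1⟩ := key 1
  have e00 := h0 0
  have e01 := h0 1
  have e10 := h1 0
  have e11 := h1 1
  classical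
  rw [MvPowerSeries.coeff_X, if_pos rfl] at e00 e11
  rw [MvPowerSeries.coeff_X, if_neg (by
    intro h; have := DFunLike.congr_fun h 0; simp at this)] at e01
  have h5 : r0 ≠ 0 := by rintro rfl; simp at e00
  have h6 : MvPowerSeries.coeff (Finsupp.single (1 : Fin 2) 1) w' = 0 := by
    rcases mul_eq_zero.mp e01.symm with h | h
    · exact absurd h h5
    · exact h
  rw [h6, mul_zero] at e11
  exact one_ne_zero e11

end

theorem backward (A : Type u) [CommRing A] [IsLocalRing A] [IsNoetherianRing A] {κ : Type u} [Field κ]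
    (a b c : κ) (hd : 4 * a * c - b ^ 2 ≠ 0)
    (e : AdicCompletion (maximalIdeal A) A ≃+* CC κ a b c) :
    IsReduced A ∧ Module.finrank (ResidueField A) (CotangentSpace A) = 2 ∧
      ∃ x y a b c : A, x ∈ maximalIdeal A ∧ y ∈ maximalIdeal A ∧
        Ideal.span {x, y} ⊔ maximalIdeal A ^ 2 = maximalIdeal A ∧
        residue A (4 * a * c - b ^ 2) ≠ 0 ∧
        a * x ^ 2 + b * x * y + c * y ^ 2 ∈ maximalIdeal A ^ 3 := by
  set B := AdicCompletion (maximalIdeal A) A with hB
  have hinj : Function.Injective (algebraMap A B) := algebraMap_injective A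
  have hredC : IsReduced (CC κ a b c) := QQ_quot_isReduced κ a b c hd
  refine ⟨?_, ?_, ?_⟩
  · exact isReduced_of_injective ((e : B →+* CC κ a b c).comp (algebraMap A B))
      (e.injective.comp hinj)
  · have h1 : (maximalIdeal B).spanFinrank = Module.finrank (ResidueField A) (CotangentSpace A) := by
      rw [AdicCompletion.spanFinrank_maximalIdeal_eq,
        IsLocalRing.spanFinrank_maximalIdeal_eq_finrank_cotangentSpace]
    have h2 : (maximalIdeal B).spanFinrank ≤ 2 := by
      rw [maximalIdeal_eq_span e]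
      have := Submodule.spanFinrank_span_le_ncard_of_finite (R := B)
        (s := {e.symm (Ideal.Quotient.mk _ (MvPowerSeries.X 0)),
          e.symm (Ideal.Quotient.mk _ (MvPowerSeries.X 1))}) (Set.toFinite _)
      exact this.trans (Set.ncard_insert_le _ _ |>.trans (by simp))
    have h3 : ¬ Module.finrank (ResidueField A) (CotangentSpace A) ≤ 1 := by
      intro h
      rw [finrank_cotangentSpace_le_one_iff] at h
      obtain ⟨w, hw⟩ := h
      refine not_principal e (algebraMap A B w) ?_
      have h4 : maximalIdeal B = (maximalIdeal A).map (algebraMap A B) :=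
        AdicCompletion.maximalIdeal_eq_map
      rw [h4]
      refine (congrArg (Ideal.map (algebraMap A B)) hw).trans ?_
      show Ideal.map (algebraMap A B) (Ideal.span {w}) = _
      rw [Ideal.map_span, Set.image_singleton]
    omega
  · set U := e.symm (Ideal.Quotient.mk _ (MvPowerSeries.X 0)) with hU
    set V := e.symm (Ideal.Quotient.mk _ (MvPowerSeries.X 1)) with hV
    have hm : maximalIdeal B = Ideal.span {U, V} := maximalIdeal_eq_span e
    have hUm : U ∈ maximalIdeal B := by rw [hm]; exact Ideal.subset_span (by simp)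
    have hVm : V ∈ maximalIdeal B := by rw [hm]; exact Ideal.subset_span (by simp)
    obtain ⟨x, hx⟩ := exists_approx A 2 U
    obtain ⟨y, hy⟩ := exists_approx A 2 V
    obtain ⟨a', ha⟩ := exists_approx A 1 (e.symm (Ideal.Quotient.mk _ (MvPowerSeries.C a)))
    obtain ⟨b', hb⟩ := exists_approx A 1 (e.symm (Ideal.Quotient.mk _ (MvPowerSeries.C b)))
    obtain ⟨c', hc⟩ := exists_approx A 1 (e.symm (Ideal.Quotient.mk _ (MvPowerSeries.C c)))
    rw [pow_one] at ha hb hc
    have hxB : algebraMap A B x ∈ maximalIdeal B := by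
      have := Ideal.add_mem _ (Ideal.pow_le_self two_ne_zero hx) hUm
      simpa only [sub_add_cancel] using this
    have hyB : algebraMap A B y ∈ maximalIdeal B := by
      have := Ideal.add_mem _ (Ideal.pow_le_self two_ne_zero hy) hVm
      simpa only [sub_add_cancel] using this
    have hxA : x ∈ maximalIdeal A := by
      have := (comap_pow A 1 x).mp (by rwa [pow_one])
      rwa [pow_one] at this
    have hyA : y ∈ maximalIdeal A := by
      have := (comap_pow A 1 y).mp (by rwa [pow_one])
      rwa [pow_one] at this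
    refine ⟨x, y, a', b', c', hxA, hyA, ?_, ?_, ?_⟩
    · apply le_antisymm
      · refine sup_le ?_ (Ideal.pow_le_self two_ne_zero)
        rw [Ideal.span_le]
        rintro z (rfl | rfl)
        · exact hxA
        · exact hyA
      · intro z hz
        have hzB : algebraMap A B z ∈ maximalIdeal B := by
          have := (comap_pow A 1 z).mpr (by rwa [pow_one])
          rwa [pow_one] at this
        rw [hm] at hzB
        obtain ⟨r, s, hrs⟩ := Ideal.mem_span_pair.mp hzB
        obtain ⟨r', hr'⟩ := exists_approx A 1 r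
        obtain ⟨s', hs'⟩ := exists_approx A 1 s
        rw [pow_one] at hr' hs'
        have h1 : z - (r' * x + s' * y) ∈ maximalIdeal A ^ 2 := by
          rw [← comap_pow]
          have e1 : algebraMap A (AdicCompletion (maximalIdeal A) A) (z - (r' * x + s' * y)) =
            - ((algebraMap A B r' - r) * U + algebraMap A B r' * (algebraMap A B x - U) +
              (algebraMap A B s' - s) * V + algebraMap A B s' * (algebraMap A B y - V)) := by
            simp only [map_sub, map_add, map_mul]
            linear_combination -hrs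
          rw [e1]
          refine neg_mem (Ideal.add_mem _ (Ideal.add_mem _ (Ideal.add_mem _ ?_ ?_) ?_) ?_)
          · rw [pow_two]; exact Ideal.mul_mem_mul hr' hUm
          · exact Ideal.mul_mem_left _ _ hx
          · rw [pow_two]; exact Ideal.mul_mem_mul hs' hVm
          · exact Ideal.mul_mem_left _ _ hy
        have e2 : z = (r' * x + s' * y) + (z - (r' * x + s' * y)) := by ring
        rw [e2]
        exact Ideal.add_mem _ (Ideal.mem_sup_left (Ideal.mem_span_pair.mpr ⟨r', s', rfl⟩))
          (Ideal.mem_sup_right h1)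
    · rw [Ne, residue_eq_zero_iff]
      intro h
      have h1 : algebraMap A B (4 * a' * c' - b' ^ 2) ∈ maximalIdeal B := by
        have := (comap_pow A 1 _).mpr (by rwa [pow_one])
        rwa [pow_one] at this
      rw [mem_maximalIdeal_iff e] at h1
      have hh : ∀ (s : A) (t : κ), algebraMap A B s - e.symm (Ideal.Quotient.mk _ (MvPowerSeries.C t)) ∈
          maximalIdeal B → aug a b c (e (algebraMap A B s)) = t := by
        intro s t hst
        rw [mem_maximalIdeal_iff e, map_sub, map_sub, RingEquiv.apply_symm_apply, aug_mk] at hst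
        rw [sub_eq_zero.mp hst]; simp
      apply hd
      rw [← h1]
      simp only [map_sub, map_mul, map_pow, map_ofNat]
      rw [hh a' a ha, hh b' b hb, hh c' c hc]
    · rw [← comap_pow]
      have hQ : e.symm (Ideal.Quotient.mk _ (MvPowerSeries.C a)) * U ^ 2 +
          e.symm (Ideal.Quotient.mk _ (MvPowerSeries.C b)) * U * V +
          e.symm (Ideal.Quotient.mk _ (MvPowerSeries.C c)) * V ^ 2 = 0 := by
        apply e.injective
        simp only [map_add, map_mul, map_pow, hU, hV, RingEquiv.apply_symm_apply, map_zero]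
        simp only [← map_mul, ← map_pow, ← map_add]
        rw [Ideal.Quotient.eq_zero_iff_mem]
        exact Ideal.mem_span_singleton_self _
      set x' := algebraMap A B x with hx'
      set y' := algebraMap A B y with hy'
      set a'' := e.symm (Ideal.Quotient.mk _ (MvPowerSeries.C a)) with ha''
      set b'' := e.symm (Ideal.Quotient.mk _ (MvPowerSeries.C b)) with hb''
      set c'' := e.symm (Ideal.Quotient.mk _ (MvPowerSeries.C c)) with hc''
      have e1 : algebraMap A (AdicCompletion (maximalIdeal A) A) (a' * x ^ 2 + b' * x * y + c' * y ^ 2) =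
          (algebraMap A B a' - a'') * (x' * x') + (algebraMap A B b' - b'') * (x' * y') +
          (algebraMap A B c' - c'') * (y' * y') +
          (a'' * (x' + U) + b'' * y') * (x' - U) + (b'' * U + c'' * (y' + V)) * (y' - V) := by
        simp only [map_add, map_mul, map_pow]
        linear_combination hQ
      rw [e1]
      have hm3 : ∀ s ∈ maximalIdeal B, ∀ t ∈ maximalIdeal B, ∀ w ∈ maximalIdeal B,
          s * (t * w) ∈ maximalIdeal B ^ 3 := fun s hs t ht w hw => by
        rw [pow_succ', pow_two]
        exact Ideal.mul_mem_mul hs (Ideal.mul_mem_mul ht hw)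
      have hm4 : ∀ s ∈ maximalIdeal B, ∀ t ∈ maximalIdeal B ^ 2,
          s * t ∈ maximalIdeal B ^ 3 := fun s hs t ht => by
        rw [pow_succ']
        exact Ideal.mul_mem_mul hs ht
      refine Ideal.add_mem _ (Ideal.add_mem _ (Ideal.add_mem _ (Ideal.add_mem _ ?_ ?_) ?_) ?_) ?_
      · exact hm3 _ ha _ hxB _ hxB
      · exact hm3 _ hb _ hxB _ hyB
      · exact hm3 _ hc _ hyB _ hyB
      · exact hm4 _ (Ideal.add_mem _ (Ideal.mul_mem_left _ _ (Ideal.add_mem _ hxB hUm))
          (Ideal.mul_mem_left _ _ hyB)) _ hx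
      · exact hm4 _ (Ideal.add_mem _ (Ideal.mul_mem_left _ _ hUm)
          (Ideal.mul_mem_left _ _ (Ideal.add_mem _ hyB hVm))) _ hy

end Backward

end Groth.Agent.CurvesC.NodalComplete
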