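import Groth.Agent.CurvesC.NodeEt
import Mathlib.RingTheory.Unramified.LocalStructure
import Mathlib.RingTheory.Unramified.Locus
import Mathlib.RingTheory.LocalRing.Module
import Mathlib.RingTheory.LocalRing.ResidueField.Ideal
import Mathlib.RingTheory.Flat.Equalizer
import Mathlib.RingTheory.Filtration
import Mathlib.LinearAlgebra.Dimension.Finrank
import Mathlib.LinearAlgebra.Dual.Lemmas

/-!
# Nodes: algebraic data at a `K`-point, and unramified coordinates
-/

set_option autoImplicit false
set_option linter.style.haveILetI false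

namespace Groth.Agent.CurvesC.NodeAlg

open TensorProduct Groth.Agent.CurvesC.NodeEt

universe u v w

section supp

/-- If the kernel of `A → K` is in the support of the finite module `M`, there is a nonzero
`A`-linear map `M → K`. -/
theorem exists_linearMap_ne_zero {A : Type u} {K : Type v} [CommRing A] [Field K] [Algebra A K]
    {M : Type w} [AddCommGroup M] [Module A M] [Module.Finite A M]
    (p : PrimeSpectrum A) (hp : p.asIdeal = RingHom.ker (algebraMap A K))
    (hM : p ∈ Module.support A M) : ∃ l : M →ₗ[A] K, l ≠ 0 := by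
  rw [Module.mem_support_iff_nontrivial_residueField_tensorProduct] at hM
  set κ := p.asIdeal.ResidueField with hκ
  obtain ⟨v, hv⟩ := exists_ne (0 : κ ⊗[A] M)
  have h1 : ∃ g : Module.Dual κ (κ ⊗[A] M), g v ≠ 0 := by
    by_contra hcon
    push Not at hcon
    exact hv ((Module.forall_dual_apply_eq_zero_iff κ v).mp hcon)
  obtain ⟨g, hg⟩ := h1
  let ι : κ →ₐ[A] K := Ideal.ResidueField.liftₐ p.asIdeal (Algebra.ofId A K) (by
    rw [hp]; exact le_rfl) (by
      intro a ha
      have : a ∉ RingHom.ker (algebraMap A K) := hp ▸ ha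
      exact IsUnit.mk0 _ this)
  have hι : Function.Injective ι := ι.toRingHom.injective
  refine ⟨ι.toLinearMap ∘ₗ (g.restrictScalars A) ∘ₗ (TensorProduct.mk A κ M 1), ?_⟩
  intro h0
  apply hg
  have : ∀ w : κ ⊗[A] M, g w = 0 := by
    intro w
    induction w with
    | zero => simp
    | add a b ha hb => rw [map_add, ha, hb, add_zero]
    | tmul k m =>
      have h2 := LinearMap.congr_fun h0 m
      simp only [LinearMap.comp_apply, LinearMap.restrictScalars_apply, TensorProduct.mk_apply,
        LinearMap.zero_apply, AlgHom.toLinearMap_apply] at h2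
      have h3 : g ((1 : κ) ⊗ₜ[A] m) = 0 := hι (by rw [h2, map_zero])
      have h4 : k ⊗ₜ[A] m = k • ((1 : κ) ⊗ₜ[A] m) := by
        rw [TensorProduct.smul_tmul', smul_eq_mul, mul_one]
      rw [h4, map_smul, h3, smul_zero]
  exact this v

end supp

section ev

variable (R : Type u) (A : Type v) (K : Type w) [CommRing R] [CommRing A] [Algebra R A] [Field K] [Algebra R K]
  [Algebra A K] [IsScalarTower R A K]

/-- The evaluation `K ⊗[R] A → K` at the `K`-point `A → K`. -/
noncomputable def ev : K ⊗[R] A →ₐ[K] K :=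
  Algebra.TensorProduct.lift (Algebra.ofId K K) (IsScalarTower.toAlgHom R A K) (fun _ _ => Commute.all _ _)

@[simp]
theorem ev_tmul (k : K) (a : A) : ev R A K (k ⊗ₜ[R] a) = k * algebraMap A K a := by
  simp [ev]

end ev

/-- The data of a (split) node at the `K`-point `e : S → K` of a `K`-algebra `S`, at finite level: `φ : S → T` identifies
the powers of the ideal of the `K`-point with preimages of the powers of `𝔪`, where `T` behaves as `K[[X,Y]]/(XY)`. -/
structure NodeData {K : Type w} [Field K] {S : Type u} [CommRing S] [Algebra K S] (e : S →ₐ[K] K)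
    {T : Type v} [CommRing T] [Algebra K T] (𝔪 : Ideal T) (X Y : T) (φ : S →ₐ[K] T) : Prop where
  mul_eq : X * Y = 0
  X_mem : X ∈ 𝔪
  Y_mem : Y ∈ 𝔪
  unit : ∀ t : T, t ∉ 𝔪 → IsUnit t
  gen : ∀ t ∈ 𝔪, ∃ c c' : K, t - algebraMap K T c * X - algebraMap K T c' * Y ∈ 𝔪 ^ 2
  indep : ∀ (N : ℕ) (c c' : K), 1 ≤ N → algebraMap K T c * X ^ N + algebraMap K T c' * Y ^ N ∈ 𝔪 ^ (N + 1) →
    c = 0 ∧ c' = 0
  mem_iff : ∀ (N : ℕ) (z : S), φ z ∈ 𝔪 ^ N ↔ z ∈ (RingHom.ker e) ^ N
  exX : ∃ p : S, φ p - X ∈ 𝔪 ^ 2
  exY : ∃ q : S, φ q - Y ∈ 𝔪 ^ 2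

namespace NodeData

variable {K : Type w} [Field K] {S : Type u} [CommRing S] [Algebra K S] {e : S →ₐ[K] K}
    {T : Type v} [CommRing T] [Algebra K T] {𝔪 : Ideal T} {X Y : T} {φ : S →ₐ[K] T}

theorem mem_one_iff (h : NodeData e 𝔪 X Y φ) (z : S) : φ z ∈ 𝔪 ↔ e z = 0 := by
  have := h.mem_iff 1 z
  simpa [RingHom.mem_ker] using this

/-- The maximal ideal is generated by two elements modulo its square. -/
theorem exists_gen (h : NodeData e 𝔪 X Y φ) : ∃ p q : S, e p = 0 ∧ e q = 0 ∧ φ p - X ∈ 𝔪 ^ 2 ∧ φ q - Y ∈ 𝔪 ^ 2 ∧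
    ∀ z, e z = 0 → ∃ c c' : K, z - algebraMap K S c * p - algebraMap K S c' * q ∈ (RingHom.ker e) ^ 2 := by
  obtain ⟨p, hp⟩ := h.exX
  obtain ⟨q, hq⟩ := h.exY
  have hle : 𝔪 ^ 2 ≤ 𝔪 := Ideal.pow_le_self two_ne_zero
  refine ⟨p, q, ?_, ?_, hp, hq, ?_⟩
  · rw [← h.mem_one_iff]
    have := 𝔪.add_mem (hle hp) h.X_mem
    simpa using this
  · rw [← h.mem_one_iff]
    have := 𝔪.add_mem (hle hq) h.Y_mem
    simpa using this
  · intro z hz
    obtain ⟨c, c', hc⟩ := h.gen (φ z) ((h.mem_one_iff z).mpr hz)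
    refine ⟨c, c', ?_⟩
    rw [← h.mem_iff]
    have h1 : φ (z - algebraMap K S c * p - algebraMap K S c' * q) =
      (φ z - algebraMap K T c * X - algebraMap K T c' * Y) - algebraMap K T c * (φ p - X) -
        algebraMap K T c' * (φ q - Y) := by
      simp only [map_sub, map_mul, AlgHom.commutes]
      ring
    rw [h1]
    exact Ideal.sub_mem _ (Ideal.sub_mem _ hc (Ideal.mul_mem_left _ _ hp)) (Ideal.mul_mem_left _ _ hq)

end NodeData

section der

variable {R : Type u} {A : Type v} {K : Type w} [CommRing R] [CommRing A] [Algebra R A] [Field K] [Algebra R K]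
  [Algebra A K] [IsScalarTower R A K]

/-- The `K`-linear extension of a derivation `A → K`. -/
noncomputable def extDer (δ : Derivation R A K) : K ⊗[R] A →ₗ[K] K := LinearMap.liftBaseChange K (δ : A →ₗ[R] K)

omit [IsScalarTower R A K] in
@[simp]
theorem extDer_tmul (δ : Derivation R A K) (k : K) (a : A) : extDer δ (k ⊗ₜ[R] a) = k * δ a := by
  simp [extDer]

theorem extDer_mul (δ : Derivation R A K) (z w : K ⊗[R] A) :
    extDer δ (z * w) = ev R A K z * extDer δ w + ev R A K w * extDer δ z := by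
  induction z with
  | zero => simp
  | add z z' hz hz' => rw [add_mul, map_add, hz, hz', map_add, map_add]; ring
  | tmul k a =>
    induction w with
    | zero => simp
    | add w w' hw hw' => rw [mul_add, map_add, hw, hw', map_add, map_add]; ring
    | tmul k' a' =>
      rw [Algebra.TensorProduct.tmul_mul_tmul, extDer_tmul, extDer_tmul, extDer_tmul, ev_tmul, ev_tmul,
        Derivation.leibniz, Algebra.smul_def, Algebra.smul_def]
      ring

theorem extDer_sq (δ : Derivation R A K) (z : K ⊗[R] A) (hz : z ∈ (RingHom.ker (ev R A K)) ^ 2) :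
    extDer δ z = 0 := by
  rw [pow_two] at hz
  induction hz using Submodule.mul_induction_on' with
  | mem_mul_mem a ha b hb =>
    rw [RingHom.mem_ker] at ha hb
    rw [extDer_mul, ha, hb]; simp
  | add a _ b _ ha hb => rw [map_add, ha, hb, add_zero]

theorem extDer_algebraMap (δ : Derivation R A K) (c : K) : extDer δ (algebraMap K _ c) = 0 := by
  rw [Algebra.TensorProduct.algebraMap_apply, extDer_tmul]
  simp

omit [IsScalarTower R A K] in
theorem extDer_algebraMap_mul (δ : Derivation R A K) (c : K) (z : K ⊗[R] A) :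
    extDer δ (algebraMap K _ c * z) = c * extDer δ z := by
  rw [← Algebra.smul_def, map_smul, smul_eq_mul]

/-- At a node, two well-chosen elements detect derivations. -/
theorem exists_pair {T : Type u} [CommRing T] [Algebra K T] {𝔪 : Ideal T} {X Y : T} {φ : K ⊗[R] A →ₐ[K] T}
    (h : NodeData (ev R A K) 𝔪 X Y φ) :
    ∃ a₁ a₂ : A, ∀ δ : Derivation R A K, δ a₁ = 0 → δ a₂ = 0 → δ = 0 := by
  obtain ⟨p, q, hp, hq, -, -, hpq⟩ := h.exists_gen
  have key : ∀ δ : Derivation R A K, extDer δ p = 0 → extDer δ q = 0 → δ = 0 := by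
    intro δ h1 h2
    have h3 : ∀ z, ev R A K z = 0 → extDer δ z = 0 := by
      intro z hz
      obtain ⟨c, c', hc⟩ := hpq z hz
      have h4 := extDer_sq δ _ hc
      rw [map_sub, map_sub, extDer_algebraMap_mul, extDer_algebraMap_mul, h1, h2] at h4
      simpa using h4
    ext a
    have h5 := h3 ((1 : K) ⊗ₜ[R] a - algebraMap K _ (algebraMap A K a)) (by
      rw [map_sub, ev_tmul, AlgHom.commutes]; simp)
    rw [map_sub, extDer_algebraMap, extDer_tmul] at h5
    simpa using h5
  by_cases h0 : ∀ δ : Derivation R A K, δ = 0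
  · exact ⟨0, 0, fun δ _ _ => h0 δ⟩
  push Not at h0
  obtain ⟨δ₁, hδ₁⟩ := h0
  obtain ⟨a₁, ha₁⟩ : ∃ a, δ₁ a ≠ 0 := by
    by_contra hcon
    push Not at hcon
    exact hδ₁ (Derivation.ext hcon)
  by_cases h0' : ∀ δ : Derivation R A K, δ a₁ = 0 → δ = 0
  · exact ⟨a₁, 0, fun δ h _ => h0' δ h⟩
  push Not at h0'
  obtain ⟨δ₂, hδ₂a, hδ₂⟩ := h0'
  obtain ⟨a₂, ha₂⟩ : ∃ a, δ₂ a ≠ 0 := by
    by_contra hcon
    push Not at hcon
    exact hδ₂ (Derivation.ext hcon)
  refine ⟨a₁, a₂, fun δ₃ h31 h32 => ?_⟩
  by_contra hδ₃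
  let d : Fin 3 → Derivation R A K := ![δ₁, δ₂, δ₃]
  let v : Fin 3 → (Fin 2 → K) := fun i => ![extDer (d i) p, extDer (d i) q]
  have hrel : ∃ g : Fin 3 → K, ∑ i, g i • v i = 0 ∧ ∃ i, g i ≠ 0 := by
    rw [← Fintype.not_linearIndependent_iff]
    intro hli
    have := hli.fintype_card_le_finrank
    simp at this
  obtain ⟨g, hg, i, hi⟩ := hrel
  have hcomb : g 0 • δ₁ + g 1 • δ₂ + g 2 • δ₃ = 0 := by
    have hlin : ∀ z, extDer (g 0 • δ₁ + g 1 • δ₂ + g 2 • δ₃) z =
        g 0 * extDer δ₁ z + g 1 * extDer δ₂ z + g 2 * extDer δ₃ z := by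
      intro z
      induction z with
      | zero => simp
      | add z z' hz hz' => rw [map_add, hz, hz', map_add, map_add, map_add]; ring
      | tmul k a =>
        rw [extDer_tmul, extDer_tmul, extDer_tmul, extDer_tmul]
        simp only [Derivation.coe_add, Derivation.coe_smul, Pi.add_apply, Pi.smul_apply, smul_eq_mul]
        ring
    apply key
    · rw [hlin]
      have := congrFun hg 0
      simpa [Fin.sum_univ_three, v, d] using this
    · rw [hlin]
      have := congrFun hg 1
      simpa [Fin.sum_univ_three, v, d] using this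
  have e1 : g 0 = 0 := by
    have := congrArg (fun δ : Derivation R A K => δ a₁) hcomb
    simp only [Derivation.coe_add, Derivation.coe_smul, Pi.add_apply, Pi.smul_apply, smul_eq_mul, hδ₂a, h31,
      mul_zero, add_zero, Derivation.coe_zero, Pi.zero_apply, mul_eq_zero] at this
    exact this.resolve_right ha₁
  rw [e1, zero_smul, zero_add] at hcomb
  have e2 : g 1 = 0 := by
    have := congrArg (fun δ : Derivation R A K => δ a₂) hcomb
    simp only [Derivation.coe_add, Derivation.coe_smul, Pi.add_apply, Pi.smul_apply, smul_eq_mul, h32,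
      mul_zero, add_zero, Derivation.coe_zero, Pi.zero_apply, mul_eq_zero] at this
    exact this.resolve_right ha₂
  rw [e2, zero_smul, zero_add] at hcomb
  have e3 : g 2 = 0 := by
    by_contra hne
    exact hδ₃ (by rw [← inv_smul_smul₀ hne δ₃, hcomb, smul_zero])
  fin_cases i
  · exact hi e1
  · exact hi e2
  · exact hi e3

end der

section chart

variable {R : Type u} {A : Type u} {K : Type u} [CommRing R] [CommRing A] [Algebra R A] [Field K] [Algebra R K]
  [Algebra A K] [IsScalarTower R A K]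

/-- If two elements detect derivations at the `K`-point then `A` is unramified over `R[X₁,X₂]` there. -/
theorem isUnramifiedAt_of_pair [Algebra.FiniteType R A] (a : Fin 2 → A)
    (ha : ∀ δ : Derivation R A K, (∀ i, δ (a i) = 0) → δ = 0) :
    letI := algMv R a
    letI : (RingHom.ker (algebraMap A K)).IsPrime := RingHom.ker_isPrime _
    Algebra.IsUnramifiedAt (MvPolynomial (Fin 2) R) (RingHom.ker (algebraMap A K)) := by
  letI := algMv R a
  haveI : IsScalarTower R (MvPolynomial (Fin 2) R) A := algMv_tower a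
  letI : (RingHom.ker (algebraMap A K)).IsPrime := RingHom.ker_isPrime _
  haveI : Algebra.FiniteType (MvPolynomial (Fin 2) R) A := Algebra.FiniteType.of_restrictScalars_finiteType R _ _
  let p : PrimeSpectrum A := ⟨RingHom.ker (algebraMap A K), inferInstance⟩
  change p ∈ Algebra.unramifiedLocus (MvPolynomial (Fin 2) R) A
  rw [Algebra.unramifiedLocus_eq_compl_support]
  intro hp
  obtain ⟨l, hl⟩ := exists_linearMap_ne_zero (K := K) p rfl hp
  apply hl
  letI : Algebra (MvPolynomial (Fin 2) R) K := ((algebraMap A K).comp (algebraMap (MvPolynomial (Fin 2) R) A)).toAlgebra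
  haveI : IsScalarTower (MvPolynomial (Fin 2) R) A K := IsScalarTower.of_algebraMap_eq' rfl
  haveI : IsScalarTower R (MvPolynomial (Fin 2) R) K := IsScalarTower.of_algebraMap_eq' (by
    rw [IsScalarTower.algebraMap_eq (MvPolynomial (Fin 2) R) A K, RingHom.comp_assoc,
      ← IsScalarTower.algebraMap_eq R (MvPolynomial (Fin 2) R) A, ← IsScalarTower.algebraMap_eq])
  let δ : Derivation R A K := (l.compDer (KaehlerDifferential.D (MvPolynomial (Fin 2) R) A)).restrictScalars R
  have hδ : δ = 0 := by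
    apply ha
    intro i
    have : a i = algebraMap (MvPolynomial (Fin 2) R) A (MvPolynomial.X i) := by
      simp [RingHom.algebraMap_toAlgebra]
    change l (KaehlerDifferential.D (MvPolynomial (Fin 2) R) A (a i)) = 0
    rw [this, Derivation.map_algebraMap, map_zero]
  apply LinearMap.ext_on_range (KaehlerDifferential.span_range_derivation (MvPolynomial (Fin 2) R) A)
  intro b
  exact Derivation.congr_fun hδ b

/-- At a node, a localization of `A` is a quotient of an algebra with two étale coordinates. -/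
theorem exists_surjection [Algebra.FiniteType R A] {T : Type u} [CommRing T] [Algebra K T] {𝔪 : Ideal T} {X Y : T}
    {φ : K ⊗[R] A →ₐ[K] T} (h : NodeData (ev R A K) 𝔪 X Y φ) :
    ∃ f : A, algebraMap A K f ≠ 0 ∧ ∃ (B : Type u) (_ : CommRing B) (_ : Algebra R B) (x : Fin 2 → B)
      (π : B →ₐ[R] Localization.Away f), IsEtaleCoord R x ∧ Function.Surjective π := by
  obtain ⟨a₁, a₂, ha⟩ := exists_pair h
  let a : Fin 2 → A := ![a₁, a₂]
  have ha' : ∀ δ : Derivation R A K, (∀ i, δ (a i) = 0) → δ = 0 := fun δ hδ => ha δ (hδ 0) (hδ 1)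
  letI := algMv R a
  haveI : IsScalarTower R (MvPolynomial (Fin 2) R) A := algMv_tower a
  letI : (RingHom.ker (algebraMap A K)).IsPrime := RingHom.ker_isPrime _
  haveI : Algebra.FiniteType (MvPolynomial (Fin 2) R) A := Algebra.FiniteType.of_restrictScalars_finiteType R _ _
  haveI : Algebra.IsUnramifiedAt (MvPolynomial (Fin 2) R) (RingHom.ker (algebraMap A K)) :=
    isUnramifiedAt_of_pair a ha'
  obtain ⟨f, hf, P, ψ, hψ⟩ := Algebra.IsUnramifiedAt.exists_hasStandardEtaleSurjectionOn
    (R := MvPolynomial (Fin 2) R) (RingHom.ker (algebraMap A K))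
  letI : Algebra R P.Ring := Algebra.compHom P.Ring (algebraMap R (MvPolynomial (Fin 2) R))
  haveI : IsScalarTower R (MvPolynomial (Fin 2) R) P.Ring := IsScalarTower.of_algebraMap_eq' rfl
  haveI : IsScalarTower R (MvPolynomial (Fin 2) R) (Localization.Away f) := by
    refine IsScalarTower.of_algebraMap_eq' ?_
    rw [IsScalarTower.algebraMap_eq R A (Localization.Away f),
      IsScalarTower.algebraMap_eq (MvPolynomial (Fin 2) R) A (Localization.Away f), RingHom.comp_assoc,
      ← IsScalarTower.algebraMap_eq R (MvPolynomial (Fin 2) R) A]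
  refine ⟨f, hf, P.Ring, inferInstance, inferInstance,
    fun i => algebraMap (MvPolynomial (Fin 2) R) P.Ring (MvPolynomial.X i), ψ.restrictScalars R, ?_, hψ⟩
  have : (MvPolynomial.aeval fun i => algebraMap (MvPolynomial (Fin 2) R) P.Ring (MvPolynomial.X i) :
      MvPolynomial (Fin 2) R →ₐ[R] P.Ring).toRingHom = algebraMap (MvPolynomial (Fin 2) R) P.Ring := by
    ext
    · simp [IsScalarTower.algebraMap_apply R (MvPolynomial (Fin 2) R) P.Ring]
    · simp
  rw [IsEtaleCoord, this, RingHom.etale_algebraMap]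
  infer_instance

end chart

end Groth.Agent.CurvesC.NodeAlg
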