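import Groth.Agent.CurvesC.NodeAlg

/-!
# Nodes: a plane chart with nondegenerate Hessian
-/

set_option autoImplicit false
set_option linter.style.haveILetI false

namespace Groth.Agent.CurvesC.NodeChart

open TensorProduct Groth.Agent.CurvesC.NodeEt Groth.Agent.CurvesC.NodeAlg

universe u

section away

variable {R : Type u} {A : Type u} {K : Type u} [CommRing R] [CommRing A] [Algebra R A] [Field K] [Algebra R K]
  [Algebra A K] [IsScalarTower R A K]

omit [Algebra A K] [IsScalarTower R A K] in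
theorem exists_pow_mul_eq {f : A} {A' : Type u} [CommRing A'] [Algebra A A'] [IsLocalization.Away f A']
    [Algebra R A'] [IsScalarTower R A A'] (w : K ⊗[R] A') :
    ∃ (k : ℕ) (z : K ⊗[R] A), (1 ⊗ₜ[R] algebraMap A A' f) ^ k * w =
      Algebra.TensorProduct.map (AlgHom.id K K) (IsScalarTower.toAlgHom R A A') z := by
  induction w with
  | zero => exact ⟨0, 0, by simp⟩
  | tmul k a' =>
    obtain ⟨n, a, ha⟩ := IsLocalization.Away.surj f a'
    refine ⟨n, k ⊗ₜ a, ?_⟩
    rw [Algebra.TensorProduct.tmul_pow, Algebra.TensorProduct.tmul_mul_tmul, Algebra.TensorProduct.map_tmul,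
      one_pow, one_mul, mul_comm, ha]
    rfl
  | add w w' hw hw' =>
    obtain ⟨k, z, hz⟩ := hw
    obtain ⟨k', z', hz'⟩ := hw'
    refine ⟨k + k', (1 ⊗ₜ[R] f) ^ k' * z + (1 ⊗ₜ[R] f) ^ k * z', ?_⟩
    have hf : Algebra.TensorProduct.map (AlgHom.id K K) (IsScalarTower.toAlgHom R A A') (1 ⊗ₜ[R] f) =
      (1 ⊗ₜ[R] algebraMap A A' f) := rfl
    rw [map_add, map_mul, map_mul, map_pow, map_pow, hf, ← hz, ← hz', pow_add]
    ring

/-- The data of a node pass to localizations. -/
theorem nodeData_away {T : Type u} [CommRing T] [Algebra K T] {𝔪 : Ideal T} {X Y : T}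
    {φ : K ⊗[R] A →ₐ[K] T} (h : NodeData (ev R A K) 𝔪 X Y φ)
    {f : A} {A' : Type u} [CommRing A'] [Algebra A A'] [IsLocalization.Away f A'] [Algebra R A']
    [IsScalarTower R A A'] [Algebra A' K] [IsScalarTower A A' K] [IsScalarTower R A' K] :
    ∃ φ' : K ⊗[R] A' →ₐ[K] T, NodeData (ev R A' K) 𝔪 X Y φ' := by
  have hfK : algebraMap A K f ≠ 0 := by
    rw [IsScalarTower.algebraMap_apply A A' K]
    exact ((IsLocalization.Away.algebraMap_isUnit f).map (algebraMap A' K)).ne_zero
  have hf : IsUnit (φ (1 ⊗ₜ[R] f)) := by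
    apply h.unit
    rw [h.mem_one_iff, ev_tmul, one_mul]
    exact hfK
  letI : Algebra R T := ((algebraMap K T).comp (algebraMap R K)).toAlgebra
  haveI : IsScalarTower R K T := IsScalarTower.of_algebraMap_eq' rfl
  let g₀ : A →ₐ[R] T := (φ.restrictScalars R).comp Algebra.TensorProduct.includeRight
  have hg₀ : IsUnit (g₀ f) := hf
  let g : A' →ₐ[R] T := 
    { IsLocalization.Away.lift f (g := g₀.toRingHom) hg₀ with
      commutes' := by
        intro r
        have : algebraMap R A' r = algebraMap A A' (algebraMap R A r) := IsScalarTower.algebraMap_apply R A A' r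
        simp only [RingHom.toMonoidHom_eq_coe, OneHom.toFun_eq_coe, MonoidHom.toOneHom_coe, MonoidHom.coe_coe, this]
        rw [IsLocalization.Away.lift_eq]
        exact g₀.commutes r }
  have hg : ∀ a, g (algebraMap A A' a) = φ (1 ⊗ₜ[R] a) := fun a => IsLocalization.Away.lift_eq f hg₀ a
  let φ' : K ⊗[R] A' →ₐ[K] T := Algebra.TensorProduct.lift (Algebra.ofId K T) g (fun _ _ => Commute.all _ _)
  let j := Algebra.TensorProduct.map (AlgHom.id K K) (IsScalarTower.toAlgHom R A A')
  have hφ' : ∀ z, φ' (j z) = φ z := by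
    intro z
    induction z with
    | zero => simp
    | add z z' hz hz' => rw [map_add, map_add, hz, hz', map_add]
    | tmul k a =>
      have e1 : j (k ⊗ₜ[R] a) = k ⊗ₜ[R] (algebraMap A A' a) := rfl
      rw [e1, Algebra.TensorProduct.lift_tmul, hg]
      rw [show k ⊗ₜ[R] a = algebraMap K _ k * (1 ⊗ₜ[R] a) by
        rw [Algebra.TensorProduct.algebraMap_apply, Algebra.TensorProduct.tmul_mul_tmul]; simp, map_mul,
        AlgHom.commutes]
      rfl
  have hev : ∀ z, ev R A' K (j z) = ev R A K z := by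
    intro z
    induction z with
    | zero => simp
    | add z z' hz hz' => rw [map_add, map_add, hz, hz', map_add]
    | tmul k a =>
      have e1 : j (k ⊗ₜ[R] a) = k ⊗ₜ[R] (algebraMap A A' a) := rfl
      rw [e1, ev_tmul, ev_tmul, ← IsScalarTower.algebraMap_apply]
  have hu : IsUnit ((1 : K) ⊗ₜ[R] algebraMap A A' f) :=
    (IsLocalization.Away.algebraMap_isUnit f).map (Algebra.TensorProduct.includeRight : A' →ₐ[R] K ⊗[R] A')
  have hu' : ∀ k : ℕ, IsUnit (((1 : K) ⊗ₜ[R] algebraMap A A' f) ^ k) := fun k => hu.pow k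
  have hone : ∀ w, φ' w ∈ 𝔪 ↔ ev R A' K w = 0 := by
    intro w
    obtain ⟨k, z, hz⟩ := exists_pow_mul_eq (f := f) w
    have h1 := h.mem_one_iff z
    change _ = j z at hz
    rw [← hφ', ← hev, ← hz, map_mul, map_mul, Ideal.unit_mul_mem_iff_mem _ ((hu' k).map φ'), mul_eq_zero,
      or_iff_right ((hu' k).map (ev R A' K)).ne_zero] at h1
    exact h1
  have hle : RingHom.ker (ev R A' K) ≤ Ideal.comap φ' 𝔪 := fun w hw => (hone w).mpr hw
  have hle' : RingHom.ker (ev R A K) ≤ Ideal.comap j (RingHom.ker (ev R A' K)) := fun w hw => by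
    rw [Ideal.mem_comap, RingHom.mem_ker, hev]
    exact hw
  refine ⟨φ', h.mul_eq, h.X_mem, h.Y_mem, h.unit, h.gen, h.indep, ?_, ?_, ?_⟩
  · intro N w
    constructor
    · intro hw
      obtain ⟨k, z, hz⟩ := exists_pow_mul_eq (f := f) w
      change _ = j z at hz
      rw [← Ideal.unit_mul_mem_iff_mem _ (hu' k), hz]
      have h1 : φ z ∈ 𝔪 ^ N := by
        rw [← hφ', ← hz, map_mul]
        exact Ideal.mul_mem_left _ _ hw
      have h2 := (h.mem_iff N z).mp h1
      have h3 := (Ideal.pow_right_mono hle' N).trans (Ideal.le_comap_pow j N)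
      exact h3 h2
    · intro hw
      exact ((Ideal.pow_right_mono hle N).trans (Ideal.le_comap_pow φ' N)) hw
  · obtain ⟨p, hp⟩ := h.exX
    exact ⟨j p, by rw [hφ']; exact hp⟩
  · obtain ⟨p, hp⟩ := h.exY
    exact ⟨j p, by rw [hφ']; exact hp⟩

end away

section plane

variable {K : Type u} [Field K] {S : Type u} [CommRing S] [Algebra K S] {e : S →ₐ[K] K}
  {t : Fin 2 → S}

/-- The maximal ideal at a `K`-point with étale coordinates `t` vanishing there is generated by `t` mod its square. -/
theorem gen_of_etaleCoord (ht : IsEtaleCoord K t) (het : ∀ i, e (t i) = 0) (z : S) (hz : e z = 0) :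
    ∃ c c' : K, z - algebraMap K S c * t 0 - algebraMap K S c' * t 1 ∈ (RingHom.ker e) ^ 2 := by
  let W : Submodule K S := ((RingHom.ker e) ^ 2).restrictScalars K ⊔ Submodule.span K {1, t 0, t 1}
  have hW : W = ⊤ := by
    by_contra hne
    obtain ⟨l, hl, hWl⟩ := Submodule.exists_le_ker_of_lt_top W (lt_top_iff_ne_top.mpr hne)
    apply hl
    letI : Algebra S K := e.toRingHom.toAlgebra
    haveI : IsScalarTower K S K := IsScalarTower.of_algebraMap_eq (fun k => (e.commutes k).symm)
    have hsm : ∀ (s : S) (k : K), s • k = e s * k := fun s k => rfl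
    have h1 : l 1 = 0 := hWl (Submodule.mem_sup_right (Submodule.subset_span (by simp)))
    have h2 : ∀ i, l (t i) = 0 := by
      intro i
      apply hWl
      apply Submodule.mem_sup_right
      apply Submodule.subset_span
      fin_cases i <;> simp
    have h3 : ∀ a ∈ (RingHom.ker e) ^ 2, l a = 0 := fun a ha => hWl (Submodule.mem_sup_left ha)
    let δ : Derivation K S K := Derivation.mk' l (by
      intro a b
      rw [hsm, hsm]
      have h4 : (a - algebraMap K S (e a)) * (b - algebraMap K S (e b)) ∈ (RingHom.ker e) ^ 2 := by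
        rw [pow_two]
        apply Ideal.mul_mem_mul <;> simp [RingHom.mem_ker]
      have h5 := h3 _ h4
      have h6 : (a - algebraMap K S (e a)) * (b - algebraMap K S (e b)) =
          a * b - e a • b - e b • a + (e a * e b) • (1 : S) := by
        simp only [Algebra.smul_def, map_mul]
        ring
      rw [h6, map_add, map_sub, map_sub, map_smul, map_smul, map_smul, h1, smul_eq_mul, smul_eq_mul] at h5
      linear_combination h5)
    have h7 := ht.der_eq_zero δ h2
    ext b
    exact Derivation.congr_fun h7 b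
  have hzW : z ∈ W := hW ▸ Submodule.mem_top
  obtain ⟨y, hy, w, hw, rfl⟩ := Submodule.mem_sup.mp hzW
  obtain ⟨c₀, w', hw', rfl⟩ := Submodule.mem_span_insert.mp hw
  obtain ⟨c, c', rfl⟩ := Submodule.mem_span_pair.mp hw'
  have hy0 : e y = 0 := by
    have : y ∈ RingHom.ker e := Ideal.pow_le_self two_ne_zero hy
    exact this
  have hc0 : c₀ = 0 := by
    simpa [hy0, het] using hz
  refine ⟨c, c', ?_⟩
  have : y + (c₀ • (1 : S) + (c • t 0 + c' • t 1)) - algebraMap K S c * t 0 - algebraMap K S c' * t 1 = y := by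
    rw [hc0]
    simp only [Algebra.smul_def, map_zero]
    ring
  rw [this]
  exact hy

/-- Structure of powers of the maximal ideal in terms of two generators `p, q`. -/
theorem pow_gen {p q : S} (hp : e p = 0) (hq : e q = 0)
    (hpq : ∀ z, e z = 0 → ∃ c c' : K, z - algebraMap K S c * p - algebraMap K S c' * q ∈ (RingHom.ker e) ^ 2)
    (M : ℕ) (z : S) (hz : z ∈ (RingHom.ker e) ^ (M + 2)) :
    ∃ (c c' : K) (w : S), w ∈ (RingHom.ker e) ^ M ∧
      z - algebraMap K S c * p ^ (M + 2) - algebraMap K S c' * q ^ (M + 2) - w * (p * q) ∈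
        (RingHom.ker e) ^ (M + 3) := by
  set n := RingHom.ker e with hn
  have hpn : p ∈ n := hp
  have hqn : q ∈ n := hq
  have hadd : ∀ (N : ℕ) (z z' : S), (∃ (c c' : K) (w : S), w ∈ n ^ N ∧
      z - algebraMap K S c * p ^ (N + 2) - algebraMap K S c' * q ^ (N + 2) - w * (p * q) ∈ n ^ (N + 3)) →
      (∃ (c c' : K) (w : S), w ∈ n ^ N ∧
      z' - algebraMap K S c * p ^ (N + 2) - algebraMap K S c' * q ^ (N + 2) - w * (p * q) ∈ n ^ (N + 3)) →
      (∃ (c c' : K) (w : S), w ∈ n ^ N ∧
      (z + z') - algebraMap K S c * p ^ (N + 2) - algebraMap K S c' * q ^ (N + 2) - w * (p * q) ∈ n ^ (N + 3)) := by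
    rintro N z z' ⟨c, c', w, hw, h⟩ ⟨d, d', v, hv, h'⟩
    refine ⟨c + d, c' + d', w + v, Ideal.add_mem _ hw hv, ?_⟩
    have := Ideal.add_mem _ h h'
    convert this using 1
    rw [map_add, map_add]
    ring
  induction M generalizing z with
  | zero =>
    rw [zero_add, pow_two] at hz
    induction hz using Submodule.mul_induction_on' with
    | add z _ z' _ h h' => exact hadd 0 z z' h h'
    | mem_mul_mem z₁ h₁ z₂ h₂ =>
      obtain ⟨c, c', hr⟩ := hpq z₁ h₁
      obtain ⟨d, d', hr'⟩ := hpq z₂ h₂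
      set r := z₁ - algebraMap K S c * p - algebraMap K S c' * q with hrdef
      set r' := z₂ - algebraMap K S d * p - algebraMap K S d' * q with hrdef'
      refine ⟨c * d, c' * d', algebraMap K S (c * d' + c' * d), by simp, ?_⟩
      have hz : z₁ * z₂ - algebraMap K S (c * d) * p ^ (0 + 2) - algebraMap K S (c' * d') * q ^ (0 + 2) -
          algebraMap K S (c * d' + c' * d) * (p * q) =
          (algebraMap K S c * p + algebraMap K S c' * q) * r' + r * z₂ := by
        rw [hrdef, hrdef']
        simp only [map_add, map_mul]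
        ring
      rw [hz, zero_add]
      refine Ideal.add_mem _ ?_ ?_
      · have : n ^ 3 = n * n ^ 2 := by rw [← pow_succ']
        rw [this]
        exact Ideal.mul_mem_mul (Ideal.add_mem _ (Ideal.mul_mem_left _ _ hpn) (Ideal.mul_mem_left _ _ hqn)) hr'
      · have : n ^ 3 = n ^ 2 * n := by rw [← pow_succ]
        rw [this]
        exact Ideal.mul_mem_mul hr h₂
  | succ M ih =>
    rw [show M + 1 + 2 = (M + 2) + 1 by ring, pow_succ] at hz
    induction hz using Submodule.mul_induction_on' with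
    | add z _ z' _ h h' => exact hadd (M + 1) z z' h h'
    | mem_mul_mem z₁ h₁ z₂ h₂ =>
      obtain ⟨c, c', w, hw, hr⟩ := ih z₁ h₁
      obtain ⟨d, d', hr'⟩ := hpq z₂ h₂
      set r := z₁ - algebraMap K S c * p ^ (M + 2) - algebraMap K S c' * q ^ (M + 2) - w * (p * q) with hrdef
      set r' := z₂ - algebraMap K S d * p - algebraMap K S d' * q with hrdef'
      refine ⟨c * d, c' * d', algebraMap K S (c * d') * p ^ (M + 1) + algebraMap K S (c' * d) * q ^ (M + 1) + w * z₂,
        ?_, ?_⟩
      · refine Ideal.add_mem _ (Ideal.add_mem _ ?_ ?_) ?_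
        · exact Ideal.mul_mem_left _ _ (Ideal.pow_mem_pow hpn _)
        · exact Ideal.mul_mem_left _ _ (Ideal.pow_mem_pow hqn _)
        · rw [pow_succ]
          exact Ideal.mul_mem_mul hw h₂
      have hz : z₁ * z₂ - algebraMap K S (c * d) * p ^ (M + 1 + 2) - algebraMap K S (c' * d') * q ^ (M + 1 + 2) -
          (algebraMap K S (c * d') * p ^ (M + 1) + algebraMap K S (c' * d) * q ^ (M + 1) + w * z₂) * (p * q) =
          (algebraMap K S c * p ^ (M + 2) + algebraMap K S c' * q ^ (M + 2)) * r' + r * z₂ := by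
        rw [hrdef, hrdef']
        simp only [map_mul]
        ring
      rw [hz]
      refine Ideal.add_mem _ ?_ ?_
      · have : n ^ (M + 1 + 3) = n ^ (M + 2) * n ^ 2 := by rw [← pow_add]
        rw [this]
        exact Ideal.mul_mem_mul (Ideal.add_mem _ (Ideal.mul_mem_left _ _ (Ideal.pow_mem_pow hpn _))
          (Ideal.mul_mem_left _ _ (Ideal.pow_mem_pow hqn _))) hr'
      · have : n ^ (M + 1 + 3) = n ^ (M + 3) * n := by rw [← pow_succ]
        rw [this]
        exact Ideal.mul_mem_mul hr h₂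

variable {S' : Type u} [CommRing S'] [Algebra K S'] {e' : S' →ₐ[K] K}
    {T : Type u} [CommRing T] [Algebra K T] {𝔪 : Ideal T} {X Y : T} {φ : S' →ₐ[K] T}

/-- Structure of the kernel of the surjection from a smooth surface germ onto a nodal germ. -/
theorem exists_kernel_gen [IsNoetherianRing S] (ht : IsEtaleCoord K t) (het : ∀ i, e (t i) = 0)
    (π : S →ₐ[K] S') (hπ : Function.Surjective π) (hee : ∀ z, e' (π z) = e z)
    (h : NodeData e' 𝔪 X Y φ) :
    ∃ hK p q : S, π hK = 0 ∧ e p = 0 ∧ e q = 0 ∧ hK - p * q ∈ (RingHom.ker e) ^ 3 ∧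
      e (ht.pd 0 p) * e (ht.pd 1 q) - e (ht.pd 1 p) * e (ht.pd 0 q) ≠ 0 ∧
      RingHom.ker π ≤ (RingHom.ker e) ^ 2 ∧
      ∀ j, π j = 0 → ∃ b, j - b * hK ∈ (RingHom.ker e) * (RingHom.ker π) := by
  set n := RingHom.ker e with hn
  set J := RingHom.ker π with hJ
  obtain ⟨p', hp'⟩ := h.exX
  obtain ⟨q', hq'⟩ := h.exY
  obtain ⟨p, rfl⟩ := hπ p'
  obtain ⟨q, rfl⟩ := hπ q'
  have hle : 𝔪 ^ 2 ≤ 𝔪 := Ideal.pow_le_self two_ne_zero
  have hφp : φ (π p) ∈ 𝔪 := by
    have := 𝔪.add_mem (hle hp') h.X_mem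
    simpa using this
  have hφq : φ (π q) ∈ 𝔪 := by
    have := 𝔪.add_mem (hle hq') h.Y_mem
    simpa using this
  have hp : e p = 0 := by
    rw [← hee, ← h.mem_one_iff]
    exact hφp
  have hq : e q = 0 := by
    rw [← hee, ← h.mem_one_iff]
    exact hφq
  have hpn : p ∈ n := hp
  have hqn : q ∈ n := hq
  -- the map `φ ∘ π` respects filtrations
  have hfil1 : ∀ z ∈ n, φ (π z) ∈ 𝔪 := fun z hz => by
    rw [h.mem_one_iff, hee]
    exact hz
  have hfil : ∀ N, ∀ z ∈ n ^ N, φ (π z) ∈ 𝔪 ^ N := by
    intro N z hz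
    have h1 : n ≤ Ideal.comap (φ.comp π) 𝔪 := fun z hz => hfil1 z hz
    exact ((Ideal.pow_right_mono h1 N).trans (Ideal.le_comap_pow (φ.comp π) N)) hz
  -- linear independence of p, q modulo n^2
  have hind : ∀ c c' : K, algebraMap K S c * p + algebraMap K S c' * q ∈ n ^ 2 → c = 0 ∧ c' = 0 := by
    intro c c' hc
    have h1 := hfil 2 _ hc
    apply h.indep 1 c c' le_rfl
    have h2 : algebraMap K T c * X ^ 1 + algebraMap K T c' * Y ^ 1 =
        φ (π (algebraMap K S c * p + algebraMap K S c' * q)) - algebraMap K T c * (φ (π p) - X) -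
          algebraMap K T c' * (φ (π q) - Y) := by
      simp only [map_add, map_mul, AlgHom.commutes]
      ring
    rw [h2]
    exact Ideal.sub_mem _ (Ideal.sub_mem _ h1 (Ideal.mul_mem_left _ _ hp')) (Ideal.mul_mem_left _ _ hq')
  -- derivations lower the order by one
  have hder1 : ∀ i, ∀ z ∈ n ^ 2, e (ht.pd i z) = 0 := by
    intro i z hz
    rw [pow_two] at hz
    induction hz using Submodule.mul_induction_on' with
    | add a _ b _ ha hb => rw [map_add, map_add, ha, hb, add_zero]
    | mem_mul_mem a ha b hb =>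
      rw [Derivation.leibniz, map_add, smul_eq_mul, smul_eq_mul, map_mul, map_mul]
      rw [show e a = 0 from ha, show e b = 0 from hb]
      simp
  have hpd : ∀ i j, e (ht.pd i (t j)) = if i = j then 1 else 0 := by
    intro i j
    rw [ht.pd_coord]
    split <;> simp
  have hcoef : ∀ z, e z = 0 → z - algebraMap K S (e (ht.pd 0 z)) * t 0 - algebraMap K S (e (ht.pd 1 z)) * t 1 ∈ n ^ 2 := by
    intro z hz
    obtain ⟨c, c', hc⟩ := gen_of_etaleCoord ht het z hz
    have key : ∀ i, e (ht.pd i z) = c * (if i = 0 then 1 else 0) + c' * (if i = 1 then 1 else 0) := by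
      intro i
      have h0 := hder1 i _ hc
      simp only [map_sub, Derivation.leibniz, Derivation.map_algebraMap, smul_eq_mul, mul_zero, add_zero,
        map_mul, hpd, AlgHom.commutes, Algebra.algebraMap_self, RingHom.id_apply] at h0
      linear_combination h0
    have k0 := key 0
    have k1 := key 1
    simp only [Fin.isValue, ↓reduceIte, mul_one, zero_ne_one, mul_zero, add_zero] at k0
    simp only [Fin.isValue, one_ne_zero, ↓reduceIte, mul_zero, mul_one, zero_add] at k1
    rw [k0, k1]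
    exact hc
  have hdet : e (ht.pd 0 p) * e (ht.pd 1 q) - e (ht.pd 1 p) * e (ht.pd 0 q) ≠ 0 := by
    intro h0
    have hp2 := hcoef p hp
    have hq2 := hcoef q hq
    set a := e (ht.pd 0 p)
    set a' := e (ht.pd 1 p)
    set b := e (ht.pd 0 q)
    set b' := e (ht.pd 1 q)
    -- b' p - a' q and b p - a q are in n^2
    have h1 : algebraMap K S b' * p + algebraMap K S (-a') * q ∈ n ^ 2 := by
      have : algebraMap K S b' * p + algebraMap K S (-a') * q =
        algebraMap K S b' * (p - algebraMap K S a * t 0 - algebraMap K S a' * t 1) -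
        algebraMap K S a' * (q - algebraMap K S b * t 0 - algebraMap K S b' * t 1) +
        algebraMap K S (a * b' - a' * b) * t 0 := by
        simp only [map_neg, map_sub, map_mul]
        ring
      rw [this, h0, map_zero, zero_mul, add_zero]
      exact Ideal.sub_mem _ (Ideal.mul_mem_left _ _ hp2) (Ideal.mul_mem_left _ _ hq2)
    have h2 : algebraMap K S b * p + algebraMap K S (-a) * q ∈ n ^ 2 := by
      have : algebraMap K S b * p + algebraMap K S (-a) * q =
        algebraMap K S b * (p - algebraMap K S a * t 0 - algebraMap K S a' * t 1) -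
        algebraMap K S a * (q - algebraMap K S b * t 0 - algebraMap K S b' * t 1) -
        algebraMap K S (a * b' - a' * b) * t 1 := by
        simp only [map_neg, map_sub, map_mul]
        ring
      rw [this, h0, map_zero, zero_mul, sub_zero]
      exact Ideal.sub_mem _ (Ideal.mul_mem_left _ _ hp2) (Ideal.mul_mem_left _ _ hq2)
    obtain ⟨e1, e2⟩ := hind _ _ h1
    obtain ⟨e3, e4⟩ := hind _ _ h2
    rw [neg_eq_zero] at e2 e4
    rw [e4, e2, map_zero, zero_mul, zero_mul, sub_zero, sub_zero] at hp2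
    have := (hind 1 0 (by simpa using hp2)).1
    exact one_ne_zero this
  -- p, q generate n modulo n^2
  have hpq : ∀ z, e z = 0 → ∃ c c' : K, z - algebraMap K S c * p - algebraMap K S c' * q ∈ n ^ 2 := by
    intro z hz
    have hp2 := hcoef p hp
    have hq2 := hcoef q hq
    have hz2 := hcoef z hz
    set a := e (ht.pd 0 p)
    set a' := e (ht.pd 1 p)
    set b := e (ht.pd 0 q)
    set b' := e (ht.pd 1 q)
    set r := e (ht.pd 0 z)
    set r' := e (ht.pd 1 z)
    set D := a * b' - a' * b with hD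
    refine ⟨(r * b' - r' * b) / D, (r' * a - r * a') / D, ?_⟩
    have h1 : r = (r * b' - r' * b) / D * a + (r' * a - r * a') / D * b := by
      field_simp
      rw [hD]; ring
    have h2 : r' = (r * b' - r' * b) / D * a' + (r' * a - r * a') / D * b' := by
      field_simp
      rw [hD]; ring
    set c := (r * b' - r' * b) / D
    set c' := (r' * a - r * a') / D
    have : z - algebraMap K S c * p - algebraMap K S c' * q =
      (z - algebraMap K S r * t 0 - algebraMap K S r' * t 1) -
      algebraMap K S c * (p - algebraMap K S a * t 0 - algebraMap K S a' * t 1) -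
      algebraMap K S c' * (q - algebraMap K S b * t 0 - algebraMap K S b' * t 1) +
      algebraMap K S (r - (c * a + c' * b)) * t 0 + algebraMap K S (r' - (c * a' + c' * b')) * t 1 := by
      simp only [map_sub, map_add, map_mul]
      ring
    rw [this, ← h1, ← h2, sub_self, sub_self, map_zero, zero_mul, zero_mul, add_zero, add_zero]
    exact Ideal.sub_mem _ (Ideal.sub_mem _ hz2 (Ideal.mul_mem_left _ _ hp2)) (Ideal.mul_mem_left _ _ hq2)
  -- the element h
  have hmapn : (RingHom.ker e') ^ 3 ≤ Ideal.map π (n ^ 3) := by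
    rw [Ideal.map_pow]
    apply Ideal.pow_right_mono
    intro z' hz'
    obtain ⟨z, rfl⟩ := hπ z'
    apply Ideal.mem_map_of_mem
    rw [hn, RingHom.mem_ker, ← hee]
    exact hz'
  have hXpYq : φ (π (p * q)) ∈ 𝔪 ^ 3 := by
    have h1 : φ (π (p * q)) = X * Y + (X * (φ (π q) - Y) + (φ (π p) - X) * Y + (φ (π p) - X) * (φ (π q) - Y)) := by
      rw [map_mul, map_mul]; ring
    rw [h1, h.mul_eq, zero_add]
    have e3 : 𝔪 ^ 3 = 𝔪 * 𝔪 ^ 2 := by rw [← pow_succ']
    have e3' : 𝔪 ^ 3 = 𝔪 ^ 2 * 𝔪 := by rw [← pow_succ]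
    refine Ideal.add_mem _ (Ideal.add_mem _ ?_ ?_) ?_
    · rw [e3]; exact Ideal.mul_mem_mul h.X_mem hq'
    · rw [e3']; exact Ideal.mul_mem_mul hp' h.Y_mem
    · rw [e3]; exact Ideal.mul_mem_mul (hle hp') hq'
  have hpq3 : π (p * q) ∈ Ideal.map π (n ^ 3) := hmapn ((h.mem_iff 3 _).mp hXpYq)
  obtain ⟨r, hr, hrpq⟩ := (Ideal.mem_map_iff_of_surjective π hπ).mp hpq3
  set hK := p * q - r with hKdef
  have hπK : π hK = 0 := by rw [hKdef, map_sub, hrpq, sub_self]
  have hKpq : hK - p * q ∈ n ^ 3 := by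
    have : hK - p * q = - r := by rw [hKdef]; ring
    rw [this]
    exact Ideal.neg_mem_iff _ |>.mpr hr
  -- the kernel is contained in n^2
  have hJn : J ≤ n ^ 2 := by
    intro j hj
    have hj0 : π j = 0 := hj
    have hej : e j = 0 := by rw [← hee, hj0, map_zero]
    obtain ⟨c, c', hc⟩ := hpq j hej
    have h1 := hfil 2 _ hc
    have h2 : c = 0 ∧ c' = 0 := by
      have h3 : algebraMap K T c * X ^ 1 + algebraMap K T c' * Y ^ 1 =
          - φ (π (j - algebraMap K S c * p - algebraMap K S c' * q)) - algebraMap K T c * (φ (π p) - X) -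
          algebraMap K T c' * (φ (π q) - Y) := by
        simp only [map_sub, map_mul, AlgHom.commutes, hj0, map_zero]
        ring
      apply h.indep 1 c c' le_rfl
      rw [h3]
      exact Ideal.sub_mem _ (Ideal.sub_mem _ (Ideal.neg_mem_iff _ |>.mpr h1) (Ideal.mul_mem_left _ _ hp'))
        (Ideal.mul_mem_left _ _ hq')
    rw [h2.1, h2.2] at hc
    simpa using hc
  -- approximation
  have happrox : ∀ (N : ℕ) (j : S), π j = 0 → ∃ b, j - b * hK ∈ n ^ (N + 2) := by
    intro N j hj
    induction N with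
    | zero => exact ⟨0, by rw [zero_mul, sub_zero]; exact hJn hj⟩
    | succ N ih =>
      obtain ⟨b, hb⟩ := ih
      obtain ⟨c, c', w, hw, hc⟩ := pow_gen hp hq hpq N _ hb
      set y := j - b * hK with hy
      have hπy : π y = 0 := by rw [hy, map_sub, map_mul, hj, hπK, mul_zero, sub_zero]
      have h1 := hfil _ _ hc
      have hXN : ∀ (U V : T) (N : ℕ), U ∈ 𝔪 → V ∈ 𝔪 → U - V ∈ 𝔪 ^ 2 → U ^ (N + 1) - V ^ (N + 1) ∈ 𝔪 ^ (N + 2) := by
        intro U V N hU hV hUV
        induction N with
        | zero => simpa using hUV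
        | succ N ih =>
          have : U ^ (N + 1 + 1) - V ^ (N + 1 + 1) = U * (U ^ (N + 1) - V ^ (N + 1)) + (U - V) * V ^ (N + 1) := by
            ring
          rw [this]
          refine Ideal.add_mem _ ?_ ?_
          · rw [show N + 1 + 2 = (N + 2) + 1 by ring, pow_succ']
            exact Ideal.mul_mem_mul hU ih
          · rw [show N + 1 + 2 = 2 + (N + 1) by ring, pow_add]
            exact Ideal.mul_mem_mul hUV (Ideal.pow_mem_pow hV _)
      have hcc : c = 0 ∧ c' = 0 := by
        apply h.indep (N + 2) c c' (by omega)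
        have h3 : algebraMap K T c * X ^ (N + 2) + algebraMap K T c' * Y ^ (N + 2) =
            - φ (π (y - algebraMap K S c * p ^ (N + 2) - algebraMap K S c' * q ^ (N + 2) - w * (p * q))) -
            algebraMap K T c * (φ (π p) ^ (N + 1 + 1) - X ^ (N + 1 + 1)) -
            algebraMap K T c' * (φ (π q) ^ (N + 1 + 1) - Y ^ (N + 1 + 1)) - φ (π w) * φ (π (p * q)) := by
          simp only [map_sub, map_mul, map_pow, AlgHom.commutes, hπy, map_zero]
          ring
        rw [h3]
        refine Ideal.sub_mem _ (Ideal.sub_mem _ (Ideal.sub_mem _ (Ideal.neg_mem_iff _ |>.mpr h1)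
          (Ideal.mul_mem_left _ _ ?_)) (Ideal.mul_mem_left _ _ ?_)) ?_
        · exact hXN _ _ (N + 1) hφp h.X_mem hp'
        · exact hXN _ _ (N + 1) hφq h.Y_mem hq'
        · rw [show N + 2 + 1 = N + 3 by ring, pow_add]
          exact Ideal.mul_mem_mul (hfil N w hw) hXpYq
      refine ⟨b + w, ?_⟩
      rw [hcc.1, hcc.2, map_zero, zero_mul, zero_mul, sub_zero, sub_zero] at hc
      have h4 : j - (b + w) * hK = (y - w * (p * q)) - w * (hK - p * q) := by
        rw [hy]; ring
      rw [h4, show N + 1 + 2 = N + 3 by ring]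
      refine Ideal.sub_mem _ hc ?_
      rw [pow_add]
      exact Ideal.mul_mem_mul hw hKpq
  -- Artin-Rees
  have hAR : ∀ j, π j = 0 → ∃ b, j - b * hK ∈ n * J := by
    obtain ⟨k, hk⟩ := Ideal.exists_pow_inf_eq_pow_smul (R := S) (M := S) n J
    intro j hj
    obtain ⟨b, hb⟩ := happrox k j hj
    refine ⟨b, ?_⟩
    have h1 := hk (k + 1) (by omega)
    have h2 : j - b * hK ∈ (n ^ (k + 1) • (⊤ : Submodule S S) ⊓ J : Submodule S S) := by
      refine ⟨?_, ?_⟩
      · have : n ^ (k + 1) • (⊤ : Submodule S S) = n ^ (k + 1) := by simp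
        rw [this]
        exact Ideal.pow_le_pow_right (by omega) hb
      · change π _ = 0
        rw [map_sub, map_mul, hj, hπK, mul_zero, sub_zero]
    rw [h1, show k + 1 - k = 1 by omega, pow_one] at h2
    exact (Submodule.smul_mono le_rfl inf_le_right : n • (n ^ k • (⊤ : Submodule S S) ⊓ J) ≤ n • J) h2
  exact ⟨hK, p, q, hπK, hp, hq, hKpq, hdet, hJn, hAR⟩

end plane

end Groth.Agent.CurvesC.NodeChart
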