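import Groth.Agent.CurvesC.NodeChart

/-!
# Nodes: a plane chart with nondegenerate Hessian (descent from the geometric point)
-/

set_option autoImplicit false
set_option linter.style.haveILetI false

namespace Groth.Agent.CurvesC.NodeChartB

open TensorProduct Groth.Agent.CurvesC.NodeEt Groth.Agent.CurvesC.NodeAlg Groth.Agent.CurvesC.NodeChart

universe u

section general

variable {R : Type u} {B : Type u} {C : Type u} [CommRing R] [CommRing B] [Algebra R B] [CommRing C] [Algebra R C]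
  {x : Fin 2 → B}

attribute [local instance] Algebra.TensorProduct.rightAlgebra in
theorem pd_baseChange (hx : IsEtaleCoord R x) (D : Derivation C (C ⊗[R] B) (C ⊗[R] B)) (i : Fin 2)
    (hD : ∀ j, D ((1 : C) ⊗ₜ[R] x j) = if i = j then 1 else 0) (b : B) :
    D ((1 : C) ⊗ₜ[R] b) = (1 : C) ⊗ₜ[R] (hx.pd i b) := by
  let δ₁ : Derivation R B (C ⊗[R] B) := (D.restrictScalars R).compAlgebraMap B
  let δ₂ : Derivation R B (C ⊗[R] B) := (Algebra.linearMap B (C ⊗[R] B)).compDer (hx.pd i)
  have h : δ₁ = δ₂ := by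
    apply hx.der_ext
    intro j
    change D ((1 : C) ⊗ₜ[R] x j) = (1 : C) ⊗ₜ[R] (hx.pd i (x j))
    rw [hD, hx.pd_coord]
    split
    · rfl
    · simp
  exact Derivation.congr_fun h b

end general

section coord

variable {R : Type u} {B : Type u} {K : Type u} [CommRing R] [CommRing B] [Algebra R B] [Field K] [Algebra R K]
  [Algebra B K] [IsScalarTower R B K] {x : Fin 2 → B}

/-- The centred coordinates on `K ⊗[R] B` at the `K`-point `B → K`. -/
noncomputable def tc (R : Type u) {B : Type u} (K : Type u) [CommRing R] [CommRing B] [Algebra R B] [Field K] [Algebra R K]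
    [Algebra B K] (x : Fin 2 → B) : Fin 2 → K ⊗[R] B :=
  fun i => (1 : K) ⊗ₜ[R] x i - algebraMap K (K ⊗[R] B) (algebraMap B K (x i))

omit [IsScalarTower R B K] in
theorem tc_etale (hx : IsEtaleCoord R x) : IsEtaleCoord K (tc R K x) := by
  have h1 := hx.baseChange K
  haveI := h1.smooth
  refine isEtaleCoord_of_basis _ h1.basis (fun i => ?_)
  rw [h1.basis_apply, tc, map_sub, Derivation.map_algebraMap, sub_zero]

theorem ev_tc (i : Fin 2) : ev R B K (tc R K x i) = 0 := by
  rw [tc, map_sub, ev_tmul, AlgHom.commutes]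
  simp

omit [IsScalarTower R B K] in
theorem tc_pd (hx : IsEtaleCoord R x) (i : Fin 2) (b : B) :
    (tc_etale (K := K) hx).pd i ((1 : K) ⊗ₜ[R] b) = (1 : K) ⊗ₜ[R] (hx.pd i b) := by
  apply pd_baseChange
  intro j
  have h1 : (1 : K) ⊗ₜ[R] x j = tc R K x j + algebraMap K (K ⊗[R] B) (algebraMap B K (x j)) := by
    rw [tc]; ring
  rw [h1, map_add, Derivation.map_algebraMap, add_zero, IsEtaleCoord.pd_coord]

end coord

section hess

variable {K : Type u} [Field K] {S : Type u} [CommRing S] [Algebra K S] {e : S →ₐ[K] K}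

/-- Derivations lower the order of vanishing by one. -/
theorem der_mem_pow (D : Derivation K S S) (I : Ideal S) (N : ℕ) (z : S) (hz : z ∈ I ^ (N + 1)) :
    D z ∈ I ^ N := by
  induction N generalizing z with
  | zero => simp
  | succ N ih =>
    rw [pow_succ] at hz
    induction hz using Submodule.mul_induction_on' with
    | add a _ b _ ha hb => rw [map_add]; exact Ideal.add_mem _ ha hb
    | mem_mul_mem a ha b hb =>
      rw [Derivation.leibniz, smul_eq_mul, smul_eq_mul]
      refine Ideal.add_mem _ (Ideal.mul_mem_right _ _ ha) ?_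
      rw [pow_succ', ]
      exact Ideal.mul_mem_mul hb (ih a ha)

theorem hess_mul (D D' : Derivation K S S) (p q : S) (hp : e p = 0) (hq : e q = 0) :
    e (D (D' (p * q))) = e (D p) * e (D' q) + e (D' p) * e (D q) := by
  simp only [Derivation.leibniz, smul_eq_mul, map_add, map_mul, hp, hq]
  ring

end hess

section main

variable {R : Type u} {B A : Type u} {K : Type u} [CommRing R] [CommRing B] [Algebra R B] [CommRing A] [Algebra R A]
  [Field K] [Algebra R K] [Algebra B K] [IsScalarTower R B K] [Algebra A K] [IsScalarTower R A K]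
  {x : Fin 2 → B} {T : Type u} [CommRing T] [Algebra K T] {𝔪 : Ideal T} {X Y : T} {φ : K ⊗[R] A →ₐ[K] T}

/-- The base change of the surjection to `K`. -/
noncomputable abbrev piK (K : Type u) [Field K] [Algebra R K] (π : B →ₐ[R] A) : K ⊗[R] B →ₐ[K] K ⊗[R] A :=
  Algebra.TensorProduct.map (AlgHom.id K K) π

theorem ev_piK (π : B →ₐ[R] A) (hχ : ∀ b, algebraMap A K (π b) = algebraMap B K b) (z : K ⊗[R] B) :
    ev R A K (piK K π z) = ev R B K z := by
  induction z with
  | zero => simp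
  | add z z' hz hz' => rw [map_add, map_add, hz, hz', map_add]
  | tmul k b => simp [hχ]

omit [Algebra B K] [IsScalarTower R B K] [Algebra A K] [IsScalarTower R A K] in
theorem piK_surjective (π : B →ₐ[R] A) (hπ : Function.Surjective π) : Function.Surjective (piK K π) := by
  intro z
  induction z with
  | zero => exact ⟨0, map_zero _⟩
  | add z z' hz hz' =>
    obtain ⟨w, rfl⟩ := hz
    obtain ⟨w', rfl⟩ := hz'
    exact ⟨w + w', map_add _ _ _⟩
  | tmul k a =>
    obtain ⟨b, rfl⟩ := hπ a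
    exact ⟨k ⊗ₜ b, rfl⟩

omit [Algebra B K] [IsScalarTower R B K] [Algebra A K] [IsScalarTower R A K] in
theorem ker_piK (π : B →ₐ[R] A) (hπ : Function.Surjective π) :
    RingHom.ker (piK K π) = (RingHom.ker π).map (Algebra.TensorProduct.includeRight : B →ₐ[R] K ⊗[R] B) := by
  have := Algebra.TensorProduct.lTensor_ker (R := R) (A := K) π hπ
  exact this

/-- The generator of the kernel, first part: an element `h₀` of the kernel generating it at the geometric point. -/
theorem exists_generator_geom (hx : IsEtaleCoord R x) (π : B →ₐ[R] A) (hπ : Function.Surjective π)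
    (hχ : ∀ b, algebraMap A K (π b) = algebraMap B K b) (h : NodeData (ev R A K) 𝔪 X Y φ) :
    ∃ h₀ : B, π h₀ = 0 ∧ (∀ i, algebraMap B K (hx.pd i h₀) = 0) ∧
      algebraMap B K (hx.pd 0 (hx.pd 0 h₀) * hx.pd 1 (hx.pd 1 h₀) - hx.pd 0 (hx.pd 1 h₀) * hx.pd 1 (hx.pd 0 h₀)) ≠ 0 ∧
      ∀ j, π j = 0 → ∃ b, (1 : K) ⊗ₜ[R] j - b * ((1 : K) ⊗ₜ[R] h₀) ∈
        (RingHom.ker (ev R B K)) * (RingHom.ker (piK K π)) := by
  haveI := hx.smooth
  haveI : Algebra.FiniteType K (K ⊗[R] B) := inferInstance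
  haveI : IsNoetherianRing (K ⊗[R] B) := Algebra.FiniteType.isNoetherianRing K _
  set ht := tc_etale (K := K) hx with htdef
  obtain ⟨hK, p, q, hπK, hp, hq, hKpq, hdet, hJn, hAR⟩ := exists_kernel_gen ht (fun i => ev_tc i) (piK K π)
    (piK_surjective π hπ) (ev_piK π hχ) h
  set n := RingHom.ker (ev R B K) with hn
  set J := RingHom.ker (piK K π) with hJ
  have hnJ : n * J ≤ n ^ 3 := by
    have : n ^ 3 = n * n ^ 2 := by rw [← pow_succ']
    rw [this]
    exact Ideal.mul_mono_right hJn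
  -- derivations and the Hessian
  have hd2 : ∀ (D : Derivation K (K ⊗[R] B) (K ⊗[R] B)) z, z ∈ n ^ 2 → ev R B K (D z) = 0 := by
    intro D z hz
    have := der_mem_pow D n 1 z hz
    rw [pow_one] at this
    exact this
  have hd3 : ∀ (D D' : Derivation K (K ⊗[R] B) (K ⊗[R] B)) z, z ∈ n ^ 3 → ev R B K (D (D' z)) = 0 := by
    intro D D' z hz
    exact hd2 D _ (der_mem_pow D' n 2 z hz)
  have hKn : hK ∉ n ^ 3 := by
    intro hmem
    have hpqn : p * q ∈ n ^ 3 := by
      have := Ideal.sub_mem _ hmem hKpq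
      simpa using this
    apply hdet
    have h00 := hd3 (ht.pd 0) (ht.pd 0) _ hpqn
    have h11 := hd3 (ht.pd 1) (ht.pd 1) _ hpqn
    have h01 := hd3 (ht.pd 0) (ht.pd 1) _ hpqn
    rw [hess_mul _ _ p q hp hq] at h00 h11 h01
    have hsq : (ev R B K (ht.pd 0 p) * ev R B K (ht.pd 1 q) - ev R B K (ht.pd 1 p) * ev R B K (ht.pd 0 q)) ^ 2 = 0 := by
      linear_combination (ev R B K (ht.pd 0 p) * ev R B K (ht.pd 1 q) + ev R B K (ht.pd 1 p) * ev R B K (ht.pd 0 q)) * h01
        - (ev R B K (ht.pd 1 p) * ev R B K (ht.pd 1 q) + ev R B K (ht.pd 1 p) * ev R B K (ht.pd 1 q)) * h00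
    exact pow_eq_zero_iff two_ne_zero |>.mp hsq
  -- choose `h₀`
  have hex : ∃ h₀ : B, π h₀ = 0 ∧ (1 : K) ⊗ₜ[R] h₀ ∉ n * J := by
    by_contra hcon
    push Not at hcon
    have h1 : J ≤ n * J := by
      rw [hJ, ker_piK π hπ, Ideal.map_le_iff_le_comap]
      intro j hj
      have := hcon j hj
      rw [hJ, ker_piK π hπ] at this
      exact this
    exact hKn (hnJ (h1 hπK))
  obtain ⟨h₀, hh₀, hh₀n⟩ := hex
  have hπ0 : piK K π ((1 : K) ⊗ₜ[R] h₀) = 0 := by
    simp [hh₀]
  obtain ⟨b₀, hb₀⟩ := hAR _ hπ0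
  set c₀ := ev R B K b₀ with hc₀
  have hc₀ne : c₀ ≠ 0 := by
    intro h0
    apply hh₀n
    have h1 : b₀ * hK ∈ n * J := Ideal.mul_mem_mul h0 hπK
    have := Ideal.add_mem _ hb₀ h1
    simpa using this
  -- 1 ⊗ h₀ ≡ c₀ hK mod n J
  have hcK : (1 : K) ⊗ₜ[R] h₀ - algebraMap K _ c₀ * hK ∈ n * J := by
    have h1 : (b₀ - algebraMap K _ c₀) * hK ∈ n * J := by
      apply Ideal.mul_mem_mul _ hπK
      rw [hn, RingHom.mem_ker, map_sub, AlgHom.commutes]
      simp [hc₀]
    have := Ideal.add_mem _ hb₀ h1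
    convert this using 1
    ring
  have hcpq : (1 : K) ⊗ₜ[R] h₀ - algebraMap K _ c₀ * (p * q) ∈ n ^ 3 := by
    have h1 := Ideal.add_mem _ (hnJ hcK) (Ideal.mul_mem_left _ (algebraMap K _ c₀) hKpq)
    convert h1 using 1
    ring
  have hev1 : ∀ b : B, ev R B K ((1 : K) ⊗ₜ[R] b) = algebraMap B K b := fun b => by simp
  have hess : ∀ i j, algebraMap B K (hx.pd i (hx.pd j h₀)) =
      c₀ * (ev R B K (ht.pd i p) * ev R B K (ht.pd j q) + ev R B K (ht.pd j p) * ev R B K (ht.pd i q)) := by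
    intro i j
    rw [← hev1, ← tc_pd hx i, ← tc_pd hx j]
    have h1 := hd3 (ht.pd i) (ht.pd j) _ hcpq
    rw [map_sub, map_sub, map_sub, ← Algebra.smul_def, Derivation.map_smul, Derivation.map_smul, map_smul,
      hess_mul _ _ p q hp hq, smul_eq_mul] at h1
    linear_combination h1
  refine ⟨h₀, hh₀, ?_, ?_, ?_⟩
  · intro i
    rw [← hev1, ← tc_pd hx i]
    exact hd2 _ _ (hJn hπ0)
  · rw [map_sub, map_mul, map_mul, hess, hess, hess, hess]
    intro h0
    apply hdet
    have hsq : c₀ ^ 2 * (ev R B K (ht.pd 0 p) * ev R B K (ht.pd 1 q) - ev R B K (ht.pd 1 p) * ev R B K (ht.pd 0 q)) ^ 2 = 0 := by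
      linear_combination - h0
    rcases mul_eq_zero.mp hsq with h1 | h1
    · exact absurd (pow_eq_zero_iff two_ne_zero |>.mp h1) hc₀ne
    · exact pow_eq_zero_iff two_ne_zero |>.mp h1
  · intro j hj
    have hπj : piK K π ((1 : K) ⊗ₜ[R] j) = 0 := by simp [hj]
    obtain ⟨b, hb⟩ := hAR _ hπj
    refine ⟨b * algebraMap K _ c₀⁻¹, ?_⟩
    have h1 : b * algebraMap K _ c₀⁻¹ * ((1 : K) ⊗ₜ[R] h₀ - algebraMap K _ c₀ * hK) ∈ n * J :=
      Ideal.mul_mem_left _ _ hcK
    have h2 := Ideal.sub_mem _ hb h1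
    convert h2 using 1
    have h3 : algebraMap K (K ⊗[R] B) c₀⁻¹ * algebraMap K _ c₀ = 1 := by
      rw [← map_mul, inv_mul_cancel₀ hc₀ne, map_one]
    linear_combination (-(b * hK)) * h3

omit [Algebra A K] [IsScalarTower R A K] in
/-- Descent: by flatness of `A` over `R`, an element generating the kernel at the geometric point generates it
near the point. -/
theorem exists_mul_mem [Module.Flat R A] (π : B →ₐ[R] A) (hπ : Function.Surjective π)
    (hfg : (RingHom.ker π).FG) (h₀ : B) (hh₀ : π h₀ = 0)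
    (hgen : ∀ j, π j = 0 → ∃ b, (1 : K) ⊗ₜ[R] j - b * ((1 : K) ⊗ₜ[R] h₀) ∈
        (RingHom.ker (ev R B K)) * (RingHom.ker (piK K π))) :
    ∃ g : B, algebraMap B K g ≠ 0 ∧ ∀ j, π j = 0 → g * j ∈ Ideal.span {h₀} := by
  -- every `B`-linear functional on `J = ker π` killing `h₀` vanishes
  have key : ∀ l : RingHom.ker π →ₗ[B] K, l ⟨h₀, hh₀⟩ = 0 → l = 0 := by
    intro l hl
    let ι : RingHom.ker π →ₗ[R] B := (Submodule.subtype (RingHom.ker π)).restrictScalars R
    let lR : RingHom.ker π →ₗ[R] K := l.restrictScalars R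
    let lK : K ⊗[R] RingHom.ker π →ₗ[K] K := lR.liftBaseChange K
    have hlK : ∀ k j, lK (k ⊗ₜ j) = k * l j := fun k j => by simp [lK, lR]
    let ιK : K ⊗[R] RingHom.ker π →ₗ[R] K ⊗[R] B := ι.lTensor K
    have hιK : ∀ k j, ιK (k ⊗ₜ j) = k ⊗ₜ (j : B) := fun k j => by simp [ιK, ι]
    have hinj : Function.Injective ιK := by
      apply LinearMap.lTensor_injective_of_exact_of_flat (π : B →ₗ[R] A) hπ ι Subtype.val_injective
      intro b
      constructor
      · intro hb
        exact ⟨⟨b, hb⟩, rfl⟩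
      · rintro ⟨y, rfl⟩
        exact y.2
    have claim1 : ∀ (b : K ⊗[R] B) (w : K ⊗[R] RingHom.ker π), ∃ w', ιK w' = b * ιK w ∧ lK w' = ev R B K b * lK w := by
      intro b w
      induction b with
      | zero => exact ⟨0, by simp, by simp⟩
      | add b b' hb hb' =>
        obtain ⟨w₁, h1, h2⟩ := hb
        obtain ⟨w₂, h3, h4⟩ := hb'
        exact ⟨w₁ + w₂, by rw [map_add, h1, h3, add_mul], by rw [map_add, h2, h4, map_add, add_mul]⟩
      | tmul k b =>
        induction w with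
        | zero => exact ⟨0, by simp, by simp⟩
        | add w w' hw hw' =>
          obtain ⟨w₁, h1, h2⟩ := hw
          obtain ⟨w₂, h3, h4⟩ := hw'
          exact ⟨w₁ + w₂, by rw [map_add, h1, h3, map_add, mul_add], by rw [map_add, h2, h4, map_add, mul_add]⟩
        | tmul k' j =>
          refine ⟨(k * k') ⊗ₜ (b • j), ?_, ?_⟩
          · rw [hιK, hιK, Algebra.TensorProduct.tmul_mul_tmul]
            rfl
          · rw [hlK, hlK, map_smul, ev_tmul, Algebra.smul_def]
            ring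
    have hrange : ∀ z, piK K π z = 0 → ∃ w, ιK w = z := by
      intro z hz
      have h1 : z ∈ (RingHom.ker π).map (Algebra.TensorProduct.includeRight : B →ₐ[R] K ⊗[R] B) := by
        rw [← ker_piK π hπ]
        exact hz
      clear hz
      induction h1 using Submodule.span_induction with
      | zero => exact ⟨0, map_zero _⟩
      | mem z hz =>
        obtain ⟨j, hj, rfl⟩ := hz
        exact ⟨(1 : K) ⊗ₜ ⟨j, hj⟩, hιK _ _⟩
      | add z z' _ _ h h' =>
        obtain ⟨w, rfl⟩ := h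
        obtain ⟨w', rfl⟩ := h'
        exact ⟨w + w', map_add _ _ _⟩
      | smul b z _ h =>
        obtain ⟨w, rfl⟩ := h
        obtain ⟨w', hw', -⟩ := claim1 b w
        exact ⟨w', hw'⟩
    have claim2 : ∀ z ∈ (RingHom.ker (ev R B K)) * (RingHom.ker (piK K π)), ∃ w, ιK w = z ∧ lK w = 0 := by
      intro z hz
      induction hz using Submodule.mul_induction_on' with
      | add a _ b _ ha hb =>
        obtain ⟨w, h1, h2⟩ := ha
        obtain ⟨w', h1', h2'⟩ := hb
        exact ⟨w + w', by rw [map_add, h1, h1'], by rw [map_add, h2, h2', add_zero]⟩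
      | mem_mul_mem n hn z' hz' =>
        obtain ⟨w, rfl⟩ := hrange z' hz'
        obtain ⟨w', h1, h2⟩ := claim1 n w
        refine ⟨w', h1, ?_⟩
        rw [h2, show ev R B K n = 0 from hn, zero_mul]
    ext ⟨j, hj⟩
    obtain ⟨b, hb⟩ := hgen j hj
    obtain ⟨w₁, h1, h2⟩ := claim1 b ((1 : K) ⊗ₜ ⟨h₀, hh₀⟩)
    obtain ⟨w₂, h3, h4⟩ := claim2 _ hb
    have h5 : (1 : K) ⊗ₜ[R] (⟨j, hj⟩ : RingHom.ker π) = w₁ + w₂ := by
      apply hinj
      rw [map_add, h1, h3, hιK, hιK]
      ring
    have h6 := congrArg lK h5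
    rw [map_add, h2, h4, hlK, hlK, hl] at h6
    simpa using h6
  -- support argument
  let N : Submodule B (RingHom.ker π) := Submodule.span B {⟨h₀, hh₀⟩}
  haveI : Module.Finite B (RingHom.ker π) := Module.Finite.iff_fg.mpr hfg
  let p : PrimeSpectrum B := ⟨RingHom.ker (algebraMap B K), RingHom.ker_isPrime _⟩
  have hp : p ∉ Module.support B (RingHom.ker π ⧸ N) := by
    intro hmem
    obtain ⟨l, hl⟩ := exists_linearMap_ne_zero (K := K) p rfl hmem
    apply hl
    have h1 := key (l ∘ₗ N.mkQ) (by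
      rw [LinearMap.comp_apply, Submodule.mkQ_apply, (Submodule.Quotient.mk_eq_zero N).mpr (Submodule.mem_span_singleton_self _),
        map_zero])
    ext y
    exact LinearMap.congr_fun h1 y
  rw [Module.mem_support_iff_of_finite, SetLike.not_le_iff_exists] at hp
  obtain ⟨g, hg, hgp⟩ := hp
  refine ⟨g, hgp, fun j hj => ?_⟩
  have h1 := Module.mem_annihilator.mp hg (N.mkQ ⟨j, hj⟩)
  rw [← map_smul, Submodule.mkQ_apply, Submodule.Quotient.mk_eq_zero, Submodule.mem_span_singleton] at h1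
  obtain ⟨a, ha⟩ := h1
  rw [Ideal.mem_span_singleton']
  exact ⟨a, congrArg Subtype.val ha⟩

end main

end Groth.Agent.CurvesC.NodeChartB
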