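import Mathlib.RingTheory.Etale.Kaehler
import Mathlib.RingTheory.Etale.Locus
import Mathlib.RingTheory.Kaehler.Polynomial
import Mathlib.RingTheory.Smooth.StandardSmoothOfFree
import Mathlib.RingTheory.RingHom.Etale
import Mathlib.LinearAlgebra.Matrix.Basis

/-!
# Étale coordinates

`x : Fin n → B` is a system of étale coordinates of the `R`-algebra `B` if `R[X_1..X_n] → B`, `X_i ↦ x_i` is étale.
-/

set_option autoImplicit false
set_option linter.style.haveILetI false

namespace Groth.Agent.CurvesC.NodeEt

open KaehlerDifferential TensorProduct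

universe u v w

/-- Composition of étale ring maps (universe polymorphic). -/
theorem etale_comp {A : Type u} {B : Type v} {C : Type w} [CommRing A] [CommRing B] [CommRing C]
    {f : A →+* B} {g : B →+* C} (hf : f.Etale) (hg : g.Etale) : (g.comp f).Etale := by
  algebraize [f, g, g.comp f]
  exact Algebra.Etale.comp A B C

/-- `x` is a system of étale coordinates of `B` over `R`. -/
def IsEtaleCoord (R : Type u) {B : Type v} [CommRing R] [CommRing B] [Algebra R B] {n : ℕ}
    (x : Fin n → B) : Prop :=
  (MvPolynomial.aeval x : MvPolynomial (Fin n) R →ₐ[R] B).toRingHom.Etale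

variable {R : Type u} {B : Type v} [CommRing R] [CommRing B] [Algebra R B] {n : ℕ}

section der

variable {x : Fin n → B}

/-- Auxiliary: algebra structure. -/
@[reducible] noncomputable def algMv (R : Type u) {B : Type v} [CommRing R] [CommRing B] [Algebra R B] (x : Fin n → B) :
    Algebra (MvPolynomial (Fin n) R) B :=
  (MvPolynomial.aeval x : MvPolynomial (Fin n) R →ₐ[R] B).toRingHom.toAlgebra

theorem algMv_tower (x : Fin n → B) :
    letI := algMv R x
    IsScalarTower R (MvPolynomial (Fin n) R) B := by
  letI := algMv R x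
  exact IsScalarTower.of_algebraMap_eq' (by
    ext r
    simp [RingHom.algebraMap_toAlgebra])

/-- The differentials of étale coordinates form a basis of `Ω[B⁄R]`. -/
noncomputable def IsEtaleCoord.basis (hx : IsEtaleCoord R x) : Module.Basis (Fin n) B (Ω[B⁄R]) := by
  letI : Algebra (MvPolynomial (Fin n) R) B := algMv R x
  haveI : IsScalarTower R (MvPolynomial (Fin n) R) B := algMv_tower x
  haveI : Algebra.Etale (MvPolynomial (Fin n) R) B := hx
  exact ((mvPolynomialBasis R (Fin n)).baseChange B).map
    (tensorKaehlerEquivOfFormallyEtale R (MvPolynomial (Fin n) R) B)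

theorem IsEtaleCoord.basis_apply (hx : IsEtaleCoord R x) (i : Fin n) :
    hx.basis i = D R B (x i) := by
  letI : Algebra (MvPolynomial (Fin n) R) B := algMv R x
  haveI : IsScalarTower R (MvPolynomial (Fin n) R) B := algMv_tower x
  haveI : Algebra.Etale (MvPolynomial (Fin n) R) B := hx
  simp only [IsEtaleCoord.basis, Module.Basis.map_apply, Module.Basis.baseChange_apply,
    mvPolynomialBasis_apply, tensorKaehlerEquivOfFormallyEtale_apply, mapBaseChange_tmul, map_D, one_smul]
  congr 1
  simp [RingHom.algebraMap_toAlgebra]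

/-- A derivation killing étale coordinates vanishes. -/
theorem IsEtaleCoord.der_eq_zero (hx : IsEtaleCoord R x) {M : Type w} [AddCommGroup M] [Module R M]
    [Module B M] [IsScalarTower R B M] (δ : Derivation R B M) (h : ∀ i, δ (x i) = 0) : δ = 0 := by
  have h1 : δ.liftKaehlerDifferential = 0 := by
    apply hx.basis.ext
    intro i
    rw [hx.basis_apply, Derivation.liftKaehlerDifferential_comp_D, h, LinearMap.zero_apply]
  ext b
  rw [← Derivation.liftKaehlerDifferential_comp_D, h1]
  simp

theorem IsEtaleCoord.der_ext (hx : IsEtaleCoord R x) {M : Type w} [AddCommGroup M] [Module R M]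
    [Module B M] [IsScalarTower R B M] (δ δ' : Derivation R B M) (h : ∀ i, δ (x i) = δ' (x i)) : δ = δ' := by
  rw [← sub_eq_zero]
  exact hx.der_eq_zero _ (fun i => by simp [h])

/-- The partial derivatives with respect to étale coordinates. -/
noncomputable def IsEtaleCoord.pd (hx : IsEtaleCoord R x) (i : Fin n) : Derivation R B B :=
  (hx.basis.coord i).compDer (D R B)

theorem IsEtaleCoord.pd_apply (hx : IsEtaleCoord R x) (i : Fin n) (b : B) :
    hx.pd i b = hx.basis.repr (D R B b) i := rfl

theorem IsEtaleCoord.pd_coord (hx : IsEtaleCoord R x) (i j : Fin n) :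
    hx.pd i (x j) = if i = j then 1 else 0 := by
  rw [hx.pd_apply, ← hx.basis_apply, Module.Basis.repr_self]
  simp [Finsupp.single_apply, eq_comm]

theorem IsEtaleCoord.D_eq (hx : IsEtaleCoord R x) (b : B) :
    D R B b = ∑ i, hx.pd i b • D R B (x i) := by
  conv_lhs => rw [← hx.basis.sum_repr (D R B b)]
  simp [hx.basis_apply, hx.pd_apply]

theorem IsEtaleCoord.smooth (hx : IsEtaleCoord R x) : Algebra.Smooth R B := by
  letI : Algebra (MvPolynomial (Fin n) R) B := algMv R x
  haveI : IsScalarTower R (MvPolynomial (Fin n) R) B := algMv_tower x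
  haveI : Algebra.Etale (MvPolynomial (Fin n) R) B := hx
  haveI : Algebra.Smooth R (MvPolynomial (Fin n) R) := Algebra.Smooth.mk
  exact Algebra.Smooth.comp R (MvPolynomial (Fin n) R) B

/-- If `B` is smooth over `R` and the differentials of `u_1..u_n` form a basis of `Ω[B⁄R]` then `u` are étale
coordinates. -/
theorem isEtaleCoord_of_basis [Algebra.Smooth R B] (u : Fin n → B) (b : Module.Basis (Fin n) B (Ω[B⁄R]))
    (hb : ∀ i, b i = D R B (u i)) : IsEtaleCoord R u := by
  letI : Algebra (MvPolynomial (Fin n) R) B := algMv R u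
  haveI : IsScalarTower R (MvPolynomial (Fin n) R) B := algMv_tower u
  have hbij : Function.Bijective (mapBaseChange R (MvPolynomial (Fin n) R) B) := by
    let b' := (mvPolynomialBasis R (Fin n)).baseChange B
    have : mapBaseChange R (MvPolynomial (Fin n) R) B = (b'.equiv b (Equiv.refl _)).toLinearMap := by
      apply b'.ext
      intro i
      simp only [b', Module.Basis.baseChange_apply,
        mvPolynomialBasis_apply, mapBaseChange_tmul, map_D, one_smul]
      rw [← mvPolynomialBasis_apply, ← Module.Basis.baseChange_apply, LinearEquiv.coe_coe,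
        Module.Basis.equiv_apply, Equiv.refl_apply, hb]
      congr 1
      simp [RingHom.algebraMap_toAlgebra]
    rw [this]
    exact (b'.equiv b (Equiv.refl _)).bijective
  have h1 : Subsingleton (Ω[B⁄MvPolynomial (Fin n) R]) := by
    rw [← not_nontrivial_iff_subsingleton]
    intro hn
    obtain ⟨y, hy⟩ := exists_ne (0 : Ω[B⁄MvPolynomial (Fin n) R])
    obtain ⟨z, rfl⟩ := KaehlerDifferential.map_surjective R (MvPolynomial (Fin n) R) B y
    exact hy ((KaehlerDifferential.exact_mapBaseChange_map R (MvPolynomial (Fin n) R) B z).mpr (hbij.2 z))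
  have h2 : Subsingleton (Algebra.H1Cotangent (MvPolynomial (Fin n) R) B) := by
    refine ⟨fun a a' => ?_⟩
    rw [← sub_eq_zero]
    set y := a - a'
    have hδ : Algebra.H1Cotangent.δ R (MvPolynomial (Fin n) R) B y = 0 := by
      apply hbij.1
      rw [map_zero]
      exact (Algebra.H1Cotangent.exact_δ_mapBaseChange R (MvPolynomial (Fin n) R) B _).mpr ⟨y, rfl⟩
    obtain ⟨z, hz⟩ := (Algebra.H1Cotangent.exact_map_δ R (MvPolynomial (Fin n) R) B y).mp hδ
    rw [← hz, Subsingleton.elim z 0, map_zero]
  haveI : Algebra.FormallyEtale (MvPolynomial (Fin n) R) B := ⟨h1, h2⟩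
  haveI : Algebra.FinitePresentation (MvPolynomial (Fin n) R) B :=
    Algebra.FinitePresentation.of_restrict_scalars_finitePresentation R _ _
  exact (Algebra.Etale.mk : Algebra.Etale (MvPolynomial (Fin n) R) B)

/-- Jacobian criterion: change of étale coordinates. -/
theorem IsEtaleCoord.of_isUnit_det (hx : IsEtaleCoord R x) (u : Fin n → B)
    (hu : IsUnit (Matrix.of fun i j => hx.pd i (u j)).det) : IsEtaleCoord R u := by
  haveI := hx.smooth
  have h1 : IsUnit (hx.basis.det fun j => D R B (u j)) := by
    rw [Module.Basis.det_apply]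
    exact hu
  have h2 := (Module.Basis.is_basis_iff_det hx.basis).mpr h1
  exact isEtaleCoord_of_basis u (Module.Basis.mk h2.1 h2.2.ge) (fun i => by simp)

/-- Étale coordinates stay étale coordinates on étale algebras. -/
theorem IsEtaleCoord.comp (hx : IsEtaleCoord R x) {B' : Type w} [CommRing B'] [Algebra R B']
    (ψ : B →ₐ[R] B') (hψ : ψ.toRingHom.Etale) : IsEtaleCoord R (fun i => ψ (x i)) := by
  have hx' : (MvPolynomial.aeval x : MvPolynomial (Fin n) R →ₐ[R] B).toRingHom.Etale := hx
  have h := etale_comp hx' hψ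
  have : (MvPolynomial.aeval (fun i => ψ (x i)) : MvPolynomial (Fin n) R →ₐ[R] B').toRingHom =
      ψ.toRingHom.comp (MvPolynomial.aeval x : MvPolynomial (Fin n) R →ₐ[R] B).toRingHom := by
    ext <;> simp
  rw [IsEtaleCoord, this]
  exact h

end der

section quot

/-- Étale ring maps induce étale maps on quotients. -/
theorem etale_quotientMap {S : Type u} {B : Type v} [CommRing S] [CommRing B] (φ : S →+* B) (hφ : φ.Etale)
    (I : Ideal S) (J : Ideal B) (hJ : J = I.map φ) :
    (Ideal.quotientMap J φ (by rw [hJ]; exact Ideal.le_comap_map) : S ⧸ I →+* B ⧸ J).Etale := by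
  subst hJ
  algebraize [φ]
  have : Algebra.Etale (S ⧸ I) (B ⧸ I.map (algebraMap S B)) :=
    .of_equiv (Algebra.TensorProduct.quotIdealMapEquivQuotTensor B I).symm
  exact RingHom.etale_algebraMap.mpr this

/-- The vanishing locus of étale coordinates is étale over the base. -/
theorem IsEtaleCoord.etale_quotient {u : Fin n → B} (hu : IsEtaleCoord R u) (J : Ideal B)
    (hJ : J = Ideal.span (Set.range u)) : (algebraMap R (B ⧸ J)).Etale := by
  have hu' : (MvPolynomial.aeval u : MvPolynomial (Fin n) R →ₐ[R] B).toRingHom.Etale := hu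
  have h1 := etale_quotientMap (MvPolynomial.aeval u : MvPolynomial (Fin n) R →ₐ[R] B).toRingHom hu'
    (Ideal.span (Set.range (MvPolynomial.X : Fin n → MvPolynomial (Fin n) R))) J
    (by
      rw [Ideal.map_span, ← Set.range_comp, hJ]
      congr 2
      ext i
      simp)
  have h2 : ((Ideal.Quotient.mk (Ideal.span (Set.range (MvPolynomial.X : Fin n → MvPolynomial (Fin n) R)))).comp
      MvPolynomial.C).Etale := by
    refine RingHom.Etale.of_bijective ⟨?_, ?_⟩
    · rw [injective_iff_map_eq_zero]
      intro a ha
      rw [RingHom.comp_apply, Ideal.Quotient.eq_zero_iff_mem] at ha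
      have hle : Ideal.span (Set.range (MvPolynomial.X : Fin n → MvPolynomial (Fin n) R)) ≤
          RingHom.ker (MvPolynomial.constantCoeff : MvPolynomial (Fin n) R →+* R) := by
        rw [Ideal.span_le]
        rintro _ ⟨i, rfl⟩
        simp [RingHom.mem_ker]
      have := hle ha
      simpa [RingHom.mem_ker] using this
    · intro b
      obtain ⟨p, rfl⟩ := Ideal.Quotient.mk_surjective b
      induction p using MvPolynomial.induction_on with
      | C a => exact ⟨a, rfl⟩
      | add p q hp hq =>
        obtain ⟨a, ha⟩ := hp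
        obtain ⟨b, hb⟩ := hq
        exact ⟨a + b, by rw [map_add, map_add, ha, hb]⟩
      | mul_X p i _ =>
        refine ⟨0, ?_⟩
        rw [map_zero, eq_comm, Ideal.Quotient.eq_zero_iff_mem]
        exact Ideal.mul_mem_left _ _ (Ideal.subset_span ⟨i, rfl⟩)
  have h3 := etale_comp h2 h1
  convert h3 using 1
  ext r
  simp

attribute [local instance] Algebra.TensorProduct.rightAlgebra in
/-- Base change of étale coordinates. -/
theorem IsEtaleCoord.baseChange {x : Fin n → B} (hx : IsEtaleCoord R x) (C : Type w) [CommRing C] [Algebra R C] :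
    IsEtaleCoord C (fun i => (1 : C) ⊗ₜ[R] x i : Fin n → C ⊗[R] B) := by
  haveI := hx.smooth
  haveI : Algebra.Smooth C (C ⊗[R] B) := inferInstance
  refine isEtaleCoord_of_basis _ ((hx.basis.baseChange (C ⊗[R] B)).map
    (tensorKaehlerEquiv R C B (C ⊗[R] B))) ?_
  intro i
  rw [Module.Basis.map_apply, Module.Basis.baseChange_apply, hx.basis_apply, tensorKaehlerEquiv_tmul_D, one_smul]
  rfl

end quot

end Groth.Agent.CurvesC.NodeEt
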