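import Groth.Agent.CurvesC.NodeEt
import Mathlib.RingTheory.Unramified.Finite
import Mathlib.FieldTheory.IsAlgClosed.Basic
import Mathlib.Tactic

/-!
Auxiliary results for the Morse lemma with étale coordinates: compatibility of partial derivatives with
ring extensions, and the quadratic step.
-/

set_option autoImplicit false

namespace Groth.Agent.CurvesC.NodeMorseAux

open TensorProduct Groth.Agent.CurvesC.NodeEt

universe u v w

section pd

/-- Partial derivatives are compatible with ring maps carrying étale coordinates to étale coordinates. -/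
theorem pd_map {R : Type u} {B : Type v} {R' : Type u} {B' : Type w} [CommRing R] [CommRing B]
    [Algebra R B] [CommRing R'] [CommRing B'] [Algebra R' B'] [Algebra R R'] [Algebra R B']
    [Algebra B B'] [IsScalarTower R R' B'] [IsScalarTower R B B'] {n : ℕ} {x : Fin n → B}
    {x' : Fin n → B'} (hx : IsEtaleCoord R x) (hx' : IsEtaleCoord R' x')
    (h : ∀ i, algebraMap B B' (x i) = x' i) (i : Fin n) (b : B) :
    hx'.pd i (algebraMap B B' b) = algebraMap B B' (hx.pd i b) := by
  let δ₁ : Derivation R B B' := ((hx'.pd i).restrictScalars R).compAlgebraMap B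
  let δ₂ : Derivation R B B' := (Algebra.linearMap B B').compDer (hx.pd i)
  have h1 : δ₁ = δ₂ := by
    apply hx.der_ext
    intro j
    have e1 : δ₁ (x j) = hx'.pd i (algebraMap B B' (x j)) := rfl
    have e2 : δ₂ (x j) = algebraMap B B' (hx.pd i (x j)) := rfl
    rw [e1, e2, h, hx'.pd_coord, hx.pd_coord]
    split_ifs <;> simp
  exact congr($h1 b)

end pd

section quad

variable {C T : Type u} [CommRing C] [CommRing T] [Algebra C T] {y : Fin 2 → T}
  (hy : IsEtaleCoord C y) (σ : T →ₐ[C] C) (hσy : ∀ i, σ (y i) = 0)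

include hσy in
theorem sigma_pd_mul (i j : Fin 2) (t : T) : σ (hy.pd i (t * y j)) = if i = j then σ t else 0 := by
  rw [Derivation.leibniz, hy.pd_coord]
  simp only [smul_eq_mul, map_add, map_mul, hσy, zero_mul, add_zero]
  split_ifs <;> simp

include hσy in
/-- Second order Taylor expansion at a critical point. -/
theorem exists_quad (hσ : ∀ t, σ t = 0 → t ∈ Ideal.span (Set.range y)) (f : T)
    (hf : ∀ i, σ (hy.pd i f) = 0) :
    ∃ α β γ : T, f = algebraMap C T (σ f) + α * y 0 ^ 2 + β * (y 0 * y 1) + γ * y 1 ^ 2 ∧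
      σ (hy.pd 0 (hy.pd 0 f) * hy.pd 1 (hy.pd 1 f) - hy.pd 0 (hy.pd 1 f) * hy.pd 1 (hy.pd 0 f)) =
        4 * σ α * σ γ - σ β ^ 2 := by
  have hmem : ∀ t, σ t = 0 → ∃ c₀ c₁ : T, t = c₀ * y 0 + c₁ * y 1 := by
    intro t ht
    have h1 := hσ t ht
    have h2 : Set.range y = {y 0, y 1} := by
      ext z
      simp [Fin.exists_fin_two, eq_comm]
    rw [h2, Ideal.mem_span_pair] at h1
    obtain ⟨c₀, c₁, h⟩ := h1
    exact ⟨c₀, c₁, h.symm⟩
  obtain ⟨c₀, c₁, hc⟩ := hmem (f - algebraMap C T (σ f)) (by simp)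
  have hder : ∀ i, hy.pd i f = hy.pd i (c₀ * y 0) + hy.pd i (c₁ * y 1) := by
    intro i
    have : f = algebraMap C T (σ f) + (c₀ * y 0 + c₁ * y 1) := by rw [← hc]; ring
    conv_lhs => rw [this]
    rw [map_add, map_add]
    simp
  have hc₀ : σ c₀ = 0 := by
    have := hf 0
    rw [hder, map_add, sigma_pd_mul hy σ hσy, sigma_pd_mul hy σ hσy] at this
    simpa using this
  have hc₁ : σ c₁ = 0 := by
    have := hf 1
    rw [hder, map_add, sigma_pd_mul hy σ hσy, sigma_pd_mul hy σ hσy] at this
    simpa using this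
  obtain ⟨α, β₁, h₀⟩ := hmem c₀ hc₀
  obtain ⟨β₂, γ, h₁⟩ := hmem c₁ hc₁
  -- second derivatives
  have hsec : ∀ i j, σ (hy.pd i (hy.pd j f)) =
      (if j = 0 then σ (hy.pd i c₀) else σ (hy.pd i c₁)) +
      (if i = 0 then σ (hy.pd j c₀) else σ (hy.pd j c₁)) := by
    intro i j
    rw [hder]
    simp only [Derivation.leibniz, hy.pd_coord, smul_eq_mul, map_add]
    fin_cases i <;> fin_cases j <;>
      simp [hσy]
    all_goals ring
  have e00 : σ (hy.pd 0 c₀) = σ α := by
    rw [h₀, map_add, map_add, sigma_pd_mul hy σ hσy, sigma_pd_mul hy σ hσy]; simp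
  have e10 : σ (hy.pd 1 c₀) = σ β₁ := by
    rw [h₀, map_add, map_add, sigma_pd_mul hy σ hσy, sigma_pd_mul hy σ hσy]; simp
  have e01 : σ (hy.pd 0 c₁) = σ β₂ := by
    rw [h₁, map_add, map_add, sigma_pd_mul hy σ hσy, sigma_pd_mul hy σ hσy]; simp
  have e11 : σ (hy.pd 1 c₁) = σ γ := by
    rw [h₁, map_add, map_add, sigma_pd_mul hy σ hσy, sigma_pd_mul hy σ hσy]; simp
  refine ⟨α, β₁ + β₂, γ, ?_, ?_⟩
  · have : f = algebraMap C T (σ f) + (c₀ * y 0 + c₁ * y 1) := by rw [← hc]; ring
    rw [h₀, h₁] at this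
    linear_combination this
  · rw [map_sub, map_mul, map_mul, hsec, hsec, hsec, hsec]
    simp only [if_true, Fin.isValue, one_ne_zero, if_false]
    rw [e00, e10, e01, e11, map_add]
    ring

end quad

section ext

variable {C T K : Type u} [CommRing C] [CommRing T] [Algebra C T] [Field K] [IsAlgClosed K]

/-- The coordinate of the affine line. -/
theorem isEtaleCoord_X (T : Type u) [CommRing T] :
    IsEtaleCoord T (fun _ : Fin 1 => (Polynomial.X : Polynomial T)) := by
  refine RingHom.Etale.of_bijective ?_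
  let g : Polynomial T →ₐ[T] MvPolynomial (Fin 1) T := Polynomial.aeval (MvPolynomial.X 0)
  let f : MvPolynomial (Fin 1) T →ₐ[T] Polynomial T :=
    MvPolynomial.aeval (fun _ : Fin 1 => (Polynomial.X : Polynomial T))
  have h1 : g.comp f = AlgHom.id T _ := by
    apply MvPolynomial.algHom_ext
    intro i
    fin_cases i
    simp [f, g]
  have h2 : f.comp g = AlgHom.id T _ := by
    apply Polynomial.algHom_ext
    simp [f, g]
  exact Function.bijective_iff_has_inverse.2 ⟨g, fun x => congr($h1 x), fun x => congr($h2 x)⟩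

/-- A nondegenerate binary quadratic form has a zero over an algebraically closed field. -/
theorem exists_root (α β γ : K) (h : 4 * α * γ - β ^ 2 ≠ 0) :
    ∃ r : K, α * r ^ 2 - β * r + γ = 0 ∧ 2 * α * r - β ≠ 0 := by
  have key : ∀ r, α * r ^ 2 - β * r + γ = 0 → 2 * α * r - β ≠ 0 := by
    intro r hr h2
    apply h
    linear_combination 4 * α * hr - (2 * α * r - β) * h2
  by_cases hα : α = 0
  · subst hα
    have hβ : β ≠ 0 := by
      rintro rfl
      apply h
      ring
    refine ⟨γ / β, ?_, ?_⟩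
    · field_simp
      ring
    · simpa using hβ
  · have hdeg : (Polynomial.C α * Polynomial.X ^ 2 + Polynomial.C (-β) * Polynomial.X +
        Polynomial.C γ).degree ≠ 0 := by
      rw [Polynomial.degree_quadratic hα]
      decide
    obtain ⟨r, hr⟩ := IsAlgClosed.exists_root _ hdeg
    have h1 : α * r ^ 2 - β * r + γ = 0 := by
      have := hr
      simp only [Polynomial.IsRoot, Polynomial.eval_add, Polynomial.eval_mul, Polynomial.eval_C,
        Polynomial.eval_pow, Polynomial.eval_X] at this
      linear_combination this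
    exact ⟨r, h1, key r h1⟩

end ext

end Groth.Agent.CurvesC.NodeMorseAux
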