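import Groth.Agent.CurvesC.NodePow

/-!
# Node data of an ordinary double point
-/

set_option autoImplicit false
set_option linter.style.haveILetI false

namespace Groth.Agent.CurvesC.NodeOdp

open TensorProduct Groth.Agent.CurvesC.NodeEt Groth.Agent.CurvesC.NodeAlg Groth.Agent.CurvesC.NodePow IsLocalRing

universe u

section loc

variable {S O : Type u} [CommRing S] [CommRing O] [IsLocalRing O] [Algebra S O] (p : Ideal S) [p.IsPrime]
  [IsLocalization.AtPrime O p]

omit [p.IsPrime] in
theorem exists_inv_mod (hp : p.IsMaximal) (N : ℕ) (s : S) (hs : s ∉ p) : ∃ s' b, b ∈ p ^ N ∧ s' * s + b = 1 := by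
  have h1 : Ideal.span {s} ⊔ p = ⊤ := by
    by_contra hne
    have heq := hp.eq_of_le hne (le_sup_right : p ≤ Ideal.span {s} ⊔ p)
    apply hs
    rw [heq]
    exact Ideal.mem_sup_left (Ideal.mem_span_singleton_self s)
  have h2 : Ideal.span {s} ⊔ p ^ N = ⊤ := by
    rw [← Ideal.isCoprime_iff_sup_eq] at h1 ⊢
    exact h1.pow_right
  have h3 : (1 : S) ∈ Ideal.span {s} ⊔ p ^ N := h2 ▸ Submodule.mem_top
  obtain ⟨a, ha, b, hb, hab⟩ := Submodule.mem_sup.mp h3
  obtain ⟨c, rfl⟩ := Ideal.mem_span_singleton'.mp ha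
  exact ⟨c, b, hb, hab⟩

theorem mem_pow_iff (hp : p.IsMaximal) (N : ℕ) (z : S) :
    algebraMap S O z ∈ maximalIdeal O ^ N ↔ z ∈ p ^ N := by
  rw [← IsLocalization.AtPrime.map_eq_maximalIdeal p O, ← Ideal.map_pow]
  constructor
  · intro h
    obtain ⟨⟨a, s⟩, ha⟩ := (IsLocalization.mem_map_algebraMap_iff p.primeCompl O).mp h
    dsimp only at ha
    rw [← map_mul, IsLocalization.eq_iff_exists p.primeCompl O] at ha
    obtain ⟨c, hc⟩ := ha
    have hcs : (c * s : S) ∉ p := (c * s).2
    obtain ⟨s', b, hb, hs'⟩ := exists_inv_mod p hp N _ hcs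
    have h1 : z = s' * (c * (z * s)) + b * z := by
      linear_combination (-z) * hs'
    rw [h1, hc]
    exact Ideal.add_mem _ (Ideal.mul_mem_left _ _ (Ideal.mul_mem_left _ _ a.2)) (Ideal.mul_mem_right _ _ hb)
  · exact fun h => Ideal.mem_map_of_mem _ h

theorem exists_approx (hp : p.IsMaximal) (N : ℕ) (z : O) : ∃ a : S, z - algebraMap S O a ∈ maximalIdeal O ^ N := by
  obtain ⟨a, s, rfl⟩ := IsLocalization.exists_mk'_eq p.primeCompl z
  obtain ⟨s', b, hb, hs'⟩ := exists_inv_mod p hp N s s.2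
  refine ⟨a * s', ?_⟩
  have hu : IsUnit (algebraMap S O s) := IsLocalization.map_units O s
  rw [← Ideal.unit_mul_mem_iff_mem _ hu, mul_sub, IsLocalization.mk'_spec', ← map_mul, ← map_sub]
  have : a - s * (a * s') = a * b := by linear_combination (-a) * hs'
  rw [this, mem_pow_iff p hp]
  exact Ideal.mul_mem_left _ _ hb

end loc

section compl

variable {O : Type u} [CommRing O] [IsLocalRing O] [IsNoetherianRing O]

theorem mem_maxPow_iff (N : ℕ) (x : AdicCompletion (maximalIdeal O) O) :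
    x ∈ maximalIdeal (AdicCompletion (maximalIdeal O) O) ^ N ↔ AdicCompletion.eval (maximalIdeal O) O N x = 0 := by
  rw [AdicCompletion.maximalIdeal_eq_map, ← Ideal.map_pow, ← LinearMap.mem_ker,
    ← AdicCompletion.pow_smul_top_eq_ker_eval (maximalIdeal O).fg_of_isNoetherianRing, Ideal.smul_top_eq_map]
  rfl

theorem algebraMap_mem_maxPow_iff (N : ℕ) (z : O) :
    algebraMap O (AdicCompletion (maximalIdeal O) O) z ∈ maximalIdeal (AdicCompletion (maximalIdeal O) O) ^ N ↔
      z ∈ maximalIdeal O ^ N := by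
  rw [mem_maxPow_iff]
  have h1 : AdicCompletion.eval (maximalIdeal O) O N (algebraMap O (AdicCompletion (maximalIdeal O) O) z) =
    Submodule.Quotient.mk z := rfl
  rw [h1, Submodule.Quotient.mk_eq_zero]
  simp

theorem exists_approx_compl (N : ℕ) (x : AdicCompletion (maximalIdeal O) O) :
    ∃ z : O, algebraMap O (AdicCompletion (maximalIdeal O) O) z - x ∈
      maximalIdeal (AdicCompletion (maximalIdeal O) O) ^ N := by
  obtain ⟨z, hz⟩ := Submodule.Quotient.mk_surjective _ (AdicCompletion.eval (maximalIdeal O) O N x)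
  refine ⟨z, ?_⟩
  rw [mem_maxPow_iff, map_sub, ← hz, sub_eq_zero]
  rfl

end compl

section node

variable {K : Type u} [Field K]

theorem mT_iff (t : TT K) : t ∈ mT K ↔ ¬ IsUnit t := by
  constructor
  · intro ht hu
    have h1 : mT K = ⊤ := Ideal.eq_top_of_isUnit_mem _ ht hu
    have h2 : (1 : TT K) ∈ mT K := h1 ▸ Submodule.mem_top
    obtain ⟨F, hF, hFe⟩ := (Ideal.mem_map_iff_of_surjective _ Ideal.Quotient.mk_surjective).mp h2
    rw [← map_one (Ideal.Quotient.mk _), Ideal.Quotient.eq, Ideal.mem_span_singleton'] at hFe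
    obtain ⟨G, hG⟩ := hFe
    have h3 := congrArg MvPowerSeries.constantCoeff hG
    rw [map_sub, constantCoeff_of_mem F hF] at h3
    simp at h3
  · intro ht
    by_contra hcon
    exact ht (mT_unit t hcon)

/-- The residue map `K[[X,Y]]/(XY) → K` as a ring map. -/
noncomputable def resT' (K : Type u) [Field K] : TT K →+* K :=
  Ideal.Quotient.lift _ (MvPowerSeries.constantCoeff : MvPowerSeries (Fin 2) K →+* K) (by
      intro a ha
      obtain ⟨G, rfl⟩ := Ideal.mem_span_singleton'.mp ha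
      simp)

/-- The residue map `K[[X,Y]]/(XY) → K`. -/
noncomputable def resT (K : Type u) [Field K] : TT K →ₐ[K] K :=
  { resT' K with
    commutes' := fun c => by
      have h1 : algebraMap K (TT K) c = Ideal.Quotient.mk _ (MvPowerSeries.C c) := rfl
      have h2 : resT' K (Ideal.Quotient.mk _ (MvPowerSeries.C c)) = c := by
        rw [resT', Ideal.Quotient.lift_mk, MvPowerSeries.constantCoeff_C]
      change resT' K (algebraMap K (TT K) c) = c
      rw [h1, h2] }

theorem resT_eq_zero_iff (t : TT K) : resT K t = 0 ↔ t ∈ mT K := by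
  obtain ⟨F, rfl⟩ := Ideal.Quotient.mk_surjective t
  have h1 : resT K (Ideal.Quotient.mk _ F) = MvPowerSeries.constantCoeff F := rfl
  rw [h1]
  constructor
  · intro h
    exact Ideal.mem_map_of_mem _ (mem_I2 F h)
  · intro h
    rw [mT_iff] at h
    by_contra hne
    apply h
    have h2 : IsUnit F := by
      rw [MvPowerSeries.isUnit_iff_constantCoeff]
      exact IsUnit.mk0 _ hne
    exact h2.map _

variable {O : Type u} [CommRing O] [IsLocalRing O] [IsNoetherianRing O] [Algebra K O]

/-- Node data from an ordinary double point. -/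
theorem nodeData_of_completion (e : AdicCompletion (maximalIdeal O) O ≃+* TT K)
    (he : ∀ c : K, e (algebraMap O (AdicCompletion (maximalIdeal O) O) (algebraMap K O c)) =
      Ideal.Quotient.mk _ (MvPowerSeries.C c))
    {S : Type u} [CommRing S] [Algebra K S] [Algebra S O] [IsScalarTower K S O] (p : Ideal S) [p.IsPrime]
    [IsLocalization.AtPrime O p] :
    ∃ (ε : S →ₐ[K] K), RingHom.ker ε = p ∧ ∃ φ : S →ₐ[K] TT K,
      NodeData ε (mT K) (Ideal.Quotient.mk _ (MvPowerSeries.X 0)) (Ideal.Quotient.mk _ (MvPowerSeries.X 1)) φ := by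
  let ψ : O →ₐ[K] TT K :=
    { (e : _ →+* TT K).comp (algebraMap O (AdicCompletion (maximalIdeal O) O)) with
      commutes' := fun c => he c }
  have hψ : ∀ z, ψ z = e (algebraMap O (AdicCompletion (maximalIdeal O) O) z) := fun z => rfl
  have h1 : ∀ x, e x ∈ mT K ↔ x ∈ maximalIdeal (AdicCompletion (maximalIdeal O) O) := by
    intro x
    rw [mT_iff, IsLocalRing.mem_maximalIdeal, mem_nonunits_iff, MulEquiv.isUnit_map e]
  have h2 : Ideal.map e (maximalIdeal (AdicCompletion (maximalIdeal O) O)) = mT K := by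
    ext t
    obtain ⟨x, rfl⟩ := e.surjective t
    rw [h1]
    constructor
    · intro h
      obtain ⟨y, hy, hye⟩ := (Ideal.mem_map_iff_of_surjective e e.surjective).mp h
      rwa [← e.injective hye]
    · exact fun h => Ideal.mem_map_of_mem _ h
  have h3 : ∀ N x, e x ∈ mT K ^ N ↔ x ∈ maximalIdeal (AdicCompletion (maximalIdeal O) O) ^ N := by
    intro N x
    rw [← h2, ← Ideal.map_pow]
    constructor
    · intro h
      obtain ⟨y, hy, hye⟩ := (Ideal.mem_map_iff_of_surjective e e.surjective).mp h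
      rwa [← e.injective hye]
    · exact fun h => Ideal.mem_map_of_mem _ h
  have h4 : ∀ N z, ψ z ∈ mT K ^ N ↔ z ∈ maximalIdeal O ^ N := by
    intro N z
    rw [hψ, h3, algebraMap_mem_maxPow_iff]
  have h5 : ∀ N (t : TT K), ∃ z : O, ψ z - t ∈ mT K ^ N := by
    intro N t
    obtain ⟨x, rfl⟩ := e.surjective t
    obtain ⟨z, hz⟩ := exists_approx_compl N x
    refine ⟨z, ?_⟩
    rw [hψ, ← map_sub, h3]
    exact hz
  let φ : S →ₐ[K] TT K := ψ.comp (IsScalarTower.toAlgHom K S O)
  have hφ : ∀ z, φ z = ψ (algebraMap S O z) := fun z => rfl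
  let ε : S →ₐ[K] K := (resT K).comp φ
  have hker : RingHom.ker ε = p := by
    ext z
    rw [RingHom.mem_ker]
    change resT K (φ z) = 0 ↔ _
    have h6 := h4 1 (algebraMap S O z)
    rw [pow_one, pow_one] at h6
    rw [resT_eq_zero_iff, hφ, h6, IsLocalization.AtPrime.to_map_mem_maximal_iff O p]
  have hmax : p.IsMaximal := by
    rw [← hker]
    exact RingHom.ker_isMaximal_of_surjective ε (fun c => ⟨algebraMap K S c, ε.commutes c⟩)
  have h7 : ∀ N z, φ z ∈ mT K ^ N ↔ z ∈ p ^ N := by
    intro N z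
    rw [hφ, h4, mem_pow_iff p hmax]
  have h8 : ∀ t : TT K, ∃ z : S, φ z - t ∈ mT K ^ 2 := by
    intro t
    obtain ⟨y, hy⟩ := h5 2 t
    obtain ⟨a, ha⟩ := exists_approx (O := O) p hmax 2 y
    refine ⟨a, ?_⟩
    have h9 : φ a - t = (ψ y - t) - ψ (y - algebraMap S O a) := by
      rw [hφ, map_sub]; ring
    rw [h9]
    exact Ideal.sub_mem _ hy ((h4 _ _).mpr ha)
  refine ⟨ε, hker, φ, ?_, ?_, ?_, mT_unit, mT_gen, fun N c c' hN => mT_indep N c c' hN, ?_, h8 _, h8 _⟩
  · rw [← map_mul, Ideal.Quotient.eq_zero_iff_mem]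
    exact Ideal.mem_span_singleton_self _
  · exact Ideal.mem_map_of_mem _ (Ideal.subset_span (by simp))
  · exact Ideal.mem_map_of_mem _ (Ideal.subset_span (by simp))
  · intro N z
    rw [hker]
    exact h7 N z

end node

end Groth.Agent.CurvesC.NodeOdp
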