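import Groth.Agent.CurvesC.NodeAlg
import Mathlib.RingTheory.AdicCompletion.LocalRing
import Mathlib.RingTheory.MvPowerSeries.Inverse
import Mathlib.RingTheory.MvPowerSeries.Basic
import Mathlib.RingTheory.LocalRing.Quotient

/-!
# The ring `K[[X,Y]]/(XY)` and node data of an ordinary double point
-/

set_option autoImplicit false
set_option linter.style.haveILetI false

namespace Groth.Agent.CurvesC.NodePow

open TensorProduct Groth.Agent.CurvesC.NodeEt Groth.Agent.CurvesC.NodeAlg

universe u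

variable (K : Type u) [Field K]

/-- The ideal `(X, Y)` of `K[[X,Y]]`. -/
noncomputable def I2 : Ideal (MvPowerSeries (Fin 2) K) := Ideal.span {MvPowerSeries.X 0, MvPowerSeries.X 1}

variable {K}

theorem mem_I2 (F : MvPowerSeries (Fin 2) K) (hF : MvPowerSeries.constantCoeff F = 0) : F ∈ I2 K := by
  classical
  let F₁ : MvPowerSeries (Fin 2) K := fun m => if m 0 = 0 then MvPowerSeries.coeff m F else 0
  have hF₁ : ∀ m, MvPowerSeries.coeff m F₁ = if m 0 = 0 then MvPowerSeries.coeff m F else 0 := fun m => rfl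
  have h0 : (MvPowerSeries.X 0 : MvPowerSeries (Fin 2) K) ∣ F - F₁ := by
    rw [MvPowerSeries.X_dvd_iff]
    intro m hm
    rw [map_sub, hF₁, if_pos hm, sub_self]
  have h1 : (MvPowerSeries.X 1 : MvPowerSeries (Fin 2) K) ∣ F₁ := by
    rw [MvPowerSeries.X_dvd_iff]
    intro m hm
    rw [hF₁]
    split_ifs with h
    · have : m = 0 := by
        ext i
        fin_cases i
        · exact h
        · exact hm
      rw [this]
      exact hF
    · rfl
  have : F = (F - F₁) + F₁ := by ring
  rw [this]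
  refine Ideal.add_mem _ ?_ ?_
  · exact Ideal.mem_of_dvd _ h0 (Ideal.subset_span (by simp))
  · exact Ideal.mem_of_dvd _ h1 (Ideal.subset_span (by simp))

theorem constantCoeff_of_mem (F : MvPowerSeries (Fin 2) K) (hF : F ∈ I2 K) : MvPowerSeries.constantCoeff F = 0 := by
  have hle : I2 K ≤ RingHom.ker (MvPowerSeries.constantCoeff : MvPowerSeries (Fin 2) K →+* K) := by
    rw [I2, Ideal.span_le]
    rintro _ (rfl | rfl) <;> simp [RingHom.mem_ker]
  exact hle hF

theorem coeff_of_mem_pow (N : ℕ) (F : MvPowerSeries (Fin 2) K) (hF : F ∈ I2 K ^ N) (m : Fin 2 →₀ ℕ)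
    (hm : m.degree < N) : MvPowerSeries.coeff m F = 0 := by
  classical
  induction N generalizing F m with
  | zero => omega
  | succ N ih =>
    rw [pow_succ] at hF
    induction hF using Submodule.mul_induction_on' with
    | add a _ b _ ha hb => rw [map_add, ha, hb, add_zero]
    | mem_mul_mem a ha b hb =>
      rw [MvPowerSeries.coeff_mul]
      apply Finset.sum_eq_zero
      rintro ⟨i, j⟩ hij
      rw [Finset.mem_antidiagonal] at hij
      dsimp only at hij ⊢
      by_cases hj : j = 0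
      · rw [hj, MvPowerSeries.coeff_zero_eq_constantCoeff_apply, constantCoeff_of_mem b hb, mul_zero]
      · have h1 : i.degree + j.degree = m.degree := by rw [← hij, map_add]
        have h2 : j.degree ≠ 0 := by
          rw [Ne, Finsupp.degree_eq_zero_iff]
          exact hj
        rw [ih a ha i (by omega), zero_mul]

variable (K) in
/-- The ring `K[[X,Y]]/(XY)`. -/
abbrev TT : Type u := MvPowerSeries (Fin 2) K ⧸ Ideal.span {(MvPowerSeries.X 0 * MvPowerSeries.X 1 : MvPowerSeries (Fin 2) K)}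

variable (K) in
/-- The maximal ideal of `K[[X,Y]]/(XY)`. -/
noncomputable def mT : Ideal (TT K) := (I2 K).map (Ideal.Quotient.mk _)

theorem mT_unit (t : TT K) (ht : t ∉ mT K) : IsUnit t := by
  obtain ⟨F, rfl⟩ := Ideal.Quotient.mk_surjective t
  have h1 : MvPowerSeries.constantCoeff F ≠ 0 := by
    intro h0
    exact ht (Ideal.mem_map_of_mem _ (mem_I2 F h0))
  have h2 : IsUnit F := by
    rw [MvPowerSeries.isUnit_iff_constantCoeff]
    exact IsUnit.mk0 _ h1
  exact h2.map _

theorem mT_gen (t : TT K) (ht : t ∈ mT K) : ∃ c c' : K, t - algebraMap K (TT K) c * Ideal.Quotient.mk _ (MvPowerSeries.X 0)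
    - algebraMap K (TT K) c' * Ideal.Quotient.mk _ (MvPowerSeries.X 1) ∈ mT K ^ 2 := by
  obtain ⟨F, hF, rfl⟩ := (Ideal.mem_map_iff_of_surjective _ Ideal.Quotient.mk_surjective).mp ht
  obtain ⟨G, H, rfl⟩ := Ideal.mem_span_pair.mp hF
  refine ⟨MvPowerSeries.constantCoeff G, MvPowerSeries.constantCoeff H, ?_⟩
  have key : ∀ G : MvPowerSeries (Fin 2) K, G - MvPowerSeries.C (MvPowerSeries.constantCoeff G) ∈ I2 K := by
    intro G
    apply mem_I2
    simp
  have h1 : (G - MvPowerSeries.C (MvPowerSeries.constantCoeff G)) * MvPowerSeries.X 0 +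
      (H - MvPowerSeries.C (MvPowerSeries.constantCoeff H)) * MvPowerSeries.X 1 ∈ I2 K ^ 2 := by
    rw [pow_two]
    refine Ideal.add_mem _ (Ideal.mul_mem_mul (key _) (Ideal.subset_span (by simp)))
      (Ideal.mul_mem_mul (key _) (Ideal.subset_span (by simp)))
  have h2 := Ideal.mem_map_of_mem (Ideal.Quotient.mk (Ideal.span {(MvPowerSeries.X 0 * MvPowerSeries.X 1 :
    MvPowerSeries (Fin 2) K)})) h1
  rw [Ideal.map_pow] at h2
  have h3 : ∀ c : K, algebraMap K (TT K) c = Ideal.Quotient.mk _ (MvPowerSeries.C c) := fun c => rfl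
  have h4 : (Ideal.Quotient.mk (Ideal.span {(MvPowerSeries.X 0 * MvPowerSeries.X 1 : MvPowerSeries (Fin 2) K)}))
      (G * MvPowerSeries.X 0 + H * MvPowerSeries.X 1) - algebraMap K (TT K) (MvPowerSeries.constantCoeff G) *
        Ideal.Quotient.mk _ (MvPowerSeries.X 0) - algebraMap K (TT K) (MvPowerSeries.constantCoeff H) *
        Ideal.Quotient.mk _ (MvPowerSeries.X 1) = Ideal.Quotient.mk _
      ((G - MvPowerSeries.C (MvPowerSeries.constantCoeff G)) * MvPowerSeries.X 0 +
      (H - MvPowerSeries.C (MvPowerSeries.constantCoeff H)) * MvPowerSeries.X 1) := by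
    rw [h3, h3, ← map_mul, ← map_mul, ← map_sub, ← map_sub]
    congr 1
    ring
  rw [h4]
  exact h2

theorem mT_indep (N : ℕ) (c c' : K) (hN : 1 ≤ N)
    (h : algebraMap K (TT K) c * (Ideal.Quotient.mk _ (MvPowerSeries.X 0)) ^ N +
      algebraMap K (TT K) c' * (Ideal.Quotient.mk _ (MvPowerSeries.X 1)) ^ N ∈ mT K ^ (N + 1)) :
    c = 0 ∧ c' = 0 := by
  classical
  have h3 : ∀ c : K, algebraMap K (TT K) c = Ideal.Quotient.mk _ (MvPowerSeries.C c) := fun c => rfl
  rw [mT, ← Ideal.map_pow, h3, h3, ← map_pow, ← map_pow, ← map_mul, ← map_mul, ← map_add] at h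
  obtain ⟨F, hF, hFe⟩ := (Ideal.mem_map_iff_of_surjective _ Ideal.Quotient.mk_surjective).mp h
  rw [Ideal.Quotient.eq, Ideal.mem_span_singleton'] at hFe
  obtain ⟨G, hG⟩ := hFe
  have hX : ∀ (i : Fin 2), MvPowerSeries.coeff (Finsupp.single i N) (G * (MvPowerSeries.X 0 * MvPowerSeries.X 1)) = 0 := by
    intro i
    fin_cases i
    · have : (MvPowerSeries.X 1 : MvPowerSeries (Fin 2) K) ∣ G * (MvPowerSeries.X 0 * MvPowerSeries.X 1) :=
        ⟨G * MvPowerSeries.X 0, by ring⟩
      exact (MvPowerSeries.X_dvd_iff.mp this) _ (by simp)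
    · have : (MvPowerSeries.X 0 : MvPowerSeries (Fin 2) K) ∣ G * (MvPowerSeries.X 0 * MvPowerSeries.X 1) :=
        ⟨G * MvPowerSeries.X 1, by ring⟩
      exact (MvPowerSeries.X_dvd_iff.mp this) _ (by simp)
  have hFc : ∀ i : Fin 2, MvPowerSeries.coeff (Finsupp.single i N) F = 0 := fun i =>
    coeff_of_mem_pow (N + 1) F hF _ (by simp)
  have key : ∀ i : Fin 2, MvPowerSeries.coeff (Finsupp.single i N)
      (MvPowerSeries.C c * MvPowerSeries.X 0 ^ N + MvPowerSeries.C c' * MvPowerSeries.X 1 ^ N :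
        MvPowerSeries (Fin 2) K) = 0 := by
    intro i
    have h1 := congrArg (MvPowerSeries.coeff (Finsupp.single i N)) hG
    rw [hX, map_sub, hFc, zero_sub, eq_comm, neg_eq_zero] at h1
    exact h1
  have k0 := key 0
  have k1 := key 1
  rw [map_add, MvPowerSeries.coeff_C_mul, MvPowerSeries.coeff_C_mul, MvPowerSeries.coeff_X_pow,
    MvPowerSeries.coeff_X_pow] at k0 k1
  have hne : (Finsupp.single (0 : Fin 2) N) ≠ Finsupp.single 1 N := by
    intro h
    have := DFunLike.congr_fun h 0
    simp at this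
    omega
  rw [if_pos rfl, if_neg hne] at k0
  rw [if_pos rfl, if_neg hne.symm] at k1
  constructor
  · simpa using k0
  · simpa using k1

end Groth.Agent.CurvesC.NodePow
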