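import Groth.Prelude.Def_CurvBase
import Groth.Agent.CurvesC.NodeOdp
import Mathlib.AlgebraicGeometry.PullbackCarrier
import Mathlib.AlgebraicGeometry.Fiber

/-!
# From a node of a fibre to affine node data
-/

set_option autoImplicit false
set_option linter.style.haveILetI false

namespace Groth.Agent.CurvesC.NodeScheme

open CategoryTheory CategoryTheory.Limits AlgebraicGeometry TensorProduct
open Groth.Agent.CurvesC.NodeEt Groth.Agent.CurvesC.NodeAlg Groth.Agent.CurvesC.NodePow Groth.Agent.CurvesC.NodeOdp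

universe u

/-- Compatibility of the identification of the stalk with the localization with the structure maps from `K`. -/
theorem stalk_compat {K S : Type u} [Field K] [CommRing S] [Algebra K S]
    (Z : Scheme.{u}) [hZ : Z.Over (Spec (CommRingCat.of K))]
    (j : Spec (CommRingCat.of S) ⟶ Z)
    (hj : j ≫ (Z ↘ Spec (CommRingCat.of K)) = Spec.map (CommRingCat.ofHom (algebraMap K S)))
    (z' : PrimeSpectrum S) (c : K) :
    (Spec.stalkIso (CommRingCat.of S) z').hom (j.stalkMap z' (Curv2.stalkMap K Z (j z') c)) =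
      algebraMap S (Localization.AtPrime z'.asIdeal) (algebraMap K S c) := by
  have h1 : Curv2.stalkMap K Z (j z') c = Z.presheaf.germ ⊤ (j z') trivial ((Z ↘ Spec (CommRingCat.of K)).appTop
      ((Scheme.ΓSpecIso (CommRingCat.of K)).inv c)) := rfl
  have h2 : (Scheme.ΓSpecIso (CommRingCat.of K)).inv ≫ (Z ↘ Spec (CommRingCat.of K)).appTop ≫ j.appTop =
      CommRingCat.ofHom (algebraMap K S) ≫ (Scheme.ΓSpecIso (CommRingCat.of S)).inv := by
    rw [Scheme.ΓSpecIso_inv_naturality, ← hj, Scheme.Hom.comp_appTop]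
  have h3 : (Z.presheaf.germ ⊤ (j z') trivial ≫ j.stalkMap z') = j.appTop ≫
      (Spec (CommRingCat.of S)).presheaf.germ ⊤ z' trivial := Scheme.Hom.germ_stalkMap j ⊤ z' trivial
  have h4 : (Scheme.ΓSpecIso (CommRingCat.of K)).inv ≫ (Z ↘ Spec (CommRingCat.of K)).appTop ≫
      Z.presheaf.germ ⊤ (j z') trivial ≫ j.stalkMap z' ≫ (Spec.stalkIso (CommRingCat.of S) z').hom =
      CommRingCat.ofHom (algebraMap K S) ≫ CommRingCat.ofHom (algebraMap S (Localization.AtPrime z'.asIdeal)) := by
    rw [reassoc_of% h3, reassoc_of% h2]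
    erw [Spec.germ_stalkMapIso_hom]
    simp
  rw [h1]
  exact congrArg (fun f => f.hom c) h4

/-- Local form: the situation around a `K`-point of the base change of an affine chart. -/
theorem nodeData_of_openImmersion {K S : Type u} [Field K] [CommRing S] [Algebra K S] [Algebra.FiniteType K S]
    (Z : Scheme.{u}) [hZ : Z.Over (Spec (CommRingCat.of K))]
    (j : Spec (CommRingCat.of S) ⟶ Z) [IsOpenImmersion j]
    (hj : j ≫ (Z ↘ Spec (CommRingCat.of K)) = Spec.map (CommRingCat.ofHom (algebraMap K S)))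
    (z' : PrimeSpectrum S)
    (hO : letI := Curv2.stalkAlgebra K Z (j z'); Curv2.IsOrdDoublePt K (Z.presheaf.stalk (j z'))) :
    ∃ (ε : S →ₐ[K] K), RingHom.ker ε = z'.asIdeal ∧ ∃ φ : S →ₐ[K] TT K,
      NodeData ε (mT K) (Ideal.Quotient.mk _ (MvPowerSeries.X 0)) (Ideal.Quotient.mk _ (MvPowerSeries.X 1)) φ := by
  letI := Curv2.stalkAlgebra K Z (j z')
  obtain ⟨e, he⟩ := hO
  let σ : Z.presheaf.stalk (j z') ≃+* Localization.AtPrime z'.asIdeal :=
    (asIso (j.stalkMap z') ≪≫ Spec.stalkIso (CommRingCat.of S) z').commRingCatIsoToRingEquiv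
  have hσ : ∀ c : K, σ (algebraMap K (Z.presheaf.stalk (j z')) c) =
      algebraMap S (Localization.AtPrime z'.asIdeal) (algebraMap K S c) := fun c => stalk_compat Z j hj z' c
  letI : Algebra S (Z.presheaf.stalk (j z')) :=
    (σ.symm.toRingHom.comp (algebraMap S (Localization.AtPrime z'.asIdeal))).toAlgebra
  let σ' : Localization.AtPrime z'.asIdeal ≃ₐ[S] Z.presheaf.stalk (j z') :=
    { σ.symm with commutes' := fun s => rfl }
  haveI : IsLocalization.AtPrime (Z.presheaf.stalk (j z')) z'.asIdeal :=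
    IsLocalization.isLocalization_of_algEquiv z'.asIdeal.primeCompl σ'
  haveI : IsScalarTower K S (Z.presheaf.stalk (j z')) := IsScalarTower.of_algebraMap_eq (fun c => by
    apply σ.injective
    rw [hσ]
    change _ = σ (σ.symm _)
    rw [RingEquiv.apply_symm_apply])
  haveI : IsNoetherianRing S := Algebra.FiniteType.isNoetherianRing K S
  haveI : IsNoetherianRing (Z.presheaf.stalk (j z')) :=
    IsLocalization.isNoetherianRing z'.asIdeal.primeCompl _ inferInstance
  exact nodeData_of_completion e he z'.asIdeal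

/-- A pullback square stays a pullback square after composing with a monomorphism. -/
theorem isPullback_comp_mono {C : Type*} [Category C] {P X Y W Z : C} {fst : P ⟶ X} {snd : P ⟶ Y} {f : X ⟶ W}
    {g : Y ⟶ W} (h : IsPullback fst snd f g) (i : W ⟶ Z) [Mono i] :
    IsPullback fst snd (f ≫ i) (g ≫ i) :=
  ⟨⟨by rw [← Category.assoc, h.w, Category.assoc]⟩,
    ⟨PullbackCone.isLimitOfCompMono f g i _ h.isLimit⟩⟩

/-- Affine charts of a fibre, base changed to a field. -/
theorem exists_affine_node {X S : Scheme.{u}} (f : X ⟶ S) [Flat f] [LocallyOfFinitePresentation f] (x : X)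
    (hx : @Curv2.IsNode (S.residueField (f.base x)) _ (f.fiber (f.base x)) ⟨f.fiberToSpecResidueField (f.base x)⟩
      (f.asFiber x)) :
    ∃ (R A : Type u) (_ : CommRing R) (_ : CommRing A) (_ : Algebra R A) (jS : Spec (CommRingCat.of R) ⟶ S)
      (jX : Spec (CommRingCat.of A) ⟶ X), IsOpenImmersion jS ∧ IsOpenImmersion jX ∧
      jX ≫ f = Spec.map (CommRingCat.ofHom (algebraMap R A)) ≫ jS ∧ Module.Flat R A ∧
      Algebra.FinitePresentation R A ∧ ∃ (K : Type u) (_ : Field K) (_ : IsAlgClosed K) (_ : Algebra R K)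
      (_ : Algebra A K) (_ : IsScalarTower R A K), jX ⟨RingHom.ker (algebraMap A K), RingHom.ker_isPrime _⟩ = x ∧
      ∃ φ : K ⊗[R] A →ₐ[K] TT K, NodeData (ev R A K) (mT K) (Ideal.Quotient.mk _ (MvPowerSeries.X 0))
        (Ideal.Quotient.mk _ (MvPowerSeries.X 1)) φ := by
  obtain ⟨-, xb, hxb, hO⟩ := hx
  let s : S := f x
  let k : Type u := S.residueField s
  let K : Type u := AlgebraicClosure k
  let F : Scheme.{u} := f.fiber s
  letI hF : F.Over (Spec (CommRingCat.of k)) := ⟨f.fiberToSpecResidueField s⟩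
  let Z : Scheme.{u} := Curv2.bc k F K
  letI hZ : Z.Over (Spec (CommRingCat.of K)) := ⟨Curv2.bcSnd k F K⟩
  let g : Z ⟶ X := Curv2.bcFst k F K ≫ f.fiberι s
  let gK : Spec (CommRingCat.of K) ⟶ Spec (CommRingCat.of k) := Spec.map (CommRingCat.ofHom (algebraMap k K))
  have hbig : IsPullback g (Curv2.bcSnd k F K) f (gK ≫ S.fromSpecResidueField s) :=
    (IsPullback.of_hasPullback _ _).paste_horiz (IsPullback.of_hasPullback f (S.fromSpecResidueField s))
  obtain ⟨V, hV, hsV, -⟩ := exists_isAffineOpen_mem_and_subset (x := s) (U := (⊤ : S.Opens)) trivial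
  obtain ⟨U, hU, hxU, hUV⟩ := exists_isAffineOpen_mem_and_subset (x := x) (U := f ⁻¹ᵁ V) hsV
  have hUV' : U ≤ f ⁻¹ᵁ V := hUV
  let R : Type u := Γ(S, V)
  let A : Type u := Γ(X, U)
  letI : Algebra R A := (f.appLE V U hUV').hom.toAlgebra
  letI : Algebra R K := ((algebraMap k K).comp (S.evaluation V s hsV).hom).toAlgebra
  let jS : Spec (CommRingCat.of R) ⟶ S := hV.fromSpec
  let jX : Spec (CommRingCat.of A) ⟶ X := hU.fromSpec
  have hjf : jX ≫ f = Spec.map (CommRingCat.ofHom (algebraMap R A)) ≫ jS :=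
    (hV.SpecMap_appLE_fromSpec f hU hUV').symm
  have hflat : Module.Flat R A := f.flat_appLE hV hU hUV'
  have hfp : Algebra.FinitePresentation R A := f.finitePresentation_appLE hV hU hUV'
  have hK : gK ≫ S.fromSpecResidueField s = Spec.map (CommRingCat.ofHom (algebraMap R K)) ≫ jS := by
    have h1 : (CommRingCat.ofHom (algebraMap R K)) = S.presheaf.germ V s hsV ≫ S.residue s ≫
        (CommRingCat.ofHom (algebraMap k K)) := rfl
    rw [h1, Spec.map_comp, Spec.map_comp, Category.assoc, Category.assoc]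
    change _ = gK ≫ Spec.map (S.residue s) ≫ hV.fromSpecStalk hsV
    rw [hV.fromSpecStalk_eq_fromSpecStalk hsV]
    rfl
  let a : Spec (CommRingCat.of (K ⊗[R] A)) ⟶ Spec (CommRingCat.of A) :=
    Spec.map (CommRingCat.ofHom (Algebra.TensorProduct.includeRight : A →ₐ[R] K ⊗[R] A).toRingHom)
  let b : Spec (CommRingCat.of (K ⊗[R] A)) ⟶ Spec (CommRingCat.of K) :=
    Spec.map (CommRingCat.ofHom (algebraMap K (K ⊗[R] A)))
  have hP : IsPullback b a (Spec.map (CommRingCat.ofHom (algebraMap R K)))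
      (Spec.map (CommRingCat.ofHom (algebraMap R A))) :=
    isPullback_SpecMap_of_isPushout _ _ _ _ (CommRingCat.isPushout_tensorProduct R K A)
  have hP2 : IsPullback b a (gK ≫ S.fromSpecResidueField s) (jX ≫ f) := by
    rw [hjf, hK]
    exact isPullback_comp_mono hP jS
  let j : Spec (CommRingCat.of (K ⊗[R] A)) ⟶ Z := hbig.lift (a ≫ jX) b (by
    rw [Category.assoc, hP2.w])
  have hj1 : j ≫ g = a ≫ jX := hbig.lift_fst _ _ _
  have hj2 : j ≫ Curv2.bcSnd k F K = b := hbig.lift_snd _ _ _
  have hsq : IsPullback j a g jX := by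
    refine IsPullback.of_right ?_ hj1 hbig.flip
    rw [hj2]
    exact hP2
  haveI : IsOpenImmersion j := MorphismProperty.of_isPullback hsq.flip (inferInstance : IsOpenImmersion jX)
  have hgx : g xb = x := by
    change (f.fiberι s) (Curv2.bcFst k F K xb) = x
    rw [hxb]
    exact f.fiberι_asFiber x
  obtain ⟨z', hz'⟩ : ∃ z', j z' = xb := by
    obtain ⟨y, hy⟩ : ∃ y, jX y = x := by
      have : x ∈ Set.range hU.fromSpec := by
        rw [hU.range_fromSpec]
        exact hxU
      exact this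
    obtain ⟨p, hp1, hp2⟩ := Scheme.Pullback.exists_preimage_pullback (f := g) (g := jX) xb y (by rw [hgx, hy])
    refine ⟨hsq.isoPullback.inv p, ?_⟩
    rw [← hp1, ← Scheme.Hom.comp_apply, IsPullback.isoPullback_inv_fst]
  subst hz'
  haveI := hfp
  haveI : Algebra.FiniteType K (K ⊗[R] A) := inferInstance
  obtain ⟨ε, hε, φ, hφ⟩ := nodeData_of_openImmersion (K := K) (S := K ⊗[R] A) Z j hj2 z' hO
  letI : Algebra A K := (ε.toRingHom.comp
    (Algebra.TensorProduct.includeRight : A →ₐ[R] K ⊗[R] A).toRingHom).toAlgebra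
  have hAK : ∀ a : A, algebraMap A K a = ε ((1 : K) ⊗ₜ[R] a) := fun a => rfl
  haveI : IsScalarTower R A K := IsScalarTower.of_algebraMap_eq (fun r => by
    have h1 : (1 : K) ⊗ₜ[R] (algebraMap R A r) = algebraMap R (K ⊗[R] A) r :=
      (Algebra.TensorProduct.includeRight : A →ₐ[R] K ⊗[R] A).commutes r
    rw [hAK, h1, IsScalarTower.algebraMap_apply R K (K ⊗[R] A), AlgHom.commutes]
    rfl)
  have hev : ev R A K = ε := by
    apply Algebra.TensorProduct.ext'
    intro c a
    rw [ev_tmul, hAK]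
    have : c ⊗ₜ[R] a = algebraMap K (K ⊗[R] A) c * ((1 : K) ⊗ₜ[R] a) := by
      rw [Algebra.TensorProduct.algebraMap_apply, Algebra.TensorProduct.tmul_mul_tmul]
      simp
    rw [this, map_mul, AlgHom.commutes]
    rfl
  refine ⟨R, A, inferInstance, inferInstance, inferInstance, jS, jX, inferInstance, inferInstance, hjf, hflat, hfp,
    K, inferInstance, inferInstance, inferInstance, inferInstance, inferInstance, ?_, φ, ?_⟩
  · have h1 : (jX (a z')) = x := by
      rw [← Scheme.Hom.comp_apply, ← hj1, Scheme.Hom.comp_apply, hgx]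
    rw [← h1]
    congr 1
    apply PrimeSpectrum.ext
    change RingHom.ker (algebraMap A K) = Ideal.comap (Algebra.TensorProduct.includeRight : A →ₐ[R] K ⊗[R] A).toRingHom
      z'.asIdeal
    rw [← hε]
    rfl
  · rw [hev]
    exact hφ

end Groth.Agent.CurvesC.NodeScheme
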