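import Groth.Agent.CurvesC.QuadTr
import Mathlib.RingTheory.Polynomial.Basic
import Mathlib.Algebra.Polynomial.FieldDivision
import Mathlib.RingTheory.Artinian.Ring

/-!
# The colength drops under quadratic transforms
-/

set_option autoImplicit false
universe u

open Polynomial IsLocalRing

namespace Groth.Agent.CurvesC.QuadLen

open ValCousin QuadTr

section Hom

variable {A : Type u} [CommRing A]

/-- `P ↦ ∑_{j ≤ r} p_j x^(r-j) y^j`. -/
noncomputable def hmap (x y : A) (r : ℕ) : A[X] →ₗ[A] A :=
  ∑ j ∈ Finset.range (r + 1), (LinearMap.mulRight A (x ^ (r - j) * y ^ j)).comp (Polynomial.lcoeff A j)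

theorem hmap_apply (x y : A) (r : ℕ) (P : A[X]) :
    hmap x y r P = ∑ j ∈ Finset.range (r + 1), P.coeff j * (x ^ (r - j) * y ^ j) := by
  simp [hmap, mul_assoc]

theorem hmap_succ_left (x y : A) (r : ℕ) {P : A[X]} (hP : P.natDegree ≤ r) :
    hmap x y (r + 1) P = x * hmap x y r P := by
  rw [hmap_apply, hmap_apply, Finset.sum_range_succ, Polynomial.coeff_eq_zero_of_natDegree_lt (by omega : P.natDegree < r + 1),
    zero_mul, add_zero, Finset.mul_sum]
  refine Finset.sum_congr rfl fun j hj => ?_
  rw [Finset.mem_range] at hj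
  rw [show r + 1 - j = (r - j) + 1 by omega, pow_succ]
  ring

theorem hmap_succ_right (x y : A) (r : ℕ) (P : A[X]) :
    hmap x y (r + 1) (X * P) = y * hmap x y r P := by
  rw [hmap_apply, hmap_apply, Finset.sum_range_succ', Polynomial.coeff_X_mul_zero, zero_mul, add_zero, Finset.mul_sum]
  refine Finset.sum_congr rfl fun j hj => ?_
  rw [Polynomial.coeff_X_mul, show r + 1 - (j + 1) = r - j by omega, pow_succ]
  ring

theorem hmap_mem {x y : A} {I : Ideal A} (hx : x ∈ I) (hy : y ∈ I) {r : ℕ} (P : A[X]) {I' : Ideal A}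
    (hP : ∀ k, P.coeff k ∈ I') : hmap x y r P ∈ I' * I ^ r := by
  rw [hmap_apply]
  refine sum_mem fun j hj => ?_
  rw [Finset.mem_range] at hj
  refine Ideal.mul_mem_mul (hP j) ?_
  have h1 : I ^ r = I ^ (r - j) * I ^ j := by rw [← pow_add]; congr 1; omega
  rw [h1]
  exact Ideal.mul_mem_mul (Ideal.pow_mem_pow hx _) (Ideal.pow_mem_pow hy _)

end Hom

section

variable {K : Type u} [Field K] {A : Type u} [CommRing A] [Algebra A K]
  [IsRegularLocalRing A] [FaithfulSMul A K] {x y : A} (hdim : ringKrullDim A = 2)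
  (hxy : Ideal.span {x, y} = maximalIdeal A)

include hdim hxy

theorem algebraMap_hmap {r : ℕ} {P : A[X]} (hP : P.natDegree ≤ r) :
    algebraMap A K (hmap x y r P) = algebraMap A K x ^ r * Polynomial.aeval (tt K x y) P := by
  rw [hmap_apply, Polynomial.aeval_eq_sum_range' (n := r + 1) (by omega), Finset.mul_sum, map_sum]
  refine Finset.sum_congr rfl fun i hi => ?_
  rw [Finset.mem_range] at hi
  rw [Algebra.smul_def, map_mul, map_mul, map_pow, map_pow, ← mul_tt (K := K) hdim hxy, mul_pow]
  conv_rhs => rw [← Nat.sub_add_cancel (show i ≤ r by omega), pow_add]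
  ring

omit [FaithfulSMul A K] hdim in
/-- Every element of `m^r` is of the form `∑_{j ≤ r} p_j x^(r-j) y^j`. -/
theorem exists_hmap_eq (r : ℕ) : ∀ F ∈ maximalIdeal A ^ r, ∃ P : A[X], P.natDegree ≤ r ∧ hmap x y r P = F := by
  induction r with
  | zero =>
    intro F _
    exact ⟨C F, by simp, by simp [hmap_apply]⟩
  | succ r ih =>
    intro F hF
    have h1 : maximalIdeal A ^ (r + 1) = Ideal.span {x} * maximalIdeal A ^ r ⊔ Ideal.span {y} * maximalIdeal A ^ r := by
      rw [pow_succ', ← Ideal.sup_mul, ← Ideal.span_insert, hxy]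
    rw [h1] at hF
    obtain ⟨F1, hF1, F2, hF2, rfl⟩ := Submodule.mem_sup.mp hF
    obtain ⟨z1, hz1, rfl⟩ := Ideal.mem_span_singleton_mul.mp hF1
    obtain ⟨z2, hz2, rfl⟩ := Ideal.mem_span_singleton_mul.mp hF2
    obtain ⟨P1, hP1, rfl⟩ := ih z1 hz1
    obtain ⟨P2, hP2, rfl⟩ := ih z2 hz2
    refine ⟨P1 + X * P2, ?_, ?_⟩
    · refine (Polynomial.natDegree_add_le _ _).trans (max_le (by omega) ?_)
      refine (Polynomial.natDegree_mul_le).trans ?_
      have := Polynomial.natDegree_X_le (R := A)
      omega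
    · rw [map_add, hmap_succ_left _ _ _ hP1, hmap_succ_right]

end

theorem length_le_restrict (A R M : Type u) [CommRing A] [CommRing R] [Algebra A R] [AddCommGroup M] [Module R M]
    [Module A M] [IsScalarTower A R M] : Module.length R M ≤ Module.length A M := by
  have := Submodule.length_le_length_restrictScalars A (⊤ : Submodule R M)
  rwa [Submodule.restrictScalars_top, Module.length_top, Module.length_top] at this

/-- A colength-finite ideal of a local ring contains a power of the maximal ideal. -/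
theorem exists_pow_le {A : Type u} [CommRing A] [IsLocalRing A] (J : Ideal A)
    (h : Module.length A (A ⧸ J) ≠ ⊤) : ∃ N, maximalIdeal A ^ N ≤ J := by
  by_cases hJ : J = ⊤
  · exact ⟨0, by rw [hJ]; exact le_top⟩
  rw [Module.length_ne_top_iff, isFiniteLength_iff_isNoetherian_isArtinian] at h
  have h1 := h.2
  have h2 : IsArtinian (A ⧸ J) (A ⧸ J) := isArtinian_of_tower A h1
  have h3 : IsArtinianRing (A ⧸ J) := h2
  have : Nontrivial (A ⧸ J) := Ideal.Quotient.nontrivial_iff.mpr hJ
  have h4 : IsLocalRing (A ⧸ J) := IsLocalRing.of_surjective' (Ideal.Quotient.mk J) Ideal.Quotient.mk_surjective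
  obtain ⟨N, hN⟩ := IsArtinianRing.isNilpotent_jacobson_bot (R := A ⧸ J)
  rw [IsLocalRing.jacobson_eq_maximalIdeal _ bot_ne_top, ← map_maximalIdeal_of_surjective _ (Ideal.Quotient.mk_surjective (I := J)),
    ← Ideal.map_pow, Ideal.zero_eq_bot, Ideal.map_eq_bot_iff_le_ker, Ideal.mk_ker] at hN
  exact ⟨N, hN⟩

section Main

variable {K : Type u} [Field K] {A : Type u} [CommRing A] [Algebra A K]
  [IsRegularLocalRing A] [FaithfulSMul A K] {x y : A} (hdim : ringKrullDim A = 2)
  (hxy : Ideal.span {x, y} = maximalIdeal A)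

include hdim hxy

/-- The ideal `J_R` (the transform of `J`) contains a power of the maximal ideal of `R`. -/
theorem maximalIdeal_le_radical (p : Ideal (Ch K x y)) [hp : p.IsPrime] (JR : Ideal (Localization.AtPrime p))
    {N : ℕ} (hxN : algebraMap _ (Localization.AtPrime p) (phi K x y (C x)) ^ N ∈ JR)
    {G : A[X]} (hG : phi K x y G ∉ Ideal.span {phi K x y (C x)})
    (hGJ : algebraMap _ (Localization.AtPrime p) (phi K x y G) ∈ JR) :
    maximalIdeal (Localization.AtPrime p) ≤ JR.radical := by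
  rw [Ideal.radical_eq_sInf]
  refine le_sInf ?_
  rintro Q ⟨hQ, hQp⟩
  -- the corresponding prime of the chart
  let p' : Ideal (Ch K x y) := Q.comap (algebraMap _ (Localization.AtPrime p))
  have hp' : p'.IsPrime := Ideal.comap_isPrime _ Q
  have hp'p : p' ≤ p := by
    intro s hs
    by_contra hsp
    exact hQp.ne_top (Ideal.eq_top_of_isUnit_mem _ hs (IsLocalization.map_units _ (⟨s, hsp⟩ : p.primeCompl)))
  have hxp' : phi K x y (C x) ∈ p' := hQp.mem_of_pow_mem N (hQ hxN)
  have hGp' : phi K x y G ∈ p' := hQ hGJ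
  obtain ⟨P, hP, hP'⟩ := exists_generator hdim hxy p' hxp'
  have hPx : phi K x y P ∉ Ideal.span {phi K x y (C x)} := by
    intro h
    rw [hP, Ideal.span_insert] at hGp'
    have h1 : Ideal.span {phi K x y P} ≤ Ideal.span {phi K x y (C x)} :=
      (Ideal.span_singleton_le_iff_mem _).mpr h
    rw [sup_eq_left.mpr h1] at hGp'
    exact hG hGp'
  have hpp' : p ≤ p' := by
    intro s hs
    by_contra hsp
    obtain ⟨v, hv⟩ := hP' hPx s hsp
    have h1 : s * v - 1 ∈ p := hp'p hv
    have h2 : s * v ∈ p := Ideal.mul_mem_right _ _ hs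
    have h3 : (1 : Ch K x y) ∈ p := by
      have := sub_mem h2 h1
      simpa using this
    exact hp.ne_top ((Ideal.eq_top_iff_one _).mpr h3)
  rw [← Localization.AtPrime.map_eq_maximalIdeal, Ideal.map_le_iff_le_comap]
  exact hpp'

omit hdim hxy [IsRegularLocalRing A] [FaithfulSMul A K] in
/-- Surjectivity of `A[T] → R / J_R`. -/
theorem theta_surjective (p : Ideal (Ch K x y)) [hp : p.IsPrime]
    (hinv : ∀ s ∉ p, ∃ v, s * v - 1 ∈ p) (JR : Ideal (Localization.AtPrime p)) {k : ℕ}
    (hk : maximalIdeal (Localization.AtPrime p) ^ k ≤ JR) (q : Localization.AtPrime p ⧸ JR) :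
    ∃ P : A[X], Ideal.Quotient.mk JR (algebraMap _ (Localization.AtPrime p) (phi K x y P)) = q := by
  let θ : A[X] →+* Localization.AtPrime p ⧸ JR :=
    (Ideal.Quotient.mk JR).comp ((algebraMap _ (Localization.AtPrime p)).comp (phi K x y).toRingHom)
  have hθ : ∀ b : Ch K x y, Ideal.Quotient.mk JR (algebraMap _ (Localization.AtPrime p) b) ∈ θ.range := by
    intro b
    obtain ⟨P, rfl⟩ := phi_surjective x y b
    exact ⟨P, rfl⟩
  have hunit : ∀ s ∉ p, ∃ w ∈ θ.range, Ideal.Quotient.mk JR (algebraMap _ (Localization.AtPrime p) s) * w = 1 := by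
    intro s hs
    obtain ⟨v, hv⟩ := hinv s hs
    let n : θ.range := ⟨_, hθ (s * v - 1)⟩
    have hn : IsNilpotent n := by
      refine ⟨k, Subtype.ext ?_⟩
      change (Ideal.Quotient.mk JR (algebraMap _ (Localization.AtPrime p) (s * v - 1))) ^ k = 0
      rw [← map_pow, Ideal.Quotient.eq_zero_iff_mem]
      refine hk (Ideal.pow_mem_pow ?_ k)
      rw [← Localization.AtPrime.map_eq_maximalIdeal]
      exact Ideal.mem_map_of_mem _ hv
    obtain ⟨w, hw⟩ := (hn.isUnit_one_add).exists_right_inv
    refine ⟨Ideal.Quotient.mk JR (algebraMap _ (Localization.AtPrime p) v) * w.1, mul_mem (hθ v) w.2, ?_⟩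
    have h1 := congrArg Subtype.val hw
    have h2 : (1 + n.1) * w.1 = 1 := h1
    have h3 : (1 + n.1) = Ideal.Quotient.mk JR (algebraMap _ (Localization.AtPrime p) s) *
        Ideal.Quotient.mk JR (algebraMap _ (Localization.AtPrime p) v) := by
      change 1 + Ideal.Quotient.mk JR (algebraMap _ (Localization.AtPrime p) (s * v - 1)) = _
      rw [map_sub, map_mul, map_one, map_sub, map_mul, map_one]
      ring
    rw [← mul_assoc, ← h3, h2]
  obtain ⟨q, rfl⟩ := Ideal.Quotient.mk_surjective q
  obtain ⟨b, s, rfl⟩ := IsLocalization.exists_mk'_eq p.primeCompl q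
  obtain ⟨w, hw, hsw⟩ := hunit s.1 s.2
  have h4 : Ideal.Quotient.mk JR (IsLocalization.mk' (Localization.AtPrime p) b s) =
      Ideal.Quotient.mk JR (algebraMap _ (Localization.AtPrime p) b) * w := by
    rw [← IsLocalization.mk'_spec (Localization.AtPrime p) b s, map_mul, mul_assoc, hsw, mul_one]
  have h5 : Ideal.Quotient.mk JR (IsLocalization.mk' (Localization.AtPrime p) b s) ∈ θ.range := by
    rw [h4]
    exact mul_mem (hθ b) hw
  exact h5

omit [FaithfulSMul A K] hdim hxy in
/-- Division by `G`: modulo `m` and `G` every polynomial is congruent to one of degree at most `r`. -/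
theorem exists_degree_le {G : A[X]} {r : ℕ} (hGr : G.natDegree ≤ r) (hG : ∃ k, G.coeff k ∉ maximalIdeal A)
    (F : A[X]) : ∃ P S : A[X], P.natDegree ≤ r ∧ ∀ k, (F - (G * S + P)).coeff k ∈ maximalIdeal A := by
  let ρ : A[X] →+* (ResidueField A)[X] := Polynomial.mapRingHom (residue A)
  have hρ : Function.Surjective ρ := Polynomial.map_surjective _ residue_surjective
  have hρG : ρ G ≠ 0 := by
    intro h
    obtain ⟨k, hk⟩ := hG
    have := congrArg (fun R => coeff R k) h
    simp only [ρ, Polynomial.coe_mapRingHom, Polynomial.coeff_map, Polynomial.coeff_zero] at this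
    exact hk ((residue_eq_zero_iff _).mp this)
  have hdeg : (ρ F % ρ G).degree < (ρ G).degree := EuclideanDomain.mod_lt _ hρG
  obtain ⟨P, hP, hPdeg⟩ := Polynomial.exists_degree_eq_of_mem_lifts (f := residue A) (p := ρ F % ρ G) (by
    rw [Polynomial.mem_lifts]
    exact hρ _)
  obtain ⟨S, hS⟩ := hρ (ρ F / ρ G)
  refine ⟨P, S, ?_, ?_⟩
  · rw [Polynomial.natDegree_le_iff_degree_le, hPdeg]
    refine hdeg.le.trans ?_
    refine (Polynomial.degree_map_le).trans ?_
    exact Polynomial.natDegree_le_iff_degree_le.mp hGr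
  · intro k
    rw [← residue_eq_zero_iff, ← Polynomial.coeff_map]
    have : ρ (F - (G * S + P)) = 0 := by
      have hP' : ρ P = ρ F % ρ G := hP
      rw [map_sub, map_add, map_mul, hS, hP', EuclideanDomain.div_add_mod, sub_self]
    change (ρ (F - (G * S + P))).coeff k = 0
    rw [this, Polynomial.coeff_zero]

/-- The key length inequality. -/
theorem length_lt (J : Ideal A) (hJfin : Module.length A (A ⧸ J) ≠ ⊤) {r : ℕ} (hr : 1 ≤ r)
    (hJr : J ≤ maximalIdeal A ^ r) (hJr' : ¬ J ≤ maximalIdeal A ^ (r + 1))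
    (p : Ideal (Ch K x y)) [hp : p.IsPrime] (hxp : phi K x y (C x) ∈ p) (hne : p ≠ Ideal.span {phi K x y (C x)})
    (JR : Ideal (Localization.AtPrime p))
    (hJR : ∀ P : A[X], (∃ a ∈ J, algebraMap A K a = algebraMap A K x ^ r * Polynomial.aeval (tt K x y) P) →
      algebraMap _ (Localization.AtPrime p) (phi K x y P) ∈ JR) :
    Module.length (Localization.AtPrime p) (Localization.AtPrime p ⧸ JR) < Module.length A (A ⧸ J) := by
  have hx : x ∈ maximalIdeal A := hxy ▸ Ideal.subset_span (by simp)
  have hy : y ∈ maximalIdeal A := hxy ▸ Ideal.subset_span (by simp)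
  have hNoeth := (isRegular_localization hdim hxy p hxp hne).1
  -- the polynomial `G`
  obtain ⟨F, hFJ, hF⟩ := SetLike.not_le_iff_exists.mp hJr'
  obtain ⟨G, hGr, rfl⟩ := exists_hmap_eq hxy r F (hJr hFJ)
  have hG : phi K x y G ∉ Ideal.span {phi K x y (C x)} := by
    intro h
    rw [phi_mem_span_iff hdim hxy] at h
    apply hF
    rw [pow_succ']
    exact hmap_mem hx hy G h
  have hGJ : algebraMap _ (Localization.AtPrime p) (phi K x y G) ∈ JR :=
    hJR G ⟨_, hFJ, algebraMap_hmap hdim hxy hGr⟩
  -- a power of `x`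
  obtain ⟨N, hN⟩ := exists_pow_le J hJfin
  have hxN : algebraMap _ (Localization.AtPrime p) (phi K x y (C x)) ^ N ∈ JR := by
    rw [← map_pow, ← map_pow, ← map_pow]
    refine hJR _ ⟨x ^ (r + N), ?_, ?_⟩
    · refine hN ?_
      rw [pow_add]
      exact Ideal.mul_mem_left _ _ (Ideal.pow_mem_pow hx N)
    · rw [aeval_C, map_pow, map_pow, pow_add]
  obtain ⟨k, hk⟩ := Ideal.exists_pow_le_of_le_radical_of_fg
    (maximalIdeal_le_radical hdim hxy p JR hxN hG hGJ) (IsNoetherian.noetherian _)
  have hinv : ∀ s ∉ p, ∃ v, s * v - 1 ∈ p := by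
    obtain ⟨P, hP, hP'⟩ := exists_generator hdim hxy p hxp
    refine hP' (fun h => hne ?_)
    rw [hP, Ideal.span_insert, sup_eq_left]
    exact (Ideal.span_singleton_le_iff_mem _).mpr h
  -- the map `θ`
  let θ : A[X] →ₐ[A] Localization.AtPrime p ⧸ JR :=
    (Ideal.Quotient.mkₐ A JR).comp
      ((IsScalarTower.toAlgHom A (Ch K x y) (Localization.AtPrime p)).comp (phi K x y))
  have hθ : ∀ P, θ P = Ideal.Quotient.mk JR (algebraMap _ (Localization.AtPrime p) (phi K x y P)) := fun _ => rfl
  have hθsurj : Function.Surjective θ := theta_surjective p hinv JR hk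
  have hθG : θ G = 0 := by rw [hθ, Ideal.Quotient.eq_zero_iff_mem]; exact hGJ
  have hθm : ∀ F : A[X], (∀ k, F.coeff k ∈ maximalIdeal A) →
      θ F ∈ (maximalIdeal A) • (⊤ : Submodule A (Localization.AtPrime p ⧸ JR)) := by
    intro F hF
    rw [Polynomial.as_sum_range_C_mul_X_pow F, map_sum]
    refine sum_mem fun i _ => ?_
    rw [← Polynomial.smul_eq_C_mul, map_smul]
    exact Submodule.smul_mem_smul (hF i) trivial
  let M0 : Submodule A (Localization.AtPrime p ⧸ JR) := (Polynomial.degreeLE A r).map θ.toLinearMap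
  have hM1 : (⊤ : Submodule A (Localization.AtPrime p ⧸ JR)) ≤ M0 ⊔ (maximalIdeal A) • ⊤ := by
    rintro q -
    obtain ⟨F, rfl⟩ := hθsurj q
    have hGc : ∃ k, G.coeff k ∉ maximalIdeal A := by
      by_contra hcon
      push Not at hcon
      exact hG ((phi_mem_span_iff hdim hxy).mpr hcon)
    obtain ⟨P, S, hPr, hFGP⟩ := exists_degree_le hGr hGc F
    have h1 : θ F = θ P + θ (F - (G * S + P)) := by
      rw [map_sub, map_add, map_mul, hθG, zero_mul, zero_add]
      abel
    rw [h1]
    refine Submodule.add_mem_sup ⟨P, ?_, rfl⟩ (hθm _ hFGP)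
    rw [SetLike.mem_coe, Polynomial.mem_degreeLE]
    exact Polynomial.natDegree_le_iff_degree_le.mp hPr
  have hMn : ∀ n : ℕ, (⊤ : Submodule A (Localization.AtPrime p ⧸ JR)) ≤ M0 ⊔ (maximalIdeal A) ^ n • ⊤ := by
    intro n
    induction n with
    | zero => simp
    | succ n ih =>
      refine ih.trans (sup_le le_sup_left ?_)
      calc (maximalIdeal A) ^ n • (⊤ : Submodule A (Localization.AtPrime p ⧸ JR))
          ≤ (maximalIdeal A) ^ n • (M0 ⊔ (maximalIdeal A) • ⊤) := Submodule.smul_mono le_rfl hM1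
        _ = (maximalIdeal A) ^ n • M0 ⊔ (maximalIdeal A) ^ (n + 1) • ⊤ := by
            rw [Submodule.smul_sup, pow_succ, Submodule.mul_smul]
        _ ≤ M0 ⊔ (maximalIdeal A) ^ (n + 1) • ⊤ := sup_le_sup_right Submodule.smul_le_right _
  have hM0 : M0 = ⊤ := by
    rw [eq_top_iff]
    refine (hMn k).trans (sup_le le_rfl ?_)
    rw [Submodule.smul_le]
    intro a ha q _
    obtain ⟨q, rfl⟩ := Ideal.Quotient.mk_surjective q
    have h1 : algebraMap A (Localization.AtPrime p) a ∈ JR := by
      apply hk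
      have hloc : ∀ b ∈ maximalIdeal A, algebraMap A (Localization.AtPrime p) b ∈
          maximalIdeal (Localization.AtPrime p) := by
        intro b hb
        rw [← Localization.AtPrime.map_eq_maximalIdeal, IsScalarTower.algebraMap_apply A (Ch K x y)]
        refine Ideal.mem_map_of_mem _ ?_
        have h2 : phi K x y (C b) ∈ Ideal.span {phi K x y (C x)} := by
          rw [phi_mem_span_iff hdim hxy]
          intro k
          rw [coeff_C]
          split_ifs
          · exact hb
          · exact zero_mem _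
        have h3 : algebraMap A (Ch K x y) b = phi K x y (C b) := by
          apply Subtype.ext
          rw [coe_phi, aeval_C]
          rfl
        rw [h3]
        exact (Ideal.span_singleton_le_iff_mem _).mpr hxp h2
      have h4 : maximalIdeal A ^ k ≤ (maximalIdeal (Localization.AtPrime p) ^ k).comap
          (algebraMap A (Localization.AtPrime p)) := by
        refine le_trans (Ideal.pow_right_mono (Ideal.le_comap_of_map_le ?_) k) (Ideal.le_comap_pow _ k)
        rw [Ideal.map_le_iff_le_comap]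
        exact hloc
      exact h4 ha
    have h5 : a • Ideal.Quotient.mk JR q = 0 := by
      change Ideal.Quotient.mk JR (a • q) = 0
      rw [Ideal.Quotient.eq_zero_iff_mem, Algebra.smul_def]
      exact Ideal.mul_mem_right _ _ h1
    rw [h5]
    exact zero_mem _
  -- lengths
  let D : Submodule A A[X] := Polynomial.degreeLE A r
  let f1 : D →ₗ[A] (Localization.AtPrime p ⧸ JR) := θ.toLinearMap.comp D.subtype
  let f2 : D →ₗ[A] (A ⧸ J) := (Submodule.mkQ J).comp ((hmap x y r).comp D.subtype)
  have hf1 : Function.Surjective f1 := by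
    intro q
    have : q ∈ M0 := by rw [hM0]; trivial
    obtain ⟨P, hP, rfl⟩ := this
    exact ⟨⟨P, hP⟩, rfl⟩
  have hker : LinearMap.ker f2 ≤ LinearMap.ker f1 := by
    rintro ⟨P, hP⟩ h
    rw [LinearMap.mem_ker] at h ⊢
    have h1 : hmap x y r P ∈ J := (Submodule.Quotient.mk_eq_zero J).mp h
    change θ P = 0
    rw [hθ, Ideal.Quotient.eq_zero_iff_mem]
    refine hJR P ⟨_, h1, algebraMap_hmap hdim hxy ?_⟩
    exact Polynomial.natDegree_le_iff_degree_le.mpr (Polynomial.mem_degreeLE.mp hP)
  have hrange : LinearMap.range f2 ≠ ⊤ := by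
    intro h
    have h1 : Submodule.mkQ J 1 ∈ LinearMap.range f2 := by rw [h]; trivial
    obtain ⟨⟨P, hP⟩, h2⟩ := h1
    have h3 : hmap x y r P - 1 ∈ J := (Submodule.Quotient.eq J).mp h2
    have h4 : hmap x y r P ∈ maximalIdeal A := by
      have := hmap_mem (I' := ⊤) hx hy (r := r) P (fun _ => trivial)
      rw [Ideal.top_mul] at this
      exact Ideal.pow_le_self (by omega) this
    have h5 : hmap x y r P - 1 ∈ maximalIdeal A := Ideal.pow_le_self (by omega) (hJr h3)
    have h6 : (1 : A) ∈ maximalIdeal A := by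
      have h7 := sub_mem h4 h5
      rwa [sub_sub_cancel] at h7
    exact (Ideal.ne_top_iff_one _).mp (maximalIdeal.isMaximal A).ne_top h6
  rw [Module.length_ne_top_iff, isFiniteLength_iff_isNoetherian_isArtinian] at hJfin
  have := hJfin.1
  have := hJfin.2
  calc Module.length (Localization.AtPrime p) (Localization.AtPrime p ⧸ JR)
      ≤ Module.length A (Localization.AtPrime p ⧸ JR) := length_le_restrict A _ _
    _ ≤ Module.length A (D ⧸ LinearMap.ker f2) := by
        refine Module.length_le_of_surjective ((LinearMap.ker f2).liftQ f1 hker) ?_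
        intro q
        obtain ⟨d, rfl⟩ := hf1 q
        exact ⟨Submodule.Quotient.mk d, rfl⟩
    _ = Module.length A (LinearMap.range f2) := f2.quotKerEquivRange.length_eq
    _ < Module.length A (A ⧸ J) := Submodule.length_lt hrange

end Main

end Groth.Agent.CurvesC.QuadLen
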