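import Groth.Agent.CurvesC.ValCousin
import Groth.Agent.CurvesC.RegNormal
import Groth.Agent.CalgA.RegBasic
import Mathlib.RingTheory.Length
import Mathlib.RingTheory.Polynomial.Quotient
import Mathlib.RingTheory.Localization.AtPrime.Basic
import Mathlib.RingTheory.PrincipalIdealDomain
import Mathlib.RingTheory.Ideal.KrullsHeightTheorem

/-!
# The quadratic transform of a two-dimensional regular local ring

`A` a regular local ring of dimension two with fraction field `K`, `m = (x, y)`, `B = A[y/x] ⊆ K`.
-/

set_option autoImplicit false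
universe u

open Polynomial IsLocalRing

namespace Groth.Agent.CurvesC.QuadTr

open ValCousin

section Basic

variable {A : Type u} [CommRing A] [IsRegularLocalRing A]

theorem notMem_sq {x y : A} (hdim : ringKrullDim A = 2) (hxy : Ideal.span {x, y} = maximalIdeal A) :
    x ∉ maximalIdeal A ^ 2 :=
  Groth.Agent.CalgA.RegBasic.notMem_sq_of_generators x [y] (by rw [hdim]; rfl) (by
    rw [← hxy, Ideal.ofList_cons, Ideal.ofList_singleton, Ideal.span_insert])

theorem prime_left {x y : A} (hdim : ringKrullDim A = 2) (hxy : Ideal.span {x, y} = maximalIdeal A) :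
    Prime x := by
  have hx : x ∈ maximalIdeal A := hxy ▸ Ideal.subset_span (by simp)
  have h2 := notMem_sq hdim hxy
  obtain ⟨h3, _⟩ := Groth.Agent.CalgA.RegBasic.quotient_of_notMem_sq x hx h2
  have h4 := RegNormal.isDomain (A ⧸ Ideal.span {x})
  have hx0 : x ≠ 0 := by
    rintro rfl
    exact h2 (Ideal.zero_mem _)
  exact (Ideal.span_singleton_prime hx0).mp ((Ideal.Quotient.isDomain_iff_prime _).mp h4)

theorem swap_span {x y : A} (hxy : Ideal.span {x, y} = maximalIdeal A) :
    Ideal.span {y, x} = maximalIdeal A := by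
  rw [← hxy, Set.pair_comm]

theorem not_dvd {x y : A} (hdim : ringKrullDim A = 2) (hxy : Ideal.span {x, y} = maximalIdeal A) :
    ¬ x ∣ y := by
  rintro ⟨c, rfl⟩
  have h1 : maximalIdeal A = Ideal.span {x} := by
    rw [← hxy, Ideal.span_pair_eq_span_left_iff_dvd.mpr (Dvd.intro c rfl)]
  have h2 := IsRegularLocalRing.spanFinrank_maximalIdeal (R := A)
  rw [hdim] at h2
  have h3 : (maximalIdeal A).spanFinrank = 2 := by exact_mod_cast h2
  have h4 := Submodule.spanFinrank_span_le_ncard_of_finite (R := A) (Set.finite_singleton x)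
  rw [Set.ncard_singleton] at h4
  rw [h1] at h3
  have h5 : (Submodule.span A {x}).spanFinrank = 2 := h3
  omega

end Basic

section IC

variable {K : Type u} [Field K]

/-- Let `π` be a prime element of the domain `B ⊆ K`, and `z ∈ K` integral over `B` with `π^n z ∈ B`. Then `z ∈ B`. -/
theorem mem_of_pow_mul_mem {B : Type u} [CommRing B] [IsDomain B] [Algebra B K] [FaithfulSMul B K] {π : B}
    (hπ : Prime π) (n : ℕ) : ∀ z : K, IsIntegral B z → (∃ b : B, algebraMap B K π ^ n * z = algebraMap B K b) →
      ∃ b : B, algebraMap B K b = z := by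
  have hπ0 : algebraMap B K π ≠ 0 := by
    rw [Ne, FaithfulSMul.algebraMap_eq_zero_iff]
    exact hπ.ne_zero
  induction n with
  | zero =>
    rintro z _ ⟨b, hb⟩
    exact ⟨b, by rw [← hb]; simp⟩
  | succ n ih =>
    rintro z hz ⟨b, hb⟩
    have hz' : IsIntegral B (algebraMap B K π ^ n * z) :=
      IsIntegral.mul (isIntegral_algebraMap.pow n) hz
    -- `b ∈ π B`
    have hb' : algebraMap B K π * (algebraMap B K π ^ n * z) = algebraMap B K b := by
      rw [← hb, pow_succ]; ring
    set z' := algebraMap B K π ^ n * z with hz'def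
    have h1 : π ∣ b := by
      obtain ⟨P, hP, h0⟩ := hz'
      -- multiply the equation by `π ^ d`
      have h2 : (P.scaleRoots π).eval b = 0 := by
        apply FaithfulSMul.algebraMap_injective B K
        rw [map_zero, ← Polynomial.eval₂_at_apply, ← hb']
        have := Polynomial.scaleRoots_eval₂_mul (p := P) (algebraMap B K) (r := z') (s := π)
        rw [this, h0, mul_zero]
      have h3 : b ^ P.natDegree = - ∑ i ∈ Finset.range P.natDegree, (P.scaleRoots π).coeff i * b ^ i := by
        rw [Polynomial.eval_eq_sum_range, Polynomial.natDegree_scaleRoots, Finset.sum_range_succ] at h2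
        have h4 : (P.scaleRoots π).coeff P.natDegree = 1 := by
          rw [Polynomial.coeff_scaleRoots_natDegree, hP.leadingCoeff]
        rw [h4, one_mul, add_comm] at h2
        exact eq_neg_of_add_eq_zero_left h2
      have h5 : π ∣ b ^ P.natDegree := by
        rw [h3, dvd_neg]
        refine Finset.dvd_sum fun i hi => ?_
        rw [Finset.mem_range] at hi
        rw [Polynomial.coeff_scaleRoots]
        refine Dvd.dvd.mul_right (Dvd.dvd.mul_left (dvd_pow_self _ (by omega)) _) _
      exact hπ.dvd_of_dvd_pow h5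
    obtain ⟨c, rfl⟩ := h1
    refine ih z hz ⟨c, ?_⟩
    rw [map_mul] at hb'
    exact mul_left_cancel₀ hπ0 hb'

end IC

section Chart

variable {K : Type u} [Field K] {A : Type u} [CommRing A] [Algebra A K]

/-- The fraction `y / x`. -/
noncomputable def tt (K : Type u) [Field K] {A : Type u} [CommRing A] [Algebra A K] (x y : A) : K :=
  algebraMap A K y / algebraMap A K x

/-- The chart `A[y/x]` of the point blow-up, as a subring of `K`. -/
noncomputable abbrev Ch (K : Type u) [Field K] {A : Type u} [CommRing A] [Algebra A K] (x y : A) : Subalgebra A K :=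
  (Polynomial.aeval (R := A) (tt K x y)).range

/-- The surjection `A[T] → A[y/x]`. -/
noncomputable def phi (K : Type u) [Field K] {A : Type u} [CommRing A] [Algebra A K] (x y : A) :
    A[X] →ₐ[A] Ch K x y := (Polynomial.aeval (R := A) (tt K x y)).rangeRestrict

theorem phi_surjective (x y : A) : Function.Surjective (phi K x y) :=
  (Polynomial.aeval (R := A) (tt K x y)).rangeRestrict_surjective

theorem coe_phi (x y : A) (P : A[X]) : ((phi K x y P : Ch K x y) : K) = Polynomial.aeval (tt K x y) P := rfl

variable [IsRegularLocalRing A] [FaithfulSMul A K] {x y : A} (hdim : ringKrullDim A = 2)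
  (hxy : Ideal.span {x, y} = maximalIdeal A)

include hdim hxy

theorem algebraMap_ne_zero : algebraMap A K x ≠ 0 := by
  rw [Ne, FaithfulSMul.algebraMap_eq_zero_iff]
  exact (prime_left hdim hxy).ne_zero

theorem mul_tt : algebraMap A K x * tt K x y = algebraMap A K y := by
  rw [tt, mul_div_cancel₀ _ (algebraMap_ne_zero hdim hxy)]

/-- Quasi-regularity: a polynomial vanishing at `y/x` has all its coefficients in `m`. -/
theorem coeff_mem_of_aeval_eq_zero {P : A[X]} (hP : Polynomial.aeval (tt K x y) P = 0) (k : ℕ) :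
    P.coeff k ∈ maximalIdeal A := by
  have hx : x ∈ maximalIdeal A := hxy ▸ Ideal.subset_span (by simp)
  have hy : y ∈ maximalIdeal A := hxy ▸ Ideal.subset_span (by simp)
  have hx0 := algebraMap_ne_zero (K := K) hdim hxy
  have hprime := prime_left hdim hxy
  suffices H : ∀ n : ℕ, ∀ P : A[X], P.natDegree ≤ n → Polynomial.aeval (tt K x y) P = 0 →
      ∀ k, P.coeff k ∈ maximalIdeal A from H _ P le_rfl hP k
  intro n
  induction n with
  | zero =>
    intro P hP h0 k
    rw [Polynomial.eq_C_of_natDegree_le_zero hP, Polynomial.aeval_C, FaithfulSMul.algebraMap_eq_zero_iff] at h0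
    rw [Polynomial.eq_C_of_natDegree_le_zero hP, h0]
    simp
  | succ n ih =>
    intro P hP h0
    -- `x` divides the leading coefficient
    have h1 : x ∣ P.coeff (n + 1) := by
      have h2 : (∑ i ∈ Finset.range (n + 2), P.coeff i * x ^ (n + 1 - i) * y ^ i) = 0 := by
        have h3 : algebraMap A K (∑ i ∈ Finset.range (n + 2), P.coeff i * x ^ (n + 1 - i) * y ^ i) =
            algebraMap A K x ^ (n + 1) * Polynomial.aeval (tt K x y) P := by
          rw [Polynomial.aeval_eq_sum_range' (n := n + 2) (by omega), Finset.mul_sum, map_sum]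
          refine Finset.sum_congr rfl fun i hi => ?_
          rw [Finset.mem_range] at hi
          rw [Algebra.smul_def, map_mul, map_mul, map_pow, map_pow, ← mul_tt (K := K) hdim hxy, mul_pow]
          conv_rhs => rw [← Nat.sub_add_cancel (show i ≤ n + 1 by omega), pow_add]
          ring
        rw [h0, mul_zero, FaithfulSMul.algebraMap_eq_zero_iff] at h3
        exact h3
      rw [Finset.sum_range_succ] at h2
      have h4 : x ∣ ∑ i ∈ Finset.range (n + 1), P.coeff i * x ^ (n + 1 - i) * y ^ i := by
        refine Finset.dvd_sum fun i hi => ?_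
        rw [Finset.mem_range] at hi
        refine Dvd.dvd.mul_right (Dvd.dvd.mul_left ?_ _) _
        exact dvd_pow_self x (by omega)
      have h5 : x ∣ P.coeff (n + 1) * y ^ (n + 1) := by
        rw [Nat.sub_self, pow_zero, mul_one] at h2
        rw [← dvd_add_right h4, h2]
        exact dvd_zero x
      exact (hprime.dvd_or_dvd h5).resolve_right (fun h => not_dvd hdim hxy (hprime.dvd_of_dvd_pow h))
    obtain ⟨q, hq⟩ := h1
    set P' : A[X] := P - (C (q * x) * X ^ (n + 1) - C (q * y) * X ^ n) with hP'
    have h6 : P'.natDegree ≤ n := by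
      rw [Polynomial.natDegree_le_iff_coeff_eq_zero]
      intro N hN
      rw [hP', coeff_sub, coeff_sub, coeff_C_mul_X_pow, coeff_C_mul_X_pow, if_neg (show ¬ N = n by omega), sub_zero]
      by_cases hN1 : N = n + 1
      · rw [if_pos hN1, hN1, hq, mul_comm, sub_self]
      · rw [if_neg hN1, sub_zero]
        exact Polynomial.coeff_eq_zero_of_natDegree_lt (by omega)
    have h7 : Polynomial.aeval (tt K x y) P' = 0 := by
      simp only [hP', map_sub, h0, map_mul, map_pow, aeval_C, aeval_X, ← mul_tt (K := K) hdim hxy]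
      ring
    have h8 := ih P' h6 h7
    intro k
    have h9 : P = P' + (C (q * x) * X ^ (n + 1) - C (q * y) * X ^ n) := by rw [hP']; ring
    rw [h9, coeff_add]
    refine add_mem (h8 k) ?_
    rw [coeff_sub, coeff_C_mul_X_pow, coeff_C_mul_X_pow]
    refine sub_mem ?_ ?_
    · split_ifs
      · exact Ideal.mul_mem_left _ _ hx
      · exact Ideal.zero_mem _
    · split_ifs
      · exact Ideal.mul_mem_left _ _ hy
      · exact Ideal.zero_mem _

/-- An element `P(y/x)` of `A[y/x]` is divisible by `x` iff all the coefficients of `P` are in `m`. -/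
theorem phi_mem_span_iff {P : A[X]} :
    phi K x y P ∈ Ideal.span {phi K x y (C x)} ↔ ∀ k, P.coeff k ∈ maximalIdeal A := by
  have hx : x ∈ maximalIdeal A := hxy ▸ Ideal.subset_span (by simp)
  rw [Ideal.mem_span_singleton]
  constructor
  · rintro ⟨b, hb⟩
    obtain ⟨Q, rfl⟩ := phi_surjective x y b
    have h1 : Polynomial.aeval (tt K x y) (P - C x * Q) = 0 := by
      have := congrArg Subtype.val hb
      rw [← map_mul] at this
      rw [map_sub, sub_eq_zero]
      exact this
    intro k
    have h2 := coeff_mem_of_aeval_eq_zero hdim hxy h1 k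
    rw [coeff_sub, coeff_C_mul] at h2
    have h3 := add_mem h2 (Ideal.mul_mem_right (Q.coeff k) _ hx)
    simpa using h3
  · intro h
    have h1 : P ∈ Ideal.map C (maximalIdeal A) := Ideal.mem_map_C_iff.mpr h
    rw [← hxy, Ideal.map_span, Set.image_pair, Ideal.mem_span_pair] at h1
    obtain ⟨P1, P2, rfl⟩ := h1
    refine ⟨phi K x y (P1 + X * P2), ?_⟩
    apply Subtype.ext
    change Polynomial.aeval (tt K x y) (P1 * C x + P2 * C y) =
      Polynomial.aeval (tt K x y) (C x) * Polynomial.aeval (tt K x y) (P1 + X * P2)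
    simp only [map_add, map_mul, aeval_C, aeval_X, ← mul_tt (K := K) hdim hxy]
    ring

theorem prime_chart : Prime (phi K x y (C x)) := by
  have hne : phi K x y (C x) ≠ 0 := by
    intro h
    have := congrArg Subtype.val h
    rw [coe_phi, aeval_C] at this
    exact algebraMap_ne_zero (K := K) hdim hxy this
  rw [← Ideal.span_singleton_prime hne]
  have hp : (Ideal.map (C : A →+* A[X]) (maximalIdeal A)).IsPrime := Ideal.isPrime_map_C_of_isPrime
  refine ⟨?_, ?_⟩
  · rw [Ideal.ne_top_iff_one]
    intro h1
    rw [← map_one (phi K x y), phi_mem_span_iff hdim hxy] at h1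
    have h2 := h1 0
    rw [coeff_one_zero] at h2
    exact (Ideal.ne_top_iff_one _).mp (maximalIdeal.isMaximal A).ne_top h2
  · intro a b hab
    obtain ⟨P, rfl⟩ := phi_surjective x y a
    obtain ⟨Q, rfl⟩ := phi_surjective x y b
    rw [← map_mul, phi_mem_span_iff hdim hxy, ← Ideal.mem_map_C_iff] at hab
    rw [phi_mem_span_iff hdim hxy, phi_mem_span_iff hdim hxy, ← Ideal.mem_map_C_iff, ← Ideal.mem_map_C_iff]
    exact hp.mem_or_mem hab

/-- Structure of the primes of `A[y/x]` containing `x`: generated by `x` and one more element; maximal if this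
element is not in `(x)`. -/
theorem exists_generator (p : Ideal (Ch K x y)) [hp : p.IsPrime] (hxp : phi K x y (C x) ∈ p) :
    ∃ P : A[X], p = Ideal.span {phi K x y (C x), phi K x y P} ∧
      (phi K x y P ∉ Ideal.span {phi K x y (C x)} → ∀ s ∉ p, ∃ v, s * v - 1 ∈ p) := by
  let ρ : A[X] →+* (ResidueField A)[X] := Polynomial.mapRingHom (residue A)
  have hρ : Function.Surjective ρ := Polynomial.map_surjective _ residue_surjective
  have hker : ∀ Q : A[X], ρ Q = 0 → phi K x y Q ∈ Ideal.span {phi K x y (C x)} := by
    intro Q hQ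
    rw [phi_mem_span_iff hdim hxy]
    intro k
    have := congrArg (fun R => coeff R k) hQ
    simp only [ρ, Polynomial.coe_mapRingHom, Polynomial.coeff_map, Polynomial.coeff_zero] at this
    exact (residue_eq_zero_iff _).mp this
  have hker' : ∀ Q : A[X], ρ Q = 0 → phi K x y Q ∈ p := fun Q hQ =>
    (Ideal.span_singleton_le_iff_mem (I := p)).mpr hxp (hker Q hQ)
  let q : Ideal A[X] := p.comap (phi K x y)
  have hq : q.IsPrime := Ideal.comap_isPrime (phi K x y) p
  let q' : Ideal (ResidueField A)[X] := q.map ρ
  have hq'mem : ∀ Q : A[X], ρ Q ∈ q' ↔ phi K x y Q ∈ p := by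
    intro Q
    rw [Ideal.mem_map_iff_of_surjective ρ hρ]
    constructor
    · rintro ⟨Q', hQ', h⟩
      have h1 : ρ (Q - Q') = 0 := by rw [map_sub, h, sub_self]
      have h2 := hker' _ h1
      rw [map_sub] at h2
      have h3 := add_mem h2 (show phi K x y Q' ∈ p from hQ')
      simpa using h3
    · intro h
      exact ⟨Q, h, rfl⟩
  have hq'p : q'.IsPrime := by
    refine ⟨?_, ?_⟩
    · rw [Ideal.ne_top_iff_one, ← map_one ρ, hq'mem, map_one]
      exact (Ideal.ne_top_iff_one p).mp hp.ne_top
    · intro a b hab
      obtain ⟨P, rfl⟩ := hρ a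
      obtain ⟨Q, rfl⟩ := hρ b
      rw [← map_mul, hq'mem, map_mul] at hab
      rw [hq'mem, hq'mem]
      exact hp.mem_or_mem hab
  obtain ⟨g, hg⟩ := (IsPrincipalIdealRing.principal q').principal
  obtain ⟨P, rfl⟩ := hρ g
  have hP : phi K x y P ∈ p := by
    rw [← hq'mem, hg]
    exact Submodule.mem_span_singleton_self _
  refine ⟨P, le_antisymm ?_ ?_, ?_⟩
  · intro b hb
    obtain ⟨Q, rfl⟩ := phi_surjective x y b
    rw [← hq'mem, hg] at hb
    obtain ⟨R, hR⟩ := Ideal.mem_span_singleton.mp (show ρ Q ∈ Ideal.span {ρ P} from hb)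
    obtain ⟨S, rfl⟩ := hρ R
    have h1 : ρ (Q - P * S) = 0 := by rw [map_sub, hR, map_mul, sub_self]
    have h2 := hker _ h1
    have h3 : phi K x y Q = phi K x y (Q - P * S) + phi K x y P * phi K x y S := by
      rw [map_sub, map_mul]; ring
    rw [h3]
    refine add_mem (Ideal.span_mono (by simp) h2) (Ideal.mul_mem_right _ _ (Ideal.subset_span (by simp)))
  · rw [Ideal.span_le]
    rintro _ (rfl | rfl)
    · exact hxp
    · exact hP
  · intro hPx s hs
    obtain ⟨S, rfl⟩ := phi_surjective x y s
    have hne : q' ≠ ⊥ := by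
      intro h0
      apply hPx
      apply hker
      have : ρ P ∈ q' := (hq'mem P).mpr hP
      rw [h0] at this
      exact this
    have hmax : q'.IsMaximal := hq'p.isMaximal hne
    have hs' : ρ S ∉ q' := fun h => hs ((hq'mem S).mp h)
    obtain ⟨v, w, hw, hvw⟩ := hmax.exists_inv hs'
    obtain ⟨V, rfl⟩ := hρ v
    refine ⟨phi K x y V, ?_⟩
    rw [← map_mul, ← map_one (phi K x y), ← map_sub, ← hq'mem, map_sub, map_mul, map_one]
    have h4 : ρ S * ρ V - 1 = - w := by
      rw [← hvw]; ring
    rw [h4]
    exact neg_mem hw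

/-- The chart is integrally closed. -/
theorem ic_chart [IsFractionRing A K] : IC (K := K) (Ch K x y) := by
  intro z hz
  have hA : IC (K := K) A := by
    have := RegNormal.isIntegrallyClosed A
    intro w hw
    exact IsIntegrallyClosed.isIntegral_iff.mp hw
  have hx0 := algebraMap_ne_zero (K := K) hdim hxy
  obtain ⟨n, b, hb⟩ := exists_pow_mul_eq hA (w := x) hx0 (z := z) (fun V hV hxV => by
    refine mem_of_isIntegral hz ?_
    rintro ⟨_, P, rfl⟩
    change Polynomial.aeval (tt K x y) P ∈ V
    have ht : tt K x y ∈ V := by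
      rw [tt, div_eq_mul_inv]
      exact V.mul_mem _ _ (hV y) hxV
    rw [Polynomial.aeval_eq_sum_range]
    refine sum_mem fun i _ => ?_
    rw [Algebra.smul_def]
    exact V.mul_mem _ _ (hV _) (pow_mem ht _))
  refine mem_of_pow_mul_mem (prime_chart (K := K) hdim hxy) n z hz ⟨algebraMap A _ b, ?_⟩
  rw [← IsScalarTower.algebraMap_apply A (Ch K x y) K, ← hb]
  congr 2
  change Polynomial.aeval (tt K x y) (C x) = _
  rw [aeval_C]

omit hdim hxy [FaithfulSMul A K] in
theorem isNoetherian_chart : IsNoetherianRing (Ch K x y) :=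
  isNoetherianRing_of_surjective A[X] _ (phi K x y).toRingHom (phi_surjective x y)

/-- The local ring of the chart at a prime strictly containing `(x)` is regular of dimension two. -/
theorem isRegular_localization (p : Ideal (Ch K x y)) [hp : p.IsPrime] (hxp : phi K x y (C x) ∈ p)
    (hne : p ≠ Ideal.span {phi K x y (C x)}) :
    IsRegularLocalRing (Localization.AtPrime p) ∧ ringKrullDim (Localization.AtPrime p) = 2 := by
  have hN := isNoetherian_chart (K := K) (x := x) (y := y)
  have hNp : IsNoetherianRing (Localization.AtPrime p) := IsLocalization.isNoetherianRing p.primeCompl _ hN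
  obtain ⟨P, hP, -⟩ := exists_generator hdim hxy p hxp
  have hpr := (Ideal.span_singleton_prime (prime_chart (K := K) hdim hxy).ne_zero).mpr (prime_chart hdim hxy)
  -- height at least two
  have h1 : (⊥ : Ideal (Ch K x y)) < Ideal.span {phi K x y (C x)} := by
    rw [bot_lt_iff_ne_bot, Ne, Ideal.span_singleton_eq_bot]
    exact (prime_chart hdim hxy).ne_zero
  have h2 : Ideal.span {phi K x y (C x)} < p :=
    lt_of_le_of_ne ((Ideal.span_singleton_le_iff_mem _).mpr hxp) hne.symm
  have h3 := Ideal.height_strict_mono_of_isPrime_of_isPrime h1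
  have h4 := Ideal.height_strict_mono_of_isPrime_of_isPrime h2
  have h5 : (2 : ℕ∞) ≤ p.height := by
    have h6 : (1 : ℕ∞) ≤ (Ideal.span {phi K x y (C x)}).height := by
      rw [Order.one_le_iff_ne_zero]
      exact (pos_iff_ne_zero.mp (lt_of_le_of_lt zero_le h3))
    have h7 := Order.add_one_le_of_lt (lt_of_le_of_lt h6 h4)
    have h8 : (1 : ℕ∞) + 1 = 2 := by norm_num
    rwa [h8] at h7
  have hdimR : ringKrullDim (Localization.AtPrime p) = p.height :=
    IsLocalization.AtPrime.ringKrullDim_eq_height p _
  have h6 : ((2 : ℕ) : WithBot ℕ∞) ≤ ringKrullDim (Localization.AtPrime p) := by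
    rw [hdimR]
    exact WithBot.coe_le_coe.mpr h5
  -- the maximal ideal is generated by two elements
  have h7 : maximalIdeal (Localization.AtPrime p) =
      Ideal.span {algebraMap _ (Localization.AtPrime p) (phi K x y (C x)),
        algebraMap _ (Localization.AtPrime p) (phi K x y P)} := by
    rw [← Localization.AtPrime.map_eq_maximalIdeal, ← Set.image_pair (algebraMap _ (Localization.AtPrime p)),
      ← Ideal.map_span, ← hP]
  have h8 : (maximalIdeal (Localization.AtPrime p)).spanFinrank ≤ 2 := by
    rw [h7]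
    refine (Submodule.spanFinrank_span_le_ncard_of_finite (Set.toFinite _)).trans ?_
    refine (Set.ncard_insert_le _ _).trans ?_
    rw [Set.ncard_singleton]
  have h9 : IsRegularLocalRing (Localization.AtPrime p) := by
    apply IsRegularLocalRing.of_spanFinrank_maximalIdeal_le
    exact le_trans (by exact_mod_cast h8) h6
  refine ⟨h9, le_antisymm ?_ h6⟩
  rw [← IsRegularLocalRing.spanFinrank_maximalIdeal]
  exact_mod_cast h8

end Chart

end Groth.Agent.CurvesC.QuadTr
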