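import Groth.Agent.CurvesC.GenPt
import Mathlib.AlgebraicGeometry.Morphisms.QuasiSeparated
import Mathlib.AlgebraicGeometry.Noetherian

/-!
# Generation of the ring of functions on `X_σ` by ratios of sections, when `H^1(X, O_X) = 0`
-/

set_option autoImplicit false
universe u
open CategoryTheory CategoryTheory.Limits AlgebraicGeometry TopologicalSpace Opposite

namespace Groth.Agent.CurvesC.RatGen

open Gen GenPt

variable {X : Scheme.{u}}

theorem exists_pow_mul {W V : X.Opens} (hW : IsCompact (W : Set X)) (hW' : IsQuasiSeparated (W : Set X))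
    (f : Γ(X, W)) (hV : V = X.basicOpen f) (hVW : V ≤ W) (x : Γ(X, V)) :
    ∃ (n : ℕ) (y : Γ(X, W)), X.presheaf.map (homOfLE hVW).op y = X.presheaf.map (homOfLE hVW).op f ^ n * x := by
  subst hV
  exact exists_eq_pow_mul_of_isCompact_of_isQuasiSeparated X W hW hW' f x

/-- If `X = X_σ ∪ X_t` and `H^1(X, O_X) = 0`, a subring of `Γ(X, X_σ)` containing the global functions and all ratios
`r / σ`, `r ∈ Γ(X, L)`, is everything. -/
theorem mem_of_complement {L : X.Modules} (h1 : Subsingleton (Coh.HH X (Coh.structureModule X) 1))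
    (σ t : Γ(L, ⊤)) (hcov : loc σ ⊔ loc t = ⊤) (hc : IsCompact ((loc t : X.Opens) : Set X))
    (hq : IsQuasiSeparated ((loc t : X.Opens) : Set X)) (S : Subring Γ(X, loc σ))
    (hS0 : ∀ c : Γ(X, ⊤), X.presheaf.map (homOfLE (le_top : loc σ ≤ ⊤)).op c ∈ S)
    (hS1 : ∀ (r : Γ(L, ⊤)) (a : Γ(X, loc σ)), a • L.presheaf.map (homOfLE (le_top : loc σ ≤ ⊤)).op σ =
      L.presheaf.map (homOfLE (le_top : loc σ ≤ ⊤)).op r → a ∈ S) (a : Γ(X, loc σ)) : a ∈ S := by
  have hσ : IsGen L (loc σ) (L.presheaf.map (homOfLE (le_top : loc σ ≤ ⊤)).op σ) := by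
    rw [← sec_ofSec]; exact isGen_genLocus _
  have ht : IsGen L (loc t) (L.presheaf.map (homOfLE (le_top : loc t ≤ ⊤)).op t) := by
    rw [← sec_ofSec]; exact isGen_genLocus _
  obtain ⟨u, hu⟩ := hσ.exists_eq (L.presheaf.map (homOfLE (le_top : loc σ ≤ ⊤)).op t)
  obtain ⟨v, hv⟩ := ht.exists_eq (L.presheaf.map (homOfLE (le_top : loc t ≤ ⊤)).op σ)
  have huS : u ∈ S := hS1 t u hu
  -- restrictions to the intersection
  set uI := X.presheaf.map (homOfLE (inf_le_left : loc σ ⊓ loc t ≤ loc σ)).op u with huI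
  set vI := X.presheaf.map (homOfLE (inf_le_right : loc σ ⊓ loc t ≤ loc t)).op v with hvI
  have hσI : IsGen L (loc σ ⊓ loc t) (L.presheaf.map (homOfLE (le_top : loc σ ⊓ loc t ≤ ⊤)).op σ) := by
    have := hσ.mono (inf_le_left : loc σ ⊓ loc t ≤ loc σ)
    rwa [map_map_section] at this
  have huI' : uI • L.presheaf.map (homOfLE (le_top : loc σ ⊓ loc t ≤ ⊤)).op σ =
      L.presheaf.map (homOfLE (le_top : loc σ ⊓ loc t ≤ ⊤)).op t := by
    have := congr(L.presheaf.map (homOfLE (inf_le_left : loc σ ⊓ loc t ≤ loc σ)).op $hu)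
    rwa [map_smul_section, map_map_section, map_map_section] at this
  have hvI' : vI • L.presheaf.map (homOfLE (le_top : loc σ ⊓ loc t ≤ ⊤)).op t =
      L.presheaf.map (homOfLE (le_top : loc σ ⊓ loc t ≤ ⊤)).op σ := by
    have := congr(L.presheaf.map (homOfLE (inf_le_right : loc σ ⊓ loc t ≤ loc t)).op $hv)
    rwa [map_smul_section, map_map_section, map_map_section] at this
  have huv : uI * vI = 1 := by
    apply hσI.injective
    rw [mul_comm, mul_smul, huI', hvI', one_smul]
  have key : ∀ (n : ℕ) (a : Γ(X, loc σ)) (b : Γ(X, loc t)),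
      X.presheaf.map (homOfLE (inf_le_left : loc σ ⊓ loc t ≤ loc σ)).op a =
        uI ^ n * X.presheaf.map (homOfLE (inf_le_right : loc σ ⊓ loc t ≤ loc t)).op b → a ∈ S := by
    intro n
    induction n with
    | zero =>
      intro a b hab
      rw [pow_zero, one_mul] at hab
      obtain ⟨c, hc, -⟩ := exists_glue_two_function hcov a b hab
      rw [← hc]
      exact hS0 c
    | succ n ih =>
      intro a b hab
      obtain ⟨p, q, hpq⟩ := MVSec.exists_sub_function h1 hcov
        (uI * X.presheaf.map (homOfLE (inf_le_right : loc σ ⊓ loc t ≤ loc t)).op b)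
      have hp : p ∈ S := by
        obtain ⟨r, hr, -⟩ := exists_glue_two L hcov (p • L.presheaf.map (homOfLE (le_top : loc σ ≤ ⊤)).op σ)
          ((b + v * q) • L.presheaf.map (homOfLE (le_top : loc t ≤ ⊤)).op t) (by
            rw [map_smul_section, map_smul_section, map_map_section, map_map_section, ← huI', ← mul_smul, map_add,
              map_mul, ← hvI]
            congr 1
            rw [add_mul, mul_right_comm, mul_comm vI, huv, one_mul, mul_comm _ uI, ← hpq]
            abel)
        exact hS1 r p hr.symm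
      have h2 : a - u ^ n * p ∈ S := by
        apply ih _ (-q)
        rw [map_sub, map_mul, map_pow, hab, map_neg, ← huI]
        linear_combination (-uI ^ n) * hpq
      have h3 : a = (a - u ^ n * p) + u ^ n * p := by ring
      rw [h3]
      exact S.add_mem h2 (S.mul_mem (S.pow_mem huS n) hp)
  have hbo : loc σ ⊓ loc t = X.basicOpen v :=
    genLocus_inf_eq_basicOpen ht (ofSec σ) (by rw [sec_ofSec]; exact hv)
  obtain ⟨n, b, hb⟩ := exists_pow_mul hc hq v hbo inf_le_right
    (X.presheaf.map (homOfLE (inf_le_left : loc σ ⊓ loc t ≤ loc σ)).op a)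
  apply key n a b
  rw [hb, ← hvI, ← mul_assoc, ← mul_pow, huv, one_pow, one_mul]

end Groth.Agent.CurvesC.RatGen
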