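import Groth.Prelude.Def_Curv2
import Groth.Agent.CurvesC.RegNormal
import Mathlib.AlgebraicGeometry.Morphisms.Flat
import Mathlib.AlgebraicGeometry.Noetherian
import Mathlib.AlgebraicGeometry.Morphisms.FiniteType
import Mathlib.RingTheory.Flat.FaithfullyFlat.Algebra
import Mathlib.RingTheory.Ideal.GoingDown
import Mathlib.RingTheory.AdicCompletion.LocalRing
import Mathlib.RingTheory.AdicCompletion.AsTensorProduct

/-!
# Regularity and normality of the base change to the completion

* `isRegularLocalRing_of_flat`: for a flat local homomorphism `R → S` of Noetherian local rings with `m_R S = m_S`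
  and `R` regular, `S` is regular.
* `map_maximalIdeal_stalkMap_bcCplFst`: for `X` over `Spec A` (`A` Noetherian local) and `y` a point of the base change
  `Y` to the completion lying over the closed point, `m_x O_{Y,y} = m_y`.
-/

set_option autoImplicit false
set_option linter.style.haveILetI false
set_option linter.unusedSectionVars false

universe u

open CategoryTheory CategoryTheory.Limits AlgebraicGeometry TopologicalSpace Opposite IsLocalRing

namespace Groth.Agent.CurvesC.RegCompl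

theorem isRegularLocalRing_of_flat (R S : Type u) [CommRing R] [CommRing S] [IsRegularLocalRing R]
    [IsLocalRing S] [IsNoetherianRing S] [Algebra R S] [Module.Flat R S]
    (h : (maximalIdeal R).map (algebraMap R S) = maximalIdeal S) : IsRegularLocalRing S := by
  have hlocal : IsLocalHom (algebraMap R S) := by
    refine ((IsLocalRing.local_hom_TFAE (algebraMap R S)).out 0 2).mpr ?_
    exact h.le
  haveI : (maximalIdeal S).LiesOver (maximalIdeal R) :=
    ⟨by
      have h4 : (maximalIdeal S).comap (algebraMap R S) = maximalIdeal R :=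
        ((IsLocalRing.local_hom_TFAE (algebraMap R S)).out 0 4).mp hlocal
      exact h4.symm⟩
  apply IsRegularLocalRing.of_spanFinrank_maximalIdeal_le
  have h1 : (maximalIdeal R).height ≤ (maximalIdeal S).height := by
    rw [Ideal.height_eq_height_add_of_liesOver_of_hasGoingDown (maximalIdeal R) (maximalIdeal S)]
    exact le_self_add
  have h2 : ringKrullDim R ≤ ringKrullDim S := by
    rw [← IsLocalRing.maximalIdeal_height_eq_ringKrullDim, ← IsLocalRing.maximalIdeal_height_eq_ringKrullDim]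
    exact_mod_cast h1
  refine le_trans ?_ h2
  rw [← IsRegularLocalRing.spanFinrank_maximalIdeal, ← h]
  exact_mod_cast Ideal.spanFinrank_map_le_of_fg (algebraMap R S) (IsNoetherian.noetherian _)

theorem map_eq_of_surj {R R' : Type u} [CommRing R] [CommRing R'] (φ : R →+* R') (p : Ideal R) (q : Ideal R')
    (hq : q.comap φ = p) (hs : ∀ x : R', ∃ r : R, x - φ r ∈ p.map φ) : p.map φ = q := by
  have hle : p.map φ ≤ q := Ideal.map_le_iff_le_comap.mpr hq.ge
  refine le_antisymm hle fun x hx => ?_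
  obtain ⟨r, hr⟩ := hs x
  have h1 : φ r ∈ q := by
    have := q.sub_mem hx (hle hr)
    simpa using this
  have h2 : r ∈ p := by rw [← hq]; exact h1
  have := (p.map φ).add_mem hr (Ideal.mem_map_of_mem φ h2)
  simpa using this

/-- From affine opens to stalks. -/
theorem map_maximalIdeal_stalkMap {X Y : Scheme.{u}} (f : Y ⟶ X) {y : Y} (U : X.Opens) (hU : IsAffineOpen U)
    (V : Y.Opens) (hV : IsAffineOpen V) (hVU : V ≤ f ⁻¹ᵁ U) (hy : y ∈ V)
    (h : (hU.primeIdealOf ⟨f y, hVU hy⟩).asIdeal.map (f.appLE U V hVU).hom = (hV.primeIdealOf ⟨y, hy⟩).asIdeal) :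
    (maximalIdeal (X.presheaf.stalk (f y))).map (f.stalkMap y).hom = maximalIdeal (Y.presheaf.stalk y) := by
  let := X.presheaf.algebra_section_stalk ⟨f y, hVU hy⟩
  have h1 := hU.isLocalization_stalk ⟨f y, hVU hy⟩
  let := Y.presheaf.algebra_section_stalk ⟨y, hy⟩
  have h2 := hV.isLocalization_stalk ⟨y, hy⟩
  have e1 : (hU.primeIdealOf ⟨f y, hVU hy⟩).asIdeal.map (X.presheaf.germ U (f y) (hVU hy)).hom =
      maximalIdeal (X.presheaf.stalk (f y)) :=
    IsLocalization.AtPrime.map_eq_maximalIdeal (hU.primeIdealOf ⟨f y, hVU hy⟩).asIdeal (X.presheaf.stalk (f y))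
  have e2 : (hV.primeIdealOf ⟨y, hy⟩).asIdeal.map (Y.presheaf.germ V y hy).hom =
      maximalIdeal (Y.presheaf.stalk y) :=
    IsLocalization.AtPrime.map_eq_maximalIdeal (hV.primeIdealOf ⟨y, hy⟩).asIdeal (Y.presheaf.stalk y)
  rw [← e1, ← e2, ← h, Ideal.map_map, Ideal.map_map, ← CommRingCat.hom_comp, ← CommRingCat.hom_comp]
  congr 2
  have e3 : X.presheaf.germ U (f y) (hVU hy) ≫ f.stalkMap y = f.appLE U V hVU ≫ Y.presheaf.germ V y hy := by
    refine (Scheme.Hom.germ_stalkMap f U y (hVU hy)).trans ?_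
    simp [Scheme.Hom.appLE]
  exact e3

/-- In a pushout `R' = R ⊗_A A'` of rings such that `A'` is generated by `A` modulo `m A'`, every element of `R'` is
in `R + p R'` for every ideal `p` of `R` containing the image of `m`. -/
theorem exists_sub_mem_of_isPushout {A A' R R' : CommRingCat.{u}} {α : A ⟶ R} {φ : A ⟶ A'} {g : R ⟶ R'}
    {β : A' ⟶ R'} (H : IsPushout α φ g β) (m : Ideal A)
    (hm : ∀ a' : A', ∃ a : A, a' - φ.hom a ∈ m.map φ.hom) (p : Ideal R) (hp : m.map α.hom ≤ p) (x : R') :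
    ∃ r : R, x - g.hom r ∈ p.map g.hom := by
  letI := α.hom.toAlgebra
  letI := φ.hom.toAlgebra
  letI := g.hom.toAlgebra
  letI := β.hom.toAlgebra
  letI := (α ≫ g).hom.toAlgebra
  haveI : IsScalarTower A R R' := IsScalarTower.of_algebraMap_eq fun _ => rfl
  haveI : IsScalarTower A A' R' := IsScalarTower.of_algebraMap_eq fun a => by
    exact congr($(H.w).hom a)
  have hpush : Algebra.IsPushout A R A' R' := CommRingCat.isPushout_iff_isPushout.mp H
  have hb : IsBaseChange R (IsScalarTower.toAlgHom A A' R').toLinearMap := hpush.out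
  refine hb.inductionOn x (fun x => ∃ r : R, x - g.hom r ∈ p.map g.hom) ⟨0, by simp⟩ ?_ ?_ ?_
  · intro a'
    obtain ⟨a, ha⟩ := hm a'
    refine ⟨α.hom a, ?_⟩
    have h1 : β.hom (a' - φ.hom a) ∈ (m.map φ.hom).map β.hom := Ideal.mem_map_of_mem _ ha
    have h2 : (m.map φ.hom).map β.hom ≤ p.map g.hom := by
      rw [Ideal.map_map, ← CommRingCat.hom_comp, ← H.w, CommRingCat.hom_comp, ← Ideal.map_map]
      exact Ideal.map_mono hp
    have h3 := h2 h1
    rw [map_sub] at h3
    have h4 : β.hom (φ.hom a) = g.hom (α.hom a) := by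
      exact (congr($(H.w).hom a)).symm
    rw [h4] at h3
    exact h3
  · intro s n ⟨r, hr⟩
    refine ⟨s * r, ?_⟩
    have h1 : s • n - g.hom (s * r) = g.hom s * (n - g.hom r) := by
      rw [map_mul, mul_sub]; rfl
    rw [h1]
    exact Ideal.mul_mem_left _ _ hr
  · intro n₁ n₂ ⟨r₁, h₁⟩ ⟨r₂, h₂⟩
    refine ⟨r₁ + r₂, ?_⟩
    have := add_mem h₁ h₂
    rw [map_add, add_sub_add_comm]
    exact this

theorem exists_sub_mem_maximalIdeal (A : Type u) [CommRing A] [IsLocalRing A] [IsNoetherianRing A]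
    (a' : Curv2.cpl A) : ∃ a : A, a' - algebraMap A (Curv2.cpl A) a ∈
      (maximalIdeal A).map (algebraMap A (Curv2.cpl A)) := by
  obtain ⟨b, hb⟩ := (AdicCompletion.residueField_map_bijective (R := A)).2 (residue _ a')
  obtain ⟨a, rfl⟩ := residue_surjective b
  refine ⟨a, ?_⟩
  rw [← AdicCompletion.maximalIdeal_eq_map, ← residue_eq_zero_iff, map_sub, ← hb, sub_eq_zero]
  rfl

section

variable (A : Type u) [CommRing A] [IsLocalRing A] [IsNoetherianRing A] {X : Scheme.{u}}
  (f : X ⟶ Spec (CommRingCat.of A))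

theorem isPushout_sections (U : X.Opens) (hU : IsAffineOpen U) :
    IsPushout ((Scheme.ΓSpecIso (CommRingCat.of A)).inv ≫ f.appLE ⊤ U le_top)
      (CommRingCat.ofHom (algebraMap A (Curv2.cpl A)))
      ((Curv2.bcCplFst A f).appLE U (Curv2.bcCplFst A f ⁻¹ᵁ U) le_rfl)
      ((Scheme.ΓSpecIso (CommRingCat.of (Curv2.cpl A))).inv ≫
        (Curv2.bcCplSnd A f).appLE ⊤ (Curv2.bcCplFst A f ⁻¹ᵁ U) le_top) := by
  have H := IsPullback.of_hasPullback f (Spec.map (CommRingCat.ofHom (algebraMap A (Curv2.cpl A))))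
  have h1 := isIso_pushoutSection_of_isAffineOpen H (US := ⊤) (UT := ⊤) (UX := U)
    (UY := Curv2.bcCplFst A f ⁻¹ᵁ U) le_top le_top (by simp) (isAffineOpen_top _) (isAffineOpen_top _) hU
  have h2 := (isIso_pushoutSection_iff H le_top le_top (by simp)).mp h1
  refine h2.of_iso (Scheme.ΓSpecIso (CommRingCat.of A)) (Iso.refl _)
    (Scheme.ΓSpecIso (CommRingCat.of (Curv2.cpl A))) (Iso.refl _) ?_ ?_ ?_ ?_
  · simp
  · rw [← Iso.inv_comp_eq, ← Category.assoc, ← Iso.eq_comp_inv]
    have := Scheme.ΓSpecIso_inv_naturality (CommRingCat.ofHom (algebraMap A (Curv2.cpl A)))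
    rw [this]
    simp [Scheme.Hom.appLE]
  · simp
  · simp

/-- If `f x` is the closed point, the maximal ideal of `A` lands in the prime of `x`. -/
theorem map_maximalIdeal_le (U : X.Opens) (hU : IsAffineOpen U) (x : X) (hx : x ∈ U)
    (hfx : f x = closedPoint A) :
    (maximalIdeal A).map ((Scheme.ΓSpecIso (CommRingCat.of A)).inv ≫ f.appLE ⊤ U le_top).hom ≤
      (hU.primeIdealOf ⟨x, hx⟩).asIdeal := by
  rw [Ideal.map_le_iff_le_comap]
  intro a ha
  rw [Ideal.mem_comap, hU.primeIdealOf_eq_map_closedPoint]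
  change X.presheaf.germ U x hx ((f.appLE ⊤ U le_top) ((Scheme.ΓSpecIso (CommRingCat.of A)).inv a)) ∈
    maximalIdeal _
  rw [mem_maximalIdeal, mem_nonunits_iff]
  intro hu
  have h1 : x ∈ X.basicOpen ((f.appLE ⊤ U le_top) ((Scheme.ΓSpecIso (CommRingCat.of A)).inv a)) :=
    (Scheme.mem_basicOpen X _ x hx).mpr hu
  have h0 : x ∈ U ⊓ f ⁻¹ᵁ ((Spec (CommRingCat.of A)).basicOpen ((Scheme.ΓSpecIso (CommRingCat.of A)).inv a)) := by
    rw [← Scheme.basicOpen_appLE (e := le_top)]
    exact h1
  have h2 : f x ∈ PrimeSpectrum.basicOpen ((Scheme.ΓSpecIso (CommRingCat.of A)).hom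
    ((Scheme.ΓSpecIso (CommRingCat.of A)).inv a)) := by
    rw [← basicOpen_eq_of_affine']
    exact h0.2
  rw [hfx] at h2
  apply h2
  have h3 : (Scheme.ΓSpecIso (CommRingCat.of A)).hom ((Scheme.ΓSpecIso (CommRingCat.of A)).inv a) = a := by
    simp
  rw [h3]
  exact ha

set_option backward.isDefEq.respectTransparency.types false in
instance isAffineHom_bcCplFst : IsAffineHom (Curv2.bcCplFst A f) :=
  MorphismProperty.pullback_fst _ _ inferInstance

/-- At points of the base change over the closed point, `m_x O_{Y,y} = m_y`. -/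
theorem map_maximalIdeal_stalkMap_bcCplFst (y : Curv2.bcCpl A f)
    (hy : f (Curv2.bcCplFst A f y) = closedPoint A) :
    (maximalIdeal (X.presheaf.stalk (Curv2.bcCplFst A f y))).map ((Curv2.bcCplFst A f).stalkMap y).hom =
      maximalIdeal ((Curv2.bcCpl A f).presheaf.stalk y) := by
  obtain ⟨U, hU, hxU, -⟩ := exists_isAffineOpen_mem_and_subset (X := X) (U := ⊤) (x := Curv2.bcCplFst A f y) trivial
  have hV : IsAffineOpen (Curv2.bcCplFst A f ⁻¹ᵁ U) := hU.preimage _
  refine map_maximalIdeal_stalkMap (Curv2.bcCplFst A f) U hU _ hV le_rfl hxU ?_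
  refine map_eq_of_surj _ _ _ ?_ ?_
  · have := IsAffineOpen.comap_primeIdealOf_appLE (f := Curv2.bcCplFst A f) U hU (Curv2.bcCplFst A f ⁻¹ᵁ U) hV le_rfl hxU
    exact congr($(this).1)
  · exact exists_sub_mem_of_isPushout (isPushout_sections A f U hU) (maximalIdeal A)
      (exists_sub_mem_maximalIdeal A) _ (map_maximalIdeal_le A f U hU _ hxU hy)

instance flat_bcCplFst : Flat (Curv2.bcCplFst A f) := by
  haveI : Flat (Spec.map (CommRingCat.ofHom (algebraMap A (Curv2.cpl A)))) := by
    rw [Flat.SpecMap_iff]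
    exact (RingHom.flat_algebraMap_iff).mpr inferInstance
  infer_instance

/-- Points of the base change over the closed point: regularity ascends. -/
theorem isRegularLocalRing_stalk_bcCpl [IsNoetherianRing (Curv2.cpl A)] [LocallyOfFiniteType f] (y : Curv2.bcCpl A f)
    (hy : f (Curv2.bcCplFst A f y) = closedPoint A)
    (hreg : IsRegularLocalRing (X.presheaf.stalk (Curv2.bcCplFst A f y))) :
    IsRegularLocalRing ((Curv2.bcCpl A f).presheaf.stalk y) := by
  haveI : IsLocallyNoetherian (Curv2.bcCpl A f) :=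
    LocallyOfFiniteType.isLocallyNoetherian (Curv2.bcCplSnd A f)
  letI := ((Curv2.bcCplFst A f).stalkMap y).hom.toAlgebra
  haveI : Module.Flat (X.presheaf.stalk (Curv2.bcCplFst A f y)) ((Curv2.bcCpl A f).presheaf.stalk y) :=
    Flat.stalkMap (Curv2.bcCplFst A f) y
  exact isRegularLocalRing_of_flat _ _ (map_maximalIdeal_stalkMap_bcCplFst A f y hy)

end

/-- Normality of local rings passes to generizations. -/
theorem isIntegrallyClosed_stalk_of_specializes {Y : Scheme.{u}} {y y₀ : Y} (h : y ⤳ y₀)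
    (h0 : IsDomain (Y.presheaf.stalk y₀) ∧ IsIntegrallyClosed (Y.presheaf.stalk y₀)) :
    IsDomain (Y.presheaf.stalk y) ∧ IsIntegrallyClosed (Y.presheaf.stalk y) := by
  obtain ⟨V, hV, hy0, -⟩ := exists_isAffineOpen_mem_and_subset (X := Y) (U := ⊤) (x := y₀) trivial
  have hy : y ∈ V := h.mem_open V.2 hy0
  obtain ⟨hd, hn⟩ := h0
  letI a1 : Algebra Γ(Y, V) (Y.presheaf.stalk y₀) := (Y.presheaf.germ V y₀ hy0).hom.toAlgebra
  letI a2 : Algebra Γ(Y, V) (Y.presheaf.stalk y) := (Y.presheaf.germ V y hy).hom.toAlgebra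
  letI a3 : Algebra (Y.presheaf.stalk y₀) (Y.presheaf.stalk y) := (Y.presheaf.stalkSpecializes h).hom.toAlgebra
  haveI l1 : IsLocalization.AtPrime (Y.presheaf.stalk y₀) (hV.primeIdealOf ⟨y₀, hy0⟩).asIdeal :=
    hV.isLocalization_stalk ⟨y₀, hy0⟩
  haveI l2 : IsLocalization.AtPrime (Y.presheaf.stalk y) (hV.primeIdealOf ⟨y, hy⟩).asIdeal :=
    hV.isLocalization_stalk ⟨y, hy⟩
  haveI : IsScalarTower Γ(Y, V) (Y.presheaf.stalk y₀) (Y.presheaf.stalk y) :=
    IsScalarTower.of_algebraMap_eq fun a => by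
      exact (congr($(Y.presheaf.germ_stalkSpecializes hy0 h).hom a)).symm
  have hle : (hV.primeIdealOf ⟨y₀, hy0⟩).asIdeal.primeCompl ≤ (hV.primeIdealOf ⟨y, hy⟩).asIdeal.primeCompl := by
    intro a ha ha'
    apply ha
    rw [hV.primeIdealOf_eq_map_closedPoint] at ha' ⊢
    change Y.presheaf.germ V y hy a ∈ maximalIdeal _ at ha'
    change Y.presheaf.germ V y₀ hy0 a ∈ maximalIdeal _
    rw [mem_maximalIdeal, mem_nonunits_iff] at ha' ⊢
    intro hu
    apply ha'
    have := hu.map (Y.presheaf.stalkSpecializes h).hom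
    have h3 : (Y.presheaf.stalkSpecializes h).hom (Y.presheaf.germ V y₀ hy0 a) = Y.presheaf.germ V y hy a := by
      exact congr($(Y.presheaf.germ_stalkSpecializes hy0 h).hom a)
    rw [h3] at this
    exact this
  haveI l3 := IsLocalization.isLocalization_of_submonoid_le (Y.presheaf.stalk y₀) (Y.presheaf.stalk y)
    _ _ hle
  have hle' : ((hV.primeIdealOf ⟨y, hy⟩).asIdeal.primeCompl.map (algebraMap Γ(Y, V) (Y.presheaf.stalk y₀))) ≤
      nonZeroDivisors (Y.presheaf.stalk y₀) := by
    refine le_nonZeroDivisors_of_noZeroDivisors ?_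
    rintro ⟨a, ha, ha0⟩
    have : algebraMap Γ(Y, V) (Y.presheaf.stalk y) a = 0 := by
      rw [IsScalarTower.algebraMap_apply Γ(Y, V) (Y.presheaf.stalk y₀) (Y.presheaf.stalk y)]
      exact (congrArg _ ha0).trans (map_zero _)
    exact not_isUnit_zero (M₀ := Y.presheaf.stalk y) (this ▸ IsLocalization.map_units (Y.presheaf.stalk y) ⟨a, ha⟩)
  exact ⟨IsLocalization.isDomain_of_le_nonZeroDivisors _ hle', isIntegrallyClosed_of_isLocalization _ _ hle'⟩

/-- The base change to the completion of a proper scheme with regular local rings is normal. -/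
theorem isNormalScheme_bcCpl (A : Type u) [CommRing A] [IsLocalRing A] [IsNoetherianRing A] [IsNoetherianRing (Curv2.cpl A)]
    {X : Scheme.{u}} (f : X ⟶ Spec (CommRingCat.of A)) [IsProper f]
    (hreg : ∀ x : X, IsRegularLocalRing (X.presheaf.stalk x)) : Pi1.IsNormalScheme (Curv2.bcCpl A f) := by
  intro y
  haveI : CompactSpace (Curv2.bcCpl A f) := QuasiCompact.compactSpace_of_compactSpace (Curv2.bcCplSnd A f)
  obtain ⟨y₀, hy₀, hcl⟩ := IsClosed.exists_closed_singleton (isClosed_closure (s := {y})) ⟨y, subset_closure rfl⟩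
  refine isIntegrallyClosed_stalk_of_specializes (specializes_iff_mem_closure.mpr hy₀) ?_
  have h1 : IsClosed {Curv2.bcCplSnd A f y₀} := by
    have := (Curv2.bcCplSnd A f).isClosedMap _ hcl
    simpa using this
  have h2 : Curv2.bcCplSnd A f y₀ = closedPoint (Curv2.cpl A) := by
    have h4 : closedPoint (Curv2.cpl A) ∈ closure {Curv2.bcCplSnd A f y₀} :=
      specializes_iff_mem_closure.mp (specializes_closedPoint (R := Curv2.cpl A) (Curv2.bcCplSnd A f y₀))
    rw [h1.closure_eq] at h4
    exact h4.symm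
  have h3 : f (Curv2.bcCplFst A f y₀) = closedPoint A := by
    have h5 : (Curv2.bcCplFst A f ≫ f) y₀ = (Curv2.bcCplSnd A f ≫
        Spec.map (CommRingCat.ofHom (algebraMap A (Curv2.cpl A)))) y₀ := by
      rw [pullback.condition]
    rw [Scheme.Hom.comp_apply, Scheme.Hom.comp_apply, h2] at h5
    rw [h5]
    exact comap_closedPoint (algebraMap A (Curv2.cpl A))
  haveI := isRegularLocalRing_stalk_bcCpl A f y₀ h3 (hreg _)
  exact ⟨RegNormal.isDomain _, RegNormal.isIntegrallyClosed _⟩

end Groth.Agent.CurvesC.RegCompl
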