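import Groth.Prelude.Def_DDual2
import Groth.Prelude.Def_Formal
import Groth.Agent.CurvesC.ProjRep
import Groth.Agent.CurvesC.SpecField
import Groth.Agent.Ega3B.TensorAUnit

/-!
# Global sections of `H^0` on the derived category of `Spec k`

Every `O_{Spec k}`-module is projective, and `K ↦ Γ(Spec k, H^0 K)` is represented by the structure sheaf on the
derived category of `Spec k`.
-/

set_option autoImplicit false

universe u

open CategoryTheory CategoryTheory.Limits AlgebraicGeometry

attribute [local instance] HasDerivedCategory.standard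

namespace Groth.Agent.CurvesC.RepSpec

variable (k : Type u) [Field k]

theorem projective_moduleCat (V : ModuleCat.{u} (CommRingCat.of k)) : Projective V := by
  have : Module.Projective (CommRingCat.of k) V :=
    @Module.projective_of_isSemisimpleRing (CommRingCat.of k) _ (inferInstanceAs (IsSemisimpleRing k)) V _ _
  infer_instance

/-- Every `O_{Spec k}`-module is projective. -/
instance projective (M : (Spec (CommRingCat.of k)).Modules) : Projective M := by
  have h1 : Projective ((moduleSpecΓFunctor (R := CommRingCat.of k)).obj M) := projective_moduleCat k _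
  exact ((moduleSpecΓFunctor (R := CommRingCat.of k)).asEquivalence.map_projective_iff M).1 h1

/-- `Γ(Spec k, H^0 K)`. -/
noncomputable abbrev ΓH : DCoh.D (Spec (CommRingCat.of k)) ⥤ ModuleCat.{u} (CommRingCat.of k) :=
  DerivedCategory.homologyFunctor (Spec (CommRingCat.of k)).Modules 0 ⋙
    moduleSpecΓFunctor (R := CommRingCat.of k)

theorem eval_one_bijective (V : ModuleCat.{u} (CommRingCat.of k)) :
    Function.Bijective (fun ψ : ModuleCat.of (CommRingCat.of k) k ⟶ V => ψ.hom (1 : k)) := by
  constructor
  · intro a b hab
    apply ModuleCat.hom_ext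
    exact LinearMap.ext_ring hab
  · intro y
    exact ⟨ModuleCat.ofHom (LinearMap.toSpanSingleton (CommRingCat.of k) V y), one_smul _ _⟩

/-- A module isomorphic to the structure sheaf represents the global sections. -/
theorem exists_rep_of_iso (N : (Spec (CommRingCat.of k)).Modules)
    (e : N ≅ (show (Spec (CommRingCat.of k)).Modules from Coh.structureModule (Spec (CommRingCat.of k)))) :
    ∃ y : (moduleSpecΓFunctor (R := CommRingCat.of k)).obj N,
      ∀ M : (Spec (CommRingCat.of k)).Modules, Function.Bijective
        (fun φ : N ⟶ M => ((moduleSpecΓFunctor (R := CommRingCat.of k)).map φ).hom y) := by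
  let e' : ModuleCat.of (CommRingCat.of k) k ≅ (moduleSpecΓFunctor (R := CommRingCat.of k)).obj N :=
    (SpecField.ΓunitIso k).symm ≪≫ (moduleSpecΓFunctor (R := CommRingCat.of k)).mapIso e.symm
  refine ⟨e'.hom.hom (1 : k), fun M => ?_⟩
  have h1 : Function.Bijective (fun φ : N ⟶ M => (moduleSpecΓFunctor (R := CommRingCat.of k)).map φ) :=
    ⟨Functor.map_injective _, Functor.map_surjective _⟩
  have h2 : Function.Bijective (fun ψ : (moduleSpecΓFunctor (R := CommRingCat.of k)).obj N ⟶
      (moduleSpecΓFunctor (R := CommRingCat.of k)).obj M => e'.hom ≫ ψ) := (e'.homFromEquiv).symm.bijective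
  have h3 := eval_one_bijective k ((moduleSpecΓFunctor (R := CommRingCat.of k)).obj M)
  exact h3.comp (h2.comp h1)

/-- On the derived category of `Spec k`, the structure sheaf represents `K ↦ Γ(Spec k, H^0 K)`. -/
theorem exists_rep : ∃ y : (ΓH k).obj (DCoh.inD (Spec (CommRingCat.of k))
      (Coh.structureModule (Spec (CommRingCat.of k)))),
    ∀ K : DCoh.D (Spec (CommRingCat.of k)), Function.Bijective
      (fun φ : DCoh.inD (Spec (CommRingCat.of k)) (Coh.structureModule (Spec (CommRingCat.of k))) ⟶ K =>
        ((ΓH k).map φ).hom y) := by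
  let J := Coh.structureModule (Spec (CommRingCat.of k))
  let e' : DCoh.HD (DCoh.inD (Spec (CommRingCat.of k)) J) 0 ≅ J :=
    (DerivedCategory.homologyFunctorFactors _ 0).app _ ≪≫
      HomologicalComplex.singleObjHomologySelfIso (ComplexShape.up ℤ) 0 J
  obtain ⟨y, hy⟩ := exists_rep_of_iso k _ e'
  refine ⟨y, fun K => ?_⟩
  exact (hy (DCoh.HD K 0)).comp (ProjRep.homologyFunctor_map_bijective J K 0)

end Groth.Agent.CurvesC.RepSpec
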