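import Mathlib.RingTheory.Valuation.LocalSubring
import Mathlib.RingTheory.Localization.Integral
import Mathlib.RingTheory.IntegralClosure.IntegrallyClosed
import Mathlib.RingTheory.Localization.Away.Basic
import Mathlib.RingTheory.Polynomial.Subring
import Mathlib.Data.Finite.Prod

/-!
# Cousin data on the Zariski–Riemann space of a field

`K` a field, `A` a ring with a map to `K`.  For a finite family `a : ι → K` and `f : ι → K` we consider the
elements `g : K` such that `g - f i ∈ V` for all valuation rings `V` of `K` containing `A` such that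
`a i` generates the fractional ideal of `V` generated by the family `a`.

The main result of this file is the passage from local to global (`exists_good_of_local`): if such `g` exist for the
localizations of an integrally closed `B` at all its primes then such a `g` exists for `B`.
-/

set_option autoImplicit false
universe u v

open Polynomial

namespace Groth.Agent.CurvesC.ValCousin

variable {K : Type u} [Field K]

/-- The valuation ring `V` contains the image of `A`. -/
def Contains (A : Type v) [CommRing A] [Algebra A K] (V : ValuationSubring K) : Prop :=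
  ∀ a : A, algebraMap A K a ∈ V

/-- The `i`-th member of the family `a` generates `∑ V a_l`. -/
def Gen {ι : Type v} (V : ValuationSubring K) (a : ι → K) (i : ι) : Prop :=
  ∀ l, V.valuation (a l) ≤ V.valuation (a i)

/-- `g` solves the Cousin problem `(a, f)` for all valuation rings in `W`. -/
def GoodFor {ι : Type v} (W : Set (ValuationSubring K)) (a f : ι → K) (g : K) : Prop :=
  ∀ V ∈ W, ∀ i, Gen V a i → g - f i ∈ V

theorem exists_gen {ι : Type v} [Finite ι] [Nonempty ι] (V : ValuationSubring K) (a : ι → K) :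
    ∃ i, Gen V a i :=
  Finite.exists_max fun l => V.valuation (a l)

theorem Gen.scale {ι : Type v} {V : ValuationSubring K} {a : ι → K} {i : ι} (h : Gen V a i) (c : K) :
    Gen V (fun l => c * a l) i := fun l => by
  simp only [map_mul]
  exact mul_le_mul_right (h l) _

theorem Gen.div_mem {ι : Type v} {V : ValuationSubring K} {a : ι → K} {i : ι} (h : Gen V a i) (l : ι) :
    a l / a i ∈ V := by
  by_cases h0 : a i = 0
  · rw [h0, div_zero]; exact V.zero_mem
  · rw [← V.valuation_le_one_iff, map_div₀]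
    exact div_le_one_of_le₀ (h l) zero_le

theorem gen_of_div_mem {ι : Type v} {V : ValuationSubring K} {a : ι → K} {i : ι} (h0 : a i ≠ 0)
    (h : ∀ l, a l / a i ∈ V) : Gen V a i := fun l => by
  have h1 := (V.valuation_le_one_iff _).mpr (h l)
  rw [map_div₀] at h1
  have h2 : (0 : V.ValueGroup) < V.valuation (a i) := by
    rw [zero_lt_iff]
    exact (map_ne_zero V.valuation).mpr h0
  exact (div_le_one₀ h2).mp h1

/-- A root of a monic polynomial with coefficients in `V` is in `V`. -/
theorem mem_of_monic {V : ValuationSubring K} {z : K} {P : K[X]} (hP : P.Monic) (hz : P.eval z = 0)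
    (hc : ∀ k, P.coeff k ∈ V) : z ∈ V := by
  have hsub : (↑P.coeffs : Set K) ⊆ V.toSubring := by
    intro c hc'
    obtain ⟨k, _, rfl⟩ := Polynomial.mem_coeffs_iff.mp hc'
    exact hc k
  have h1 : IsIntegral V.toSubring z := by
    refine ⟨P.toSubring V.toSubring hsub, (Polynomial.monic_toSubring _ _ _).mpr hP, ?_⟩
    rw [Polynomial.eval₂_eq_eval_map]
    have : (P.toSubring V.toSubring hsub).map (algebraMap V.toSubring K) = P := by
      ext k
      rw [Polynomial.coeff_map]
      exact Polynomial.coeff_toSubring _ _ _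
    rw [this, hz]
  have : IsIntegrallyClosedIn V.toSubring K := inferInstanceAs (IsIntegrallyClosedIn V K)
  obtain ⟨y, hy⟩ := (isIntegrallyClosedIn_iff.mp this).2 h1
  rw [← hy]
  exact y.2

/-- An element of all valuation rings containing `T` satisfies a monic equation with coefficients in the subring
generated by `T`. -/
theorem exists_monic {T : Set K} {z : K} (h : ∀ V : ValuationSubring K, T ⊆ V → z ∈ V) :
    ∃ P : K[X], P.Monic ∧ P.eval z = 0 ∧ ∀ k, P.coeff k ∈ Subring.closure T := by
  have h1 : z ∈ (⨅ V : {V : ValuationSubring K // T ⊆ V.toSubring}, V.1.toSubring) := by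
    rw [Subring.mem_iInf]
    exact fun V => h V.1 V.2
  rw [iInf_valuationSubring_superset] at h1
  obtain ⟨P, hP, hz⟩ := (h1 : IsIntegral (Subring.closure T) z)
  refine ⟨P.map (algebraMap _ K), hP.map _, ?_, fun k => ?_⟩
  · rw [← Polynomial.eval₂_eq_eval_map]; exact hz
  · rw [Polynomial.coeff_map]
    exact (P.coeff k).2

theorem isIntegral_of_forall_mem {A : Type v} [CommRing A] [Algebra A K] {z : K}
    (h : ∀ V : ValuationSubring K, Contains A V → z ∈ V) : IsIntegral A z := by
  obtain ⟨P, hP, hz, hc⟩ := exists_monic (T := Set.range (algebraMap A K)) (z := z) (fun V hV => h V (fun a => hV ⟨a, rfl⟩))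
  have hcl : Subring.closure (Set.range (algebraMap A K)) = (algebraMap A K).range := by
    rw [← RingHom.coe_range, Subring.closure_eq]
  have hl : P ∈ Polynomial.lifts (algebraMap A K) := by
    rw [Polynomial.lifts_iff_coeff_lifts]
    intro k
    have := hc k
    rw [hcl] at this
    exact this
  obtain ⟨q, hq, _, hqm⟩ := Polynomial.lifts_and_natDegree_eq_and_monic hl hP
  refine ⟨q, hqm, ?_⟩
  rw [Polynomial.eval₂_eq_eval_map, hq, hz]

theorem mem_of_isIntegral {A : Type v} [CommRing A] [Algebra A K] {z : K} (hz : IsIntegral A z)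
    {V : ValuationSubring K} (hV : Contains A V) : z ∈ V := by
  obtain ⟨P, hP, h0⟩ := hz
  refine mem_of_monic (hP.map (algebraMap A K)) ?_ (fun k => ?_)
  · rw [← Polynomial.eval₂_eq_eval_map]; exact h0
  · rw [Polynomial.coeff_map]; exact hV _

/-- `B` is integrally closed in `K`. -/
def IC (B : Type v) [CommRing B] [Algebra B K] : Prop :=
  ∀ z : K, IsIntegral B z → ∃ b : B, algebraMap B K b = z

/-- Denominators: if `z` is in all `V ⊇ B` with `w⁻¹ ∈ V` and `B` is integrally closed then `w^n z ∈ B`. -/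
theorem exists_pow_mul_eq {B : Type v} [CommRing B] [Algebra B K] (hB : IC (K := K) B) {w : B}
    (hw : algebraMap B K w ≠ 0) {z : K}
    (h : ∀ V : ValuationSubring K, Contains B V → (algebraMap B K w)⁻¹ ∈ V → z ∈ V) :
    ∃ (n : ℕ) (b : B), algebraMap B K w ^ n * z = algebraMap B K b := by
  let f : Localization.Away w →+* K := IsLocalization.Away.lift w (g := algebraMap B K) (isUnit_iff_ne_zero.mpr hw)
  letI : Algebra (Localization.Away w) K := f.toAlgebra
  have htow : IsScalarTower B (Localization.Away w) K := by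
    refine IsScalarTower.of_algebraMap_eq' ?_
    ext b
    exact (IsLocalization.Away.lift_eq w (isUnit_iff_ne_zero.mpr hw) b).symm
  have h1 : IsIntegral (Localization.Away w) z := by
    refine isIntegral_of_forall_mem (fun V hV => h V (fun b => ?_) ?_)
    · rw [IsScalarTower.algebraMap_apply B (Localization.Away w) K]
      exact hV _
    · have h2 := hV (IsLocalization.Away.invSelf w)
      have h3 : algebraMap (Localization.Away w) K (IsLocalization.Away.invSelf w) = (algebraMap B K w)⁻¹ := by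
        refine eq_inv_of_mul_eq_one_left ?_
        rw [IsScalarTower.algebraMap_apply B (Localization.Away w) K w, ← map_mul,
          mul_comm, IsLocalization.Away.mul_invSelf, map_one]
      rwa [h3] at h2
  obtain ⟨⟨_, n, rfl⟩, hm⟩ := IsIntegral.exists_multiple_integral_of_isLocalization (Submonoid.powers w) z h1
  obtain ⟨b, hb⟩ := hB _ hm
  refine ⟨n, b, ?_⟩
  rw [hb, Submonoid.smul_def, Algebra.smul_def]
  simp

theorem inv_mem_of_inv_mul_mem {B : Type v} [CommRing B] [Algebra B K]
    (hinj : Function.Injective (algebraMap B K)) {s t : B} (hs : s ≠ 0) (ht : t ≠ 0)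
    {V : ValuationSubring K} (hV : Contains B V) (hst : (algebraMap B K (s * t))⁻¹ ∈ V) :
    (algebraMap B K s)⁻¹ ∈ V ∧ (algebraMap B K t)⁻¹ ∈ V := by
  have hs' : algebraMap B K s ≠ 0 := (map_ne_zero_iff _ hinj).mpr hs
  have ht' : algebraMap B K t ≠ 0 := (map_ne_zero_iff _ hinj).mpr ht
  rw [map_mul] at hst
  constructor
  · have := V.mul_mem _ _ (hV t) hst
    convert this using 1
    field_simp
  · have := V.mul_mem _ _ (hV s) hst
    convert this using 1
    field_simp

theorem ne_zero_of_notMem {B : Type v} [CommRing B] {p : Ideal B} {s : B} (hs : s ∉ p) : s ≠ 0 := by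
  rintro rfl
  exact hs p.zero_mem

/-- Spreading out from the localization at a prime. -/
theorem exists_notMem_of_localization {B : Type v} [CommRing B] [Algebra B K]
    (hinj : Function.Injective (algebraMap B K)) (p : Ideal B) [hp : p.IsPrime]
    (F : Set K) {z : K}
    (h : ∀ V : ValuationSubring K, Contains B V → (∀ s ∉ p, (algebraMap B K s)⁻¹ ∈ V) → F ⊆ V → z ∈ V) :
    ∃ s ∉ p, ∀ V : ValuationSubring K, Contains B V → (algebraMap B K s)⁻¹ ∈ V → F ⊆ V → z ∈ V := by
  have hone : (1 : B) ∉ p := fun h1 => hp.ne_top ((Ideal.eq_top_iff_one p).mpr h1)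
  obtain ⟨P, hP, hz, hc⟩ := exists_monic (T := Set.range (algebraMap B K) ∪ {q | ∃ s ∉ p, q = (algebraMap B K s)⁻¹} ∪ F)
    (z := z) (fun V hV => h V (fun b => hV (Or.inl (Or.inl ⟨b, rfl⟩))) (fun s hs => hV (Or.inl (Or.inr ⟨s, hs, rfl⟩)))
      (fun x hx => hV (Or.inr hx)))
  have key : ∀ c ∈ Subring.closure (Set.range (algebraMap B K) ∪ {q | ∃ s ∉ p, q = (algebraMap B K s)⁻¹} ∪ F),
      ∃ s ∉ p, ∀ V : ValuationSubring K, Contains B V → (algebraMap B K s)⁻¹ ∈ V → F ⊆ V → c ∈ V := by
    have hmul : ∀ s ∉ p, ∀ t ∉ p, ∀ V : ValuationSubring K, Contains B V → (algebraMap B K (s * t))⁻¹ ∈ V →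
        ((algebraMap B K s)⁻¹ ∈ V ∧ (algebraMap B K t)⁻¹ ∈ V) := by
      intro s hs t ht V hV hst
      exact inv_mem_of_inv_mul_mem hinj (ne_zero_of_notMem hs) (ne_zero_of_notMem ht) hV hst
    intro c hc
    induction hc using Subring.closure_induction with
    | mem x hx =>
      rcases hx with (⟨b, rfl⟩ | ⟨s, hs, rfl⟩) | hx
      · exact ⟨1, hone, fun V hV _ _ => hV b⟩
      · exact ⟨s, hs, fun V _ h _ => h⟩
      · exact ⟨1, hone, fun V _ _ hF => hF hx⟩
    | zero => exact ⟨1, hone, fun V _ _ _ => V.zero_mem⟩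
    | one => exact ⟨1, hone, fun V _ _ _ => V.one_mem⟩
    | add x y _ _ hx hy =>
      obtain ⟨s, hs, hx⟩ := hx
      obtain ⟨t, ht, hy⟩ := hy
      refine ⟨s * t, fun h => (hp.mem_or_mem h).elim hs ht, fun V hV h1 hF => ?_⟩
      obtain ⟨h2, h3⟩ := hmul s hs t ht V hV h1
      exact V.add_mem _ _ (hx V hV h2 hF) (hy V hV h3 hF)
    | neg x _ hx =>
      obtain ⟨s, hs, hx⟩ := hx
      exact ⟨s, hs, fun V hV h1 hF => V.neg_mem _ (hx V hV h1 hF)⟩
    | mul x y _ _ hx hy =>
      obtain ⟨s, hs, hx⟩ := hx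
      obtain ⟨t, ht, hy⟩ := hy
      refine ⟨s * t, fun h => (hp.mem_or_mem h).elim hs ht, fun V hV h1 hF => ?_⟩
      obtain ⟨h2, h3⟩ := hmul s hs t ht V hV h1
      exact V.mul_mem _ _ (hx V hV h2 hF) (hy V hV h3 hF)
  choose S hS hSV using fun k => key (P.coeff k) (hc k)
  -- take the product over the support
  have hprod : ∀ T : Finset ℕ, (∏ k ∈ T, S k) ∉ p := by
    intro T
    rw [hp.prod_mem_iff]
    rintro ⟨k, _, hk⟩
    exact hS k hk
  refine ⟨∏ k ∈ P.support, S k, hprod _, fun V hV h1 hF => mem_of_monic hP hz (fun k => ?_)⟩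
  by_cases hk : k ∈ P.support
  · refine hSV k V hV ?_ hF
    rw [← Finset.mul_prod_erase _ _ hk] at h1
    exact (inv_mem_of_inv_mul_mem hinj (ne_zero_of_notMem (hS k)) (ne_zero_of_notMem (hprod _)) hV h1).1
  · rw [Polynomial.notMem_support_iff.mp hk]
    exact V.zero_mem

/-- Spreading out a solution of a Cousin problem. -/
theorem exists_notMem_goodFor {B : Type v} [CommRing B] [Algebra B K]
    (hinj : Function.Injective (algebraMap B K)) {ι : Type*} [Finite ι]
    (a f : ι → K) (ha : ∃ l, a l ≠ 0) (p : Ideal B) [hp : p.IsPrime] {g : K}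
    (h : GoodFor {V | Contains B V ∧ ∀ s ∉ p, (algebraMap B K s)⁻¹ ∈ V} a f g) :
    ∃ s ∉ p, GoodFor {V | Contains B V ∧ (algebraMap B K s)⁻¹ ∈ V} a f g := by
  classical
  cases nonempty_fintype ι
  have h1 : ∀ i, ∃ s ∉ p, ∀ V : ValuationSubring K, Contains B V → (algebraMap B K s)⁻¹ ∈ V → Gen V a i →
      g - f i ∈ V := by
    intro i
    by_cases hi : a i = 0
    · refine ⟨1, fun h1 => hp.ne_top ((Ideal.eq_top_iff_one p).mpr h1), fun V _ _ hgen => ?_⟩
      obtain ⟨l, hl⟩ := ha
      have := hgen l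
      rw [hi, map_zero, le_zero_iff, map_eq_zero] at this
      exact absurd this hl
    · obtain ⟨s, hs, hsV⟩ := exists_notMem_of_localization hinj p (Set.range fun l => a l / a i) (z := g - f i)
        (fun V hV hV' hF => h V ⟨hV, hV'⟩ i (gen_of_div_mem hi fun l => hF ⟨l, rfl⟩))
      exact ⟨s, hs, fun V hV hV' hgen => hsV V hV hV' (by
        rintro _ ⟨l, rfl⟩
        exact hgen.div_mem l)⟩
  choose S hS hSV using h1
  have hprod : ∀ T : Finset ι, (∏ k ∈ T, S k) ∉ p := by
    intro T
    rw [hp.prod_mem_iff]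
    rintro ⟨k, _, hk⟩
    exact hS k hk
  refine ⟨∏ k, S k, hprod _, fun V hV i hgen => hSV i V hV.1 ?_ hgen⟩
  have h2 := hV.2
  rw [← Finset.mul_prod_erase _ _ (Finset.mem_univ i)] at h2
  exact (inv_mem_of_inv_mul_mem hinj (ne_zero_of_notMem (hS i)) (ne_zero_of_notMem (hprod _)) hV.1 h2).1

/-- If `s'` generates the unit ideal of `B ⊆ V` then some element of `s'` is a unit in `V`. -/
theorem exists_inv_mem {B : Type v} [CommRing B] [Algebra B K] {V : ValuationSubring K} (hV : Contains B V)
    {S : Set B} (hS : Ideal.span S = ⊤) : ∃ s ∈ S, (algebraMap B K s)⁻¹ ∈ V := by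
  let φ : B →+* V := (algebraMap B K).codRestrict V.toSubring hV
  have hne : ¬ S ⊆ ((IsLocalRing.maximalIdeal V).comap φ : Set B) := by
    intro h
    have h1 := Ideal.span_le.mpr h
    rw [hS, top_le_iff] at h1
    exact (Ideal.comap_ne_top φ (IsLocalRing.maximalIdeal.isMaximal V).ne_top) h1
  obtain ⟨s, hs, hs'⟩ := Set.not_subset.mp hne
  refine ⟨s, hs, ?_⟩
  have h1 : IsUnit (φ s) := by
    by_contra h2
    exact hs' ((IsLocalRing.mem_maximalIdeal _).mpr h2)
  obtain ⟨u, hu⟩ := h1
  have h3 : (algebraMap B K s)⁻¹ = ((u⁻¹ : Vˣ) : V) := by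
    refine inv_eq_of_mul_eq_one_right ?_
    have h4 : (algebraMap B K s) = ((u : V) : K) := by rw [hu]; rfl
    rw [h4]
    have h5 : (u : V) * ((u⁻¹ : Vˣ) : V) = 1 := u.mul_inv
    exact congrArg Subtype.val h5
  rw [h3]
  exact ((u⁻¹ : Vˣ) : V).2

/-- Passage from local to global over an integrally closed domain: if the Cousin problem `(a, f)` is solvable over
the localization of `B` at every prime, then it is solvable over `B`. -/
theorem exists_good_of_local {B : Type v} [CommRing B] [Algebra B K]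
    (hinj : Function.Injective (algebraMap B K)) (hB : IC (K := K) B) {ι : Type*} [Finite ι]
    (a f : ι → K) (ha : ∃ l, a l ≠ 0)
    (h : ∀ p : Ideal B, p.IsPrime → ∃ g, GoodFor {V | Contains B V ∧ ∀ s ∉ p, (algebraMap B K s)⁻¹ ∈ V} a f g) :
    ∃ g, GoodFor {V | Contains B V} a f g := by
  classical
  haveI : Nonempty ι := ⟨ha.choose⟩
  let S : Set B := {s | ∃ g, GoodFor {V | Contains B V ∧ (algebraMap B K s)⁻¹ ∈ V} a f g}
  have hspan : Ideal.span S = ⊤ := by
    by_contra hne
    obtain ⟨p, hp, hle⟩ := Ideal.exists_le_maximal _ hne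
    have hpp := hp.isPrime
    obtain ⟨g, hg⟩ := h p hpp
    obtain ⟨s, hs, hs'⟩ := exists_notMem_goodFor hinj a f ha p hg
    exact hs (hle (Ideal.subset_span ⟨g, hs'⟩))
  by_cases h0 : (0 : B) ∈ S
  · obtain ⟨g, hg⟩ := h0
    exact ⟨g, fun V hV i hi => hg V ⟨hV, by rw [map_zero, inv_zero]; exact V.zero_mem⟩ i hi⟩
  obtain ⟨T, hTS, hT⟩ := (Ideal.span_eq_top_iff_finite S).mp hspan
  have hTne : ∀ s : T, s.1 ≠ 0 := fun s hs => h0 (hs ▸ hTS s.2)
  have hTne' : ∀ s : T, algebraMap B K s.1 ≠ 0 := fun s => (map_ne_zero_iff _ hinj).mpr (hTne s)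
  choose g hg using fun s : T => hTS s.2
  have hpair : ∀ s t : T, ∃ (n : ℕ) (b : B), algebraMap B K (s.1 * t.1) ^ n * (g s - g t) = algebraMap B K b := by
    intro s t
    refine exists_pow_mul_eq hB ?_ (fun V hV hV' => ?_)
    · rw [map_mul]
      exact mul_ne_zero (hTne' s) (hTne' t)
    · obtain ⟨h1, h2⟩ := inv_mem_of_inv_mul_mem hinj (hTne s) (hTne t) hV hV'
      obtain ⟨i, hi⟩ := exists_gen V a
      have := sub_mem (hg s V ⟨hV, h1⟩ i hi) (hg t V ⟨hV, h2⟩ i hi)
      simpa using this
  choose n b hnb using hpair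
  let N := Finset.univ.sup (fun p : T × T => n p.1 p.2)
  have hN : ∀ s t : T, ∃ b' : B, algebraMap B K (s.1 * t.1) ^ N * (g s - g t) = algebraMap B K b' := by
    intro s t
    have hle : n s t ≤ N := Finset.le_sup (f := fun p : T × T => n p.1 p.2) (Finset.mem_univ (s, t))
    refine ⟨(s.1 * t.1) ^ (N - n s t) * b s t, ?_⟩
    calc algebraMap B K (s.1 * t.1) ^ N * (g s - g t)
        = algebraMap B K (s.1 * t.1) ^ (N - n s t) * (algebraMap B K (s.1 * t.1) ^ n s t * (g s - g t)) := by
          rw [← mul_assoc, ← pow_add, Nat.sub_add_cancel hle]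
      _ = algebraMap B K ((s.1 * t.1) ^ (N - n s t)) * algebraMap B K (b s t) := by
          rw [hnb s t, map_pow]
      _ = algebraMap B K ((s.1 * t.1) ^ (N - n s t) * b s t) := (map_mul _ _ _).symm
  have hspanN : Ideal.span ((fun x : B => x ^ N) '' (T : Set B)) = ⊤ := Ideal.span_pow_eq_top _ hT N
  have h1 : (1 : B) ∈ Ideal.span ((fun x : B => x ^ N) '' (T : Set B)) := by rw [hspanN]; trivial
  have hsum : ∃ c : T → B, ∑ s : T, c s * s.1 ^ N = 1 := by
    have h2 : ((fun x : B => x ^ N) '' (T : Set B)) = Set.range (fun s : T => s.1 ^ N) := by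
      ext x; simp
    rw [h2] at h1
    exact (Ideal.mem_span_range_iff_exists_fun).mp h1
  obtain ⟨c, hc⟩ := hsum
  refine ⟨∑ s : T, algebraMap B K (c s * s.1 ^ N) * g s, fun V hV i hi => ?_⟩
  obtain ⟨t, ht, htV⟩ := exists_inv_mem hV hT
  have hgt := hg ⟨t, ht⟩ V ⟨hV, htV⟩ i hi
  have hdiff : (∑ s : T, algebraMap B K (c s * s.1 ^ N) * g s) - g ⟨t, ht⟩ ∈ V := by
    have h2 : (∑ s : T, algebraMap B K (c s * s.1 ^ N) * g s) - g ⟨t, ht⟩ =
        ∑ s : T, algebraMap B K (c s * s.1 ^ N) * (g s - g ⟨t, ht⟩) := by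
      simp only [mul_sub, Finset.sum_sub_distrib, ← Finset.sum_mul, ← map_sum, hc, map_one, one_mul]
    rw [h2]
    refine sum_mem fun s _ => ?_
    obtain ⟨b', hb'⟩ := hN s ⟨t, ht⟩
    have h3 : algebraMap B K (c s * s.1 ^ N) * (g s - g ⟨t, ht⟩) =
        algebraMap B K (c s) * ((algebraMap B K t)⁻¹ ^ N * algebraMap B K b') := by
      rw [← hb', map_mul, map_mul, map_pow, mul_pow]
      have := hTne' ⟨t, ht⟩
      simp only at this
      rw [inv_pow]
      field_simp
    rw [h3]
    exact V.mul_mem _ _ (hV _) (V.mul_mem _ _ (pow_mem htV N) (hV _))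
  have := V.add_mem _ _ hdiff hgt
  simpa using this

end Groth.Agent.CurvesC.ValCousin
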