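import Groth.Agent.CurvesC.ModDim
import Groth.Agent.CurvesC.ValCousin
import Groth.Agent.Ega2.Normal
import Mathlib.AlgebraicGeometry.ValuativeCriterion

/-!
# Valuation rings and proper birational morphisms to an affine scheme
-/

set_option autoImplicit false
universe u
open CategoryTheory CategoryTheory.Limits AlgebraicGeometry TopologicalSpace

namespace Groth.Agent.CurvesC.ValData

open ModDim

section Field

variable {X : Scheme.{u}} {K : Type u} [Field K] (V : ValuationSubring K)

theorem exists_mem_of_lift (κ : Spec (CommRingCat.of K) ⟶ X) (l : Spec (CommRingCat.of V) ⟶ X)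
    (hl : Spec.map (CommRingCat.ofHom (algebraMap V K)) ≫ l = κ) (W : X.Opens)
    (hW : l (IsLocalRing.closedPoint V) ∈ W) (s : Γ(X, W)) :
    ∃ (e : ⊤ ≤ κ ⁻¹ᵁ W) (v : V), (v : K) = (Scheme.ΓSpecIso (CommRingCat.of K)).hom (κ.appLE W ⊤ e s) := by
  have hWl : l ⁻¹ᵁ W = ⊤ := IsLocalRing.closed_point_mem_iff.mp hW
  have e : ⊤ ≤ κ ⁻¹ᵁ W := by
    rw [← hl, Scheme.Hom.comp_preimage, hWl]
    exact le_rfl
  refine ⟨e, (Scheme.ΓSpecIso (CommRingCat.of V)).hom (l.appLE W ⊤ hWl.ge s), ?_⟩
  subst hl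
  have h1 := Scheme.ΓSpecIso_naturality (CommRingCat.ofHom (algebraMap V K))
  have h2 := Scheme.Hom.appLE_comp_appLE (Spec.map (CommRingCat.ofHom (algebraMap V K))) l W ⊤ ⊤ hWl.ge le_rfl
  have h4 : (Spec.map (CommRingCat.ofHom (algebraMap V K))).appTop =
      (Spec.map (CommRingCat.ofHom (algebraMap V K))).appLE ⊤ ⊤ le_rfl := by
    rw [Scheme.Hom.appTop, Scheme.Hom.app_eq_appLE]
    rfl
  rw [← h2]
  rw [h4] at h1
  have h3 := congr($h1 (l.appLE W ⊤ hWl.ge s))
  simp only [CommRingCat.comp_apply] at h3 ⊢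
  exact h3.symm

theorem hom_ext_of_generic {A : Type u} [CommRing A] (l l' : Spec (CommRingCat.of V) ⟶ Spec (CommRingCat.of A))
    (h : Spec.map (CommRingCat.ofHom (algebraMap V K)) ≫ l = Spec.map (CommRingCat.ofHom (algebraMap V K)) ≫ l') :
    l = l' := by
  obtain ⟨φ, rfl⟩ := Spec.map_surjective l
  obtain ⟨φ', rfl⟩ := Spec.map_surjective l'
  rw [← Spec.map_comp, ← Spec.map_comp, Spec.map_inj] at h
  congr 1
  ext a
  have := congr($h a)
  exact this

end Field

section Main

variable {A : Type u} [CommRing A] {X : Scheme.{u}} [IsIntegral X] (f : X ⟶ Spec (CommRingCat.of A))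

/-- The ring map `A → K(X)`. -/
noncomputable def toK : A →+* X.functionField :=
  (X.presheaf.germ ⊤ (genericPoint X) trivial).hom.comp (toSec f ⊤)

theorem germ_toSec (U : X.Opens) (hη : genericPoint X ∈ U) (a : A) :
    X.presheaf.germ U (genericPoint X) hη (toSec f U a) = toK f a := by
  have h1 : rs le_top (toSec f ⊤ a) = toSec f U a := toSec_res f le_top a
  rw [← h1]
  exact X.presheaf.germ_res_apply (homOfLE le_top) (genericPoint X) hη (toSec f ⊤ a)

theorem fromSpecStalk_comp : X.fromSpecStalk (genericPoint X) ≫ f = Spec.map (CommRingCat.ofHom (toK f)) := by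
  have h1 : CommRingCat.ofHom (toK f) = (Scheme.ΓSpecIso (CommRingCat.of A)).inv ≫ f.appTop ≫
      X.presheaf.germ ⊤ (genericPoint X) trivial := by
    ext a
    have h2 : toSec f ⊤ a = f.appTop.hom ((Scheme.ΓSpecIso (CommRingCat.of A)).inv.hom a) := by
      have h3 : ∀ s : Γ(X, ⊤), rs (le_top : (⊤ : X.Opens) ≤ ⊤) s = s := fun s => by
        unfold rs
        have : (homOfLE (le_top : (⊤ : X.Opens) ≤ ⊤)) = 𝟙 _ := rfl
        rw [this, op_id, X.presheaf.map_id]
        rfl
      exact h3 _
    change X.presheaf.germ ⊤ (genericPoint X) trivial (toSec f ⊤ a) = _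
    rw [h2]
    rfl
  rw [h1, Spec.map_comp, Spec.map_comp, ← Scheme.fromSpecStalk_toSpecΓ, Category.assoc, Category.assoc,
    ← Scheme.toSpecΓ_naturality_assoc]
  simp

theorem appLE_fromSpecStalk (W : X.Opens) (hη : genericPoint X ∈ W) (e : ⊤ ≤ X.fromSpecStalk (genericPoint X) ⁻¹ᵁ W) :
    (X.fromSpecStalk (genericPoint X)).appLE W ⊤ e ≫ (Scheme.ΓSpecIso _).hom = X.presheaf.germ W (genericPoint X) hη := by
  rw [Scheme.Hom.appLE, Scheme.fromSpecStalk_app hη]
  simp only [Category.assoc]
  have h1 : (Spec (X.presheaf.stalk (genericPoint X))).presheaf.map (homOfLE le_top).op ≫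
      (Spec (X.presheaf.stalk (genericPoint X))).presheaf.map (homOfLE e).op =
      𝟙 ((Spec (X.presheaf.stalk (genericPoint X))).presheaf.obj (Opposite.op ⊤)) := by
    rw [← Functor.map_comp, ← op_comp]
    exact (Spec (X.presheaf.stalk (genericPoint X))).presheaf.map_id _
  rw [reassoc_of% h1, Iso.inv_hom_id, Category.comp_id]

variable (V : ValuationSubring X.functionField)

/-- A lift of the generic point to `Spec V`: functions regular at the center are in `V`. -/
theorem mem_of_lift (l : Spec (CommRingCat.of V) ⟶ X)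
    (hl : Spec.map (CommRingCat.ofHom (algebraMap V X.functionField)) ≫ l = X.fromSpecStalk (genericPoint X))
    (W : X.Opens) (hW : l (IsLocalRing.closedPoint V) ∈ W) (hη : genericPoint X ∈ W) (s : Γ(X, W)) :
    X.presheaf.germ W (genericPoint X) hη s ∈ V := by
  obtain ⟨e, v, hv⟩ := exists_mem_of_lift V (X.fromSpecStalk (genericPoint X)) l hl W hW s
  have h1 := congr($(appLE_fromSpecStalk W hη e) s)
  rw [← h1]
  have h2 : (v : X.functionField) ∈ V := v.2
  rw [hv] at h2
  exact h2

variable {V}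

/-- The map `A → V`. -/
noncomputable def toV (hV : ∀ a, toK f a ∈ V) : A →+* V := (toK f).codRestrict V.toSubring hV

theorem comp_toV (hV : ∀ a, toK f a ∈ V) :
    Spec.map (CommRingCat.ofHom (algebraMap V X.functionField)) ≫ Spec.map (CommRingCat.ofHom (toV f hV)) =
      Spec.map (CommRingCat.ofHom (toK f)) := by
  rw [← Spec.map_comp]
  rfl

/-- The valuative criterion: lift of the generic point. -/
theorem exists_lift [UniversallyClosed f] (hV : ∀ a, toK f a ∈ V) : ∃ l : Spec (CommRingCat.of V) ⟶ X,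
    Spec.map (CommRingCat.ofHom (algebraMap V X.functionField)) ≫ l = X.fromSpecStalk (genericPoint X) ∧
      l ≫ f = Spec.map (CommRingCat.ofHom (toV f hV)) := by
  have h1 : ValuativeCriterion.Existence f := by
    have := UniversallyClosed.eq_valuativeCriterion
    have h2 : UniversallyClosed f := inferInstance
    rw [this] at h2
    exact h2.1
  obtain ⟨⟨⟨l, hl1, hl2⟩⟩⟩ := h1 ⟨V, X.functionField, X.fromSpecStalk (genericPoint X), Spec.map (CommRingCat.ofHom (toV f hV)),
    ⟨by rw [comp_toV, fromSpecStalk_comp]⟩⟩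
  exact ⟨l, hl1, hl2⟩


theorem exists_index [UniversallyClosed f] (hV : ∀ a, toK f a ∈ V) {σ : Type*} (U : σ → X.Opens)
    (hη : ∀ i, genericPoint X ∈ U i) (hcov : ⨆ i, U i = ⊤) :
    ∃ i, ∀ s : Γ(X, U i), X.presheaf.germ (U i) (genericPoint X) (hη i) s ∈ V := by
  obtain ⟨l, hl, -⟩ := exists_lift f hV
  have h1 : l (IsLocalRing.closedPoint V) ∈ (⨆ i, U i) := by rw [hcov]; trivial
  obtain ⟨i, hi⟩ := Opens.mem_iSup.mp h1
  exact ⟨i, mem_of_lift V l hl (U i) hi (hη i)⟩

/-- The center is in `U` if the functions on `U` are in `V`. -/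
theorem exists_lift_of_isAffineOpen {U : X.Opens} (hU : IsAffineOpen U) (hη : genericPoint X ∈ U)
    (h : ∀ s : Γ(X, U), X.presheaf.germ U (genericPoint X) hη s ∈ V) :
    ∃ l : Spec (CommRingCat.of V) ⟶ X,
      Spec.map (CommRingCat.ofHom (algebraMap V X.functionField)) ≫ l = X.fromSpecStalk (genericPoint X) ∧
        l (IsLocalRing.closedPoint V) ∈ U := by
  let φ : Γ(X, U) →+* V := (X.presheaf.germ U (genericPoint X) hη).hom.codRestrict V.toSubring h
  refine ⟨Spec.map (CommRingCat.ofHom φ) ≫ hU.fromSpec, ?_, ?_⟩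
  · rw [← Category.assoc, ← Spec.map_comp]
    have h1 : CommRingCat.ofHom φ ≫ CommRingCat.ofHom (algebraMap V X.functionField) =
        X.presheaf.germ U (genericPoint X) hη := rfl
    rw [h1]
    exact hU.fromSpecStalk_eq_fromSpecStalk hη
  · have h1 := hU.range_fromSpec
    have h2 : hU.fromSpec (Spec.map (CommRingCat.ofHom φ) (IsLocalRing.closedPoint V)) ∈ Set.range hU.fromSpec :=
      ⟨_, rfl⟩
    rw [h1] at h2
    exact h2

theorem mem_inter [IsSeparated f] {U U' : X.Opens} (hU : IsAffineOpen U) (hU' : IsAffineOpen U')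
    (hη : genericPoint X ∈ U) (hη' : genericPoint X ∈ U')
    (h : ∀ s : Γ(X, U), X.presheaf.germ U (genericPoint X) hη s ∈ V)
    (h' : ∀ s : Γ(X, U'), X.presheaf.germ U' (genericPoint X) hη' s ∈ V)
    (s : Γ(X, U ⊓ U')) : X.presheaf.germ (U ⊓ U') (genericPoint X) ⟨hη, hη'⟩ s ∈ V := by
  obtain ⟨l, hl, hlU⟩ := exists_lift_of_isAffineOpen hU hη h
  obtain ⟨l', hl', hlU'⟩ := exists_lift_of_isAffineOpen hU' hη' h'
  have hbase : l' ≫ f = l ≫ f := by
    refine hom_ext_of_generic V _ _ ?_
    rw [reassoc_of% hl, reassoc_of% hl']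
  have h1 := IsSeparated.valuativeCriterion f ⟨V, X.functionField, X.fromSpecStalk (genericPoint X), l ≫ f,
    ⟨by rw [reassoc_of% hl]⟩⟩
  have h2 := h1.elim ⟨l, hl, rfl⟩ ⟨l', hl', hbase⟩
  have h3 : l = l' := congrArg CommSq.LiftStruct.l h2
  subst h3
  exact mem_of_lift V l hl (U ⊓ U') ⟨hlU, hlU'⟩ ⟨hη, hη'⟩ s

/-- Functions on an affine open of a scheme of finite type over `A`: finitely many generate. -/
theorem exists_finset [LocallyOfFiniteType f] {U : X.Opens} (hU : IsAffineOpen U) (hη : genericPoint X ∈ U) :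
    ∃ T : Finset X.functionField, ∀ V : ValuationSubring X.functionField, (∀ a, toK f a ∈ V) →
      ((T : Set X.functionField) ⊆ V ↔ ∀ s : Γ(X, U), X.presheaf.germ U (genericPoint X) hη s ∈ V) := by
  classical
  have h1 : (f.appLE ⊤ U le_top).hom.FiniteType :=
    LocallyOfFiniteType.finiteType_appLE f (isAffineOpen_top _) hU _
  have h2 : (toSec f U).FiniteType := by
    have h3 : toSec f U = (f.appLE ⊤ U le_top).hom.comp (Scheme.ΓSpecIso (CommRingCat.of A)).inv.hom := by
      ext a
      rfl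
    rw [h3]
    exact h1.comp (RingHom.FiniteType.of_surjective _
      (ConcreteCategory.bijective_of_isIso (Scheme.ΓSpecIso (CommRingCat.of A)).inv).2)
  letI := (toSec f U).toAlgebra
  obtain ⟨S, hS⟩ := h2.1
  refine ⟨S.image (fun s => X.presheaf.germ U (genericPoint X) hη s), fun V hV => ⟨fun hT s => ?_, ?_⟩⟩
  · have hs : s ∈ Algebra.adjoin A (S : Set Γ(X, U)) := by rw [hS]; trivial
    induction hs using Algebra.adjoin_induction with
    | mem x hx => exact hT (by simpa using ⟨x, hx, rfl⟩)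
    | algebraMap a =>
      rw [RingHom.algebraMap_toAlgebra, germ_toSec]
      exact hV a
    | add x y _ _ hx hy => rw [map_add]; exact V.add_mem _ _ hx hy
    | mul x y _ _ hx hy => rw [map_mul]; exact V.mul_mem _ _ hx hy
  · intro h x hx
    simp only [Finset.coe_image, Set.mem_image] at hx
    obtain ⟨s, -, rfl⟩ := hx
    exact h s

/-- Functions on an affine open of a normal scheme are determined by valuations. -/
theorem exists_germ_eq (hX : Pi1.IsNormalScheme X) {U : X.Opens} (hU : IsAffineOpen U) (hη : genericPoint X ∈ U)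
    (z : X.functionField) (hz : ∀ V : ValuationSubring X.functionField,
      (∀ s : Γ(X, U), X.presheaf.germ U (genericPoint X) hη s ∈ V) → z ∈ V) :
    ∃ s : Γ(X, U), X.presheaf.germ U (genericPoint X) hη s = z := by
  have hne : Nonempty U := ⟨⟨_, hη⟩⟩
  have h1 := Groth.Agent.Ega2.Normal.isIntegrallyClosed_of_isAffineOpen hX hU hne
  have h2 := functionField_isFractionRing_of_isAffineOpen X U hU
  have h3 : IsIntegral Γ(X, U) z := ValCousin.isIntegral_of_forall_mem fun V hV => hz V hV
  exact IsIntegrallyClosed.isIntegral_iff.mp h3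

theorem isFractionRing_toK [IsDomain A]
    (hf : ∃ U : (Spec (CommRingCat.of A)).Opens, (U : Set (Spec (CommRingCat.of A))).Nonempty ∧ IsIso (f ∣_ U)) :
    @IsFractionRing A _ X.functionField _ (toK f).toAlgebra := by
  obtain ⟨U, hU, hiso⟩ := hf
  letI := (toK f).toAlgebra
  have hinj : Function.Injective (toK f) := by
    rw [injective_iff_map_eq_zero]
    intro a ha
    have hbot : (⊥ : PrimeSpectrum A) ∈ U := by
      obtain ⟨y, hy⟩ := hU
      exact ((PrimeSpectrum.le_iff_specializes ⊥ y).mp bot_le).mem_open U.2 hy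
    obtain ⟨z, hz⟩ := (f ∣_ U).surjective ⟨(⊥ : PrimeSpectrum A), hbot⟩
    have hz' : f z.1 = (⊥ : PrimeSpectrum A) := by
      rw [← morphismRestrict_base_coe f U z, hz]
    have h1 : toSec f ⊤ a = 0 := by
      refine germ_injective_of_isIntegral (X := X) (U := ⊤) (genericPoint X) trivial ?_
      rw [map_zero]
      exact ha
    have h2 := comap_pr f (V := ⊤) z.1 trivial
    rw [hz'] at h2
    have h3 : a ∈ (pr (V := ⊤) z.1 trivial).comap (toSec f ⊤) := by
      rw [Ideal.mem_comap, h1]
      exact zero_mem _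
    rw [h2] at h3
    exact h3
  have : FaithfulSMul A X.functionField := (faithfulSMul_iff_algebraMap_injective A X.functionField).mpr hinj
  refine IsFractionRing.of_field A X.functionField fun z => ?_
  obtain ⟨W, hW, s, hs⟩ := X.presheaf.exists_germ_eq z
  obtain ⟨a, b, hb, hab⟩ := exists_mul_eq f U hU W ⟨_, hW⟩ s
  refine ⟨a, b, ?_⟩
  change z = toK f a / toK f b
  have h1 := congrArg (X.presheaf.germ W (genericPoint X) hW) hab
  rw [map_mul, germ_toSec, germ_toSec] at h1
  rw [eq_div_iff ((map_ne_zero_iff _ hinj).mpr hb), ← hs, mul_comm]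
  exact h1

end Main

end Groth.Agent.CurvesC.ValData
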