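import Groth.Prelude.Def_Curv2
import Groth.Agent.CurvesC.ValData
import Groth.Agent.CurvesC.Cousin

/-!
# Rational singularities and Cousin problems on valuation rings

`Sol K A` : every Cousin problem on the valuation rings of `K` containing `A` is solvable.
-/

set_option autoImplicit false
universe u
open CategoryTheory CategoryTheory.Limits AlgebraicGeometry TopologicalSpace

namespace Groth.Agent.CurvesC.Sol

open ValCousin

/-- Every Cousin problem on the valuation rings of `K` containing `A` is solvable. -/
def Sol (K : Type u) [Field K] (A : Type u) [CommRing A] [Algebra A K] : Prop :=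
  ∀ (σ : Type) [Finite σ] (T : σ → Finset K) (f : σ → K),
    (∀ V : ValuationSubring K, Contains A V → ∃ i, (T i : Set K) ⊆ V) →
    (∀ V : ValuationSubring K, Contains A V → ∀ i j, (T i : Set K) ⊆ V → (T j : Set K) ⊆ V → f i - f j ∈ V) →
    ∃ g, ∀ V : ValuationSubring K, Contains A V → ∀ i, (T i : Set K) ⊆ V → g - f i ∈ V

theorem isRationalSing_of_sol (A : Type u) [CommRing A] [IsDomain A]
    (h : ∀ (K : Type u) [Field K] [Algebra A K] [IsFractionRing A K], Sol K A) : Curv2.IsRationalSing A := by
  intro X f hf hint hnorm hiso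
  have hcpt : CompactSpace X := QuasiCompact.compactSpace_of_compactSpace f
  letI := (ValData.toK f).toAlgebra
  have hfrac : IsFractionRing A X.functionField := ValData.isFractionRing_toK f hiso
  refine Cousin.subsingleton_HH_one X fun n U hη hU hcov φ hφ => ?_
  choose T hT using fun i => ValData.exists_finset f (hU i) (hη i)
  obtain ⟨g, hg⟩ := h X.functionField (Fin n) T φ
    (fun V hV => by
      obtain ⟨i, hi⟩ := ValData.exists_index f hV U hη hcov
      exact ⟨i, (hT i V hV).mpr hi⟩)
    (fun V hV i j hi hj => by
      obtain ⟨s, hs⟩ := hφ i j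
      rw [← hs]
      exact ValData.mem_inter f (hU i) (hU j) (hη i) (hη j)
        ((hT i V hV).mp hi) ((hT j V hV).mp hj) s)
  refine ⟨g, fun i => ValData.exists_germ_eq hnorm (hU i) (hη i) _ fun V hV => ?_⟩
  have hVA : ∀ a, ValData.toK f a ∈ V := fun a => by
    rw [← ValData.germ_toSec f (U i) (hη i)]
    exact hV _
  exact hg V hVA i ((hT i V hVA).mpr hV)

end Groth.Agent.CurvesC.Sol
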