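import Groth.Agent.CurvesC.CousinT
import Groth.Agent.CurvesC.Sol
import Groth.Agent.Lipman.Cpt661

/-!
# `Sol` passes to the local rings of modifications
-/

set_option autoImplicit false
universe u v

namespace Groth.Agent.CurvesC.SolBirat

open ValCousin CousinT

variable {K : Type u} [Field K]

/-- Spreading out a cover. -/
theorem exists_cover {C : Type u} [CommRing C] [Algebra C K] (hinj : Function.Injective (algebraMap C K))
    {σ : Type*} (T : σ → Finset K) (p : Ideal C) [hp : p.IsPrime]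
    (h : ∀ V ∈ LL (K := K) p, ∃ i, (T i : Set K) ⊆ V) :
    ∃ s ∉ p, ∀ V ∈ DD (K := K) C s, ∃ i, (T i : Set K) ⊆ V := by
  classical
  let R : Subring K := (algebraMap C K).range
  have hR : ∀ V : ValuationSubring K, R ≤ V.toSubring ↔ Contains C V := fun V =>
    ⟨fun hV c => hV ⟨c, rfl⟩, by rintro hV _ ⟨c, rfl⟩; exact hV c⟩
  obtain ⟨t, ht⟩ := Groth.Agent.Lipman.Cpt.exists_finite_cover (ι := σ ⊕ {s : C // s ∉ p}) R
    (fun x => x.elim T (fun _ => ∅)) (fun x => x.elim (fun _ => ∅) (fun s => {(algebraMap C K s.1)⁻¹}))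
    (fun V hV => by
      by_cases hVp : ∀ s ∉ p, (algebraMap C K s)⁻¹ ∈ V
      · obtain ⟨i, hi⟩ := h V ⟨(hR V).mp hV, hVp⟩
        exact ⟨Sum.inl i, fun x hx => hi hx, by simp⟩
      · push Not at hVp
        obtain ⟨s, hs, hsV⟩ := hVp
        exact ⟨Sum.inr ⟨s, hs⟩, by simp, by simpa using hsV⟩)
  let S : Finset {s : C // s ∉ p} := t.toRight
  have hprod : ∀ S : Finset {s : C // s ∉ p}, (∏ k ∈ S, k.1) ∉ p := by
    intro S
    rw [hp.prod_mem_iff]
    rintro ⟨k, _, hk⟩
    exact k.2 hk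
  refine ⟨∏ k ∈ S, k.1, hprod _, fun V hV => ?_⟩
  obtain ⟨x, hxt, hx1, hx2⟩ := ht V ((hR V).mpr hV.1)
  rcases x with i | s
  · exact ⟨i, fun x hx => hx1 x hx⟩
  · exfalso
    refine hx2 (algebraMap C K s.1)⁻¹ (by simp) ?_
    have hsS : s ∈ S := Finset.mem_toRight.mpr hxt
    have h2 := hV.2
    rw [← Finset.mul_prod_erase _ _ hsS] at h2
    exact (inv_mem_of_inv_mul_mem hinj (ne_zero_of_notMem s.2) (ne_zero_of_notMem (hprod _)) hV.1 h2).1

theorem sol_of_localization (A B C : Type u) [CommRing A] [CommRing B] [CommRing C] [Algebra A K] [Algebra B K]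
    [Algebra C K] (hinj : Function.Injective (algebraMap C K)) (hIC : IC (K := K) C) [IsNoetherianRing C]
    (t : C) (ht0 : t ≠ 0) (hC : ∀ V : ValuationSubring K, Contains C V ↔ Contains A V ∧ algebraMap C K t ∈ V)
    (p : Ideal C) [hp : p.IsMaximal] (htp : t ∈ p)
    (hB : ∀ V : ValuationSubring K, Contains B V ↔ V ∈ LL (K := K) p)
    (hsmall : ∀ q : Ideal C, q.IsPrime → q < p → ∃ V0 ∈ LL (K := K) q, ∀ V ∈ LL (K := K) q, V0 ≤ V)
    (hA : Sol.Sol K A) : Sol.Sol K B := by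
  classical
  intro σ _ T f hcov hf
  have hpp : p.IsPrime := hp.isPrime
  have hone : (1 : C) ∉ p := fun h => hp.ne_top ((Ideal.eq_top_iff_one p).mpr h)
  have hinv : ∀ {a : C}, a ≠ 0 → algebraMap C K a ≠ 0 := fun {a} ha => (map_ne_zero_iff _ hinj).mpr ha
  have hmul : ∀ {a b : C}, a ≠ 0 → b ≠ 0 → a * b ≠ 0 := fun {a b} ha hb hab => by
    have := congrArg (algebraMap C K) hab
    rw [map_mul, map_zero] at this
    exact (mul_ne_zero (hinv ha) (hinv hb)) this
  have hLLmono : ∀ {q q' : Ideal C}, q ≤ q' → LL (K := K) q ⊆ LL (K := K) q' := fun {q q'} h V hV =>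
    ⟨hV.1, fun s hs => hV.2 s (fun hs' => hs (h hs'))⟩
  have hLLDD : ∀ {q : Ideal C} {u : C}, u ∉ q → LL (K := K) q ⊆ DD (K := K) C u := fun {q u} h V hV =>
    ⟨hV.1, hV.2 u h⟩
  -- spreading out
  obtain ⟨s01, hs01, hcov0⟩ := exists_cover hinj T p (fun V hV => hcov V ((hB V).mpr hV))
  obtain ⟨s02, hs02, hf0⟩ := exists_notMem_forall hinj p (fun x : σ × σ => (T x.1 : Set K) ∪ T x.2)
    (fun x => f x.1 - f x.2) (fun x V hV hF => hf V ((hB V).mpr hV) x.1 x.2
      (fun a ha => hF (Or.inl ha)) (fun a ha => hF (Or.inr ha)))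
  -- local solvability at smaller primes
  have hloc : ∀ q : Ideal C, q.IsPrime → q < p → ∃ g, Good (LL (K := K) q) (fun i => (T i : Set K)) f g := by
    intro q hq hqp
    obtain ⟨V0, hV0, hmin⟩ := hsmall q hq hqp
    obtain ⟨i, hi⟩ := hcov V0 ((hB V0).mpr (hLLmono hqp.le hV0))
    exact ⟨f i, fun V hV j hj => hf V ((hB V).mpr (hLLmono hqp.le hV)) i j (fun x hx => hmin V hV (hi hx)) hj⟩
  let I : Ideal C := Ideal.span {u : C | ∃ g, Good (DD (K := K) C u) (fun i => (T i : Set K)) f g}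
  have hI1 : ∀ q : Ideal C, ¬ I ≤ q → ∃ g, Good (LL (K := K) q) (fun i => (T i : Set K)) f g := by
    intro q hq
    have : ∃ u ∈ {u : C | ∃ g, Good (DD (K := K) C u) (fun i => (T i : Set K)) f g}, u ∉ q := by
      by_contra! hcon
      exact hq (Ideal.span_le.mpr hcon)
    obtain ⟨u, ⟨g, hg⟩, hu⟩ := this
    exact ⟨g, hg.mono (hLLDD hu)⟩
  have hI2 : ∀ q : Ideal C, q.IsPrime → q < p → ¬ I ≤ q := by
    intro q hq hqp hle
    obtain ⟨g, hg⟩ := hloc q hq hqp
    obtain ⟨s, hs, hs'⟩ := exists_notMem_forall hinj q (fun i => (T i : Set K)) (fun i => g - f i)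
      (fun i V hV hF => hg V hV i hF)
    exact hs (hle (Ideal.subset_span ⟨g, fun V hV i hF => hs' i V hV hF⟩))
  have hI3 : ∀ c ∈ p, ∃ s ∉ p, ∃ N : ℕ, s * c ^ N ∈ I := by
    intro c hc
    by_contra! hcon
    have hdisj : Disjoint (I : Set C) ((p.primeCompl ⊔ Submonoid.powers c : Submonoid C) : Set C) := by
      rw [Set.disjoint_left]
      intro x hxI hx
      obtain ⟨y, hy, z, ⟨N, rfl⟩, rfl⟩ := Submonoid.mem_sup.mp hx
      exact hcon y hy N hxI
    obtain ⟨q, hq, hIq, hqd⟩ := Ideal.exists_le_prime_disjoint I _ hdisj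
    have hqp : q ≤ p := by
      intro x hx
      by_contra hxp
      exact Set.disjoint_left.mp hqd hx ((le_sup_left : p.primeCompl ≤ _) hxp)
    have hcq : c ∉ q := fun h => Set.disjoint_left.mp hqd h
      ((le_sup_right : Submonoid.powers c ≤ p.primeCompl ⊔ Submonoid.powers c) (Submonoid.mem_powers c))
    exact hI2 q hq (lt_of_le_of_ne hqp (fun h => hcq (h ▸ hc))) hIq
  -- local solvability near `p`
  obtain ⟨s1, hs1, hs1'⟩ : ∃ s1 ∉ p, ∀ q : Ideal C, q.IsPrime → s1 ∉ q → q ≠ p →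
      ∃ g, Good (LL (K := K) q) (fun i => (T i : Set K)) f g := by
    obtain ⟨G, hG⟩ := (IsNoetherian.noetherian p : p.FG)
    have hGp : ∀ c : G, c.1 ∈ p := fun c => hG ▸ Ideal.subset_span c.2
    choose s hs N hN using fun c : G => hI3 c.1 (hGp c)
    refine ⟨∏ c, s c, ?_, fun q hq hsq hne => hI1 q fun hIq => ?_⟩
    · rw [hpp.prod_mem_iff]
      rintro ⟨k, _, hk⟩
      exact hs k hk
    · have : ∃ c : G, c.1 ∉ q := by
        by_contra! hcon
        have : p ≤ q := by
          rw [← hG]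
          exact Ideal.span_le.mpr fun c hc => hcon ⟨c, hc⟩
        exact hne (hp.eq_of_le hq.ne_top this).symm
      obtain ⟨c, hc⟩ := this
      have h1 : s c * c.1 ^ N c ∈ q := hIq (hN c)
      rcases hq.mem_or_mem h1 with h | h
      · rw [hq.prod_mem_iff] at hsq
        exact hsq ⟨c, Finset.mem_univ _, h⟩
      · exact hc (hq.mem_of_pow_mem _ h)
  -- the element `s`
  obtain ⟨s, hsdef⟩ : ∃ s, s = s01 * s02 * s1 := ⟨_, rfl⟩
  have hsp : s ∉ p := by
    rw [hsdef]
    exact fun h => (hpp.mem_or_mem h).elim (fun h => (hpp.mem_or_mem h).elim hs01 hs02) hs1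
  have hs0 : s ≠ 0 := ne_zero_of_notMem hsp
  have hDs : ∀ V ∈ DD (K := K) C s, V ∈ DD (K := K) C s01 ∧ V ∈ DD (K := K) C s02 := by
    intro V hV
    rw [hsdef] at hV
    have h1 := (mem_DD_mul hinj (hmul (ne_zero_of_notMem hs01) (ne_zero_of_notMem hs02)) (ne_zero_of_notMem hs1)).mp hV
    exact (mem_DD_mul hinj (ne_zero_of_notMem hs01) (ne_zero_of_notMem hs02)).mp h1.1
  have hcovs : ∀ V ∈ DD (K := K) C s, ∃ i, (T i : Set K) ⊆ V := fun V hV => hcov0 V (hDs V hV).1
  have hfs : ∀ V ∈ DD (K := K) C s, ∀ i j, (T i : Set K) ⊆ V → (T j : Set K) ⊆ V → f i - f j ∈ V :=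
    fun V hV i j hi hj => hf0 (i, j) V (hDs V hV).2 (Set.union_subset hi hj)
  have hs1q : ∀ q : Ideal C, s ∉ q → s1 ∉ q := fun q h h' => h (hsdef ▸ q.mul_mem_left _ h')
  -- the element `w`
  obtain ⟨w, hw0, hwp, c, d, hcd⟩ : ∃ w : C, w ≠ 0 ∧ w ∈ p ∧ ∃ c d, c * s + d * w = 1 := by
    obtain ⟨c, w, hwp, hc⟩ := hp.exists_inv hsp
    by_cases h0 : w = 0
    · exact ⟨t, ht0, htp, c, 0, by rw [zero_mul, add_zero]; rwa [h0, add_zero] at hc⟩
    · exact ⟨w, h0, hwp, c, 1, by rw [one_mul]; exact hc⟩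
  have hsw0 : s * w ≠ 0 := hmul hs0 hw0
  obtain ⟨hw, hwgood⟩ := exists_good_of_local hinj hIC (fun i => (T i : Set K)) f hsw0
    (fun V hV => hcovs V ((mem_DD_mul hinj hs0 hw0).mp hV).1)
    (fun q hq hqsw => hs1' q hq (hs1q q fun h => hqsw (q.mul_mem_right _ h))
      (fun h => hqsw (q.mul_mem_left _ (h ▸ hwp))))
  have hcase : ∀ V : ValuationSubring K, Contains C V → V ∈ DD (K := K) C s ∨ V ∈ DD (K := K) C w := by
    intro V hV
    have hspan : Ideal.span {s, w} = (⊤ : Ideal C) := by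
      rw [Ideal.eq_top_iff_one, Ideal.mem_span_pair]
      exact ⟨c, d, hcd⟩
    obtain ⟨x, hx, hxV⟩ := exists_inv_mem hV hspan
    rcases hx with rfl | rfl
    · exact Or.inl ⟨hV, hxV⟩
    · exact Or.inr ⟨hV, hxV⟩
  -- the problem on `Spec C`
  let F' : Option σ → Set K := fun x => x.elim {(algebraMap C K w)⁻¹} (fun i => insert (algebraMap C K s)⁻¹ (T i : Set K))
  let f' : Option σ → K := fun x => x.elim hw f
  obtain ⟨hD, hDgood⟩ := exists_good_of_local hinj hIC F' f' (e := t) ht0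
    (fun V hV => by
      rcases hcase V hV.1 with h | h
      · obtain ⟨i, hi⟩ := hcovs V h
        refine ⟨some i, ?_⟩
        exact Set.insert_subset h.2 hi
      · exact ⟨none, Set.singleton_subset_iff.mpr h.2⟩)
    (fun q hq hqt => by
      have hqp : q ≠ p := fun h => hqt (h ▸ htp)
      by_cases hwq : w ∈ q
      · have hsq : s ∉ q := by
          intro hsq
          refine hq.ne_top ((Ideal.eq_top_iff_one q).mpr ?_)
          rw [← hcd]
          exact q.add_mem (q.mul_mem_left _ hsq) (q.mul_mem_left _ hwq)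
        obtain ⟨g, hg⟩ := hs1' q hq (hs1q q hsq) hqp
        refine ⟨g, ?_⟩
        rintro V hV (_ | i) hi
        · have hVs : V ∈ DD (K := K) C s := hLLDD hsq hV
          have hVw : V ∈ DD (K := K) C w := ⟨hV.1, hi rfl⟩
          obtain ⟨i, hi'⟩ := hcovs V hVs
          have h1 := hg V hV i hi'
          have h2 := hwgood V ((mem_DD_mul hinj hs0 hw0).mpr ⟨hVs, hVw⟩) i hi'
          have h3 := sub_mem h1 h2
          rwa [sub_sub_sub_cancel_right] at h3
        · exact hg V hV i (fun x hx => hi (Set.mem_insert_of_mem _ hx))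
      · refine ⟨hw, ?_⟩
        rintro V hV (_ | i) hi
        · change hw - hw ∈ V
          rw [sub_self]
          exact V.zero_mem
        · exact hwgood V ((mem_DD_mul hinj hs0 hw0).mpr ⟨⟨hV.1, hi (Set.mem_insert _ _)⟩, hLLDD hwq hV⟩) i
            (fun x hx => hi (Set.mem_insert_of_mem _ hx)))
  -- compatibility on `Spec C`
  have hcompat : ∀ V : ValuationSubring K, Contains C V → ∀ x y, F' x ⊆ V → F' y ⊆ V → f' x - f' y ∈ V := by
    have key : ∀ V : ValuationSubring K, Contains C V → ∀ i, F' none ⊆ V → F' (some i) ⊆ V → hw - f i ∈ V := by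
      intro V hV i h1 h2
      exact hwgood V ((mem_DD_mul hinj hs0 hw0).mpr ⟨⟨hV, h2 (Set.mem_insert _ _)⟩, ⟨hV, h1 rfl⟩⟩) i
        (fun x hx => h2 (Set.mem_insert_of_mem _ hx))
    rintro V hV (_ | i) (_ | j) h1 h2
    · change hw - hw ∈ V
      rw [sub_self]
      exact V.zero_mem
    · exact key V hV j h1 h2
    · have := V.neg_mem _ (key V hV i h2 h1)
      rwa [neg_sub] at this
    · exact hfs V ⟨hV, h1 (Set.mem_insert _ _)⟩ i j (fun x hx => h1 (Set.mem_insert_of_mem _ hx))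
        (fun x hx => h2 (Set.mem_insert_of_mem _ hx))
  -- the problem on `A`
  let T'' : Option (Option σ) → Finset K := fun x => x.elim {(algebraMap C K t)⁻¹}
    (fun y => insert (algebraMap C K t) (y.elim {(algebraMap C K w)⁻¹} (fun i => insert (algebraMap C K s)⁻¹ (T i))))
  let f'' : Option (Option σ) → K := fun x => x.elim hD f'
  have hT'' : ∀ (V : ValuationSubring K) (y : Option σ), ((T'' (some y) : Finset K) : Set K) ⊆ V ↔
      algebraMap C K t ∈ V ∧ F' y ⊆ V := by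
    intro V y
    rcases y with _ | i
    · simp only [T'', F', Option.elim, Finset.coe_insert, Finset.coe_singleton, Set.insert_subset_iff, SetLike.mem_coe]
    · simp only [T'', F', Option.elim, Finset.coe_insert, Set.insert_subset_iff, SetLike.mem_coe]
  have hT0 : ∀ (V : ValuationSubring K), ((T'' none : Finset K) : Set K) ⊆ V ↔ (algebraMap C K t)⁻¹ ∈ V := by
    intro V
    simp only [T'', Option.elim, Finset.coe_singleton, Set.singleton_subset_iff, SetLike.mem_coe]
  obtain ⟨g, hg⟩ := hA (Option (Option σ)) T'' f''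
    (fun V hV => by
      rcases V.mem_or_inv_mem (algebraMap C K t) with h | h
      · have hVC : Contains C V := (hC V).mpr ⟨hV, h⟩
        rcases hcase V hVC with h1 | h1
        · obtain ⟨i, hi⟩ := hcovs V h1
          exact ⟨some (some i), (hT'' V (some i)).mpr ⟨h, Set.insert_subset h1.2 hi⟩⟩
        · exact ⟨some none, (hT'' V none).mpr ⟨h, Set.singleton_subset_iff.mpr h1.2⟩⟩
      · exact ⟨none, (hT0 V).mpr h⟩)
    (by
      have key : ∀ V : ValuationSubring K, Contains A V → ∀ y, (T'' none : Set K) ⊆ V → (T'' (some y) : Set K) ⊆ V →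
          hD - f' y ∈ V := by
        intro V hV y h1 h2
        rw [hT''] at h2
        rw [hT0] at h1
        exact hDgood V ⟨(hC V).mpr ⟨hV, h2.1⟩, h1⟩ y h2.2
      rintro V hV (_ | x) (_ | y) h1 h2
      · change hD - hD ∈ V
        rw [sub_self]
        exact V.zero_mem
      · exact key V hV y h1 h2
      · have := V.neg_mem _ (key V hV x h2 h1)
        rwa [neg_sub] at this
      · rw [hT''] at h1 h2
        exact hcompat V ((hC V).mpr ⟨hV, h1.1⟩) x y h1.2 h2.2)
  refine ⟨g, fun V hV i hi => ?_⟩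
  have hV' := (hB V).mp hV
  have hVC := (hC V).mp hV'.1
  exact hg V hVC.1 (some (some i)) ((hT'' V (some i)).mpr ⟨hVC.2, Set.insert_subset (hV'.2 s hsp) hi⟩)

end Groth.Agent.CurvesC.SolBirat
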