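import Groth.Agent.CurvesC.SpreadModel
import Groth.Agent.Smoothlim.Glue2
import Groth.Agent.VarietyB.AlgClosedTensor

/-!
# Modifications of a scheme with prescribed germ at a closed point
-/

set_option autoImplicit false
universe u
open CategoryTheory CategoryTheory.Limits AlgebraicGeometry TopologicalSpace

namespace Groth.Agent.CurvesC.SpreadGlue

open Groth.Agent.CurvesC.SpreadIso Groth.Agent.CurvesC.SpreadModel Groth.Agent.Smoothlim.Glue2

theorem fromSpecStalk_genericPoint {X : Scheme.{u}} [IsIntegral X] (x : X) :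
    X.fromSpecStalk x (genericPoint (Spec (X.presheaf.stalk x))) = genericPoint X := by
  have h1 : genericPoint X ∈ Set.range (X.fromSpecStalk x) := by
    rw [Scheme.range_fromSpecStalk]
    exact genericPoint_specializes x
  obtain ⟨q, hq⟩ := h1
  have h3 : X.fromSpecStalk x (genericPoint (Spec (X.presheaf.stalk x))) ⤳ genericPoint X := by
    rw [← hq]
    exact (genericPoint_specializes q).map (X.fromSpecStalk x).continuous
  exact (h3.antisymm (genericPoint_specializes _)).eq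

theorem valuationRing_of_ringEquiv {A B : Type*} [CommRing A] [IsDomain A] [CommRing B] [IsDomain B] (e : A ≃+* B)
    [ValuationRing A] : ValuationRing B := by
  have h : ∀ a b : B, a ∣ b ∨ b ∣ a := by
    intro a b
    rcases ValuationRing.dvd_total (e.symm a) (e.symm b) with h | h
    · left
      simpa using map_dvd e h
    · right
      simpa using map_dvd e h
  exact ValuationRing.iff_dvd_total.mpr ⟨h⟩

theorem isIntegral_of_isGlue {U X₁ X₂ X : Scheme.{u}} {i₁ : U ⟶ X₁} {i₂ : U ⟶ X₂} {j₁ : X₁ ⟶ X} {j₂ : X₂ ⟶ X}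
    (h : IsGlue i₁ i₂ j₁ j₂) [IsIntegral X₁] [IsIntegral X₂] [Nonempty U] : IsIntegral X := by
  have := h.open₁
  have := h.open₂
  have hirr : IrreducibleSpace X := by
    refine VarietyB.AlgClosedTensor.irreducibleSpace_of_cover (ι := Bool)
      (fun b => match b with | true => Set.range j₁ | false => Set.range j₂) ?_ ?_ ?_ ?_
    · rintro (_ | _)
      · exact j₂.isOpenEmbedding.isOpen_range
      · exact j₁.isOpenEmbedding.isOpen_range
    · rintro (_ | _)
      · change IsIrreducible (Set.range j₂)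
        rw [← Set.image_univ]
        exact (IrreducibleSpace.isIrreducible_univ X₂).image _ j₂.continuous.continuousOn
      · change IsIrreducible (Set.range j₁)
        rw [← Set.image_univ]
        exact (IrreducibleSpace.isIrreducible_univ X₁).image _ j₁.continuous.continuousOn
    · intro t
      rcases h.cover t with ht | ht
      · exact ⟨true, ht⟩
      · exact ⟨false, ht⟩
    · obtain ⟨w⟩ := ‹Nonempty U›
      have hw : ∀ b : Bool, j₁ (i₁ w) ∈ (match b with | true => Set.range j₁ | false => Set.range j₂ : Set X) := by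
        rintro (_ | _)
        · refine ⟨i₂ w, ?_⟩
          rw [← Scheme.Hom.comp_apply, ← h.isPullback.w, Scheme.Hom.comp_apply]
        · exact ⟨i₁ w, rfl⟩
      intro b b'
      exact ⟨j₁ (i₁ w), hw b, hw b'⟩
  have hred : IsReduced X := by
    have : ∀ b, IsReduced (h.openCover.X b) := by
      rintro (_ | _)
      · exact inferInstanceAs (IsReduced X₂)
      · exact inferInstanceAs (IsReduced X₁)
    exact IsReduced.of_openCover _ h.openCover
  exact isIntegral_of_irreducibleSpace_of_isReduced _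

theorem exists_glue {X : Scheme.{u}} [IsIntegral X] [IsNoetherian X]
    (hX : ∀ w : X, IsIntegrallyClosed (X.presheaf.stalk w))
    (x : X) (hx : IsClosed ({x} : Set X)) (hv : ∀ w : X, w ⤳ x → w ≠ x → ValuationRing (X.presheaf.stalk w))
    (hxg : x ≠ genericPoint X)
    {Y : Scheme.{u}} [IsIntegral Y] (φ : Y ⟶ Spec (X.presheaf.stalk x)) [IsProper φ] (hφ : IsBir φ) :
    ∃ (X₁ : Scheme.{u}) (_ : IsIntegral X₁) (g : X₁ ⟶ X) (p : Y ⟶ X₁),
      IsPullback p φ g (X.fromSpecStalk x) ∧ IsProper g ∧ IsIso (g ∣_ ⟨{x}ᶜ, hx.isOpen_compl⟩) := by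
  obtain ⟨W, Z, hZ, j, l, h, p, hj, hW, hlj, hpb, hh, hp⟩ := exists_local_model x φ
  let x₁ : W := l (IsLocalRing.closedPoint (X.presheaf.stalk x))
  have hx₁ : j x₁ = x := by
    change j (l _) = x
    rw [← Scheme.Hom.comp_apply, hlj, Scheme.fromSpecStalk_closedPoint]
  have hne : Nonempty W := ⟨x₁⟩
  have hWint : IsIntegral W := isIntegral_of_isOpenImmersion j
  have hWln : IsLocallyNoetherian W := isLocallyNoetherian_of_isOpenImmersion j
  have hWn : IsNoetherian W := {}
  have hWcl : ∀ w : W, IsIntegrallyClosed (W.presheaf.stalk w) := by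
    intro w
    have := hX (j w)
    exact IsIntegrallyClosed.of_equiv (asIso (j.stalkMap w)).commRingCatIsoToRingEquiv
  have hjinj : Function.Injective j := j.isOpenEmbedding.injective
  have hx₁c : IsClosed ({x₁} : Set W) := by
    have : ({x₁} : Set W) = j ⁻¹' {x} := by
      ext w
      simp only [Set.mem_singleton_iff, Set.mem_preimage]
      refine ⟨fun hw => by rw [hw, hx₁], fun hw => hjinj (by rw [hw, hx₁])⟩
    rw [this]
    exact hx.preimage j.continuous
  have hvW : ∀ w : W, w ⤳ x₁ → w ≠ x₁ → ValuationRing (W.presheaf.stalk w) := by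
    intro w hw hne
    have := hv (j w) (by rw [← hx₁]; exact hw.map j.continuous) (by
      intro heq
      exact hne (hjinj (by rw [heq, hx₁])))
    exact valuationRing_of_ringEquiv (asIso (j.stalkMap w)).commRingCatIsoToRingEquiv
  have hlgen : l (genericPoint (Spec (X.presheaf.stalk x))) = genericPoint W := by
    apply hjinj
    rw [← Scheme.Hom.comp_apply, hlj, fromSpecStalk_genericPoint, genericPoint_eq_of_isOpenImmersion]
  have hls : SurjectiveOnStalks (l ≫ j) := by rw [hlj]; infer_instance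
  have hls' : SurjectiveOnStalks l := SurjectiveOnStalks.of_comp (f := l) (g := j)
  have hbir : IsBir h := isBir_of_surjectiveOnStalks hpb.w hφ hp hlgen
  obtain ⟨V, hxV, hV⟩ := exists_isIso_off hbir hWcl x₁ hx₁c hvW
  -- the pieces of `X`
  let O : W.Opens := ⟨{x₁}ᶜ, hx₁c.isOpen_compl⟩
  let N : W.Opens := V ⊓ O
  let O₂ : X.Opens := ⟨{x}ᶜ, hx.isOpen_compl⟩
  have hNiso : IsIso (h ∣_ N) := hV
  have hO₂ : j ⁻¹ᵁ O₂ = O := by
    ext w
    change j w ≠ x ↔ w ≠ x₁
    rw [not_iff_not]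
    exact ⟨fun hw => hjinj (by rw [hw, hx₁]), fun hw => by rw [hw, hx₁]⟩
  let i₁ : N.toScheme ⟶ V.toScheme := W.homOfLE inf_le_left
  have hrange : Set.range (N.ι ≫ j) ⊆ Set.range O₂.ι := by
    rintro _ ⟨w, rfl⟩
    rw [Scheme.Opens.range_ι]
    have h1 : N.ι w ∈ O := w.2.2
    rw [← hO₂] at h1
    exact h1
  let i₂ : N.toScheme ⟶ O₂.toScheme := IsOpenImmersion.lift O₂.ι (N.ι ≫ j) hrange
  have hi₂ : i₂ ≫ O₂.ι = N.ι ≫ j := IsOpenImmersion.lift_fac _ _ _
  have hi₂o : IsOpenImmersion i₂ := by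
    have : IsOpenImmersion (i₂ ≫ O₂.ι) := by rw [hi₂]; infer_instance
    exact IsOpenImmersion.of_comp _ O₂.ι
  have hG : IsGlue i₁ i₂ (V.ι ≫ j) O₂.ι := by
    refine ⟨?_, inferInstance, inferInstance, ?_⟩
    · refine (IsOpenImmersion.isPullback _ _ _ _ ?_ ?_).flip
      · rw [hi₂, ← Category.assoc, Scheme.homOfLE_ι]
      · rw [Scheme.Opens.opensRange_ι, Scheme.Hom.comp_preimage, hO₂, Scheme.opensRange_homOfLE]
        ext w
        change w.1 ∈ O ↔ w.1 ∈ V ⊓ O
        exact ⟨fun hw => ⟨w.2, hw⟩, fun hw => hw.2⟩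
    · intro z
      by_cases hz : z = x
      · left
        refine ⟨⟨x₁, hxV⟩, ?_⟩
        rw [hz]
        exact hx₁
      · right
        rw [Scheme.Opens.range_ι]
        exact hz
  -- the pieces over them
  let c := h ∣_ N
  let i₁' : (h ⁻¹ᵁ N).toScheme ⟶ (h ⁻¹ᵁ V).toScheme := Z.homOfLE (h.preimage_mono inf_le_left)
  let i₂' : (h ⁻¹ᵁ N).toScheme ⟶ O₂.toScheme := c ≫ i₂
  have hi₂'o : IsOpenImmersion i₂' := inferInstance
  obtain ⟨X₁, j₁', j₂', hG'⟩ := exists_isGlue i₁' i₂'
  have sq₁ : IsPullback i₁' c (h ∣_ V) i₁ := by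
    have h1 := (isPullback_morphismRestrict h N).flip
    have h2 := (isPullback_morphismRestrict h V).flip
    have e1 : i₁' ≫ (h ⁻¹ᵁ V).ι = (h ⁻¹ᵁ N).ι := Scheme.homOfLE_ι _ _
    have e2 : i₁ ≫ V.ι = N.ι := Scheme.homOfLE_ι _ _
    refine IsPullback.of_right (by rw [e1, e2]; exact h1) ?_ h2
    rw [← cancel_mono V.ι, Category.assoc, Category.assoc, e2, morphismRestrict_ι, morphismRestrict_ι,
      ← Category.assoc, e1]
  have sq₂ : IsPullback i₂' c (𝟙 O₂.toScheme) i₂ := IsPullback.of_vert_isIso ⟨by simp [i₂']⟩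
  obtain ⟨g, e₁, e₂⟩ := hG'.exists_desc ((h ∣_ V) ≫ (V.ι ≫ j)) (𝟙 _ ≫ O₂.ι) (by
    rw [← Category.assoc, sq₁.w, Category.assoc, hG.isPullback.w, Category.id_comp, Category.assoc])
  have hVprop : IsProper (h ∣_ V) := inferInstance
  have hgprop : IsProper g := hG'.of_isPullback hG c (h ∣_ V) (𝟙 _) g @IsProper sq₁ sq₂ e₁ e₂ hVprop inferInstance
  have pb₁ : IsPullback j₁' (h ∣_ V) g (V.ι ≫ j) := IsGlue.isPullback_of_isPullback hG' hG c _ _ g sq₂ e₁ e₂
  have pb₂ : IsPullback j₂' (𝟙 _) g O₂.ι :=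
    IsGlue.isPullback_of_isPullback hG'.swap hG.swap c _ _ g sq₁ e₂ e₁
  -- the map from `Y`
  have hlV : Set.range l ⊆ Set.range V.ι := by
    rintro _ ⟨q, rfl⟩
    rw [Scheme.Opens.range_ι]
    have h1 : l q ⤳ x₁ := by
      have : q ⤳ IsLocalRing.closedPoint (X.presheaf.stalk x) :=
        (PrimeSpectrum.le_iff_specializes _ _).mp (IsLocalRing.le_maximalIdeal q.2.ne_top)
      exact this.map l.continuous
    exact h1.mem_open V.isOpen hxV
  let lV : Spec (X.presheaf.stalk x) ⟶ V.toScheme := IsOpenImmersion.lift V.ι l hlV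
  have hlVι : lV ≫ V.ι = l := IsOpenImmersion.lift_fac _ _ _
  have hpV : Set.range p ⊆ Set.range (h ⁻¹ᵁ V).ι := by
    rintro _ ⟨y, rfl⟩
    rw [Scheme.Opens.range_ι]
    change h (p y) ∈ V
    rw [← Scheme.Hom.comp_apply, hpb.w, Scheme.Hom.comp_apply]
    have := hlV ⟨φ y, rfl⟩
    rwa [Scheme.Opens.range_ι] at this
  let pV : Y ⟶ (h ⁻¹ᵁ V).toScheme := IsOpenImmersion.lift (h ⁻¹ᵁ V).ι p hpV
  have hpVι : pV ≫ (h ⁻¹ᵁ V).ι = p := IsOpenImmersion.lift_fac _ _ _
  have pbV : IsPullback pV φ (h ∣_ V) lV := by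
    refine IsPullback.of_right (by rw [hpVι, hlVι]; exact hpb) ?_ (isPullback_morphismRestrict h V).flip
    rw [← cancel_mono V.ι, Category.assoc, Category.assoc, hlVι, morphismRestrict_ι, ← Category.assoc, hpVι, hpb.w]
  have hgenN : genericPoint W ∈ N := by
    refine ⟨(genericPoint_specializes x₁).mem_open V.isOpen hxV, ?_⟩
    intro heq
    apply hxg
    have heq' : genericPoint W = x₁ := heq
    rw [← hx₁, ← heq', genericPoint_eq_of_isOpenImmersion]
  have hne₂ : Nonempty (h ⁻¹ᵁ N).toScheme := ⟨⟨genericPoint Z, by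
    change h (genericPoint Z) ∈ N
    rw [hbir.gen]
    exact hgenN⟩⟩
  have hneV : Nonempty (h ⁻¹ᵁ V).toScheme := ⟨i₁' hne₂.some⟩
  have hintV : IsIntegral (h ⁻¹ᵁ V).toScheme := inferInstance
  have hneO₂ : Nonempty O₂.toScheme := ⟨⟨genericPoint X, fun heq => hxg heq.symm⟩⟩
  have hint₂ : IsIntegral O₂.toScheme := inferInstance
  refine ⟨X₁, isIntegral_of_isGlue hG', g, pV ≫ j₁', ?_, hgprop, ?_⟩
  · have h1 := pbV.paste_horiz pb₁
    rw [← Category.assoc, hlVι, hlj] at h1
    exact h1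
  · have h4 := isPullback_morphismRestrict g O₂
    have h6 : (h4.isoIsPullback _ _ pb₂.flip).hom ≫ 𝟙 _ = g ∣_ O₂ := IsPullback.isoIsPullback_hom_fst _ _ h4 pb₂.flip
    rw [← h6]
    infer_instance

end Groth.Agent.CurvesC.SpreadGlue
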