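import Groth.Agent.Ega2.BiratOpen
import Groth.Agent.Ega3B.NormalBirational
import Groth.Agent.CycB.PushLocal
import Groth.Agent.Dix.BirIso
import Groth.Agent.Dix.ContractBasic
import Groth.Agent.CurvesC.ModDim

/-!
# Proper birational morphisms to a normal scheme are isomorphisms at valuation ring points
-/

set_option autoImplicit false
universe u
open CategoryTheory CategoryTheory.Limits AlgebraicGeometry TopologicalSpace

namespace Groth.Agent.CurvesC.SpreadIso

open Groth.Agent.Ega2.BiratOpen

/-- A birational morphism of integral schemes. -/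
structure IsBir {Z W : Scheme.{u}} [IsIntegral Z] [IsIntegral W] (h : Z ⟶ W) : Prop where
  gen : h (genericPoint Z) = genericPoint W
  bir : IsIso (h.stalkMap (genericPoint Z))

theorem bijective_stalkMap {C Q : Scheme.{u}} [IsIntegral C] [IsIntegral Q] {g : C ⟶ Q}
    (hg : IsBir g) (x : C) (hQ : ValuationRing (Q.presheaf.stalk (g x))) :
    Function.Bijective (g.stalkMap x).hom := by
  obtain ⟨hgen, hbir⟩ := hg
  have hsp : genericPoint C ⤳ x := genericPoint_specializes x
  have hsp' : g (genericPoint C) ⤳ g x := hsp.map g.continuous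
  have hcomm : ∀ a, C.presheaf.stalkSpecializes hsp (g.stalkMap x a) =
      g.stalkMap (genericPoint C) (Q.presheaf.stalkSpecializes hsp' a) := by
    intro a
    have := g.stalkSpecializes_stalkMap (genericPoint C) x hsp
    exact (ConcreteCategory.congr_hom this a).symm
  have hinjC : Function.Injective (C.presheaf.stalkSpecializes hsp) :=
    FaithfulSMul.algebraMap_injective (C.presheaf.stalk x) C.functionField
  have hinjQ : Function.Injective (Q.presheaf.stalkSpecializes hsp') := by
    have key : ∀ z (hz : z = genericPoint Q) (h : z ⤳ g x),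
        Function.Injective (Q.presheaf.stalkSpecializes h) := by
      rintro z rfl h
      exact FaithfulSMul.algebraMap_injective (Q.presheaf.stalk (g x)) Q.functionField
    exact key _ hgen hsp'
  have hb : Function.Bijective (g.stalkMap (genericPoint C)).hom :=
    ConcreteCategory.bijective_of_isIso (g.stalkMap (genericPoint C))
  constructor
  · intro a b hab
    have h1 := congrArg (C.presheaf.stalkSpecializes hsp) hab
    erw [hcomm, hcomm] at h1
    exact hinjQ (hb.1 h1)
  · intro s
    obtain ⟨l, hl⟩ := hb.2 (C.presheaf.stalkSpecializes hsp s)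
    rcases mem_range_or _ (g x) hgen hQ hsp' l with ⟨a, ha⟩ | ⟨a, ha, hal⟩
    · refine ⟨a, hinjC ?_⟩
      erw [hcomm a, ha]
      exact hl
    · exfalso
      have h1 : g.stalkMap x a * s = 1 := by
        apply hinjC
        rw [map_mul, map_one, hcomm a, ← hl]
        have := congrArg (g.stalkMap (genericPoint C)) hal
        rw [map_mul, map_one] at this
        exact this
      have h2 : IsUnit (g.stalkMap x a) := IsUnit.of_mul_eq_one _ h1
      exact ha ((isUnit_map_iff (g.stalkMap x).hom a).mp h2)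

/-- Restriction of a birational morphism over a nonempty open. -/
theorem IsBir.restrict {Z W : Scheme.{u}} [IsIntegral Z] [IsIntegral W] {h : Z ⟶ W} (hh : IsBir h) (V : W.Opens)
    [IsIntegral V.toScheme] [IsIntegral (h ⁻¹ᵁ V).toScheme] : IsBir (h ∣_ V) := by
  have h1 : (h ⁻¹ᵁ V).ι (genericPoint (h ⁻¹ᵁ V).toScheme) = genericPoint Z := genericPoint_eq_of_isOpenImmersion _
  have h2 : V.ι (genericPoint V.toScheme) = genericPoint W := genericPoint_eq_of_isOpenImmersion _
  refine ⟨?_, ?_⟩
  · apply V.ι.isOpenEmbedding.injective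
    rw [h2, ← Scheme.Hom.comp_apply, morphismRestrict_ι, Scheme.Hom.comp_apply, h1, hh.gen]
  · have h3 : IsIso (h.stalkMap ((h ⁻¹ᵁ V).ι (genericPoint (h ⁻¹ᵁ V).toScheme))) := by
      rw [h1]; exact hh.bir
    exact ((MorphismProperty.isomorphisms CommRingCat).arrow_mk_iso_iff
      (morphismRestrictStalkMap h V _)).mpr h3

theorem IsBir.surjective {Z W : Scheme.{u}} [IsIntegral Z] [IsIntegral W] {h : Z ⟶ W} (hh : IsBir h) [IsProper h] :
    Surjective h := by
  have : IsDominant h := by
    refine ⟨?_⟩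
    have h1 : closure {genericPoint W} = Set.univ := genericPoint_closure _
    rw [DenseRange, dense_iff_closure_eq, ← Set.univ_subset_iff, ← h1]
    apply closure_mono
    rw [Set.singleton_subset_iff]
    exact ⟨_, hh.gen⟩
  infer_instance

/-- A proper birational morphism to a normal integral scheme is an isomorphism near the points whose local ring is a
valuation ring. -/
theorem exists_isIso {Z W : Scheme.{u}} [IsIntegral Z] [IsIntegral W] {h : Z ⟶ W} [IsProper h] (hh : IsBir h)
    (hW : ∀ w : W, IsIntegrallyClosed (W.presheaf.stalk w)) (w : W) (hw : ValuationRing (W.presheaf.stalk w)) :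
    ∃ V : W.Opens, w ∈ V ∧ IsIso (h ∣_ V) := by
  obtain ⟨V, hwV, hV⟩ := CycB.PushLocal.exists_isFinite_restrict h w (by
    rintro z rfl
    have h1 := bijective_stalkMap hh z hw
    exact RingHom.QuasiFinite.of_finite (RingHom.Finite.of_surjective _ h1.2))
  refine ⟨V, hwV, ?_⟩
  have := hh.surjective
  obtain ⟨z, hz⟩ := h.surjective w
  have : Nonempty V.toScheme := ⟨⟨w, hwV⟩⟩
  have : Nonempty (h ⁻¹ᵁ V).toScheme := ⟨⟨z, by
    change h z ∈ V
    rw [hz]; exact hwV⟩⟩
  have h1 : IsIntegral V.toScheme := inferInstance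
  have h2 : IsIntegral (h ⁻¹ᵁ V).toScheme := inferInstance
  have h3 : IsBir (h ∣_ V) := hh.restrict V
  have h4 : IsOpenImmersion (h ∣_ V) := by
    refine Ega3B.NormalBirational.isOpenImmersion_of_birational ?_ (h ∣_ V) h3.gen h3.bir
    intro y
    exact IsIntegrallyClosed.of_equiv (asIso (V.ι.stalkMap y)).commRingCatIsoToRingEquiv (h := hW _)
  have h5 : Surjective (h ∣_ V) := IsZariskiLocalAtTarget.restrict (P := @Surjective) ‹_› V
  exact (isIso_iff_isOpenImmersion_and_surjective _).mpr ⟨h4, h5⟩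

/-- The closed point `x` can only be isolated in the locus where a proper birational morphism to a normal Noetherian
scheme is not an isomorphism, if the local rings at its proper generizations are valuation rings. -/
theorem exists_isIso_off {Z W : Scheme.{u}} [IsIntegral Z] [IsIntegral W] [IsNoetherian W] {h : Z ⟶ W} [IsProper h]
    (hh : IsBir h) (hW : ∀ w : W, IsIntegrallyClosed (W.presheaf.stalk w)) (x : W) (hx : IsClosed ({x} : Set W))
    (hv : ∀ w : W, w ⤳ x → w ≠ x → ValuationRing (W.presheaf.stalk w)) :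
    ∃ V : W.Opens, x ∈ V ∧ IsIso (h ∣_ (V ⊓ ⟨{x}ᶜ, hx.isOpen_compl⟩)) := by
  -- the locus where `h` is an isomorphism
  let L : W.Opens := sSup {V | IsIso (h ∣_ V)}
  have hL : ∀ V : W.Opens, V ≤ L → IsIso (h ∣_ V) := by
    intro V hV
    refine Dix.ContractBasic.isIso_restrict_of_forall h V ?_
    intro z hz
    obtain ⟨V', hV', hzV'⟩ := TopologicalSpace.Opens.mem_sSup.mp (hV hz)
    refine ⟨V ⊓ V', inf_le_left, ⟨hz, hzV'⟩, ?_⟩
    have : IsIso (h ∣_ V') := hV'
    exact CurvesC.ModDim.isIso_morphismRestrict_of_le h inf_le_right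
  -- the irreducible components of its complement
  obtain ⟨S, hSf, hSc, hSi, hS⟩ := NoetherianSpace.exists_finite_set_isClosed_irreducible
    (s := (L : Set W)ᶜ) L.isOpen.isClosed_compl
  have hC : IsClosed (⋃₀ {t ∈ S | x ∉ t}) := by
    rw [Set.sUnion_eq_biUnion]
    exact (hSf.subset (Set.sep_subset _ _)).isClosed_biUnion (fun t ht => hSc t ht.1)
  refine ⟨⟨(⋃₀ {t ∈ S | x ∉ t})ᶜ, hC.isOpen_compl⟩, ?_, hL _ ?_⟩
  · rintro ⟨t, ht, hxt⟩
    exact ht.2 hxt
  · rintro z ⟨hz, hzx⟩
    by_contra hzL
    have hzL' : z ∈ ((L : Set W)ᶜ) := hzL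
    rw [hS] at hzL'
    obtain ⟨t, ht, hzt⟩ := hzL'
    have hxt : x ∈ t := by
      by_contra hxt
      exact hz ⟨t, ⟨ht, hxt⟩, hzt⟩
    obtain ⟨ζ, hζ⟩ := QuasiSober.sober (hSi t ht) (hSc t ht)
    have h1 : ζ ⤳ x := hζ.specializes hxt
    have h2 : ζ ⤳ z := hζ.specializes hzt
    have h3 : ζ ≠ x := by
      rintro rfl
      exact hzx (h2.mem_closed hx rfl)
    obtain ⟨V', hV', hV''⟩ := exists_isIso hh hW ζ (hv ζ h1 h3)
    have h4 : ζ ∈ L := TopologicalSpace.Opens.mem_sSup.mpr ⟨V', hV'', hV'⟩
    have h5 : ζ ∈ ((L : Set W)ᶜ) := by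
      rw [hS]
      exact ⟨t, ht, hζ.mem⟩
    exact h5 h4

end Groth.Agent.CurvesC.SpreadIso
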