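import Groth.Agent.CurvesC.SpreadIso
import Groth.Agent.CurvesC.LocSys
import Groth.Agent.CycB.ImageInt
import Groth.Agent.FlatB.FppfDom
import Mathlib.AlgebraicGeometry.Morphisms.Preimmersion

/-!
# Spreading out a modification of the spectrum of a local ring
-/

set_option autoImplicit false
universe u
open CategoryTheory CategoryTheory.Limits AlgebraicGeometry TopologicalSpace

namespace Groth.Agent.CurvesC.SpreadModel

open Groth.Agent.CurvesC.SpreadIso Groth.Agent.CurvesC.LocSys

theorem isField_stalk {W : Scheme.{u}} [IsIntegral W] {w : W} (hw : w = genericPoint W) :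
    IsField (W.presheaf.stalk w) := by
  subst hw
  exact (Semifield.toIsField W.functionField)

theorem isBir_of_surjective {Z W : Scheme.{u}} [IsIntegral Z] [IsIntegral W] {h : Z ⟶ W}
    (hgen : h (genericPoint Z) = genericPoint W) (hs : Function.Surjective (h.stalkMap (genericPoint Z))) : IsBir h := by
  refine ⟨hgen, ?_⟩
  rw [ConcreteCategory.isIso_iff_bijective]
  refine ⟨?_, hs⟩
  let _ := (isField_stalk hgen).toField
  exact (h.stalkMap (genericPoint Z)).hom.injective

theorem isBir_of_comp {Y Z W : Scheme.{u}} [IsIntegral Y] [IsIntegral Z] [IsIntegral W] {p : Y ⟶ Z} {h : Z ⟶ W}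
    {k : Y ⟶ W} (hk : p ≫ h = k) (hp : p (genericPoint Y) = genericPoint Z) (hk' : k (genericPoint Y) = genericPoint W)
    (hs : Function.Surjective (k.stalkMap (genericPoint Y))) : IsBir h := by
  subst hk
  have hgen : h (genericPoint Z) = genericPoint W := by
    rw [← hp, ← Scheme.Hom.comp_apply, hk']
  refine isBir_of_surjective hgen ?_
  have h1 : Function.Injective (p.stalkMap (genericPoint Y)) := by
    let _ := (isField_stalk hp).toField
    exact (p.stalkMap (genericPoint Y)).hom.injective
  have h2 : Function.Surjective (h.stalkMap (p (genericPoint Y))) := by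
    intro z
    obtain ⟨w, hw⟩ := hs (p.stalkMap (genericPoint Y) z)
    refine ⟨w, h1 ?_⟩
    rw [Scheme.Hom.stalkMap_comp] at hw
    exact hw
  have key : ∀ z : Z, p (genericPoint Y) = z → Function.Surjective (h.stalkMap z) := by
    rintro _ rfl
    exact h2
  exact key _ hp

theorem isBir_of_surjectiveOnStalks {Y Z W V : Scheme.{u}} [IsIntegral Y] [IsIntegral Z] [IsIntegral W] [IsIntegral V]
    {p : Y ⟶ Z} {h : Z ⟶ W} {φ : Y ⟶ V} {l : V ⟶ W} (hk : p ≫ h = φ ≫ l) (hφ : IsBir φ)
    (hp : p (genericPoint Y) = genericPoint Z) (hl : l (genericPoint V) = genericPoint W)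
    [SurjectiveOnStalks l] : IsBir h := by
  refine isBir_of_comp hk hp ?_ ?_
  · rw [Scheme.Hom.comp_apply, hφ.gen, hl]
  · rw [Scheme.Hom.stalkMap_comp]
    have h1 : Function.Surjective (φ.stalkMap (genericPoint Y)) := by
      have := hφ.bir
      exact (ConcreteCategory.bijective_of_isIso (φ.stalkMap (genericPoint Y))).2
    exact h1.comp (l.stalkMap_surjective (φ (genericPoint Y)))

theorem isPullback_toImage {Y Z : Scheme.{u}} (p : Y ⟶ Z) :
    IsPullback p.toImage (𝟙 Y) p.imageι p := by
  refine IsPullback.of_isLimit' ⟨by simp⟩ (PullbackCone.IsLimit.mk _ (fun s => s.snd) ?_ ?_ ?_)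
  · intro s
    rw [← cancel_mono p.imageι, Category.assoc, Scheme.Hom.toImage_imageι]
    exact s.condition.symm
  · intro s
    simp
  · intro s m _ hm
    simpa using hm

/-- A proper integral scheme over the spectrum of a localization of a Noetherian ring spreads out to a proper
integral scheme. -/
theorem exists_local_model_aux {R L : Type u} [CommRing R] [CommRing L] [Algebra R L] (M : Submonoid R)
    [IsLocalization M L] {Y : Scheme.{u}} [IsIntegral Y] (φ : Y ⟶ Spec (CommRingCat.of L)) [IsProper φ]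
    [LocallyOfFinitePresentation φ] :
    ∃ (W Z : Scheme.{u}) (_ : IsIntegral Z) (j : W ⟶ Spec (CommRingCat.of R)) (l : Spec (CommRingCat.of L) ⟶ W)
      (h : Z ⟶ W) (p : Y ⟶ Z), IsOpenImmersion j ∧ IsAffine W ∧
      l ≫ j = Spec.map (CommRingCat.ofHom (algebraMap R L)) ∧ IsPullback p φ h l ∧ IsProper h ∧
      p (genericPoint Y) = genericPoint Z := by
  obtain ⟨j, Z₀, g₀, p₀, hpb, hg₀, hg₀'⟩ := exists_proper_model (M := M) L φ
  let l : Spec (CommRingCat.of L) ⟶ Spec (CommRingCat.of (Stage j)) := Spec.map (CommRingCat.ofHom (toL L j))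
  have hp₀ : QuasiCompact p₀ :=
    MorphismProperty.of_isPullback (P := @QuasiCompact) hpb.flip (inferInstanceAs (QuasiCompact l))
  have hint := CycB.ImageInt.isIntegral_image p₀
  have : IsProper g₀ := hg₀
  refine ⟨Spec (CommRingCat.of (Stage j)), p₀.image, hint, Spec.map (CommRingCat.ofHom (algebraMap R (Stage j))), l,
    p₀.imageι ≫ g₀, p₀.toImage, IsOpenImmersion.of_isLocalization j.val, inferInstance, ?_, ?_, inferInstance,
    CycB.ImageInt.toImage_genericPoint p₀⟩
  · rw [← Spec.map_comp, ← CommRingCat.ofHom_comp]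
    congr 2
    ext r
    exact toL_algebraMap L j r
  · have h4 := (isPullback_toImage p₀).paste_vert hpb
    rw [Category.id_comp] at h4
    exact h4

/-- A proper integral scheme over the spectrum of a local ring of a locally Noetherian scheme spreads out to a proper
integral scheme over an open neighbourhood. -/
theorem exists_local_model {X : Scheme.{u}} [IsLocallyNoetherian X] (x : X) {Y : Scheme.{u}} [IsIntegral Y]
    (φ : Y ⟶ Spec (X.presheaf.stalk x)) [IsProper φ] :
    ∃ (W Z : Scheme.{u}) (_ : IsIntegral Z) (j : W ⟶ X) (l : Spec (X.presheaf.stalk x) ⟶ W) (h : Z ⟶ W) (p : Y ⟶ Z),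
      IsOpenImmersion j ∧ IsAffine W ∧ l ≫ j = X.fromSpecStalk x ∧ IsPullback p φ h l ∧ IsProper h ∧
      p (genericPoint Y) = genericPoint Z := by
  obtain ⟨U, hU, hxU, -⟩ := exists_isAffineOpen_mem_and_subset (X := X) (x := x) (U := ⊤) trivial
  let M := (hU.primeIdealOf ⟨x, hxU⟩).asIdeal.primeCompl
  have hloc : @IsLocalization _ _ M (X.presheaf.stalk x) _ (X.presheaf.germ U x hxU).hom.toAlgebra :=
    hU.isLocalization_stalk ⟨x, hxU⟩
  have hlfp : LocallyOfFinitePresentation φ :=
    FlatB.FppfDom.locallyOfFinitePresentation_of_isLocallyNoetherian φ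
  obtain ⟨W, Z, hZ, j, l, h, p, hj, hW, hlj, hpb, hh, hp⟩ := @exists_local_model_aux Γ(X, U) (X.presheaf.stalk x) _ _
    (X.presheaf.germ U x hxU).hom.toAlgebra M hloc Y _ φ _ _
  refine ⟨W, Z, hZ, j ≫ hU.fromSpec, l, h, p, inferInstance, hW, ?_, hpb, hh, hp⟩
  rw [← Category.assoc, hlj, ← hU.fromSpecStalk_eq_fromSpecStalk hxU]
  rfl

end Groth.Agent.CurvesC.SpreadModel
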