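import Groth.Agent.CurvesC.HV0
import Mathlib.AlgebraicGeometry.ValuativeCriterion

/-!
# The chart rings of a proper scheme covered by two charts are finite over a polynomial ring

`X` proper over `A`, `X = U ∪ V` with `U` affine, `a ∈ Γ(X, U)`, `h ∈ Γ(X, V)`, `D(h) ⊆ U`, and `a h = 1` on
`U ∩ V`.  Then `Γ(X, U)` is finite over `A[a]` (valuative criterion).
-/

set_option autoImplicit false

universe u

open CategoryTheory CategoryTheory.Limits AlgebraicGeometry Opposite TopologicalSpace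

namespace Groth.Agent.CurvesC.TwoChartFin

variable {A : Type u} [CommRing A] {X : Scheme.{u}} (f : X ⟶ Spec (CommRingCat.of A))

/-- the map `A → Γ(X, U)` -/
noncomputable def gl (U : X.Opens) : A →+* Γ(X, U) :=
  (X.presheaf.map (homOfLE (le_top : U ≤ ⊤)).op).hom.comp (Coh.toGlobal f)

/-- the map `A[T] → Γ(X, U)` -/
noncomputable def ev (U : X.Opens) (a : Γ(X, U)) : Polynomial A →+* Γ(X, U) :=
  Polynomial.eval₂RingHom (gl f U) a

theorem fromSpec_comp {U : X.Opens} (hU : IsAffineOpen U) :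
    hU.fromSpec ≫ f = Spec.map (CommRingCat.ofHom (gl f U)) := by
  have h1 : f = X.toSpecΓ ≫ Spec.map ((Scheme.ΓSpecIso (CommRingCat.of A)).inv ≫ f.appTop) := by
    rw [Spec.map_comp, ← Category.assoc, ← Scheme.toSpecΓ_naturality, Category.assoc]
    have h3 : (Spec (CommRingCat.of A)).toSpecΓ ≫
        Spec.map (Scheme.ΓSpecIso (CommRingCat.of A)).inv = 𝟙 _ := by
      simp
    rw [h3, Category.comp_id]
  have h4 : CommRingCat.ofHom (gl f U) =
      ((Scheme.ΓSpecIso (CommRingCat.of A)).inv ≫ f.appTop) ≫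
        X.presheaf.map (homOfLE (le_top : U ≤ ⊤)).op := rfl
  rw [h4, Spec.map_comp, ← hU.fromSpec_toSpecΓ, Category.assoc, ← h1]

theorem ev_comp_C (U : X.Opens) (a : Γ(X, U)) : (ev f U a).comp Polynomial.C = gl f U :=
  Polynomial.eval₂RingHom_comp_C _ _

theorem map_ev_comp {U : X.Opens} (hU : IsAffineOpen U) (a : Γ(X, U)) :
    Spec.map (CommRingCat.ofHom (ev f U a)) ≫
      Spec.map (CommRingCat.ofHom (Polynomial.C (R := A))) = hU.fromSpec ≫ f := by
  rw [fromSpec_comp, ← Spec.map_comp, ← CommRingCat.ofHom_comp, ev_comp_C]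

theorem lift_of_proper [IsProper f] (R K : Type u) [CommRing R] [IsDomain R] [ValuationRing R] [Field K]
    [Algebra R K] [IsFractionRing R K] (i₁ : Spec (CommRingCat.of K) ⟶ X)
    (i₂ : Spec (CommRingCat.of R) ⟶ Spec (CommRingCat.of A))
    (w : i₁ ≫ f = Spec.map (CommRingCat.ofHom (algebraMap R K)) ≫ i₂) :
    ∃ l : Spec (CommRingCat.of R) ⟶ X, Spec.map (CommRingCat.ofHom (algebraMap R K)) ≫ l = i₁ ∧
      l ≫ f = i₂ := by
  have hex : ValuativeCriterion.Existence f := by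
    have h1 : UniversallyClosed f := inferInstance
    rw [UniversallyClosed.eq_valuativeCriterion] at h1
    exact h1.1
  obtain ⟨⟨l, hl1, hl2⟩⟩ := (hex ⟨R, K, i₁, i₂, ⟨w⟩⟩).exists_lift
  exact ⟨l, hl1, hl2⟩

theorem injective_appTop (R K : Type u) [CommRing R] [IsDomain R] [Field K] [Algebra R K]
    [IsFractionRing R K] :
    Function.Injective (Spec.map (CommRingCat.ofHom (algebraMap R K))).appTop.hom := by
  intro x y hxy
  have h1 := Scheme.ΓSpecIso_naturality (CommRingCat.ofHom (algebraMap R K))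
  have h2 : ∀ z : Γ(Spec (CommRingCat.of R), ⊤),
      (Scheme.ΓSpecIso (CommRingCat.of K)).hom
        ((Spec.map (CommRingCat.ofHom (algebraMap R K))).appTop z) =
      algebraMap R K ((Scheme.ΓSpecIso (CommRingCat.of R)).hom z) := fun z =>
    congrArg (fun g => g.hom z) h1
  have h3 : algebraMap R K ((Scheme.ΓSpecIso (CommRingCat.of R)).hom x) =
      algebraMap R K ((Scheme.ΓSpecIso (CommRingCat.of R)).hom y) := by
    rw [← h2, ← h2]
    exact congrArg _ hxy
  have h4 := IsFractionRing.injective R K h3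
  exact (ConcreteCategory.bijective_of_isIso (Scheme.ΓSpecIso (CommRingCat.of R)).hom).1 h4

theorem fromSpec_appLE {U : X.Opens} (hU : IsAffineOpen U) (e : ⊤ ≤ hU.fromSpec ⁻¹ᵁ U) :
    hU.fromSpec.appLE U ⊤ e = (Scheme.ΓSpecIso Γ(X, U)).inv := by
  rw [Scheme.Hom.appLE, hU.fromSpec_app_self, Category.assoc, ← Functor.map_comp]
  have : (eqToHom hU.fromSpec_preimage_self).op ≫ (homOfLE e).op = 𝟙 _ := rfl
  rw [this, CategoryTheory.Functor.map_id, Category.comp_id]

/-- the lift exists -/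
theorem existence [IsProper f] {U V : X.Opens} (hU : IsAffineOpen U) (hcov : U ⊔ V = ⊤)
    (a : Γ(X, U)) (h : Γ(X, V)) (hV : X.basicOpen h ≤ U)
    (hah : X.presheaf.map (homOfLE (inf_le_left : U ⊓ V ≤ U)).op a *
      X.presheaf.map (homOfLE (inf_le_right : U ⊓ V ≤ V)).op h = 1) :
    ValuativeCriterion.Existence (Spec.map (CommRingCat.ofHom (ev f U a))) := by
  intro S
  -- the square over `f`
  obtain ⟨l, hl1, hl2⟩ := lift_of_proper f S.R S.K (S.i₁ ≫ hU.fromSpec)
    (S.i₂ ≫ Spec.map (CommRingCat.ofHom (Polynomial.C (R := A))))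
    (by rw [Category.assoc, ← map_ev_comp f hU a, ← Category.assoc, S.commSq.w, Category.assoc])
  have hinj := injective_appTop S.R S.K
  have hw := S.commSq.w
  set j := Spec.map (CommRingCat.ofHom (algebraMap S.R S.K)) with hj
  have hloc : ∀ (W : X.Opens), l (IsLocalRing.closedPoint S.R) ∈ W → l ⁻¹ᵁ W = ⊤ := by
    intro W hW
    exact IsLocalRing.closed_point_mem_iff.1 hW
  have hepi : ∀ {B : CommRingCat.{u}} (g₁ g₂ : Spec (CommRingCat.of S.R) ⟶ Spec B),
      j ≫ g₁ = j ≫ g₂ → g₁ = g₂ := by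
    intro B g₁ g₂ hg
    obtain ⟨α, rfl⟩ := Spec.map_surjective g₁
    obtain ⟨β, rfl⟩ := Spec.map_surjective g₂
    rw [hj, ← Spec.map_comp, ← Spec.map_comp] at hg
    have hg' := Spec.map_injective hg
    congr 1
    ext x
    have := congrArg (fun g => g.hom x) hg'
    exact IsFractionRing.injective S.R S.K this
  -- the closed point goes to `U`
  have hcl : l (IsLocalRing.closedPoint S.R) ∈ U := by
    have h0 : l (IsLocalRing.closedPoint S.R) ∈ U ⊔ V := by rw [hcov]; trivial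
    rcases h0 with h0 | h0
    · exact h0
    have hVt : l ⁻¹ᵁ V = ⊤ := hloc V h0
    have e1 : (⊤ : (Spec (CommRingCat.of S.R)).Opens) ≤ l ⁻¹ᵁ V := hVt.ge
    have e2 : (⊤ : (Spec (CommRingCat.of S.K)).Opens) ≤ (j ≫ l) ⁻¹ᵁ V := by
      rw [Scheme.Hom.comp_preimage, hVt]; exact le_rfl
    have e3 : (⊤ : (Spec (CommRingCat.of S.K)).Opens) ≤ (j ≫ l) ⁻¹ᵁ U := by
      rw [hl1, Scheme.Hom.comp_preimage, hU.fromSpec_preimage_self]; exact le_rfl
    have e4 : (⊤ : (Spec (CommRingCat.of S.K)).Opens) ≤ (j ≫ l) ⁻¹ᵁ (U ⊓ V) := le_inf e3 e2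
    have e5 : (⊤ : (Spec (CommRingCat.of S.K)).Opens) ≤ (S.i₁ ≫ hU.fromSpec) ⁻¹ᵁ U := by
      rw [Scheme.Hom.comp_preimage, hU.fromSpec_preimage_self]; exact le_rfl
    have e6 : (⊤ : (Spec Γ(X, U)).Opens) ≤ hU.fromSpec ⁻¹ᵁ U := by
      rw [hU.fromSpec_preimage_self]
    have k1 : (j ≫ l).appLE U ⊤ e3 a * (j ≫ l).appLE V ⊤ e2 h = 1 := by
      have q1 : (j ≫ l).appLE U ⊤ e3 a = (j ≫ l).appLE (U ⊓ V) ⊤ e4
          (X.presheaf.map (homOfLE (inf_le_left : U ⊓ V ≤ U)).op a) := by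
        rw [← CommRingCat.comp_apply, Scheme.Hom.map_appLE]
      have q2 : (j ≫ l).appLE V ⊤ e2 h = (j ≫ l).appLE (U ⊓ V) ⊤ e4
          (X.presheaf.map (homOfLE (inf_le_right : U ⊓ V ≤ V)).op h) := by
        rw [← CommRingCat.comp_apply, Scheme.Hom.map_appLE]
      rw [q1, q2, ← map_mul, hah, map_one]
    have k2 : (j ≫ l).appLE V ⊤ e2 h = j.appTop (l.appLE V ⊤ e1 h) := by
      rw [← CommRingCat.comp_apply]
      congr 2
    obtain ⟨t, ht⟩ : ∃ t, (j ≫ l).appLE U ⊤ e3 a = j.appTop t := by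
      refine ⟨S.i₂.appTop ((Scheme.ΓSpecIso (CommRingCat.of (Polynomial A))).inv Polynomial.X), ?_⟩
      have q1 : (j ≫ l).appLE U ⊤ e3 a = (S.i₁ ≫ hU.fromSpec).appLE U ⊤ e5 a := by
        congr 2
        simp only [hl1]
      have q2 : (S.i₁ ≫ hU.fromSpec).appLE U ⊤ e5 =
          hU.fromSpec.appLE U ⊤ e6 ≫ S.i₁.appTop := by
        change _ = hU.fromSpec.appLE U ⊤ e6 ≫ S.i₁.app ⊤
        rw [Scheme.Hom.app_eq_appLE, Scheme.Hom.appLE_comp_appLE]
        rfl
      have q3 : (Scheme.ΓSpecIso (CommRingCat.of (Polynomial A))).inv ≫ S.i₂.appTop ≫ j.appTop =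
          CommRingCat.ofHom (ev f U a) ≫ (Scheme.ΓSpecIso Γ(X, U)).inv ≫ S.i₁.appTop := by
        rw [← Scheme.Hom.comp_appTop, ← hw, Scheme.Hom.comp_appTop, ← Category.assoc,
          ← Category.assoc]
        congr 1
        exact (Scheme.ΓSpecIso_inv_naturality (CommRingCat.ofHom (ev f U a))).symm
      have q4 : ev f U a Polynomial.X = a := Polynomial.eval₂_X _ _
      rw [q1, q2, fromSpec_appLE hU]
      have q5 := congrArg (fun g => g.hom Polynomial.X) q3
      change j.appTop (S.i₂.appTop ((Scheme.ΓSpecIso (CommRingCat.of (Polynomial A))).inv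
        Polynomial.X)) = S.i₁.appTop ((Scheme.ΓSpecIso Γ(X, U)).inv (ev f U a Polynomial.X)) at q5
      rw [q5, q4]
      rfl
    rw [ht, k2, ← map_mul, ← map_one j.appTop.hom] at k1
    have k3 := hinj k1
    have k4 : IsUnit (l.appLE V ⊤ e1 h) := IsUnit.of_mul_eq_one t (by rw [mul_comm]; exact k3)
    have k5 : (Spec (CommRingCat.of S.R)).basicOpen (l.appLE V ⊤ e1 h) = ⊤ :=
      Scheme.basicOpen_of_isUnit _ k4
    rw [Scheme.basicOpen_appLE, top_inf_eq] at k5
    have k6 : (IsLocalRing.closedPoint S.R) ∈ l ⁻¹ᵁ (X.basicOpen h) := by rw [k5]; trivial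
    exact hV k6
  have hUt : l ⁻¹ᵁ U = ⊤ := hloc U hcl
  have hr : Set.range l ⊆ Set.range hU.fromSpec := by
    rw [hU.range_fromSpec]
    rintro _ ⟨x, rfl⟩
    have : x ∈ l ⁻¹ᵁ U := by rw [hUt]; trivial
    exact this
  let l' := IsOpenImmersion.lift hU.fromSpec l hr
  have hl' : l' ≫ hU.fromSpec = l := IsOpenImmersion.lift_fac _ _ _
  have hl'1 : j ≫ l' = S.i₁ := by
    rw [← cancel_mono hU.fromSpec, Category.assoc, hl', hl1]
  refine ⟨⟨⟨l', hl'1, ?_⟩⟩⟩
  apply hepi
  rw [← Category.assoc, hl'1, hw]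

theorem finite' [IsProper f] {U V : X.Opens} (hU : IsAffineOpen U) (hcov : U ⊔ V = ⊤)
    (a : Γ(X, U)) (h : Γ(X, V)) (hV : X.basicOpen h ≤ U)
    (hah : X.presheaf.map (homOfLE (inf_le_left : U ⊓ V ≤ U)).op a *
      X.presheaf.map (homOfLE (inf_le_right : U ⊓ V ≤ V)).op h = 1) :
    (ev f U a).Finite := by
  have h1 : UniversallyClosed (Spec.map (CommRingCat.ofHom (ev f U a))) :=
    UniversallyClosed.of_valuativeCriterion _ (existence f hU hcov a h hV hah)
  have h2 : LocallyOfFiniteType (Spec.map (CommRingCat.ofHom (ev f U a))) := by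
    have h3 : LocallyOfFiniteType (Spec.map (CommRingCat.ofHom (ev f U a)) ≫
        Spec.map (CommRingCat.ofHom (Polynomial.C (R := A)))) := by
      rw [map_ev_comp f hU a]; infer_instance
    exact locallyOfFiniteType_of_comp _ (Spec.map (CommRingCat.ofHom (Polynomial.C (R := A))))
  have h3 : IsProper (Spec.map (CommRingCat.ofHom (ev f U a))) := ⟨⟩
  have h4 : IsFinite (Spec.map (CommRingCat.ofHom (ev f U a))) :=
    IsFinite.iff_isProper_and_isAffineHom.2 ⟨h3, inferInstance⟩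
  simpa using (IsFinite.SpecMap_iff _).1 h4

/-- both chart rings of a proper `k`-scheme with two charts are finite over `k[T]` -/
theorem finite (k : Type u) [Field k] {X : Scheme.{u}} [X.Over (Spec (.of k))]
    [IsProper (X ↘ Spec (.of k))] {U V : X.Opens} (hU : IsAffineOpen U) (hcov : U ⊔ V = ⊤)
    (a : Γ(X, U)) (h : Γ(X, V)) (hV : X.basicOpen h ≤ U)
    (hah : X.presheaf.map (homOfLE (inf_le_left : U ⊓ V ≤ U)).op a *
      X.presheaf.map (homOfLE (inf_le_right : U ⊓ V ≤ V)).op h = 1) :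
    (Polynomial.eval₂RingHom (HV.globOn k X U) a).Finite :=
  finite' (X ↘ Spec (.of k)) hU hcov a h hV hah

/-- the second chart -/
theorem finite_right (k : Type u) [Field k] {X : Scheme.{u}} [X.Over (Spec (.of k))]
    [IsProper (X ↘ Spec (.of k))] {U V : X.Opens} (hV : IsAffineOpen V) (hcov : U ⊔ V = ⊤)
    (a : Γ(X, U)) (h : Γ(X, V)) (hU : X.basicOpen a ≤ V)
    (hah : X.presheaf.map (homOfLE (inf_le_left : U ⊓ V ≤ U)).op a *
      X.presheaf.map (homOfLE (inf_le_right : U ⊓ V ≤ V)).op h = 1) :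
    (Polynomial.eval₂RingHom (HV.globOn k X V) h).Finite := by
  refine finite k hV (by rw [sup_comm]; exact hcov) h a hU ?_
  have h1 := congrArg (X.presheaf.map (homOfLE (inf_comm V U).le).op) hah
  rw [map_mul, map_one, ← CommRingCat.comp_apply, ← CommRingCat.comp_apply, ← Functor.map_comp,
    ← Functor.map_comp] at h1
  rw [mul_comm]
  exact h1

end Groth.Agent.CurvesC.TwoChartFin
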