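import Groth.Agent.Grpsch.GrowthCut
import Groth.Agent.Grpsch.PicGrp
import Groth.Agent.CalgB.ProjField
import Groth.Agent.Ega2.SecCalc

/-!
# Two sections with dense affine nonvanishing loci covering a scheme of dimension at most one
-/

set_option autoImplicit false
universe u

open CategoryTheory CategoryTheory.Limits AlgebraicGeometry Opposite TopologicalSpace

namespace Groth.Agent.CurvesC.TwoSecEx790

open Groth.Agent.Divis.AmpleFin Groth.Agent.Grpsch.GrowthCut

variable {X : Scheme.{u}}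

theorem dense_of_generic (E : Set X) (hE : ∀ p : X, ∃ q ∈ E, q ⤳ p) (U : X.Opens) (h : E ⊆ U) :
    Dense (U : Set X) := by
  intro p
  obtain ⟨q, hq, hqp⟩ := hE p
  exact closure_mono (Set.singleton_subset_iff.2 (h hq)) hqp.mem_closure

/-- Two sections of a power of an ample module on a Noetherian scheme of dimension `≤ 1`. -/
theorem exists_sections_of_isAmple [NoetherianSpace X] {L : X.Modules} (hL : CohB1.IsAmple L)
    (hdim : topologicalKrullDim X ≤ 1) :
    ∃ (N : ℕ) (s s' : Coh.structureModule X ⟶ CohB1.tensorPow L (N + 1)),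
      IsAffineOpen (CohB1.genLocus _ s) ∧ IsAffineOpen (CohB1.genLocus _ s') ∧
      CohB1.genLocus _ s ⊔ CohB1.genLocus _ s' = ⊤ ∧
      Dense (CohB1.genLocus _ s : Set X) ∧ Dense (CohB1.genLocus _ s' : Set X) := by
  have : CompactSpace X := hL.2.1
  obtain ⟨E, hE, -, hE'⟩ := exists_generic (Set.univ : Set X) isClosed_univ
  obtain ⟨m, s, hs, -, haff⟩ := exists_genLocus_of_finite hL E hE ⊤ fun _ _ => trivial
  obtain ⟨F, hF, hFZ, hF'⟩ := exists_generic ((CohB1.genLocus _ s : Set X)ᶜ)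
    (CohB1.genLocus _ s).isOpen.isClosed_compl
  obtain ⟨n, t, ht, -, haff'⟩ := exists_genLocus_of_finite hL (E ∪ F) (hE.union hF) ⊤ fun _ _ => trivial
  have hcov : CohB1.genLocus _ s ⊔ CohB1.genLocus _ t = ⊤ := by
    rw [eq_top_iff]
    intro p _
    by_contra hp
    have hps : p ∉ CohB1.genLocus _ s := fun h => hp (Or.inl h)
    have hpt : p ∉ CohB1.genLocus _ t := fun h => hp (Or.inr h)
    obtain ⟨q, hq, hqp⟩ := hF' p hps
    obtain ⟨r, hr, hrq⟩ := hE' q trivial
    have h1 : p < q := by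
      refine lt_of_le_not_ge hqp fun hge => ?_
      have hpq : p ⤳ q := hge
      exact hpt (hpq.mem_open (CohB1.genLocus _ t).isOpen (ht (Or.inr hq)))
    have h2 : q < r := by
      refine lt_of_le_not_ge hrq fun hge => ?_
      have hpq : q ⤳ r := hge
      exact hFZ hq (hpq.mem_open (CohB1.genLocus _ s).isOpen (hs hr))
    have h3 : ((Order.height r : ℕ∞) : WithBot ℕ∞) ≤ ((1 : ℕ∞) : WithBot ℕ∞) := by
      refine le_trans ?_ hdim
      rw [Groth.Agent.Sga3C.DimTop.topologicalKrullDim_eq_krullDim]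
      exact Order.height_le_krullDim r
    have h4 : Order.height r ≤ 1 := by exact_mod_cast h3
    have h5 : Order.height q + 1 ≤ Order.height r := Order.height_add_one_le h2
    have h6 : Order.height p + 1 ≤ Order.height q := Order.height_add_one_le h1
    have h7 : (1 : ℕ∞) ≤ Order.height q := le_trans le_add_self h6
    have h8 : (1 : ℕ∞) + 1 ≤ 1 := le_trans (add_le_add_left h7 1) (h5.trans h4)
    exact absurd h8 (by decide)
  obtain ⟨s₁, hs₁⟩ := exists_pow hL.1 s (m := n + 1) (Nat.succ_pos _)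
  obtain ⟨t₁, ht₁⟩ := exists_pow hL.1 t (m := m + 1) (Nat.succ_pos _)
  obtain ⟨N, hN⟩ : ∃ N, (m + 1) * (n + 1) = N + 1 := ⟨(m + 1) * (n + 1) - 1, by
    have : 0 < (m + 1) * (n + 1) := Nat.mul_pos (Nat.succ_pos _) (Nat.succ_pos _)
    omega⟩
  obtain ⟨s₂, hs₂⟩ := exists_cast hN s₁
  obtain ⟨t₂, ht₂⟩ := exists_cast ((mul_comm (n + 1) (m + 1)).trans hN) t₁
  have es : CohB1.genLocus _ s₂ = CohB1.genLocus _ s := hs₂.trans hs₁
  have et : CohB1.genLocus _ t₂ = CohB1.genLocus _ t := ht₂.trans ht₁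
  refine ⟨N, s₂, t₂, es ▸ haff, et ▸ haff', by rw [es, et, hcov], ?_, ?_⟩
  · rw [es]
    exact dense_of_generic E (fun p => hE' p trivial) _ hs
  · rw [et]
    exact dense_of_generic E (fun p => hE' p trivial) _ fun x hx => ht (Or.inl hx)

/-- (T1): on a proper scheme of dimension `≤ 1` over a field. -/
theorem exists_two_sections (k : Type u) [Field k] (X : Scheme.{u}) [X.Over (Spec (CommRingCat.of k))]
    [IsProper (X ↘ Spec (CommRingCat.of k))] (hdim : topologicalKrullDim X ≤ 1) :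
    ∃ (M M' : X.Modules) (_ : PicF.IsInvertible M) (_ : PicF.IsInvertible M') (_ : CohB1.IsAmple M)
      (_ : CohB1.tensorMod M M' ≅ Coh.structureModule X) (s s' : Coh.structureModule X ⟶ M),
      IsAffineOpen (CohB1.genLocus M s) ∧ IsAffineOpen (CohB1.genLocus M s') ∧
      CohB1.genLocus M s ⊔ CohB1.genLocus M s' = ⊤ ∧
      Dense (CohB1.genLocus M s : Set X) ∧ Dense (CohB1.genLocus M s' : Set X) := by
  have h1 : IsLocallyNoetherian X := LocallyOfFiniteType.isLocallyNoetherian (X ↘ Spec (CommRingCat.of k))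
  have h2 : CompactSpace X := QuasiCompact.compactSpace_of_compactSpace (X ↘ Spec (CommRingCat.of k))
  have hN : IsNoetherian X := { }
  obtain ⟨L, hL⟩ := CalgB.ProjField.exists_isAmple_of_dim_le_one (X ↘ Spec (CommRingCat.of k)) hdim
  obtain ⟨N, s, s', ha, ha', hc, hd, hd'⟩ := exists_sections_of_isAmple hL hdim
  have hinv := Fdesc.LocGen.isInvertible_tensorPow hL.1 (N + 1)
  obtain ⟨M', hM', ⟨e⟩⟩ := Grpsch.PicGrp.exists_inverse hinv
  refine ⟨_, M', hinv, hM', ⟨hinv, h2, fun x => ?_⟩, e, s, s', ha, ha', hc, hd, hd'⟩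
  let φ : CohB1.tensorPow L (N + 1) ≅ CohB1.tensorPow (CohB1.tensorPow L (N + 1)) (0 + 1) :=
    (Ega2.Tens.lunit (CohB1.tensorPow L (N + 1))).symm
  have hx : x ∈ CohB1.genLocus _ s ⊔ CohB1.genLocus _ s' := by rw [hc]; trivial
  rcases hx with hx | hx
  · refine ⟨0, s ≫ φ.hom, ?_, ?_⟩
    · rw [Ega2.SecCalc.genLocus_comp]
      exact hx
    · rw [Ega2.SecCalc.genLocus_comp]
      exact ha
  · refine ⟨0, s' ≫ φ.hom, ?_, ?_⟩
    · rw [Ega2.SecCalc.genLocus_comp]
      exact hx
    · rw [Ega2.SecCalc.genLocus_comp]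
      exact ha'

end Groth.Agent.CurvesC.TwoSecEx790
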