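import Groth.Agent.CurvesC.DualCoh968
import Groth.Agent.Ega2.TensPow
import Groth.Agent.VarietyB.ExactLoc
import Groth.Agent.Ega2.QCohLocal

/-!
# `TwoSec` from two maps `c, c' : L ⟶ O_X` out of an invertible module

`P n = L^{⊗ n}`, `a n`, `b n` = contraction of the last factor with `c`, `c'`.
-/

set_option autoImplicit false

universe u

open CategoryTheory CategoryTheory.Limits AlgebraicGeometry Opposite TopologicalSpace
open Groth.Agent.Fdesc.LocGen

namespace Groth.Agent.CurvesC.TwoSecOf968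

open Groth.Agent.Ega2 Groth.Agent.CurvesC.DualCoh968

attribute [local instance] Abelian.hasFiniteBiproducts

variable {X : Scheme.{u}} {L : X.Modules} {U V : X.Opens}

/-- the function `c(m)` -/
noncomputable def cval (c : L ⟶ Coh.structureModule X) (m : Γ(L, U)) : Γ(X, U) := ofFun.symm (c.app U m)

theorem app_eq_ofFun (c : L ⟶ Coh.structureModule X) (m : Γ(L, U)) : c.app U m = ofFun (cval c m) :=
  (ofFun.apply_symm_apply _).symm

theorem cval_res (c : L ⟶ Coh.structureModule X) (h : V ≤ U) (m : Γ(L, U)) :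
    cval c (res L h m) = ores h (cval c m) := by
  apply (ofFun (X := X) (U := V)).injective
  rw [← app_eq_ofFun, app_res, app_eq_ofFun, res_ofFun]

/-- contraction of the last factor -/
noncomputable def contr (c : L ⟶ Coh.structureModule X) (F : X.Modules) : CohB1.tensorMod F L ⟶ F :=
  Tens.mapT (𝟙 F) c ≫ (Tens.runit F).hom

theorem contr_tmul (c : L ⟶ Coh.structureModule X) {F : X.Modules} (t : Γ(F, U)) (m : Γ(L, U)) :
    (contr c F).app U (tmul t m) = cval c m • t := by
  change (Tens.runit F).hom.app U ((Tens.mapT (𝟙 F) c).app U (tmul t m)) = _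
  rw [TensPow.mapT_tmul]
  exact Tens.runit_hom_tmul (cval c m) t

/-- Two maps agreeing on local generators are equal. -/
theorem hom_ext_gen {F G : X.Modules} (φ ψ : F ⟶ G)
    (h : ∀ x : X, ∃ (V : X.Opens) (e : Γ(F, V)), x ∈ V ∧ IsGen e ∧ φ.app V e = ψ.app V e) : φ = ψ := by
  ext U s
  refine Tens.eq_of_locally_eq G _ _ fun x hx => ?_
  obtain ⟨V, e, hxV, he, heq⟩ := h x
  refine ⟨U ⊓ V, homOfLE inf_le_left, ⟨hx, hxV⟩, ?_⟩
  change res G inf_le_left (φ.app U s) = res G inf_le_left (ψ.app U s)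
  rw [← app_res, ← app_res]
  obtain ⟨r, hr⟩ := (he.res (inf_le_right : U ⊓ V ≤ V)).exists_eq (res F inf_le_left s)
  rw [hr, Scheme.Modules.Hom.app_smul, Scheme.Modules.Hom.app_smul, app_res, app_res, heq]

theorem res_pow' (h : V ≤ U) (m : Γ(L, U)) (n : ℕ) :
    res (CohB1.tensorPow L n) h (pow m n) = pow (res L h m) n := res_pow h m n

theorem contr_pow (c : L ⟶ Coh.structureModule X) (n : ℕ) (r : Γ(X, U)) (m : Γ(L, U)) :
    (contr c (CohB1.tensorPow L n)).app U (r • (show Γ(CohB1.tensorMod (CohB1.tensorPow L n) L, U) from pow m (n + 1))) =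
      (r * cval c m) • pow m n := by
  rw [Scheme.Modules.Hom.app_smul]
  refine (congrArg (fun z => r • z) (contr_tmul c (pow m n) m)).trans ?_
  rw [smul_smul]

/-- the power as a section of the tensor product -/
theorem exists_eq_smul_pow {m : Γ(L, U)} (hm : IsGen m) (n : ℕ) (s : Γ(CohB1.tensorPow L n, U)) :
    ∃ r : Γ(X, U), s = r • pow m n := (hm.pow n).exists_eq s

variable (c c' : L ⟶ Coh.structureModule X)

/-- the local data: a generator `m` near `x` with `c(m)` or `c'(m)` a unit -/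
def Unimod : Prop :=
  ∀ x : X, ∃ (V : X.Opens) (m : Γ(L, V)), x ∈ V ∧ IsGen m ∧ (IsUnit (cval c m) ∨ IsUnit (cval c' m))

variable {c c'}

theorem Unimod.exists_le (h : Unimod c c') (x : X) {W : X.Opens} (hx : x ∈ W) :
    ∃ (V : X.Opens) (m : Γ(L, V)), V ≤ W ∧ x ∈ V ∧ IsGen m ∧
      ∃ α β : Γ(X, V), α * cval c m + β * cval c' m = 1 := by
  obtain ⟨V, m, hxV, hm, hu⟩ := h x
  refine ⟨W ⊓ V, res L inf_le_right m, inf_le_left, ⟨hx, hxV⟩, hm.res _, ?_⟩
  rw [cval_res, cval_res]
  rcases hu with hu | hu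
  · obtain ⟨α, hα⟩ := (hu.map (ores (inf_le_right : W ⊓ V ≤ V))).exists_left_inv
    exact ⟨α, 0, by rw [hα, zero_mul, add_zero]⟩
  · obtain ⟨β, hβ⟩ := (hu.map (ores (inf_le_right : W ⊓ V ≤ V))).exists_left_inv
    exact ⟨0, β, by rw [hβ, zero_mul, zero_add]⟩

theorem contr_comm (hL : PicF.IsInvertible L) (n : ℕ) :
    contr c' (CohB1.tensorPow L (n + 1)) ≫ contr c (CohB1.tensorPow L n) =
      contr c (CohB1.tensorPow L (n + 1)) ≫ contr c' (CohB1.tensorPow L n) := by
  refine hom_ext_gen _ _ fun x => ?_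
  obtain ⟨V, m, hxV, hm⟩ := (isInvertible_iff L).1 hL x
  refine ⟨V, pow m (n + 2), hxV, hm.pow (n + 2), ?_⟩
  change (contr c (CohB1.tensorPow L n)).app V ((contr c' (CohB1.tensorPow L (n + 1))).app V (tmul (pow m (n + 1)) m)) =
    (contr c' (CohB1.tensorPow L n)).app V ((contr c (CohB1.tensorPow L (n + 1))).app V (tmul (pow m (n + 1)) m))
  rw [contr_tmul, contr_tmul]
  refine (contr_pow c n (cval c' m) m).trans (Eq.trans ?_ (contr_pow c' n (cval c m) m).symm)
  rw [mul_comm]

theorem mono_of_app {F G : X.Modules} (f : F ⟶ G) (h : ∀ (U : X.Opens) (s : Γ(F, U)), f.app U s = 0 → s = 0) :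
    Mono f := by
  refine ⟨fun {Z} g g' hgh => ?_⟩
  ext U s
  rw [← sub_eq_zero]
  refine h U _ ?_
  rw [map_sub, sub_eq_zero]
  exact congr(($hgh).app U s)

theorem contr_mono (hc : Mono c) (hL : PicF.IsInvertible L) (n : ℕ) :
    Mono (contr c (CohB1.tensorPow L n)) := by
  have hinj : ∀ (V : X.Opens) (m : Γ(L, V)), IsGen m → ∀ r : Γ(X, V), r * cval c m = 0 → r = 0 := by
    intro V m hm r hr
    refine hm.ext (b := 0) ?_
    rw [zero_smul]
    refine VarietyB.ExactLoc.app_injective_of_mono c V ?_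
    rw [Scheme.Modules.Hom.app_smul, map_zero, app_eq_ofFun, ofFun_eq_smul, smul_smul, hr, zero_smul]
  refine mono_of_app _ fun U s hs => ?_
  refine Tens.eq_of_locally_eq _ _ _ fun x hx => ?_
  obtain ⟨V, m, hxV, hm⟩ := (isInvertible_iff L).1 hL x
  refine ⟨U ⊓ V, homOfLE inf_le_left, ⟨hx, hxV⟩, ?_⟩
  obtain ⟨r, hr⟩ := exists_eq_smul_pow (hm.res (inf_le_right : U ⊓ V ≤ V)) (n + 1)
    (res (CohB1.tensorPow L (n + 1)) inf_le_left s)
  have h2 : r * cval c (res L (inf_le_right : U ⊓ V ≤ V) m) = 0 := by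
    refine ((hm.res (inf_le_right : U ⊓ V ≤ V)).pow n).ext (b := 0) ?_
    rw [zero_smul]
    refine (contr_pow c n r _).symm.trans ?_
    refine (congrArg _ hr.symm).trans ?_
    refine (app_res _ _ _).trans ?_
    rw [hs, map_zero]
  refine Eq.trans (b := (0 : Γ(CohB1.tensorPow L (n + 1), U ⊓ V))) ?_ (map_zero _).symm
  refine hr.trans ?_
  rw [hinj _ _ (hm.res _) r h2, zero_smul]

section biprod

variable {F G H : X.Modules}

theorem biprod_ext {s t : Γ(F ⊞ G, U)} (h1 : (biprod.fst : F ⊞ G ⟶ F).app U s = (biprod.fst : F ⊞ G ⟶ F).app U t)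
    (h2 : (biprod.snd : F ⊞ G ⟶ G).app U s = (biprod.snd : F ⊞ G ⟶ G).app U t) : s = t := by
  have key : ∀ z : Γ(F ⊞ G, U), z = (biprod.inl : F ⟶ F ⊞ G).app U ((biprod.fst : F ⊞ G ⟶ F).app U z) +
      (biprod.inr : G ⟶ F ⊞ G).app U ((biprod.snd : F ⊞ G ⟶ G).app U z) := by
    intro z
    have := congr(($(biprod.total (X := F) (Y := G))).app U z)
    exact this.symm
  rw [key s, key t, h1, h2]

theorem fst_lift (f : H ⟶ F) (g : H ⟶ G) (s : Γ(H, U)) :
    (biprod.fst : F ⊞ G ⟶ F).app U ((biprod.lift f g).app U s) = f.app U s :=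
  congr(($(biprod.lift_fst f g)).app U s)

theorem snd_lift (f : H ⟶ F) (g : H ⟶ G) (s : Γ(H, U)) :
    (biprod.snd : F ⊞ G ⟶ G).app U ((biprod.lift f g).app U s) = g.app U s :=
  congr(($(biprod.lift_snd f g)).app U s)

theorem desc_app (f : F ⟶ H) (g : G ⟶ H) (s : Γ(F ⊞ G, U)) :
    (biprod.desc f g).app U s = f.app U ((biprod.fst : F ⊞ G ⟶ F).app U s) +
      g.app U ((biprod.snd : F ⊞ G ⟶ G).app U s) :=
  congr(($(show biprod.desc f g = biprod.fst ≫ f + biprod.snd ≫ g from biprod.desc_eq)).app U s)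

theorem desc_inl_add_inr (f : F ⟶ H) (g : G ⟶ H) (s : Γ(F, U)) (t : Γ(G, U)) :
    (biprod.desc f g).app U ((biprod.inl : F ⟶ F ⊞ G).app U s + (biprod.inr : G ⟶ F ⊞ G).app U t) =
      f.app U s + g.app U t := by
  rw [map_add]
  exact congrArg₂ (· + ·) congr(($(biprod.inl_desc f g)).app U s) congr(($(biprod.inr_desc f g)).app U t)

theorem neg_app (f : F ⟶ G) (s : Γ(F, U)) : (-f).app U s = -(f.app U s) := by
  have h : (-f + f).app U s = 0 := by
    rw [neg_add_cancel]; rfl
  exact eq_neg_of_add_eq_zero_left h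

end biprod

theorem koszul (hL : PicF.IsInvertible L) (h : Unimod c c') (n : ℕ) :
    (ShortComplex.mk (biprod.lift (contr c' (CohB1.tensorPow L (n + 1))) (-(contr c (CohB1.tensorPow L (n + 1)))))
      (biprod.desc (contr c (CohB1.tensorPow L n)) (contr c' (CohB1.tensorPow L n)))
      (by rw [biprod.lift_desc, Preadditive.neg_comp, contr_comm hL, add_neg_cancel])).ShortExact := by
  refine VarietyB.ExactLoc.shortExact_of_local _ ?_ ?_ ?_
  · intro U s hs
    refine Tens.eq_of_locally_eq _ _ _ fun x hx => ?_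
    obtain ⟨V, m, hVU, hxV, hm, α, β, hαβ⟩ := h.exists_le x hx
    refine ⟨V, homOfLE hVU, hxV, ?_⟩
    obtain ⟨r, hr⟩ := exists_eq_smul_pow hm (n + 2) (res (CohB1.tensorPow L (n + 2)) hVU s)
    have h1 : (contr c' (CohB1.tensorPow L (n + 1))).app U s = 0 := by
      rw [← fst_lift (contr c' (CohB1.tensorPow L (n + 1))) (-(contr c (CohB1.tensorPow L (n + 1)))) s]
      refine (congrArg _ hs).trans (map_zero _)
    have h2 : (contr c (CohB1.tensorPow L (n + 1))).app U s = 0 := by
      have h3 := snd_lift (contr c' (CohB1.tensorPow L (n + 1))) (-(contr c (CohB1.tensorPow L (n + 1)))) s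
      rw [neg_app] at h3
      rw [← neg_eq_zero, ← h3]
      refine (congrArg _ hs).trans (map_zero _)
    have h1' : r * cval c' m = 0 := by
      refine (hm.pow (n + 1)).ext (b := 0) ?_
      rw [zero_smul]
      refine (contr_pow c' (n + 1) r m).symm.trans ?_
      refine (congrArg _ hr.symm).trans ?_
      refine (app_res _ _ _).trans ?_
      rw [h1, map_zero]
    have h2' : r * cval c m = 0 := by
      refine (hm.pow (n + 1)).ext (b := 0) ?_
      rw [zero_smul]
      refine (contr_pow c (n + 1) r m).symm.trans ?_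
      refine (congrArg _ hr.symm).trans ?_
      refine (app_res _ _ _).trans ?_
      rw [h2, map_zero]
    have h3 : r = 0 := by
      have : r * (α * cval c m + β * cval c' m) = 0 := by
        linear_combination α * h2' + β * h1'
      rwa [hαβ, mul_one] at this
    refine Eq.trans (b := (0 : Γ(CohB1.tensorPow L (n + 2), V))) ?_ (map_zero _).symm
    refine hr.trans ?_
    rw [h3, zero_smul]
  · intro U s hs x hx
    obtain ⟨V, m, hVU, hxV, hm, α, β, hαβ⟩ := h.exists_le x hx
    refine ⟨V, hVU, hxV, ?_⟩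
    obtain ⟨r₁, hr₁⟩ := exists_eq_smul_pow hm (n + 1) (res (CohB1.tensorPow L (n + 1)) hVU
      ((biprod.fst : CohB1.tensorPow L (n + 1) ⊞ CohB1.tensorPow L (n + 1) ⟶ _).app U s))
    obtain ⟨r₂, hr₂⟩ := exists_eq_smul_pow hm (n + 1) (res (CohB1.tensorPow L (n + 1)) hVU
      ((biprod.snd : CohB1.tensorPow L (n + 1) ⊞ CohB1.tensorPow L (n + 1) ⟶ _).app U s))
    have h0 : r₁ * cval c m + r₂ * cval c' m = 0 := by
      refine (hm.pow n).ext (b := 0) ?_
      rw [zero_smul, add_smul]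
      refine (congrArg₂ (· + ·) (contr_pow c n r₁ m).symm (contr_pow c' n r₂ m).symm).trans ?_
      refine (congrArg₂ (· + ·) (congrArg _ hr₁.symm) (congrArg _ hr₂.symm)).trans ?_
      refine (congrArg₂ (· + ·) (app_res _ _ _) (app_res _ _ _)).trans ?_
      rw [← map_add]
      refine (congrArg _ (desc_app (contr c (CohB1.tensorPow L n)) (contr c' (CohB1.tensorPow L n)) s).symm).trans ?_
      refine (congrArg _ hs).trans (map_zero _)
    refine ⟨(r₁ * β - r₂ * α) • pow m (n + 2), ?_⟩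
    refine biprod_ext ?_ ?_
    · refine (fst_lift _ _ _).trans ?_
      refine (contr_pow c' (n + 1) _ m).trans ?_
      refine Eq.trans ?_ (app_res _ _ _).symm
      refine Eq.trans ?_ hr₁.symm
      congr 1
      linear_combination r₁ * hαβ - α * h0
    · refine (snd_lift _ _ _).trans ?_
      rw [neg_app]
      refine (congrArg Neg.neg (contr_pow c (n + 1) _ m)).trans ?_
      refine Eq.trans ?_ (app_res _ _ _).symm
      refine Eq.trans ?_ hr₂.symm
      rw [← neg_smul]
      congr 1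
      linear_combination r₂ * hαβ - β * h0
  · intro U s x hx
    obtain ⟨V, m, hVU, hxV, hm, α, β, hαβ⟩ := h.exists_le x hx
    refine ⟨V, hVU, hxV, ?_⟩
    obtain ⟨r, hr⟩ := exists_eq_smul_pow hm n (res (CohB1.tensorPow L n) hVU s)
    refine ⟨(biprod.inl : CohB1.tensorPow L (n + 1) ⟶ _ ⊞ _).app V ((r * α) • pow m (n + 1)) +
      (biprod.inr : CohB1.tensorPow L (n + 1) ⟶ _ ⊞ _).app V ((r * β) • pow m (n + 1)), ?_⟩
    refine (desc_inl_add_inr _ _ _ _).trans ?_
    refine (congrArg₂ (· + ·) (contr_pow c n _ m) (contr_pow c' n _ m)).trans ?_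
    refine Eq.trans ?_ hr.symm
    rw [← add_smul]
    congr 1
    linear_combination r * hαβ

theorem isQCoh_pow (hL : PicF.IsInvertible L) (n : ℕ) : Coh.IsQCoh (CohB1.tensorPow L n) :=
  Ega2.QCohLocal.isQCoh_of_isInvertible (isInvertible_tensorPow hL n)

/-- The `TwoSec` attached to two maps `c`, `c'`. -/
noncomputable def twoSec (hL : PicF.IsInvertible L) (c c' : L ⟶ Coh.structureModule X) (h : Unimod c c') (hc : Mono c) :
    TwoSec X where
  P n := CohB1.tensorPow L n
  a n := contr c (CohB1.tensorPow L n)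
  b n := contr c' (CohB1.tensorPow L n)
  comm n := contr_comm hL n
  exact n := koszul hL h n
  mono n := contr_mono hc hL n
  qcoh n := isQCoh_pow hL n

end Groth.Agent.CurvesC.TwoSecOf968
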