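import Groth.Agent.CurvesC.ValSolve

/-!
# Induction on the colength: Cousin problems over two-dimensional regular local rings are solvable
-/

set_option autoImplicit false
universe u

open Polynomial IsLocalRing

namespace Groth.Agent.CurvesC.ValInd

open ValCousin QuadTr QuadLen ValSolve

/-- The Cousin problem `(a, f)` is a problem: the `f i` agree wherever needed. -/
def Adapted {K : Type u} [Field K] (W : Set (ValuationSubring K)) {ι : Type*} (a f : ι → K) : Prop :=
  ∀ V ∈ W, ∀ i j, Gen V a i → Gen V a j → f i - f j ∈ V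

theorem Gen.unscale {K : Type u} [Field K] {ι : Type*} {V : ValuationSubring K} {a : ι → K} {i : ι} {c : K} (hc : c ≠ 0)
    (h : Gen V (fun l => c * a l) i) : Gen V a i := by
  have := h.scale c⁻¹
  simpa [inv_mul_cancel_left₀ hc] using this

section Chart

variable {K : Type u} [Field K] {A : Type u} [CommRing A] [Algebra A K] [IsFractionRing A K] {x y : A}

theorem isFractionRing_chart : IsFractionRing (Ch K x y) K := by
  refine IsFractionRing.of_field (Ch K x y) K fun z => ?_
  obtain ⟨a, b, -, rfl⟩ := IsFractionRing.div_surjective (A := A) z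
  exact ⟨algebraMap A _ a, algebraMap A _ b, rfl⟩

theorem isFractionRing_loc (p : Ideal (Ch K x y)) [p.IsPrime] :
    letI := locAlg (K := K) p
    IsFractionRing (Localization.AtPrime p) K := by
  letI := locAlg (K := K) p
  have h1 := isFractionRing_chart (K := K) (x := x) (y := y)
  have h2 := locAlg_tower (K := K) p
  exact IsFractionRing.isFractionRing_of_isDomain_of_isLocalization p.primeCompl _ _

end Chart

/-- If `x` is not in `p` the center is off the exceptional divisor. -/
theorem exists_notMem_of_pow_mem {A : Type u} [CommRing A] {ι : Type*} {a : ι → A} {q : Ideal A} [q.IsPrime]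
    {x : A} (hx : x ∉ q) {N : ℕ} (hN : x ^ N ∈ Ideal.span (Set.range a)) : ∃ i, a i ∉ q := by
  by_contra! h
  refine hx (Ideal.IsPrime.mem_of_pow_mem ‹_› N ?_)
  refine Ideal.span_le.mpr ?_ hN
  rintro _ ⟨i, rfl⟩
  exact h i

section Step

variable {K : Type u} [Field K] {A : Type u} [CommRing A] [Algebra A K]
  [IsRegularLocalRing A] [IsFractionRing A K] {x y : A} (hdim : ringKrullDim A = 2)
  (hxy : Ideal.span {x, y} = maximalIdeal A) {ι : Type*} [Finite ι]

include hdim hxy

theorem exists_good_chart {n : ℕ}
    (ih : ∀ (A : Type u) [CommRing A] [IsRegularLocalRing A] [Algebra A K] [IsFractionRing A K],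
      ringKrullDim A = 2 → ∀ (a : ι → A) (f : ι → K),
      Module.length A (A ⧸ Ideal.span (Set.range a)) ≤ n →
      Adapted {V : ValuationSubring K | Contains A V} (fun l => algebraMap A K (a l)) f →
      ∃ g, GoodFor {V : ValuationSubring K | Contains A V} (fun l => algebraMap A K (a l)) f g)
    (a : ι → A) (f : ι → K)
    (hlen : Module.length A (A ⧸ Ideal.span (Set.range a)) ≤ (n + 1 : ℕ))
    (hJ : Ideal.span (Set.range a) ≠ ⊤)
    (hadap : Adapted {V : ValuationSubring K | Contains A V} (fun l => algebraMap A K (a l)) f) :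
    ∃ g, GoodFor {V : ValuationSubring K | Contains (Ch K x y) V} (fun l => algebraMap A K (a l)) f g := by
  have hx : x ∈ maximalIdeal A := hxy ▸ Ideal.subset_span (by simp)
  have hy : y ∈ maximalIdeal A := hxy ▸ Ideal.subset_span (by simp)
  have hx0 := algebraMap_ne_zero (K := K) hdim hxy
  have hinj : Function.Injective (algebraMap A K) := FaithfulSMul.algebraMap_injective A K
  obtain ⟨J, hJdef⟩ : ∃ J, J = Ideal.span (Set.range a) := ⟨_, rfl⟩
  rw [← hJdef] at hlen hJ
  have hfin : Module.length A (A ⧸ J) ≠ ⊤ := ne_top_of_le_ne_top (ENat.natCast_ne_top _) hlen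
  obtain ⟨N, hN⟩ := exists_pow_le J hfin
  have hxN : ∀ k, x ^ k ≠ 0 := fun k hk => hx0 (by
    have := congrArg (algebraMap A K) hk
    rw [map_pow, map_zero] at this
    exact eq_zero_of_pow_eq_zero this)
  have hex : ∃ k, ¬ J ≤ maximalIdeal A ^ k := by
    refine ⟨N + 1, fun h => ?_⟩
    have h1 : maximalIdeal A ^ N ≤ maximalIdeal A * maximalIdeal A ^ N := by
      rw [← pow_succ']; exact hN.trans h
    have h2 := Submodule.eq_bot_of_le_smul_of_le_jacobson_bot (maximalIdeal A) (maximalIdeal A ^ N)
      (IsNoetherian.noetherian _) h1 (IsLocalRing.maximalIdeal_le_jacobson _)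
    have h3 : x ^ N ∈ maximalIdeal A ^ N := Ideal.pow_mem_pow hx N
    rw [h2] at h3
    exact hxN N h3
  classical
  obtain ⟨r, hr⟩ : ∃ r, Nat.find hex = r + 1 := by
    refine Nat.exists_eq_succ_of_ne_zero fun h => ?_
    have := Nat.find_spec hex
    rw [h, pow_zero] at this
    exact this (by rw [Ideal.one_eq_top]; exact le_top)
  have hJr' : ¬ J ≤ maximalIdeal A ^ (r + 1) := by
    rw [← hr]; exact Nat.find_spec hex
  have hJr : J ≤ maximalIdeal A ^ r := by
    by_contra h
    exact Nat.find_min hex (by omega : r < Nat.find hex) h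
  have hr1 : 1 ≤ r := by
    by_contra h
    have : r = 0 := by omega
    rw [this, zero_add, pow_one] at hJr'
    exact hJr' (le_maximalIdeal hJ)
  have haJ : ∀ i, a i ∈ J := fun i => hJdef ▸ Ideal.subset_span ⟨i, rfl⟩
  choose P hPdeg hP using fun i => exists_hmap_eq (x := x) (y := y) hxy r (a i) (hJr (haJ i))
  have haP : ∀ i, algebraMap A K (a i) = algebraMap A K x ^ r * Polynomial.aeval (tt K x y) (P i) := fun i => by
    rw [← algebraMap_hmap hdim hxy (hPdeg i), hP i]
  have hane : ∃ l, algebraMap A K (a l) ≠ 0 := by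
    by_contra! h
    have h1 : x ^ N ∈ J := hN (Ideal.pow_mem_pow hx N)
    have h2 : J ≤ ⊥ := by
      rw [hJdef, Ideal.span_le]
      rintro _ ⟨i, rfl⟩
      exact hinj (by rw [h i, map_zero])
    exact hxN N (h2 h1)
  refine exists_good_of_local (B := Ch K x y) Subtype.val_injective (ic_chart hdim hxy) _ f hane fun p hp => ?_
  by_cases hxp : phi K x y (C x) ∈ p
  swap
  · -- away from the exceptional divisor
    have hxq : x ∉ p.comap (algebraMap A (Ch K x y)) := by
      rw [Ideal.mem_comap, ← (phi K x y).commutes x]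
      exact hxp
    have : (p.comap (algebraMap A (Ch K x y))).IsPrime := inferInstance
    obtain ⟨i, hi⟩ := exists_notMem_of_pow_mem hxq (N := N) (a := a) (hJdef ▸ hN (Ideal.pow_mem_pow hx N))
    refine ⟨f i, fun V hV j hj => ?_⟩
    obtain ⟨hV1, hV2⟩ := hV
    have hVA := ((contains_chart_iff x y V).mp hV1).1
    have h1 := hV2 _ hi
    change (algebraMap A K (a i))⁻¹ ∈ V at h1
    have h0 : algebraMap A K (a i) ≠ 0 := by
      intro h
      refine hi ?_
      rw [Ideal.mem_comap, (injective_iff_map_eq_zero _).mp hinj (a i) h, map_zero]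
      exact p.zero_mem
    refine hadap V hVA i j (gen_of_div_mem h0 fun l => ?_) hj
    rw [div_eq_mul_inv]
    exact V.mul_mem _ _ (hVA _) h1
  by_cases hPp : ∃ i, phi K x y (P i) ∉ p
  · -- the transform is the unit ideal at `p`
    obtain ⟨i, hi⟩ := hPp
    refine ⟨f i, fun V hV j hj => ?_⟩
    obtain ⟨hV1, hV2⟩ := hV
    have hVA := ((contains_chart_iff x y V).mp hV1).1
    have h1 := hV2 _ hi
    have hPi0 : Polynomial.aeval (tt K x y) (P i) ≠ 0 := by
      intro h
      refine hi ?_
      have : phi K x y (P i) = 0 := Subtype.ext h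
      rw [this]
      exact p.zero_mem
    refine hadap V hVA i j (gen_of_div_mem ?_ fun l => ?_) hj
    · rw [haP]
      exact mul_ne_zero (pow_ne_zero _ hx0) hPi0
    · rw [haP, haP, mul_div_mul_left _ _ (pow_ne_zero _ hx0), div_eq_mul_inv]
      exact V.mul_mem _ _ (hV1 (phi K x y (P l))) h1
  push Not at hPp
  have hne : p ≠ Ideal.span {phi K x y (C x)} := by
    rintro rfl
    refine hJr' ?_
    rw [hJdef, Ideal.span_le]
    rintro _ ⟨i, rfl⟩
    rw [SetLike.mem_coe, ← hP i, pow_succ']
    exact hmap_mem hx hy (P i) ((phi_mem_span_iff hdim hxy).mp (hPp i))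
  obtain ⟨hreg, hdim'⟩ := isRegular_localization hdim hxy p hxp hne
  letI := locAlg (K := K) p
  have htow := locAlg_tower (K := K) p
  have hfrac := isFractionRing_loc (K := K) (x := x) (y := y) p
  have halg : ∀ i, algebraMap (Localization.AtPrime p) K (algebraMap _ _ (phi K x y (P i))) =
      Polynomial.aeval (tt K x y) (P i) := fun i => by
    rw [← IsScalarTower.algebraMap_apply (Ch K x y) (Localization.AtPrime p) K]
    rfl
  have hJR : ∀ Q : A[X], (∃ b ∈ J, algebraMap A K b = algebraMap A K x ^ r * Polynomial.aeval (tt K x y) Q) →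
      algebraMap _ (Localization.AtPrime p) (phi K x y Q) ∈
        Ideal.span (Set.range fun i => algebraMap _ (Localization.AtPrime p) (phi K x y (P i))) := by
    rintro Q ⟨b, hb, hbQ⟩
    have h1 : ∀ b ∈ J, ∃ c ∈ Ideal.span (Set.range fun i => phi K x y (P i)),
        algebraMap A K b = algebraMap A K x ^ r * (c : K) := by
      intro b hb
      rw [hJdef] at hb
      induction hb using Submodule.span_induction with
      | mem b hb =>
        obtain ⟨i, rfl⟩ := hb
        exact ⟨phi K x y (P i), Ideal.subset_span ⟨i, rfl⟩, haP i⟩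
      | zero => exact ⟨0, zero_mem _, by simp⟩
      | add b b' _ _ h h' =>
        obtain ⟨c, hc, hbc⟩ := h
        obtain ⟨c', hc', hbc'⟩ := h'
        exact ⟨c + c', add_mem hc hc', by rw [map_add, hbc, hbc', AddMemClass.coe_add]; ring⟩
      | smul s b _ h =>
        obtain ⟨c, hc, hbc⟩ := h
        refine ⟨algebraMap A _ s * c, Ideal.mul_mem_left _ _ hc, ?_⟩
        rw [smul_eq_mul, map_mul, hbc, MulMemClass.coe_mul]
        change _ = _ * (algebraMap A K s * _)
        ring
    obtain ⟨c, hc, hbc⟩ := h1 b hb
    have h2 : phi K x y Q = c := by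
      apply Subtype.ext
      rw [coe_phi]
      exact mul_left_cancel₀ (pow_ne_zero r hx0) (hbQ.symm.trans hbc)
    rw [h2]
    have h3 := Ideal.mem_map_of_mem (algebraMap (Ch K x y) (Localization.AtPrime p)) hc
    rw [Ideal.map_span, ← Set.range_comp] at h3
    exact h3
  have hlt := length_lt hdim hxy J hfin hr1 hJr hJr' p hxp hne _ hJR
  have hle : Module.length (Localization.AtPrime p) (Localization.AtPrime p ⧸
      Ideal.span (Set.range fun i => algebraMap _ (Localization.AtPrime p) (phi K x y (P i)))) ≤ n := by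
    have h1 := hlt.trans_le hlen
    rw [Nat.cast_add, Nat.cast_one, ENat.lt_add_one_iff (ENat.natCast_ne_top n)] at h1
    exact h1
  have hscale : ∀ l, algebraMap A K (a l) = algebraMap A K x ^ r *
      algebraMap (Localization.AtPrime p) K (algebraMap _ _ (phi K x y (P l))) := fun l => by
    rw [haP, halg]
  obtain ⟨g, hg⟩ := ih (Localization.AtPrime p) hdim' (fun i => algebraMap _ _ (phi K x y (P i))) f hle
    (fun V hV i j hi hj => by
      have hV' := (contains_loc_iff (K := K) p V).mp hV
      refine hadap V ((contains_chart_iff x y V).mp hV'.1).1 i j ?_ ?_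
      · have h1 := hi.scale (algebraMap A K x ^ r)
        simp only [← hscale] at h1
        exact h1
      · have h1 := hj.scale (algebraMap A K x ^ r)
        simp only [← hscale] at h1
        exact h1)
  refine ⟨g, fun V hV i hi => hg V ((contains_loc_iff (K := K) p V).mpr hV) i ?_⟩
  simp only [hscale] at hi
  exact Gen.unscale (pow_ne_zero r hx0) hi

end Step

theorem exists_good_of_length_le {K : Type u} [Field K] {ι : Type*} [Finite ι] (n : ℕ) :
    ∀ (A : Type u) [CommRing A] [IsRegularLocalRing A] [Algebra A K] [IsFractionRing A K],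
      ringKrullDim A = 2 → ∀ (a : ι → A) (f : ι → K),
      Module.length A (A ⧸ Ideal.span (Set.range a)) ≤ n →
      Adapted {V : ValuationSubring K | Contains A V} (fun l => algebraMap A K (a l)) f →
      ∃ g, GoodFor {V : ValuationSubring K | Contains A V} (fun l => algebraMap A K (a l)) f g := by
  induction n with
  | zero =>
    intro A _ _ _ _ hdim a f hlen hadap
    have h1 : Module.length A (A ⧸ Ideal.span (Set.range a)) = 0 := by
      simpa using hlen
    rw [Module.length_eq_zero_iff, Ideal.Quotient.subsingleton_iff] at h1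
    have h2 : ∃ i, a i ∉ maximalIdeal A := by
      refine exists_notMem_of_pow_mem (x := 1) (N := 0) ?_ ?_
      · exact fun h => (maximalIdeal.isMaximal A).ne_top ((Ideal.eq_top_iff_one _).mpr h)
      · rw [h1]; trivial
    obtain ⟨i, hi⟩ := h2
    have hu : IsUnit (a i) := by
      rwa [mem_maximalIdeal, mem_nonunits_iff, not_not] at hi
    refine ⟨f i, fun V hV j hj => hadap V hV i j (gen_of_div_mem ?_ fun l => ?_) hj⟩
    · exact (hu.map (algebraMap A K)).ne_zero
    · obtain ⟨v, hv⟩ := hu.exists_right_inv
      have h3 : algebraMap A K (a l) / algebraMap A K (a i) = algebraMap A K (a l * v) := by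
        rw [div_eq_iff (hu.map (algebraMap A K)).ne_zero, ← map_mul, mul_assoc, mul_comm v, hv, mul_one]
      rw [h3]
      exact hV _
  | succ n ih =>
    intro A _ _ _ _ hdim a f hlen hadap
    by_cases hJ : Ideal.span (Set.range a) = ⊤
    · refine ih A hdim a f ?_ hadap
      have h1 : Module.length A (A ⧸ Ideal.span (Set.range a)) = 0 := by
        rw [Module.length_eq_zero_iff, Ideal.Quotient.subsingleton_iff]
        exact hJ
      rw [h1]
      exact zero_le
    obtain ⟨x, y, hxy⟩ := exists_params hdim
    have hane : ∃ l, algebraMap A K (a l) ≠ 0 := by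
      by_contra! h
      have hinj : Function.Injective (algebraMap A K) := FaithfulSMul.algebraMap_injective A K
      have h2 : Ideal.span (Set.range a) ≤ ⊥ := by
        rw [Ideal.span_le]
        rintro _ ⟨i, rfl⟩
        exact hinj (by rw [h i, map_zero])
      obtain ⟨N, hN⟩ := exists_pow_le (Ideal.span (Set.range a)) (ne_top_of_le_ne_top (ENat.natCast_ne_top _) hlen)
      have hx : x ∈ maximalIdeal A := hxy ▸ Ideal.subset_span (by simp)
      have h3 := h2 (hN (Ideal.pow_mem_pow hx N))
      have h4 := congrArg (algebraMap A K) ((Ideal.mem_bot).mp h3)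
      rw [map_pow, map_zero] at h4
      exact algebraMap_ne_zero hdim hxy (eq_zero_of_pow_eq_zero h4)
    obtain ⟨g1, h1⟩ := exists_good_chart hdim hxy ih a f hlen hJ hadap
    obtain ⟨g2, h2⟩ := exists_good_chart hdim (swap_span hxy) ih a f hlen hJ hadap
    exact exists_good_of_charts hdim hxy _ f hane h1 h2

end Groth.Agent.CurvesC.ValInd
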