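import Groth.Agent.CurvesC.QuadLen
import Mathlib.Algebra.Module.SpanRank

/-!
# Cousin problems over two-dimensional regular local rings are solvable
-/

set_option autoImplicit false
universe u

open Polynomial IsLocalRing

namespace Groth.Agent.CurvesC.ValSolve

open ValCousin QuadTr QuadLen

theorem exists_params {A : Type u} [CommRing A] [IsRegularLocalRing A] (hdim : ringKrullDim A = 2) :
    ∃ x y : A, Ideal.span {x, y} = maximalIdeal A := by
  classical
  obtain ⟨s, hs, hspan⟩ := Submodule.FG.exists_span_finset_card_eq_spanFinrank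
    (IsNoetherian.noetherian (maximalIdeal A))
  have h2 := IsRegularLocalRing.spanFinrank_maximalIdeal (R := A)
  rw [hdim] at h2
  have h3 : (maximalIdeal A).spanFinrank = 2 := by exact_mod_cast h2
  rw [h3, Finset.card_eq_two] at hs
  obtain ⟨x, y, -, rfl⟩ := hs
  refine ⟨x, y, ?_⟩
  rw [← hspan]
  simp [Ideal.span]

section Loc

variable {K : Type u} [Field K]

/-- The structure of `K`-algebra on the localization of a subring of `K`. -/
noncomputable abbrev locAlg {B : Type u} [CommRing B] [Algebra B K] [FaithfulSMul B K] (p : Ideal B) [p.IsPrime] :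
    Algebra (Localization.AtPrime p) K :=
  (IsLocalization.lift (M := p.primeCompl) (g := algebraMap B K) (fun s =>
    isUnit_iff_ne_zero.mpr (by
      rw [Ne, FaithfulSMul.algebraMap_eq_zero_iff]
      exact ne_zero_of_notMem s.2))).toAlgebra

theorem locAlg_tower {B : Type u} [CommRing B] [Algebra B K] [FaithfulSMul B K] (p : Ideal B) [p.IsPrime] :
    letI := locAlg (K := K) p
    IsScalarTower B (Localization.AtPrime p) K := by
  letI := locAlg (K := K) p
  refine IsScalarTower.of_algebraMap_eq' ?_
  ext b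
  exact (IsLocalization.lift_eq _ b).symm

theorem contains_loc_iff {B : Type u} [CommRing B] [Algebra B K] [FaithfulSMul B K] (p : Ideal B) [p.IsPrime]
    (V : ValuationSubring K) :
    (letI := locAlg (K := K) p
     Contains (Localization.AtPrime p) V) ↔ (Contains B V ∧ ∀ s ∉ p, (algebraMap B K s)⁻¹ ∈ V) := by
  letI := locAlg (K := K) p
  have htow := locAlg_tower (K := K) p
  have hinv : ∀ s ∉ p, ∀ h : s ∈ p.primeCompl,
      algebraMap (Localization.AtPrime p) K (IsLocalization.mk' _ 1 (⟨s, h⟩ : p.primeCompl)) =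
        (algebraMap B K s)⁻¹ := by
    intro s hs h
    refine eq_inv_of_mul_eq_one_left ?_
    rw [IsScalarTower.algebraMap_apply B (Localization.AtPrime p) K s, ← map_mul]
    have := IsLocalization.mk'_spec (Localization.AtPrime p) (1 : B) (⟨s, h⟩ : p.primeCompl)
    rw [this, map_one, map_one]
  constructor
  · intro h
    refine ⟨fun b => ?_, fun s hs => ?_⟩
    · rw [IsScalarTower.algebraMap_apply B (Localization.AtPrime p) K]
      exact h _
    · rw [← hinv s hs hs]
      exact h _
  · rintro ⟨h1, h2⟩ z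
    obtain ⟨b, s, rfl⟩ := IsLocalization.exists_mk'_eq p.primeCompl z
    rw [← mul_one b, ← IsLocalization.mul_mk'_eq_mk'_of_mul (M := p.primeCompl), map_mul,
      ← IsScalarTower.algebraMap_apply B (Localization.AtPrime p) K, hinv s.1 s.2 s.2]
    exact V.mul_mem _ _ (h1 b) (h2 s.1 s.2)

end Loc

section Charts

variable {K : Type u} [Field K] {A : Type u} [CommRing A] [Algebra A K]

theorem contains_chart_iff (x y : A) (V : ValuationSubring K) :
    Contains (Ch K x y) V ↔ (Contains A V ∧ tt K x y ∈ V) := by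
  constructor
  · intro h
    refine ⟨fun a => ?_, ?_⟩
    · have := h (algebraMap A _ a)
      rwa [← IsScalarTower.algebraMap_apply A (Ch K x y) K] at this
    · have := h (phi K x y X)
      change Polynomial.aeval (tt K x y) X ∈ V at this
      rwa [aeval_X] at this
  · rintro ⟨h1, h2⟩ ⟨_, P, rfl⟩
    change Polynomial.aeval (tt K x y) P ∈ V
    rw [Polynomial.aeval_eq_sum_range]
    refine sum_mem fun i _ => ?_
    rw [Algebra.smul_def]
    exact V.mul_mem _ _ (h1 _) (pow_mem h2 _)

/-- `A[t] = t^n (A[t] + A[1/t])` inside `A[t, 1/t]`. -/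
theorem exists_add_eq (x y : A) (hx : algebraMap A K x ≠ 0) (hy : algebraMap A K y ≠ 0) (n : ℕ) :
    ∀ Q : A[X], ∃ (b1 : Ch K x y) (b2 : Ch K y x),
      Polynomial.aeval (tt K x y) Q = tt K x y ^ n * ((b1 : K) + (b2 : K)) := by
  have hts : tt K x y * tt K y x = 1 := by
    rw [tt, tt]
    field_simp
  induction n with
  | zero =>
    intro Q
    exact ⟨phi K x y Q, 0, by simp [coe_phi]⟩
  | succ n ih =>
    intro Q
    obtain ⟨b1, b2, hb⟩ := ih Q.divX
    refine ⟨b1, b2 + phi K y x (C (Q.coeff 0) * X ^ (n + 1)), ?_⟩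
    conv_lhs => rw [← Polynomial.divX_mul_X_add Q]
    rw [map_add, map_mul, aeval_X, aeval_C, hb, AddMemClass.coe_add, coe_phi, map_mul, map_pow, aeval_C, aeval_X]
    have h1 : tt K x y ^ (n + 1) * tt K y x ^ (n + 1) = 1 := by rw [← mul_pow, hts, one_pow]
    linear_combination (-(algebraMap A K (Q.coeff 0))) * h1

variable [IsRegularLocalRing A] [IsFractionRing A K] {x y : A} (hdim : ringKrullDim A = 2)
  (hxy : Ideal.span {x, y} = maximalIdeal A)

include hdim hxy

/-- Solutions on the two charts of the point blow-up give a solution on `A`. -/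
theorem exists_good_of_charts {ι : Type*} [Finite ι] (a f : ι → K) (ha : ∃ l, a l ≠ 0) {g1 g2 : K}
    (h1 : GoodFor {V | Contains (Ch K x y) V} a f g1) (h2 : GoodFor {V | Contains (Ch K y x) V} a f g2) :
    ∃ g, GoodFor {V | Contains A V} a f g := by
  have hne : Nonempty ι := ⟨ha.choose⟩
  have hxy' := swap_span hxy
  have hx0 := algebraMap_ne_zero (K := K) hdim hxy
  have hy0 := algebraMap_ne_zero (K := K) hdim hxy'
  have ht0 : tt K x y ≠ 0 := div_ne_zero hy0 hx0
  have htinv : (tt K x y)⁻¹ = tt K y x := by rw [tt, tt, inv_div]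
  have hw : algebraMap (Ch K x y) K (phi K x y X) = tt K x y := by
    change Polynomial.aeval (tt K x y) X = _
    rw [aeval_X]
  obtain ⟨n, b, hb⟩ := exists_pow_mul_eq (ic_chart (K := K) hdim hxy) (w := phi K x y X) (by rw [hw]; exact ht0)
    (z := g1 - g2) (fun V hV hV' => by
      rw [hw, htinv] at hV'
      obtain ⟨i, hi⟩ := exists_gen V a
      have h3 := h1 V hV i hi
      have h4 := h2 V ((contains_chart_iff y x V).mpr ⟨((contains_chart_iff x y V).mp hV).1, hV'⟩) i hi
      have := sub_mem h3 h4
      simpa using this)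
  obtain ⟨Q, rfl⟩ := phi_surjective x y b
  obtain ⟨b1, b2, hb12⟩ := exists_add_eq (K := K) x y hx0 hy0 n Q
  rw [hw] at hb
  have h3 : g1 - g2 = b1 + b2 := by
    have h4 : tt K x y ^ n * (g1 - g2) = tt K x y ^ n * ((b1 : K) + (b2 : K)) := by
      rw [hb]
      exact hb12
    exact mul_left_cancel₀ (pow_ne_zero _ ht0) h4
  refine ⟨g1 - b1, fun V hV i hi => ?_⟩
  rcases V.mem_or_inv_mem (tt K x y) with h | h
  · have hV1 := (contains_chart_iff x y V).mpr ⟨hV, h⟩
    have h5 := sub_mem (h1 V hV1 i hi) (hV1 b1)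
    have h6 : g1 - b1 - f i = g1 - f i - (b1 : K) := by ring
    rw [h6]
    exact h5
  · rw [htinv] at h
    have hV2 := (contains_chart_iff y x V).mpr ⟨hV, h⟩
    have h5 := add_mem (h2 V hV2 i hi) (hV2 b2)
    have h6 : g1 - b1 - f i = g2 - f i + (b2 : K) := by linear_combination h3
    rw [h6]
    exact h5

end Charts

end Groth.Agent.CurvesC.ValSolve
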