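import Groth.Agent.CurvesC.RatGen
import Groth.Agent.CurvesC.FinMap
import Groth.Agent.CurvesC.ProjClosed
import Groth.Agent.CurvesB.HZero

/-!
# Closed immersions of curves with `H^1(X, O_X) = 0` in projective space
-/

set_option autoImplicit false
universe u
open CategoryTheory CategoryTheory.Limits AlgebraicGeometry TopologicalSpace Opposite

namespace Groth.Agent.CurvesC.VeryAmple

open Gen GenPt CurvesB.HZero ProjMap ProjSpaceBasic

variable {k : Type u} [Field k] {X : Scheme.{u}} [X.Over (Spec (CommRingCat.of k))]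

theorem struct_eq (U : X.Opens) (c : k) :
    struct (X ↘ Spec (CommRingCat.of k)) U c = X.presheaf.map (homOfLE (le_top : U ≤ ⊤)).op (gl k X c) := rfl

/-- Spanning sections of an invertible module on a curve with `H^1(X, O_X) = 0` and `Γ(X, O_X) = k` give a closed
immersion in projective space, as soon as none of them generates everywhere. -/
theorem exists_closedImmersion [IsIntegral X] [IsProper (X ↘ (Spec (CommRingCat.of k)))] [IsNoetherian X]
    (hdim : topologicalKrullDim X ≤ 1) (h1 : Subsingleton (Coh.HH X (Coh.structureModule X) 1))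
    (hconst : ∀ a : Γ(X, ⊤), ∃ c : k, gl k X c = a) {L : X.Modules} (hL : PicF.IsInvertible L) {n : ℕ}
    (σ : Fin (n + 1) → Γ(L, ⊤)) (hspan : ∀ r : Γ(L, ⊤), ∃ c : Fin (n + 1) → k, r = ∑ j, gl k X (c j) • σ j)
    (hσ : ∀ i, σ i ≠ 0) (hne : ∀ i, loc (σ i) ≠ ⊤) :
    ∃ i : X ⟶ CohB1.ProjSpace n k, IsClosedImmersion i ∧
      i ≫ CohB1.ProjSpace.toSpec n k = X ↘ (Spec (CommRingCat.of k)) ∧
      Nonempty ((Scheme.Modules.pullback i).obj (Twist.twistProjSpace n k 1) ≅ L) := by
  let g := X ↘ (Spec (CommRingCat.of k))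
  let s : Fin (n + 1) → (Coh.structureModule X ⟶ L) := fun i => ofSec (σ i)
  have hcompl : ∀ i, ∃ t : Γ(L, ⊤), loc (σ i) ⊔ loc t = ⊤ := fun i => exists_complement hdim h1 hL (hσ i)
  have hs : ⨆ i, CohB1.genLocus L (s i) = ⊤ := by
    rw [eq_top_iff]
    intro x _
    by_contra hx
    have hx' : ∀ i, σ i ∈ nonGen hL x := fun i hi => hx (Opens.mem_iSup.2 ⟨i, hi⟩)
    obtain ⟨t, ht⟩ := hcompl 0
    have hxt : x ∈ loc (σ 0) ⊔ loc t := ht ▸ trivial
    rcases hxt with h | h
    · exact hx' 0 h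
    · obtain ⟨c, rfl⟩ := hspan t
      exact Submodule.sum_mem (nonGen hL x) (fun j _ => Submodule.smul_mem _ (gl k X (c j)) (hx' j)) h
  obtain ⟨φ, hφ, hφg, hpre, -, e, -⟩ := exists_morphism g L s hs
  have hprop : IsProper φ := by
    have : IsProper (φ ≫ CohB1.ProjSpace.toSpec n k) := hφg ▸ (inferInstance : IsProper g)
    exact IsProper.of_comp φ (CohB1.ProjSpace.toSpec n k)
  have hfin : IsFinite φ := FinMap.isFinite_of_cover φ hdim (Dp n k) (iSup_Dp n k)
    (fun i h => hne i ((hpre i).symm.trans h))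
  refine ⟨φ, ?_, hφg, ⟨e⟩⟩
  refine ProjClosed.isClosedImmersion_of_forall hφ hs ?_ ?_
  · intro i
    rw [← hpre i]
    exact (isAffineOpen_Dp n k i).preimage φ
  · intro i a
    obtain ⟨t, ht⟩ := hcompl i
    have hmem := RatGen.mem_of_complement h1 (σ i) t ht (NoetherianSpace.isCompact _) (by
        exact IsQuasiSeparated.of_quasiSeparatedSpace _) (locHom g L s i).range ?_ ?_ a
    · exact hmem
    · intro c
      obtain ⟨c, rfl⟩ := hconst c
      exact ⟨MvPolynomial.C c, locHom_C g L s i c⟩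
    · intro r b hb
      obtain ⟨c, rfl⟩ := hspan r
      refine ⟨∑ j, MvPolynomial.C (c j) * MvPolynomial.X j, ?_⟩
      have hgen : IsGen L (CohB1.genLocus L (s i)) (sec (s i) _) := isGen_genLocus (s i)
      apply hgen.injective
      rw [map_sum, Finset.sum_smul, sec_ofSec]
      refine Eq.trans ?_ hb.symm
      rw [map_sum]
      apply Finset.sum_congr rfl
      intro j _
      rw [map_mul, locHom_C, locHom_X, mul_smul, map_smul_section, ← sec_ofSec, rat_smul, struct_eq, sec_ofSec]

end Groth.Agent.CurvesC.VeryAmple
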